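import Cfsg.Agent.Lib.Chev.Comm
import Cfsg.Prelude.Def_ChevE6

namespace Cfsg.Agent.Lib.Chev.TabE6
open Cfsg.Agent.Lib.Chev Cfsg.Lie

noncomputable def ex0 : Trie (List (ℕ × ℤ × ℕ)) := (.node [] (.node [] (.node [] (.node [] .nil (.node [] (.node [] (.node [] .nil (.node [(27,(.negSucc 0),1)] .nil .nil)) .nil) (.node [] .nil (.node [(11,(.ofNat 1),1)] .nil .nil)))) (.node [] (.node [] (.node [] (.node [] .nil (.node [(23,(.ofNat 1),1)] .nil .nil)) .nil) (.node [] .nil (.node [(7,(.ofNat 1),1)] .nil .nil))) (.node [] (.node [] (.node [] .nil (.node [(31,(.negSucc 0),1)] .nil .nil)) .nil) (.node [] .nil (.node [(15,(.negSucc 0),1)] .nil .nil))))) (.node [] (.node [] .nil (.node [] (.node [] (.node [] .nil (.node [(29,(.negSucc 0),1)] .nil .nil)) .nil) (.node [] .nil (.node [(13,(.ofNat 1),1)] .nil .nil)))) (.node [] (.node [] (.node [] (.node [] .nil (.node [(25,(.negSucc 0),1)] .nil .nil)) .nil) (.node [] .nil (.node [(9,(.ofNat 1),1)] .nil .nil)))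 .nil))) (.node [(6,(.ofNat 1),1)] (.node [] (.node [] .nil (.node [] (.node [] (.node [] .nil (.node [(28,(.ofNat 1),1)] .nil .nil)) .nil) (.node [] .nil (.node [(12,(.negSucc 0),1)] .nil .nil)))) (.node [] (.node [] (.node [] (.node [] .nil (.node [(24,(.negSucc 0),1)] .nil .nil)) .nil) (.node [] .nil (.node [(8,(.negSucc 0),1)] .nil .nil))) (.node [] (.node [] (.node [] .nil (.node [(0,(.negSucc 0),1),(1,(.negSucc 1),1),(2,(.negSucc 1),1),(3,(.negSucc 2),1),(4,(.negSucc 1),1),(5,(.negSucc 0),1),(6,(.negSucc 0),2)] .nil .nil)) .nil) (.node [] .nil (.node [(16,(.ofNat 1),1)] .nil .nil))))) (.node [] (.node [] (.node [] (.node [] (.node [] .nil (.node [(22,(.negSucc 0),1)] .nil .nil)) .nil) .nil) (.node [] (.node [] (.node [] .nil (.node [(30,(.ofNat 1),1)] .nil .nil)) .nil) (.node [] .nil (.node [(14,(.ofNat 1),1)] .nil .nil)))) (.node [] (.node [] (.node [] (.node [] .nil (.node [(26,(.ofNat 1),1)] .nil .nil)) .nil) (.node [] .nil (.node [(10,(.negSucc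 0),1)] .nil .nil))) .nil))))
noncomputable def ex1 : Trie (List (ℕ × ℤ × ℕ)) := (.node [] (.node [] (.node [] (.node [] (.node [] (.node [] (.node [] .nil (.node [(22,(.negSucc 0),1)] .nil .nil)) .nil) .nil) (.node [] (.node [] (.node [] .nil (.node [(34,(.negSucc 0),1)] .nil .nil)) .nil) .nil)) (.node [] .nil (.node [] (.node [] (.node [] .nil (.node [(0,(.negSucc 0),1),(1,(.negSucc 0),1),(2,(.negSucc 1),1),(3,(.negSucc 2),1),(4,(.negSucc 1),1),(5,(.negSucc 0),1),(7,(.negSucc 0),2)] .nil .nil)) .nil) (.node [] .nil (.node [(18,(.negSucc 0),1)] .nil .nil))))) (.node [] (.node [] (.node [] (.node [] (.node [] .nil (.node [(24,(.negSucc 0),1)] .nil .nil)) .nil) (.node [] .nil (.node [(12,(.negSucc 0),1)] .nil .nil))) (.node [] (.node [] (.node [] .nil (.node [(37,(.ofNat 1),1)] .nil .nil)) .nil) .nil)) (.node [] (.node [] (.node [] (.node [] .nil (.node [(32,(.negSucc 0),1)] .nil .nil)) .nil) .nil) (.node [] (.node [] .nil (.node [(9,(.negSucc 0),1)]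 .nil .nil)) .nil)))) (.node [(7,(.negSucc 0),1)] (.node [] (.node [] (.node [] (.node [] (.node [] .nil (.node [(23,(.ofNat 1),1)] .nil .nil)) .nil) (.node [] .nil (.node [(11,(.ofNat 1),1)] .nil .nil))) (.node [] (.node [] (.node [] .nil (.node [(36,(.negSucc 0),1)] .nil .nil)) .nil) .nil)) (.node [] .nil (.node [] (.node [] (.node [] .nil (.node [(52,(.negSucc 0),1)] .nil .nil)) (.node [(8,(.ofNat 1),1)] .nil .nil)) (.node [] .nil (.node [(19,(.ofNat 1),1)] .nil .nil))))) (.node [(7,(.ofNat 1),1)] (.node [] (.node [] .nil (.node [] .nil (.node [(13,(.ofNat 1),1)] .nil .nil))) (.node [] (.node [] (.node [] .nil (.node [(38,(.negSucc 0),1)] .nil .nil)) .nil) (.node [] .nil (.node [(17,(.ofNat 1),1)] .nil .nil)))) (.node [] (.node [] (.node [] (.node [] .nil (.node [(33,(.ofNat 1),1)] .nil .nil)) .nil) .nil) (.node [] (.node [] .nil (.node [(10,(.ofNat 1),1)] .nil .nil)) (.node [(6,(.ofNat 1),1)] .nil .nil))))))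
noncomputable def ex2 : Trie (List (ℕ × ℤ × ℕ)) := (.node [] (.node [] (.node [] (.node [] (.node [] .nil (.node [] .nil (.node [(11,(.ofNat 1),1)] .nil .nil))) (.node [] (.node [] (.node [] .nil (.node [(35,(.negSucc 0),1)] .nil .nil)) .nil) .nil)) (.node [(8,(.ofNat 1),1)] (.node [] (.node [] (.node [] .nil (.node [(32,(.negSucc 0),1)] .nil .nil)) .nil) .nil) (.node [] (.node [] (.node [] .nil (.node [(45,(.negSucc 0),1)] .nil .nil)) (.node [(10,(.negSucc 0),1)] .nil .nil)) .nil))) (.node [(8,(.ofNat 1),1)] (.node [] (.node [] (.node [] (.node [] .nil (.node [(26,(.negSucc 0),1)] .nil .nil)) .nil) (.node [] .nil (.node [(14,(.negSucc 0),1)] .nil .nil))) (.node [] (.node [] (.node [] .nil (.node [(40,(.negSucc 0),1)] .nil .nil)) .nil) (.node [] .nil (.node [(18,(.negSucc 0),1)] .nil .nil)))) (.node [] (.node [] (.node [] .nil (.node [(7,(.ofNat 1),1)] .nil .nil)) .nil) (.node [] .nil (.node [(6,(.negSucc 0),1)] .nil .nil))))) (.node [] (.node []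 (.node [] (.node [] (.node [] (.node [] .nil (.node [(25,(.ofNat 1),1)] .nil .nil)) .nil) .nil) (.node [] (.node [] (.node [] .nil (.node [(39,(.ofNat 1),1)] .nil .nil)) .nil) (.node [] .nil (.node [(17,(.ofNat 1),1)] .nil .nil)))) (.node [] (.node [] (.node [] (.node [] .nil (.node [(33,(.ofNat 1),1)] .nil .nil)) .nil) .nil) (.node [] (.node [] (.node [] .nil (.node [(53,(.ofNat 1),1)] .nil .nil)) .nil) (.node [] .nil (.node [(20,(.ofNat 1),1)] .nil .nil))))) (.node [(8,(.negSucc 0),1)] (.node [] (.node [] .nil (.node [] .nil (.node [(15,(.ofNat 1),1)] .nil .nil))) (.node [] (.node [] (.node [] .nil (.node [(0,(.negSucc 0),1),(1,(.negSucc 0),1),(2,(.negSucc 1),1),(3,(.negSucc 1),1),(4,(.negSucc 1),1),(5,(.negSucc 0),1),(8,(.negSucc 0),2)] .nil .nil)) (.node [(9,(.ofNat 1),1)] .nil .nil)) .nil)) (.node [] .nil (.node [] .nil (.node [] .nil (.node [(22,(.negSucc 0),1)] .nil .nil)))))))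
noncomputable def ex3 : Trie (List (ℕ × ℤ × ℕ)) := (.node [] (.node [] (.node [] (.node [] (.node [] (.node [] (.node [] .nil (.node [(25,(.ofNat 1),1)] .nil .nil)) .nil) (.node [] .nil (.node [(12,(.ofNat 1),1)] .nil .nil))) (.node [] (.node [] .nil (.node [(8,(.ofNat 1),1)] .nil .nil)) (.node [] .nil (.node [(17,(.ofNat 1),1)] .nil .nil)))) (.node [(9,(.negSucc 0),1)] .nil (.node [] (.node [] (.node [] .nil (.node [(46,(.ofNat 1),1)] .nil .nil)) .nil) (.node [] .nil (.node [(20,(.ofNat 1),1)] .nil .nil))))) (.node [(9,(.ofNat 1),1)] (.node [] (.node [] (.node [] (.node [] .nil (.node [(27,(.negSucc 0),1)] .nil .nil)) .nil) .nil) (.node [] (.node [] (.node [] .nil (.node [(0,(.negSucc 0),1),(1,(.negSucc 0),1),(2,(.negSucc 1),1),(3,(.negSucc 1),1),(4,(.negSucc 0),1),(5,(.negSucc 0),1),(9,(.negSucc 0),2)] .nil .nil)) (.node [(10,(.ofNat 1),1)] .nil .nil)) (.node [] .nil (.node [(19,(.negSucc 0),1)] .nil .nil)))) .nil)) (.node [] (.node [] (.node []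 (.node [] .nil (.node [] .nil (.node [(14,(.negSucc 0),1)] .nil .nil))) (.node [] (.node [] (.node [] .nil (.node [(41,(.negSucc 0),1)] .nil .nil)) .nil) .nil)) (.node [(9,(.ofNat 1),1)] (.node [] (.node [] (.node [] .nil (.node [(34,(.ofNat 1),1)] .nil .nil)) (.node [(7,(.negSucc 0),1)] .nil .nil)) .nil) (.node [] (.node [] (.node [] .nil (.node [(54,(.negSucc 0),1)] .nil .nil)) .nil) (.node [(6,(.ofNat 1),1)] .nil .nil)))) (.node [] (.node [] (.node [] (.node [] (.node [] .nil (.node [(32,(.negSucc 0),1)] .nil .nil)) .nil) (.node [] .nil (.node [(16,(.ofNat 1),1)] .nil .nil))) (.node [] (.node [] (.node [] .nil (.node [(43,(.negSucc 0),1)] .nil .nil)) .nil) .nil)) (.node [] (.node [] (.node [] (.node [] .nil (.node [(35,(.negSucc 0),1)] .nil .nil)) .nil) .nil) (.node [] .nil (.node [] .nil (.node [(23,(.negSucc 0),1)] .nil .nil)))))))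
noncomputable def ex4 : Trie (List (ℕ × ℤ × ℕ)) := (.node [] (.node [] (.node [] (.node [] (.node [] (.node [] (.node [] .nil (.node [(26,(.ofNat 1),1)] .nil .nil)) .nil) (.node [] .nil (.node [(13,(.ofNat 1),1)] .nil .nil))) (.node [] .nil (.node [] .nil (.node [(18,(.ofNat 1),1)] .nil .nil)))) (.node [] (.node [] (.node [] (.node [] .nil (.node [(34,(.ofNat 1),1)] .nil .nil)) (.node [(7,(.ofNat 1),1)] .nil .nil)) .nil) (.node [] (.node [] (.node [] .nil (.node [(47,(.negSucc 0),1)] .nil .nil)) .nil) (.node [(6,(.negSucc 0),1)] .nil .nil)))) (.node [(10,(.ofNat 1),1)] (.node [] (.node [] .nil (.node [] .nil (.node [(16,(.ofNat 1),1)] .nil .nil))) (.node [] (.node [] (.node [] .nil (.node [(42,(.negSucc 0),1)] .nil .nil)) .nil) .nil)) (.node [] (.node [] (.node [] (.node [] .nil (.node [(35,(.negSucc 0),1)] .nil .nil)) .nil) .nil) .nil))) (.node [] (.node [] (.node [] (.node [] (.node [] (.node [] .nil (.node [(27,(.negSucc 0),1)] .nil .nil)) .nil)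 (.node [] .nil (.node [(15,(.negSucc 0),1)] .nil .nil))) (.node [] (.node [] (.node [] .nil (.node [(0,(.negSucc 0),1),(1,(.negSucc 0),1),(2,(.negSucc 1),1),(3,(.negSucc 1),1),(4,(.negSucc 0),1),(10,(.negSucc 0),2)] .nil .nil)) (.node [(9,(.ofNat 1),1)] .nil .nil)) (.node [] .nil (.node [(19,(.negSucc 0),1)] .nil .nil)))) (.node [(10,(.negSucc 0),1)] .nil (.node [] (.node [] (.node [] .nil (.node [(55,(.ofNat 1),1)] .nil .nil)) .nil) .nil))) (.node [] (.node [] (.node [] (.node [] (.node [] .nil (.node [(33,(.negSucc 0),1)] .nil .nil)) .nil) .nil) (.node [] (.node [] (.node [] .nil (.node [(44,(.ofNat 1),1)] .nil .nil)) .nil) (.node [] .nil (.node [(20,(.ofNat 1),1)] .nil .nil)))) (.node [] (.node [] (.node [] .nil (.node [(8,(.negSucc 0),1)] .nil .nil)) .nil) (.node [] .nil (.node [] .nil (.node [(24,(.negSucc 0),1)] .nil .nil)))))))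
noncomputable def ex5 : Trie (List (ℕ × ℤ × ℕ)) := (.node [(11,(.ofNat 1),1)] (.node [] (.node [] (.node [] .nil (.node [] (.node [] (.node [] .nil (.node [(0,(.negSucc 0),1),(1,(.negSucc 0),1),(2,(.negSucc 0),1),(3,(.negSucc 1),1),(4,(.negSucc 1),1),(5,(.negSucc 0),1),(11,(.negSucc 0),2)] .nil .nil)) .nil) .nil)) (.node [(11,(.ofNat 1),1)] (.node [] (.node [] (.node [] .nil (.node [(36,(.ofNat 1),1)] .nil .nil)) .nil) .nil) (.node [] (.node [] (.node [] .nil (.node [(49,(.negSucc 0),1)] .nil .nil)) (.node [(13,(.negSucc 0),1)] .nil .nil)) .nil))) (.node [(11,(.negSucc 0),1)] (.node [] (.node [] (.node [] (.node [] .nil (.node [(29,(.negSucc 0),1)] .nil .nil)) (.node [(7,(.ofNat 1),1)] .nil .nil)) .nil) .nil) (.node [] (.node [] (.node [] (.node [] .nil (.node [(39,(.ofNat 1),1)] .nil .nil)) .nil) (.node [] .nil (.node [(17,(.ofNat 1),1)] .nil .nil))) (.node [] (.node [] .nil (.node [(14,(.ofNat 1),1)] .nil .nil)) (.node [] .nil (.node [(22,(.negSucc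 0),1)] .nil .nil)))))) (.node [] (.node [] (.node [] (.node [] (.node [] (.node [] .nil (.node [(28,(.ofNat 1),1)] .nil .nil)) .nil) .nil) .nil) (.node [] (.node [] (.node [] (.node [] .nil (.node [(37,(.negSucc 0),1)] .nil .nil)) .nil) .nil) (.node [] (.node [] (.node [] .nil (.node [(56,(.negSucc 0),1)] .nil .nil)) .nil) (.node [] .nil (.node [(21,(.ofNat 1),1)] .nil .nil))))) (.node [] (.node [] (.node [] (.node [] .nil (.node [(8,(.ofNat 1),1)] .nil .nil)) .nil) (.node [] (.node [] (.node [] .nil (.node [(48,(.negSucc 0),1)] .nil .nil)) (.node [(12,(.ofNat 1),1)] .nil .nil)) (.node [(6,(.ofNat 1),1)] .nil .nil))) (.node [] (.node [] (.node [] (.node [] .nil (.node [(40,(.negSucc 0),1)] .nil .nil)) .nil) (.node [] .nil (.node [(18,(.negSucc 0),1)] .nil .nil))) (.node [] (.node [] .nil (.node [(15,(.negSucc 0),1)] .nil .nil)) .nil)))))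
noncomputable def ex6 : Trie (List (ℕ × ℤ × ℕ)) := (.node [(12,(.ofNat 1),1)] (.node [] (.node [] (.node [] (.node [] (.node [] (.node [] .nil (.node [(28,(.ofNat 1),1)] .nil .nil)) .nil) .nil) (.node [] (.node [] (.node [] .nil (.node [(43,(.negSucc 0),1)] .nil .nil)) (.node [(11,(.ofNat 1),1)] .nil .nil)) .nil)) (.node [(12,(.negSucc 0),1)] .nil (.node [] (.node [] (.node [] .nil (.node [(50,(.ofNat 1),1)] .nil .nil)) .nil) (.node [] .nil (.node [(21,(.ofNat 1),1)] .nil .nil))))) (.node [(12,(.negSucc 0),1)] (.node [] (.node [] (.node [] (.node [] .nil (.node [(30,(.negSucc 0),1)] .nil .nil)) .nil) .nil) (.node [] (.node [] (.node [] .nil (.node [(48,(.negSucc 0),1)] .nil .nil)) (.node [(13,(.ofNat 1),1)] .nil .nil)) (.node [(6,(.negSucc 0),1)] .nil .nil))) (.node [] (.node [] (.node [] (.node [] .nil (.node [(41,(.negSucc 0),1)] .nil .nil)) .nil) .nil) (.node [] .nil (.node [] .nil (.node [(23,(.negSucc 0),1)] .nil .nil)))))) (.node [] (.node []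 (.node [] (.node [] (.node [] .nil (.node [(7,(.negSucc 0),1)] .nil .nil)) .nil) .nil) (.node [(12,(.ofNat 1),1)] (.node [] (.node [] (.node [] .nil (.node [(38,(.negSucc 0),1)] .nil .nil)) .nil) (.node [] .nil (.node [(17,(.ofNat 1),1)] .nil .nil))) (.node [] (.node [] (.node [] .nil (.node [(57,(.ofNat 1),1)] .nil .nil)) (.node [(14,(.ofNat 1),1)] .nil .nil)) .nil))) (.node [(12,(.ofNat 1),1)] (.node [] (.node [] (.node [] (.node [] .nil (.node [(36,(.ofNat 1),1)] .nil .nil)) (.node [(9,(.ofNat 1),1)] .nil .nil)) .nil) .nil) (.node [] (.node [] (.node [] (.node [] .nil (.node [(0,(.negSucc 0),1),(1,(.negSucc 0),1),(2,(.negSucc 0),1),(3,(.negSucc 1),1),(4,(.negSucc 0),1),(5,(.negSucc 0),1),(12,(.negSucc 0),2)] .nil .nil)) .nil) (.node [] .nil (.node [(19,(.negSucc 0),1)] .nil .nil))) (.node [] (.node [] .nil (.node [(16,(.negSucc 0),1)] .nil .nil)) .nil)))))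
noncomputable def ex7 : Trie (List (ℕ × ℤ × ℕ)) := (.node [(13,(.ofNat 1),1)] (.node [] (.node [] (.node [] (.node [] (.node [] (.node [] .nil (.node [(29,(.ofNat 1),1)] .nil .nil)) (.node [(7,(.ofNat 1),1)] .nil .nil)) .nil) (.node [] (.node [] (.node [] .nil (.node [(44,(.ofNat 1),1)] .nil .nil)) .nil) .nil)) (.node [] (.node [] (.node [] (.node [] .nil (.node [(38,(.negSucc 0),1)] .nil .nil)) .nil) .nil) (.node [] (.node [] (.node [] .nil (.node [(51,(.negSucc 0),1)] .nil .nil)) .nil) .nil))) (.node [(13,(.negSucc 0),1)] .nil (.node [] (.node [] (.node [] (.node [] .nil (.node [(0,(.negSucc 0),1),(1,(.negSucc 0),1),(2,(.negSucc 0),1),(3,(.negSucc 1),1),(4,(.negSucc 0),1),(13,(.negSucc 0),2)] .nil .nil)) .nil) (.node [] .nil (.node [(19,(.negSucc 0),1)] .nil .nil))) (.node [] (.node [] .nil (.node [(16,(.negSucc 0),1)] .nil .nil)) (.node [] .nil (.node [(24,(.negSucc 0),1)] .nil .nil)))))) (.node [] (.node [] (.node [] (.node [] (.node [] (.node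 [] .nil (.node [(30,(.negSucc 0),1)] .nil .nil)) .nil) .nil) (.node [] (.node [] (.node [] .nil (.node [(48,(.negSucc 0),1)] .nil .nil)) (.node [(12,(.ofNat 1),1)] .nil .nil)) (.node [(6,(.ofNat 1),1)] .nil .nil))) (.node [(13,(.negSucc 0),1)] (.node [] .nil (.node [] .nil (.node [(18,(.ofNat 1),1)] .nil .nil))) (.node [] (.node [] (.node [] .nil (.node [(58,(.negSucc 0),1)] .nil .nil)) (.node [(15,(.ofNat 1),1)] .nil .nil)) .nil))) (.node [(13,(.ofNat 1),1)] (.node [] (.node [] (.node [] (.node [] .nil (.node [(37,(.ofNat 1),1)] .nil .nil)) (.node [(10,(.ofNat 1),1)] .nil .nil)) .nil) (.node [] .nil (.node [] .nil (.node [(21,(.ofNat 1),1)] .nil .nil)))) (.node [] (.node [] (.node [] (.node [] .nil (.node [(42,(.negSucc 0),1)] .nil .nil)) (.node [(11,(.negSucc 0),1)] .nil .nil)) .nil) .nil))))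
noncomputable def ex8 : Trie (List (ℕ × ℤ × ℕ)) := (.node [(14,(.ofNat 1),1)] (.node [] (.node [] (.node [] .nil (.node [] (.node [] (.node [] .nil (.node [(46,(.negSucc 0),1)] .nil .nil)) .nil) (.node [(6,(.ofNat 1),1)] .nil .nil))) (.node [] (.node [] (.node [] (.node [] .nil (.node [(41,(.negSucc 0),1)] .nil .nil)) .nil) (.node [] .nil (.node [(17,(.ofNat 1),1)] .nil .nil))) (.node [] (.node [] .nil (.node [(16,(.ofNat 1),1)] .nil .nil)) .nil))) (.node [] (.node [] (.node [] (.node [] (.node [] .nil (.node [(31,(.negSucc 0),1)] .nil .nil)) (.node [(9,(.negSucc 0),1)] .nil .nil)) .nil) (.node [] (.node [] (.node [] .nil (.node [(49,(.ofNat 1),1)] .nil .nil)) (.node [(15,(.ofNat 1),1)] .nil .nil)) (.node [] .nil (.node [(21,(.ofNat 1),1)] .nil .nil)))) (.node [] (.node [] (.node [] .nil (.node [(12,(.ofNat 1),1)] .nil .nil)) .nil) (.node [] .nil (.node [] .nil (.node [(25,(.negSucc 0),1)] .nil .nil)))))) (.node [(14,(.ofNat 1),1)] (.node [] (.node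 [] (.node [] (.node [] .nil (.node [(8,(.negSucc 0),1)] .nil .nil)) .nil) .nil) (.node [(14,(.ofNat 1),1)] (.node [] (.node [] (.node [] .nil (.node [(0,(.negSucc 0),1),(1,(.negSucc 0),1),(2,(.negSucc 0),1),(3,(.negSucc 0),1),(4,(.negSucc 0),1),(5,(.negSucc 0),1),(14,(.negSucc 0),2)] .nil .nil)) (.node [(11,(.ofNat 1),1)] .nil .nil)) .nil) (.node [] (.node [] (.node [] .nil (.node [(59,(.negSucc 0),1)] .nil .nil)) .nil) .nil))) (.node [(14,(.negSucc 0),1)] (.node [] (.node [] (.node [] (.node [] .nil (.node [(39,(.negSucc 0),1)] .nil .nil)) .nil) .nil) (.node [] (.node [] (.node [] .nil (.node [(50,(.ofNat 1),1)] .nil .nil)) .nil) .nil)) (.node [] (.node [] (.node [] (.node [] .nil (.node [(45,(.negSucc 0),1)] .nil .nil)) .nil) (.node [] .nil (.node [(20,(.negSucc 0),1)] .nil .nil))) (.node [] .nil (.node [] .nil (.node [(28,(.ofNat 1),1)] .nil .nil)))))))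
noncomputable def ex9 : Trie (List (ℕ × ℤ × ℕ)) := (.node [(15,(.ofNat 1),1)] (.node [] (.node [] (.node [] (.node [] (.node [] .nil (.node [(8,(.ofNat 1),1)] .nil .nil)) .nil) (.node [] (.node [] (.node [] .nil (.node [(47,(.ofNat 1),1)] .nil .nil)) .nil) .nil)) (.node [(15,(.ofNat 1),1)] (.node [] (.node [] (.node [] .nil (.node [(0,(.negSucc 0),1),(1,(.negSucc 0),1),(2,(.negSucc 0),1),(3,(.negSucc 0),1),(4,(.negSucc 0),1),(15,(.negSucc 0),2)] .nil .nil)) (.node [(11,(.negSucc 0),1)] .nil .nil)) (.node [] .nil (.node [(18,(.ofNat 1),1)] .nil .nil))) .nil)) (.node [] (.node [] (.node [] (.node [] .nil (.node [(10,(.negSucc 0),1)] .nil .nil)) .nil) .nil) (.node [] (.node [] (.node [] (.node [] .nil (.node [(45,(.negSucc 0),1)] .nil .nil)) (.node [(13,(.ofNat 1),1)] .nil .nil)) (.node [] .nil (.node [(20,(.negSucc 0),1)] .nil .nil))) (.node [] .nil (.node [] .nil (.node [(26,(.negSucc 0),1)] .nil .nil)))))) (.node [(15,(.ofNat 1),1)] (.node [] (.node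 [] (.node [] (.node [] (.node [] .nil (.node [(31,(.negSucc 0),1)] .nil .nil)) .nil) .nil) (.node [] (.node [] (.node [] .nil (.node [(49,(.ofNat 1),1)] .nil .nil)) (.node [(14,(.ofNat 1),1)] .nil .nil)) (.node [] .nil (.node [(21,(.ofNat 1),1)] .nil .nil)))) (.node [(15,(.negSucc 0),1)] (.node [] (.node [] (.node [] .nil (.node [(42,(.negSucc 0),1)] .nil .nil)) .nil) .nil) (.node [] (.node [] (.node [] .nil (.node [(60,(.ofNat 1),1)] .nil .nil)) .nil) .nil))) (.node [(15,(.negSucc 0),1)] (.node [] (.node [] (.node [] (.node [] .nil (.node [(40,(.negSucc 0),1)] .nil .nil)) .nil) .nil) (.node [] (.node [] (.node [] .nil (.node [(51,(.negSucc 0),1)] .nil .nil)) (.node [(16,(.ofNat 1),1)] .nil .nil)) .nil)) (.node [] (.node [] .nil (.node [(6,(.negSucc 0),1)] .nil .nil)) (.node [] .nil (.node [] .nil (.node [(29,(.ofNat 1),1)] .nil .nil)))))))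
noncomputable def ex10 : Trie (List (ℕ × ℤ × ℕ)) := (.node [(16,(.ofNat 1),1)] (.node [] (.node [] (.node [] (.node [] (.node [] (.node [] .nil (.node [(31,(.negSucc 0),1)] .nil .nil)) (.node [(9,(.ofNat 1),1)] .nil .nil)) (.node [] .nil .nil)) (.node [] (.node [] .nil (.node [(15,(.ofNat 1),1)] .nil .nil)) (.node [] .nil (.node [(21,(.ofNat 1),1)] .nil .nil)))) (.node [(16,(.negSucc 0),1)] (.node [] (.node [] (.node [] .nil (.node [(43,(.negSucc 0),1)] .nil .nil)) (.node [(12,(.negSucc 0),1)] .nil .nil)) (.node [] .nil (.node [(19,(.ofNat 1),1)] .nil .nil))) .nil)) (.node [] (.node [] .nil (.node [] (.node [] (.node [] .nil (.node [(51,(.negSucc 0),1)] .nil .nil)) .nil) .nil)) (.node [] (.node [] (.node [] (.node [] .nil (.node [(46,(.ofNat 1),1)] .nil .nil)) .nil) (.node [(6,(.ofNat 1),1)] .nil .nil)) (.node [] .nil (.node [] .nil (.node [(27,(.negSucc 0),1)] .nil .nil)))))) (.node [(16,(.ofNat 1),1)] (.node [] (.node [] (.node [] (.node [] .nil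 (.node [(10,(.ofNat 1),1)] .nil .nil)) .nil) (.node [] (.node [] (.node [] .nil (.node [(50,(.negSucc 0),1)] .nil .nil)) .nil) .nil)) (.node [] (.node [] (.node [] (.node [] .nil (.node [(44,(.negSucc 0),1)] .nil .nil)) (.node [(13,(.negSucc 0),1)] .nil .nil)) (.node [] .nil (.node [(20,(.negSucc 0),1)] .nil .nil))) (.node [] (.node [] (.node [] .nil (.node [(61,(.negSucc 0),1)] .nil .nil)) .nil) .nil))) (.node [] (.node [] (.node [] (.node [] (.node [] .nil (.node [(0,(.negSucc 0),1),(1,(.negSucc 0),1),(2,(.negSucc 0),1),(3,(.negSucc 0),1),(16,(.negSucc 0),2)] .nil .nil)) .nil) .nil) .nil) (.node [] (.node [] (.node [] (.node [] .nil (.node [(47,(.ofNat 1),1)] .nil .nil)) (.node [(14,(.ofNat 1),1)] .nil .nil)) .nil) (.node [] .nil (.node [] .nil (.node [(30,(.ofNat 1),1)] .nil .nil)))))))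
noncomputable def ex11 : Trie (List (ℕ × ℤ × ℕ)) := (.node [(17,(.ofNat 1),1)] (.node [] (.node [] (.node [] (.node [] (.node [] (.node [] .nil (.node [(39,(.negSucc 0),1)] .nil .nil)) .nil) .nil) (.node [] (.node [] (.node [] .nil (.node [(54,(.negSucc 0),1)] .nil .nil)) .nil) (.node [(7,(.ofNat 1),1)] .nil .nil))) (.node [] .nil (.node [] (.node [] (.node [] .nil (.node [(59,(.negSucc 0),1)] .nil .nil)) (.node [(19,(.ofNat 1),1)] .nil .nil)) .nil))) (.node [] (.node [] (.node [] (.node [] (.node [] .nil (.node [(0,(.negSucc 0),1),(2,(.negSucc 0),1),(3,(.negSucc 0),1),(4,(.negSucc 0),1),(5,(.negSucc 0),1),(17,(.negSucc 0),2)] .nil .nil)) .nil) .nil) (.node [] (.node [] (.node [] .nil (.node [(56,(.negSucc 0),1)] .nil .nil)) (.node [(18,(.ofNat 1),1)] .nil .nil)) (.node [(8,(.ofNat 1),1)] .nil .nil))) (.node [] .nil (.node [] .nil (.node [(12,(.ofNat 1),1)] .nil (.node [(32,(.negSucc 0),1)] .nil .nil)))))) (.node [(17,(.negSucc 0),1)] (.node [] (.node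 [] (.node [] (.node [] (.node [] .nil (.node [(41,(.negSucc 0),1)] .nil .nil)) .nil) (.node [] .nil .nil)) .nil) (.node [(17,(.ofNat 1),1)] (.node [] (.node [] (.node [] .nil (.node [(52,(.negSucc 0),1)] .nil .nil)) .nil) .nil) (.node [] .nil (.node [(11,(.ofNat 1),1)] .nil .nil)))) (.node [] (.node [] (.node [] .nil (.node [] .nil (.node [(21,(.ofNat 1),1)] .nil .nil))) (.node [] (.node [] (.node [] .nil (.node [(57,(.negSucc 0),1)] .nil .nil)) .nil) (.node [(9,(.ofNat 1),1)] .nil .nil))) (.node [] (.node [] (.node [] (.node [] .nil (.node [(53,(.negSucc 0),1)] .nil .nil)) .nil) .nil) (.node [] (.node [] .nil (.node [(20,(.ofNat 1),1)] .nil .nil)) (.node [(14,(.ofNat 1),1)] .nil (.node [(36,(.negSucc 0),1)] .nil .nil)))))))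
noncomputable def ex12 : Trie (List (ℕ × ℤ × ℕ)) := (.node [(18,(.ofNat 1),1)] (.node [] (.node [] (.node [] (.node [] (.node [] (.node [] .nil (.node [(40,(.negSucc 0),1)] .nil .nil)) .nil) .nil) (.node [] (.node [] (.node [] .nil (.node [(55,(.ofNat 1),1)] .nil .nil)) .nil) .nil)) (.node [(18,(.ofNat 1),1)] (.node [] (.node [] (.node [] .nil (.node [(52,(.negSucc 0),1)] .nil .nil)) .nil) .nil) (.node [] (.node [] (.node [] .nil (.node [(60,(.ofNat 1),1)] .nil .nil)) .nil) (.node [(11,(.negSucc 0),1)] .nil .nil)))) (.node [] (.node [] (.node [] (.node [] (.node [] .nil (.node [(42,(.negSucc 0),1)] .nil .nil)) .nil) (.node [] .nil (.node [(21,(.ofNat 1),1)] .nil .nil))) .nil) (.node [] (.node [] (.node [] (.node [] .nil (.node [(53,(.negSucc 0),1)] .nil .nil)) .nil) .nil) (.node [] (.node [] .nil (.node [(20,(.ofNat 1),1)] .nil .nil)) (.node [(13,(.ofNat 1),1)] .nil (.node [(33,(.negSucc 0),1)] .nil .nil)))))) (.node [(18,(.negSucc 0),1)] (.node []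 (.node [] (.node [] (.node [] (.node [] .nil (.node [(0,(.negSucc 0),1),(2,(.negSucc 0),1),(3,(.negSucc 0),1),(4,(.negSucc 0),1),(18,(.negSucc 0),2)] .nil .nil)) .nil) .nil) (.node [] (.node [] (.node [] .nil (.node [(56,(.negSucc 0),1)] .nil .nil)) (.node [(17,(.ofNat 1),1)] .nil .nil)) (.node [(8,(.negSucc 0),1)] .nil .nil))) (.node [(18,(.negSucc 0),1)] .nil .nil)) (.node [] (.node [] .nil (.node [] (.node [] (.node [] .nil (.node [(58,(.ofNat 1),1)] .nil .nil)) (.node [(19,(.ofNat 1),1)] .nil .nil)) (.node [(10,(.ofNat 1),1)] .nil .nil))) (.node [] (.node [] .nil (.node [(7,(.negSucc 0),1)] .nil .nil)) (.node [] .nil (.node [(15,(.ofNat 1),1)] .nil (.node [(37,(.negSucc 0),1)] .nil .nil)))))))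
noncomputable def ex13 : Trie (List (ℕ × ℤ × ℕ)) := (.node [(19,(.ofNat 1),1)] (.node [] (.node [] (.node [] (.node [] (.node [] (.node [] .nil (.node [(0,(.negSucc 0),1),(2,(.negSucc 0),1),(3,(.negSucc 0),1),(19,(.negSucc 0),2)] .nil .nil)) .nil) .nil) (.node [] (.node [] .nil (.node [(18,(.ofNat 1),1)] .nil .nil)) .nil)) (.node [(19,(.negSucc 0),1)] .nil (.node [] (.node [] (.node [] .nil (.node [(61,(.negSucc 0),1)] .nil .nil)) .nil) (.node [(12,(.negSucc 0),1)] .nil .nil)))) (.node [] (.node [] (.node [] (.node [] (.node [] .nil (.node [(44,(.negSucc 0),1)] .nil .nil)) .nil) .nil) (.node [] (.node [] (.node [] .nil (.node [(58,(.ofNat 1),1)] .nil .nil)) .nil) (.node [(10,(.negSucc 0),1)] .nil .nil))) (.node [] (.node [] (.node [] (.node [] .nil (.node [(54,(.ofNat 1),1)] .nil .nil)) .nil) (.node [(7,(.ofNat 1),1)] .nil .nil)) (.node [] .nil (.node [] .nil (.node [(34,(.negSucc 0),1)] .nil .nil)))))) (.node [(19,(.negSucc 0),1)] (.node [] (.node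 [] (.node [] (.node [] (.node [] .nil (.node [(43,(.negSucc 0),1)] .nil .nil)) .nil) (.node [] .nil (.node [(21,(.ofNat 1),1)] .nil .nil))) (.node [] (.node [] (.node [] .nil (.node [(57,(.ofNat 1),1)] .nil .nil)) .nil) (.node [(9,(.negSucc 0),1)] .nil .nil))) (.node [] .nil (.node [] (.node [] .nil (.node [(20,(.ofNat 1),1)] .nil .nil)) (.node [(13,(.negSucc 0),1)] .nil .nil)))) (.node [(19,(.ofNat 1),1)] (.node [] (.node [] (.node [] (.node [] .nil (.node [(52,(.negSucc 0),1)] .nil .nil)) .nil) (.node [] .nil .nil)) .nil) (.node [] (.node [] (.node [] (.node [] .nil (.node [(55,(.ofNat 1),1)] .nil .nil)) (.node [(17,(.ofNat 1),1)] .nil .nil)) .nil) (.node [] .nil (.node [(16,(.ofNat 1),1)] .nil (.node [(38,(.negSucc 0),1)] .nil .nil)))))))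
noncomputable def ex14 : Trie (List (ℕ × ℤ × ℕ)) := (.node [(20,(.ofNat 1),1)] (.node [] (.node [] (.node [] (.node [] (.node [] (.node [] .nil (.node [(45,(.negSucc 0),1)] .nil .nil)) .nil) (.node [] .nil (.node [(21,(.ofNat 1),1)] .nil .nil))) (.node [] .nil (.node [(10,(.ofNat 1),1)] .nil .nil))) (.node [] (.node [] (.node [] (.node [] .nil (.node [(54,(.ofNat 1),1)] .nil .nil)) (.node [(17,(.ofNat 1),1)] .nil .nil)) (.node [] .nil .nil)) (.node [] .nil (.node [(14,(.negSucc 0),1)] .nil .nil)))) (.node [(20,(.ofNat 1),1)] (.node [] (.node [] (.node [] (.node [] .nil (.node [(47,(.negSucc 0),1)] .nil .nil)) .nil) .nil) (.node [] (.node [] (.node [] .nil (.node [(60,(.negSucc 0),1)] .nil .nil)) .nil) .nil)) (.node [] (.node [] (.node [] .nil (.node [(19,(.ofNat 1),1)] .nil .nil)) (.node [(8,(.ofNat 1),1)] .nil .nil)) (.node [] .nil (.node [(16,(.negSucc 0),1)] .nil (.node [(35,(.negSucc 0),1)] .nil .nil)))))) (.node [] (.node [] (.node [] (.node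 [] (.node [] (.node [] .nil (.node [(46,(.negSucc 0),1)] .nil .nil)) .nil) .nil) (.node [] (.node [] (.node [] .nil (.node [(59,(.negSucc 0),1)] .nil .nil)) .nil) .nil)) (.node [] (.node [] (.node [] (.node [] .nil (.node [(55,(.ofNat 1),1)] .nil .nil)) (.node [(18,(.ofNat 1),1)] .nil .nil)) .nil) (.node [] .nil (.node [(15,(.negSucc 0),1)] .nil .nil)))) (.node [(20,(.negSucc 0),1)] (.node [] (.node [] (.node [] (.node [] .nil (.node [(53,(.ofNat 1),1)] .nil .nil)) .nil) .nil) (.node [] (.node [] (.node [] .nil (.node [(61,(.negSucc 0),1)] .nil .nil)) .nil) .nil)) (.node [] (.node [] .nil (.node [(9,(.ofNat 1),1)] .nil .nil)) (.node [] .nil (.node [] .nil (.node [(0,(.negSucc 0),1),(2,(.negSucc 0),1),(20,(.negSucc 0),2)] .nil .nil)))))))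
noncomputable def ex15 : Trie (List (ℕ × ℤ × ℕ)) := (.node [(21,(.ofNat 2),1)] (.node [] (.node [] (.node [] (.node [] (.node [] (.node [] .nil (.node [(49,(.negSucc 0),1)] .nil .nil)) (.node [(17,(.ofNat 1),1)] .nil .nil)) .nil) (.node [] (.node [] (.node [] .nil (.node [(61,(.negSucc 0),1)] .nil .nil)) .nil) (.node [(13,(.ofNat 1),1)] .nil .nil))) (.node [] (.node [] (.node [] (.node [] .nil (.node [(57,(.negSucc 0),1)] .nil .nil)) .nil) .nil) .nil)) (.node [(21,(.negSucc 0),1)] (.node [] (.node [] (.node [] (.node [] .nil (.node [(51,(.negSucc 0),1)] .nil .nil)) (.node [(19,(.ofNat 1),1)] .nil .nil)) .nil) (.node [] .nil (.node [(15,(.ofNat 1),1)] .nil .nil))) (.node [] (.node [] (.node [] (.node [] .nil (.node [(59,(.negSucc 0),1)] .nil .nil)) .nil) (.node [(11,(.ofNat 1),1)] .nil .nil)) (.node [] .nil (.node [] .nil (.node [(0,(.negSucc 0),1),(21,(.negSucc 0),2)] .nil .nil)))))) (.node [] (.node [] (.node [] (.node [] (.node [] (.node [] .nil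 (.node [(50,(.negSucc 0),1)] .nil .nil)) (.node [(18,(.ofNat 1),1)] .nil .nil)) .nil) (.node [] .nil (.node [(14,(.ofNat 1),1)] .nil .nil))) (.node [] (.node [] (.node [] (.node [] .nil (.node [(58,(.negSucc 0),1)] .nil .nil)) .nil) (.node [] .nil .nil)) .nil)) (.node [] (.node [] (.node [] (.node [] (.node [] .nil (.node [(56,(.negSucc 0),1)] .nil .nil)) (.node [(20,(.ofNat 1),1)] .nil .nil)) .nil) (.node [] .nil (.node [(16,(.ofNat 1),1)] .nil .nil))) (.node [] (.node [] (.node [] (.node [] .nil (.node [(60,(.negSucc 0),1)] .nil .nil)) .nil) (.node [(12,(.ofNat 1),1)] .nil .nil)) (.node [] .nil (.node [] .nil (.node [(48,(.negSucc 0),1)] .nil .nil)))))))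
noncomputable def ex16 : Trie (List (ℕ × ℤ × ℕ)) := (.node [(22,(.negSucc 0),1)] (.node [] (.node [] (.node [] (.node [] .nil (.node [(6,(.negSucc 0),1)] .nil .nil)) (.node [] (.node [] (.node [] .nil (.node [(62,(.ofNat 1),1)] .nil .nil)) .nil) .nil)) (.node [(22,(.ofNat 1),1)] (.node [] .nil (.node [(8,(.negSucc 0),1)] .nil .nil)) (.node [] (.node [] (.node [] .nil (.node [(64,(.ofNat 1),1)] .nil .nil)) (.node [(24,(.negSucc 0),1)] .nil .nil)) (.node [] .nil (.node [(40,(.negSucc 0),1)] .nil .nil))))) (.node [] (.node [] (.node [] .nil (.node [] .nil (.node [(28,(.ofNat 1),1)] .nil .nil))) (.node [] .nil (.node [] .nil (.node [(37,(.negSucc 0),1)] .nil .nil)))) (.node [] (.node [] .nil (.node [] .nil (.node [(32,(.ofNat 1),1)] .nil .nil))) (.node [] (.node [] .nil (.node [(25,(.ofNat 1),1)] .nil .nil)) .nil)))) (.node [] (.node [] (.node [] .nil (.node [] .nil (.node [] .nil (.node [(36,(.ofNat 1),1)] .nil .nil)))) (.node [] (.node [] .nil (.node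 [(11,(.negSucc 0),1)] .nil .nil)) (.node [] (.node [] (.node [] .nil (.node [(67,(.ofNat 1),1)] .nil .nil)) .nil) (.node [] .nil (.node [(1,(.negSucc 0),1),(2,(.negSucc 0),1),(3,(.negSucc 1),1),(4,(.negSucc 1),1),(5,(.negSucc 0),1),(22,(.negSucc 0),2)] .nil .nil))))) (.node [] (.node [] (.node [] .nil (.node [(7,(.negSucc 0),1)] .nil (.node [(29,(.negSucc 0),1)] .nil .nil))) (.node [] (.node [] (.node [] .nil (.node [(63,(.ofNat 1),1)] .nil .nil)) (.node [(23,(.ofNat 1),1)] .nil .nil)) (.node [] .nil (.node [(39,(.ofNat 1),1)] .nil .nil)))) (.node [] (.node [] .nil (.node [] .nil (.node [(33,(.negSucc 0),1)] .nil .nil))) (.node [] (.node [] .nil (.node [(26,(.negSucc 0),1)] .nil .nil)) .nil)))))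
noncomputable def ex17 : Trie (List (ℕ × ℤ × ℕ)) := (.node [(23,(.negSucc 0),1)] (.node [] (.node [] (.node [] .nil (.node [] (.node [] .nil (.node [(22,(.ofNat 1),1)] .nil .nil)) (.node [] .nil (.node [(36,(.ofNat 1),1)] .nil .nil)))) (.node [(23,(.negSucc 0),1)] (.node [] .nil (.node [(9,(.negSucc 0),1)] .nil .nil)) (.node [] (.node [] (.node [] .nil (.node [(65,(.negSucc 0),1)] .nil .nil)) .nil) (.node [] .nil (.node [(1,(.negSucc 0),1),(2,(.negSucc 0),1),(3,(.negSucc 1),1),(4,(.negSucc 0),1),(5,(.negSucc 0),1),(23,(.negSucc 0),2)] .nil .nil))))) (.node [] (.node [] (.node [] .nil (.node [(7,(.ofNat 1),1)] .nil .nil)) (.node [] (.node [] (.node [] .nil (.node [(63,(.ofNat 1),1)] .nil .nil)) (.node [(24,(.ofNat 1),1)] .nil .nil)) (.node [] .nil (.node [(38,(.negSucc 0),1)] .nil .nil)))) .nil)) (.node [] (.node [] (.node [] (.node [] .nil (.node [] .nil (.node [(28,(.ofNat 1),1)] .nil .nil))) .nil) (.node [(23,(.ofNat 1),1)] (.node [] .nil (.node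 [(12,(.negSucc 0),1)] .nil (.node [(32,(.ofNat 1),1)] .nil .nil))) (.node [] (.node [] (.node [] .nil (.node [(68,(.negSucc 0),1)] .nil .nil)) (.node [(25,(.ofNat 1),1)] .nil .nil)) (.node [] .nil (.node [(43,(.negSucc 0),1)] .nil .nil))))) (.node [(23,(.ofNat 1),1)] (.node [] (.node [] .nil (.node [] .nil (.node [(30,(.negSucc 0),1)] .nil .nil))) (.node [] .nil (.node [] .nil (.node [(41,(.negSucc 0),1)] .nil .nil)))) (.node [] (.node [] (.node [] (.node [] .nil (.node [(62,(.ofNat 1),1)] .nil .nil)) .nil) (.node [] .nil (.node [(34,(.negSucc 0),1)] .nil .nil))) (.node [(6,(.ofNat 1),1)] (.node [] .nil (.node [(27,(.negSucc 0),1)] .nil .nil)) .nil)))))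
noncomputable def ex18 : Trie (List (ℕ × ℤ × ℕ)) := (.node [(24,(.negSucc 0),1)] (.node [] (.node [] (.node [] .nil (.node [] .nil (.node [] .nil (.node [(37,(.ofNat 1),1)] .nil .nil)))) (.node [] (.node [] .nil (.node [(10,(.negSucc 0),1)] .nil .nil)) (.node [] (.node [] (.node [] .nil (.node [(66,(.ofNat 1),1)] .nil .nil)) .nil) (.node [] .nil (.node [(42,(.negSucc 0),1)] .nil .nil))))) (.node [] (.node [] (.node [] .nil (.node [] .nil (.node [(30,(.negSucc 0),1)] .nil .nil))) .nil) (.node [] (.node [] (.node [] (.node [] .nil (.node [(62,(.ofNat 1),1)] .nil .nil)) .nil) (.node [] .nil (.node [(34,(.negSucc 0),1)] .nil .nil))) (.node [(6,(.negSucc 0),1)] (.node [] .nil (.node [(27,(.negSucc 0),1)] .nil .nil)) .nil)))) (.node [] (.node [] (.node [] (.node [] .nil (.node [(7,(.negSucc 0),1)] .nil (.node [(29,(.ofNat 1),1)] .nil .nil))) (.node [] (.node [] (.node [] .nil (.node [(63,(.ofNat 1),1)] .nil .nil)) (.node [(23,(.ofNat 1),1)] .nil .nil))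 (.node [] .nil (.node [(38,(.negSucc 0),1)] .nil .nil)))) (.node [(24,(.negSucc 0),1)] (.node [] .nil (.node [(13,(.negSucc 0),1)] .nil (.node [(33,(.ofNat 1),1)] .nil .nil))) (.node [] (.node [] (.node [] .nil (.node [(69,(.ofNat 1),1)] .nil .nil)) (.node [(26,(.ofNat 1),1)] .nil .nil)) (.node [] .nil (.node [(44,(.ofNat 1),1)] .nil .nil))))) (.node [(24,(.ofNat 1),1)] (.node [] .nil (.node [] .nil (.node [] .nil (.node [(1,(.negSucc 0),1),(2,(.negSucc 0),1),(3,(.negSucc 1),1),(4,(.negSucc 0),1),(24,(.negSucc 0),2)] .nil .nil)))) (.node [] (.node [] (.node [] .nil (.node [(22,(.negSucc 0),1)] .nil .nil)) .nil) .nil))))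
noncomputable def ex19 : Trie (List (ℕ × ℤ × ℕ)) := (.node [(25,(.negSucc 0),1)] (.node [] (.node [] (.node [] (.node [] .nil (.node [] .nil (.node [(28,(.ofNat 1),1)] .nil .nil))) (.node [] .nil (.node [] .nil (.node [(39,(.negSucc 0),1)] .nil .nil)))) (.node [] (.node [] .nil (.node [] .nil (.node [(32,(.ofNat 1),1)] .nil .nil))) (.node [] (.node [] .nil (.node [(27,(.ofNat 1),1)] .nil .nil)) (.node [] .nil (.node [(45,(.negSucc 0),1)] .nil .nil))))) (.node [(25,(.ofNat 1),1)] (.node [] (.node [] .nil (.node [(8,(.ofNat 1),1)] .nil .nil)) (.node [] (.node [] (.node [] .nil (.node [(64,(.negSucc 0),1)] .nil .nil)) (.node [(26,(.ofNat 1),1)] .nil .nil)) (.node [] .nil (.node [(1,(.negSucc 0),1),(2,(.negSucc 0),1),(3,(.negSucc 0),1),(4,(.negSucc 0),1),(5,(.negSucc 0),1),(25,(.negSucc 0),2)] .nil .nil)))) (.node [] (.node [] (.node [] .nil (.node [(23,(.ofNat 1),1)] .nil .nil)) .nil) .nil))) (.node [(25,(.ofNat 1),1)] (.node [] (.node [] .nil (.node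 [] .nil (.node [] .nil (.node [(41,(.negSucc 0),1)] .nil .nil)))) (.node [(25,(.ofNat 1),1)] (.node [] (.node [] (.node [] .nil (.node [(62,(.ofNat 1),1)] .nil .nil)) (.node [(22,(.ofNat 1),1)] .nil .nil)) (.node [(14,(.negSucc 0),1)] .nil .nil)) (.node [(6,(.negSucc 0),1)] (.node [] (.node [] .nil (.node [(70,(.ofNat 1),1)] .nil .nil)) .nil) (.node [] .nil (.node [(46,(.negSucc 0),1)] .nil .nil))))) (.node [(25,(.negSucc 0),1)] (.node [] (.node [] .nil (.node [(9,(.ofNat 1),1)] .nil (.node [(31,(.negSucc 0),1)] .nil .nil))) (.node [] (.node [] (.node [] .nil (.node [(65,(.negSucc 0),1)] .nil .nil)) .nil) .nil)) (.node [] (.node [] .nil (.node [] .nil (.node [(35,(.negSucc 0),1)] .nil .nil))) .nil))))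
noncomputable def ex20 : Trie (List (ℕ × ℤ × ℕ)) := (.node [(26,(.negSucc 0),1)] (.node [] (.node [] (.node [] (.node [] .nil (.node [] .nil (.node [(29,(.ofNat 1),1)] .nil .nil))) (.node [] .nil (.node [] .nil (.node [(40,(.negSucc 0),1)] .nil .nil)))) (.node [(26,(.ofNat 1),1)] (.node [] (.node [] (.node [] .nil (.node [(62,(.ofNat 1),1)] .nil .nil)) (.node [(22,(.negSucc 0),1)] .nil .nil)) (.node [] .nil (.node [(33,(.ofNat 1),1)] .nil .nil))) (.node [(6,(.ofNat 1),1)] .nil .nil))) (.node [(26,(.ofNat 1),1)] (.node [] (.node [] .nil (.node [] .nil (.node [(31,(.negSucc 0),1)] .nil .nil))) (.node [] .nil (.node [] .nil (.node [(42,(.negSucc 0),1)] .nil .nil)))) (.node [] (.node [] (.node [] .nil (.node [(24,(.ofNat 1),1)] .nil .nil)) (.node [] .nil (.node [(35,(.negSucc 0),1)] .nil .nil))) .nil))) (.node [(26,(.ofNat 1),1)] (.node [] (.node [] (.node [] .nil (.node [(8,(.negSucc 0),1)] .nil .nil)) (.node [] (.node [] (.node [] .nil (.node [(64,(.negSucc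 0),1)] .nil .nil)) (.node [(25,(.ofNat 1),1)] .nil .nil)) (.node [] .nil (.node [(1,(.negSucc 0),1),(2,(.negSucc 0),1),(3,(.negSucc 0),1),(4,(.negSucc 0),1),(26,(.negSucc 0),2)] .nil .nil)))) (.node [(26,(.negSucc 0),1)] (.node [] .nil (.node [(15,(.negSucc 0),1)] .nil .nil)) (.node [] (.node [] (.node [] .nil (.node [(71,(.negSucc 0),1)] .nil .nil)) .nil) (.node [] .nil (.node [(47,(.ofNat 1),1)] .nil .nil))))) (.node [(26,(.negSucc 0),1)] (.node [] (.node [] .nil (.node [(10,(.ofNat 1),1)] .nil .nil)) (.node [] (.node [] (.node [] .nil (.node [(66,(.ofNat 1),1)] .nil .nil)) (.node [(27,(.ofNat 1),1)] .nil .nil)) (.node [] .nil (.node [(45,(.negSucc 0),1)] .nil .nil)))) .nil)))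
noncomputable def ex21 : Trie (List (ℕ × ℤ × ℕ)) := (.node [(27,(.negSucc 0),1)] (.node [] (.node [] (.node [] (.node [] .nil (.node [] .nil (.node [(30,(.ofNat 1),1)] .nil .nil))) (.node [] (.node [] .nil (.node [(26,(.ofNat 1),1)] .nil .nil)) (.node [] .nil (.node [(1,(.negSucc 0),1),(2,(.negSucc 0),1),(3,(.negSucc 0),1),(27,(.negSucc 0),2)] .nil .nil)))) (.node [(27,(.negSucc 0),1)] (.node [] (.node [] .nil (.node [(23,(.negSucc 0),1)] .nil .nil)) (.node [] .nil (.node [(34,(.ofNat 1),1)] .nil .nil))) (.node [] .nil (.node [] .nil (.node [(47,(.ofNat 1),1)] .nil .nil))))) (.node [(27,(.ofNat 1),1)] (.node [] (.node [] .nil (.node [(10,(.negSucc 0),1)] .nil .nil)) (.node [] (.node [] (.node [] .nil (.node [(66,(.ofNat 1),1)] .nil .nil)) .nil) (.node [] .nil (.node [(44,(.negSucc 0),1)] .nil .nil)))) .nil)) (.node [(27,(.ofNat 1),1)] (.node [] (.node [] (.node [] .nil (.node [(9,(.negSucc 0),1)] .nil (.node [(31,(.negSucc 0),1)] .nil .nil))) (.node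 [] (.node [] (.node [] .nil (.node [(65,(.ofNat 1),1)] .nil .nil)) .nil) (.node [] .nil (.node [(43,(.negSucc 0),1)] .nil .nil)))) (.node [] (.node [] (.node [] .nil (.node [(24,(.negSucc 0),1)] .nil .nil)) (.node [(16,(.negSucc 0),1)] .nil (.node [(35,(.negSucc 0),1)] .nil .nil))) (.node [] (.node [] (.node [] .nil (.node [(72,(.ofNat 1),1)] .nil .nil)) .nil) .nil))) (.node [] (.node [] (.node [] (.node [] (.node [] .nil (.node [(62,(.ofNat 1),1)] .nil .nil)) .nil) .nil) (.node [(6,(.negSucc 0),1)] .nil (.node [] .nil (.node [(46,(.ofNat 1),1)] .nil .nil)))) (.node [] (.node [] (.node [] .nil (.node [(25,(.ofNat 1),1)] .nil .nil)) .nil) .nil))))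
noncomputable def ex22 : Trie (List (ℕ × ℤ × ℕ)) := (.node [] (.node [] (.node [] (.node [] .nil (.node [] (.node [] (.node [] .nil (.node [(65,(.negSucc 0),1)] .nil .nil)) .nil) .nil)) (.node [] (.node [] .nil (.node [(14,(.ofNat 1),1)] .nil (.node [(36,(.negSucc 0),1)] .nil .nil))) (.node [] (.node [] .nil (.node [(30,(.ofNat 1),1)] .nil .nil)) (.node [] .nil (.node [(49,(.negSucc 0),1)] .nil .nil))))) (.node [(28,(.negSucc 0),1)] (.node [] (.node [] (.node [] .nil (.node [(23,(.ofNat 1),1)] .nil .nil)) (.node [(11,(.ofNat 1),1)] .nil .nil)) (.node [(6,(.ofNat 1),1)] (.node [] .nil (.node [(29,(.ofNat 1),1)] .nil .nil)) (.node [] .nil (.node [(48,(.negSucc 0),1)] .nil .nil)))) (.node [] (.node [] .nil (.node [] .nil (.node [(41,(.negSucc 0),1)] .nil .nil))) .nil))) (.node [(28,(.ofNat 1),1)] (.node [] (.node [] (.node [] (.node [] .nil (.node [(22,(.ofNat 1),1)] .nil .nil)) .nil) .nil) (.node [(28,(.ofNat 1),1)] (.node [] (.node [] (.node [] .nil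 (.node [(63,(.negSucc 0),1)] .nil .nil)) .nil) (.node [] .nil (.node [(39,(.negSucc 0),1)] .nil .nil))) (.node [] (.node [] (.node [] .nil (.node [(73,(.negSucc 0),1)] .nil .nil)) .nil) (.node [] .nil (.node [(50,(.negSucc 0),1)] .nil .nil))))) (.node [] (.node [] (.node [] (.node [] .nil (.node [(25,(.ofNat 1),1)] .nil .nil)) (.node [(12,(.ofNat 1),1)] .nil .nil)) .nil) (.node [] (.node [] (.node [] (.node [] .nil (.node [(64,(.negSucc 0),1)] .nil .nil)) .nil) (.node [] .nil (.node [(1,(.negSucc 0),1),(3,(.negSucc 0),1),(4,(.negSucc 0),1),(5,(.negSucc 0),1),(28,(.negSucc 0),2)] .nil .nil))) (.node [] (.node [] .nil (.node [(31,(.ofNat 1),1)] .nil .nil)) .nil)))))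
noncomputable def ex23 : Trie (List (ℕ × ℤ × ℕ)) := (.node [] (.node [] (.node [] (.node [] (.node [] (.node [] .nil (.node [(22,(.negSucc 0),1)] .nil .nil)) .nil) (.node [] (.node [] (.node [] .nil (.node [(66,(.ofNat 1),1)] .nil .nil)) .nil) .nil)) (.node [(29,(.ofNat 1),1)] (.node [] (.node [] (.node [] .nil (.node [(63,(.negSucc 0),1)] .nil .nil)) .nil) (.node [(15,(.ofNat 1),1)] .nil (.node [(37,(.negSucc 0),1)] .nil .nil))) .nil)) (.node [(29,(.negSucc 0),1)] (.node [] (.node [] (.node [] .nil (.node [(24,(.ofNat 1),1)] .nil .nil)) .nil) .nil) (.node [] (.node [] (.node [] (.node [] .nil (.node [(64,(.negSucc 0),1)] .nil .nil)) .nil) (.node [] .nil (.node [(1,(.negSucc 0),1),(3,(.negSucc 0),1),(4,(.negSucc 0),1),(29,(.negSucc 0),2)] .nil .nil))) (.node [] (.node [] .nil (.node [(31,(.ofNat 1),1)] .nil .nil)) .nil)))) (.node [(29,(.ofNat 1),1)] (.node [] (.node [] (.node [] .nil (.node [(11,(.negSucc 0),1)] .nil .nil)) (.node [(6,(.negSucc 0),1)]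 (.node [] .nil (.node [(28,(.ofNat 1),1)] .nil .nil)) (.node [] .nil (.node [(48,(.negSucc 0),1)] .nil .nil)))) (.node [(29,(.negSucc 0),1)] (.node [] .nil (.node [] .nil (.node [(40,(.negSucc 0),1)] .nil .nil))) (.node [] (.node [] (.node [] .nil (.node [(74,(.ofNat 1),1)] .nil .nil)) .nil) (.node [] .nil (.node [(51,(.ofNat 1),1)] .nil .nil))))) (.node [] (.node [] (.node [] (.node [] .nil (.node [(26,(.ofNat 1),1)] .nil .nil)) (.node [(13,(.ofNat 1),1)] .nil .nil)) (.node [] (.node [] .nil (.node [(30,(.ofNat 1),1)] .nil .nil)) (.node [] .nil (.node [(49,(.negSucc 0),1)] .nil .nil)))) (.node [] (.node [] .nil (.node [] .nil (.node [(42,(.negSucc 0),1)] .nil .nil))) .nil))))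
noncomputable def ex24 : Trie (List (ℕ × ℤ × ℕ)) := (.node [] (.node [] (.node [] (.node [] (.node [] (.node [] .nil (.node [(23,(.negSucc 0),1)] .nil .nil)) .nil) (.node [(6,(.ofNat 1),1)] (.node [] .nil (.node [(29,(.ofNat 1),1)] .nil .nil)) (.node [] .nil (.node [(48,(.negSucc 0),1)] .nil .nil)))) (.node [(30,(.negSucc 0),1)] (.node [] .nil (.node [(16,(.ofNat 1),1)] .nil (.node [(38,(.negSucc 0),1)] .nil .nil))) (.node [] .nil (.node [] .nil (.node [(51,(.ofNat 1),1)] .nil .nil))))) (.node [(30,(.negSucc 0),1)] (.node [] (.node [] .nil (.node [(13,(.negSucc 0),1)] .nil .nil)) .nil) (.node [] (.node [] (.node [] (.node [] .nil (.node [(65,(.ofNat 1),1)] .nil .nil)) .nil) (.node [] .nil (.node [(43,(.negSucc 0),1)] .nil .nil))) (.node [] .nil (.node [] .nil .nil))))) (.node [(30,(.ofNat 1),1)] (.node [] (.node [] (.node [] (.node [] .nil (.node [(24,(.negSucc 0),1)] .nil .nil)) (.node [(12,(.negSucc 0),1)] .nil .nil)) .nil) (.node [] (.node [] .nil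 (.node [] .nil (.node [(1,(.negSucc 0),1),(3,(.negSucc 0),1),(30,(.negSucc 0),2)] .nil .nil))) (.node [] (.node [] (.node [] .nil (.node [(75,(.negSucc 0),1)] .nil .nil)) (.node [(31,(.ofNat 1),1)] .nil .nil)) .nil))) (.node [(30,(.ofNat 1),1)] (.node [] (.node [] (.node [] (.node [] .nil (.node [(63,(.negSucc 0),1)] .nil .nil)) (.node [(27,(.ofNat 1),1)] .nil .nil)) .nil) (.node [] .nil (.node [] .nil (.node [(50,(.ofNat 1),1)] .nil .nil)))) (.node [] (.node [] (.node [] (.node [] .nil (.node [(66,(.ofNat 1),1)] .nil .nil)) (.node [(28,(.ofNat 1),1)] .nil .nil)) (.node [] .nil (.node [(44,(.negSucc 0),1)] .nil .nil))) .nil))))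
noncomputable def ex25 : Trie (List (ℕ × ℤ × ℕ)) := (.node [] (.node [] (.node [] (.node [] (.node [] (.node [] .nil (.node [(25,(.negSucc 0),1)] .nil .nil)) .nil) (.node [] .nil (.node [] .nil (.node [(49,(.ofNat 1),1)] .nil .nil)))) (.node [] (.node [] (.node [] (.node [] .nil (.node [(65,(.ofNat 1),1)] .nil .nil)) (.node [(28,(.ofNat 1),1)] .nil .nil)) (.node [] .nil (.node [(1,(.negSucc 0),1),(31,(.negSucc 0),2)] .nil .nil))) .nil)) (.node [] (.node [] (.node [] (.node [] .nil (.node [(27,(.negSucc 0),1)] .nil .nil)) (.node [(15,(.negSucc 0),1)] .nil .nil)) (.node [] .nil (.node [] .nil (.node [(51,(.ofNat 1),1)] .nil .nil)))) (.node [] (.node [] (.node [] .nil (.node [(30,(.ofNat 1),1)] .nil .nil)) (.node [] .nil (.node [(46,(.negSucc 0),1)] .nil .nil))) .nil))) (.node [(31,(.ofNat 2),1)] (.node [] (.node [] (.node [] (.node [] .nil (.node [(26,(.negSucc 0),1)] .nil .nil)) (.node [(14,(.negSucc 0),1)] .nil .nil)) (.node [] .nil (.node [] .nil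 (.node [(50,(.ofNat 1),1)] .nil .nil)))) (.node [] (.node [] (.node [] (.node [] .nil (.node [(66,(.ofNat 1),1)] .nil .nil)) (.node [(29,(.ofNat 1),1)] .nil .nil)) (.node [] .nil (.node [(45,(.negSucc 0),1)] .nil .nil))) (.node [] (.node [] (.node [] .nil (.node [(76,(.ofNat 1),1)] .nil .nil)) .nil) .nil))) (.node [(31,(.negSucc 0),1)] (.node [] (.node [] (.node [] (.node [] .nil (.node [(64,(.ofNat 1),1)] .nil .nil)) .nil) (.node [(16,(.negSucc 0),1)] .nil .nil)) .nil) (.node [(6,(.negSucc 0),1)] (.node [] .nil (.node [] .nil (.node [(47,(.negSucc 0),1)] .nil .nil))) (.node [] .nil (.node [] .nil .nil))))))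
noncomputable def ex26 : Trie (List (ℕ × ℤ × ℕ)) := (.node [(32,(.negSucc 0),1)] (.node [] (.node [] (.node [] (.node [] (.node [] .nil (.node [] .nil .nil)) (.node [(9,(.negSucc 0),1)] .nil (.node [(36,(.negSucc 0),1)] .nil .nil))) .nil) (.node [] .nil (.node [] (.node [] (.node [] .nil (.node [(70,(.ofNat 1),1)] .nil .nil)) (.node [(34,(.ofNat 1),1)] .nil .nil)) (.node [] .nil (.node [(53,(.negSucc 0),1)] .nil .nil))))) (.node [(32,(.ofNat 1),1)] (.node [] (.node [] (.node [] (.node [] .nil (.node [(62,(.ofNat 1),1)] .nil .nil)) .nil) (.node [] .nil (.node [(41,(.negSucc 0),1)] .nil .nil))) (.node [] (.node [] (.node [] .nil (.node [(67,(.ofNat 1),1)] .nil .nil)) (.node [(33,(.ofNat 1),1)] .nil .nil)) (.node [] .nil (.node [(52,(.negSucc 0),1)] .nil .nil)))) (.node [] .nil (.node [] .nil (.node [(23,(.ofNat 1),1)] .nil .nil))))) (.node [(32,(.negSucc 0),1)] (.node [] (.node [] (.node [] .nil (.node [] .nil (.node [(39,(.negSucc 0),1)] .nil .nil)))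 .nil) (.node [(32,(.ofNat 1),1)] (.node [] .nil (.node [(17,(.negSucc 0),1)] .nil .nil)) (.node [(7,(.negSucc 0),1)] .nil (.node [(22,(.ofNat 1),1)] .nil (.node [(54,(.negSucc 0),1)] .nil .nil))))) (.node [] (.node [] (.node [] .nil (.node [] .nil (.node [(2,(.negSucc 0),1),(3,(.negSucc 0),1),(4,(.negSucc 0),1),(5,(.negSucc 0),1),(32,(.negSucc 0),2)] .nil .nil))) (.node [] (.node [] (.node [] .nil (.node [(68,(.ofNat 1),1)] .nil .nil)) .nil) .nil)) (.node [] .nil (.node [(8,(.negSucc 0),1)] (.node [] .nil (.node [(35,(.ofNat 1),1)] .nil .nil)) (.node [(25,(.ofNat 1),1)] .nil .nil))))))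
noncomputable def ex27 : Trie (List (ℕ × ℤ × ℕ)) := (.node [(33,(.negSucc 0),1)] (.node [] (.node [] (.node [] (.node [] .nil (.node [(10,(.negSucc 0),1)] .nil (.node [(37,(.negSucc 0),1)] .nil .nil))) .nil) (.node [(33,(.ofNat 1),1)] .nil (.node [(7,(.ofNat 1),1)] (.node [] (.node [] .nil (.node [(71,(.negSucc 0),1)] .nil .nil)) .nil) (.node [(22,(.negSucc 0),1)] .nil .nil)))) (.node [(33,(.ofNat 1),1)] (.node [] (.node [] .nil (.node [] .nil (.node [(2,(.negSucc 0),1),(3,(.negSucc 0),1),(4,(.negSucc 0),1),(33,(.negSucc 0),2)] .nil .nil))) .nil) (.node [] .nil (.node [(8,(.ofNat 1),1)] (.node [] .nil (.node [(35,(.ofNat 1),1)] .nil .nil)) (.node [(24,(.ofNat 1),1)] .nil .nil))))) (.node [(33,(.negSucc 0),1)] (.node [] (.node [] (.node [] (.node [] (.node [] .nil (.node [(62,(.ofNat 1),1)] .nil .nil)) (.node [] .nil .nil)) (.node [] .nil (.node [(40,(.negSucc 0),1)] .nil .nil))) (.node [] (.node [] (.node [] .nil (.node [(67,(.ofNat 1),1)] .nil .nil))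 (.node [(32,(.ofNat 1),1)] .nil .nil)) (.node [] .nil (.node [(52,(.negSucc 0),1)] .nil .nil)))) (.node [(33,(.negSucc 0),1)] (.node [] .nil (.node [(18,(.negSucc 0),1)] .nil .nil)) (.node [] .nil (.node [] .nil (.node [(55,(.ofNat 1),1)] .nil .nil))))) (.node [] (.node [] (.node [] .nil (.node [] .nil (.node [(42,(.negSucc 0),1)] .nil .nil))) (.node [] (.node [] (.node [] .nil (.node [(69,(.negSucc 0),1)] .nil .nil)) (.node [(34,(.ofNat 1),1)] .nil .nil)) (.node [] .nil (.node [(53,(.negSucc 0),1)] .nil .nil)))) (.node [] .nil (.node [] .nil (.node [(26,(.ofNat 1),1)] .nil .nil))))))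
noncomputable def ex28 : Trie (List (ℕ × ℤ × ℕ)) := (.node [(34,(.negSucc 0),1)] (.node [] (.node [] (.node [] (.node [] (.node [] (.node [] .nil (.node [(62,(.ofNat 1),1)] .nil .nil)) .nil) (.node [] .nil (.node [(38,(.negSucc 0),1)] .nil .nil))) (.node [] (.node [] .nil (.node [(33,(.ofNat 1),1)] .nil .nil)) (.node [] .nil (.node [(52,(.negSucc 0),1)] .nil .nil)))) (.node [(34,(.negSucc 0),1)] .nil (.node [] (.node [] (.node [] .nil (.node [(72,(.ofNat 1),1)] .nil .nil)) .nil) (.node [(23,(.negSucc 0),1)] .nil (.node [(55,(.ofNat 1),1)] .nil .nil))))) (.node [(34,(.ofNat 1),1)] (.node [] (.node [] (.node [] .nil (.node [] .nil .nil)) (.node [] .nil (.node [(43,(.negSucc 0),1)] .nil .nil))) (.node [] (.node [] (.node [] .nil (.node [(69,(.negSucc 0),1)] .nil .nil)) .nil) .nil)) (.node [] .nil (.node [(9,(.ofNat 1),1)] .nil .nil)))) (.node [(34,(.negSucc 0),1)] (.node [] (.node [] (.node [] .nil (.node [] .nil (.node [(2,(.negSucc 0),1),(3,(.negSucc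 0),1),(34,(.negSucc 0),2)] .nil .nil))) (.node [] (.node [] (.node [] .nil (.node [(68,(.negSucc 0),1)] .nil .nil)) .nil) .nil)) (.node [] (.node [] .nil (.node [(19,(.negSucc 0),1)] .nil .nil)) (.node [] (.node [] .nil (.node [(35,(.ofNat 1),1)] .nil .nil)) (.node [(24,(.negSucc 0),1)] .nil .nil)))) (.node [(34,(.ofNat 1),1)] (.node [] (.node [] .nil (.node [] .nil (.node [(44,(.negSucc 0),1)] .nil .nil))) (.node [(7,(.negSucc 0),1)] .nil (.node [] .nil (.node [(54,(.ofNat 1),1)] .nil .nil)))) (.node [] (.node [] (.node [] .nil (.node [(32,(.ofNat 1),1)] .nil .nil)) .nil) (.node [(10,(.ofNat 1),1)] .nil (.node [(27,(.ofNat 1),1)] .nil .nil))))))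
noncomputable def ex29 : Trie (List (ℕ × ℤ × ℕ)) := (.node [(35,(.negSucc 0),1)] (.node [] (.node [] (.node [] (.node [] .nil (.node [] .nil (.node [(2,(.negSucc 0),1),(35,(.negSucc 0),2)] .nil .nil))) (.node [] .nil (.node [] .nil (.node [(53,(.ofNat 1),1)] .nil .nil)))) (.node [] (.node [] (.node [] .nil (.node [(32,(.ofNat 1),1)] .nil .nil)) .nil) (.node [(9,(.negSucc 0),1)] .nil (.node [(25,(.negSucc 0),1)] .nil .nil)))) (.node [(35,(.ofNat 2),1)] (.node [] (.node [] .nil (.node [] .nil (.node [(46,(.negSucc 0),1)] .nil .nil))) (.node [] (.node [] (.node [] .nil (.node [(71,(.ofNat 1),1)] .nil .nil)) .nil) (.node [] .nil (.node [(55,(.ofNat 1),1)] .nil .nil)))) (.node [] (.node [] (.node [] .nil (.node [(34,(.ofNat 1),1)] .nil .nil)) .nil) (.node [] .nil (.node [(27,(.negSucc 0),1)] .nil .nil))))) (.node [] (.node [] (.node [] (.node [] .nil (.node [] .nil (.node [(45,(.negSucc 0),1)] .nil .nil))) (.node [] (.node [] (.node [] .nil (.node [(70,(.ofNat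 1),1)] .nil .nil)) .nil) (.node [] .nil (.node [(54,(.ofNat 1),1)] .nil .nil)))) (.node [] (.node [] (.node [] .nil (.node [(33,(.ofNat 1),1)] .nil .nil)) (.node [(20,(.negSucc 0),1)] .nil .nil)) (.node [(10,(.negSucc 0),1)] .nil (.node [(26,(.negSucc 0),1)] .nil .nil)))) (.node [(35,(.negSucc 0),1)] (.node [] (.node [] (.node [] .nil (.node [] .nil .nil)) (.node [] .nil (.node [(47,(.negSucc 0),1)] .nil .nil))) (.node [(8,(.negSucc 0),1)] (.node [] (.node [] .nil (.node [(72,(.ofNat 1),1)] .nil .nil)) .nil) .nil)) (.node [] .nil (.node [] .nil (.node [] .nil (.node [(62,(.ofNat 1),1)] .nil .nil)))))))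
noncomputable def ex30 : Trie (List (ℕ × ℤ × ℕ)) := (.node [] (.node [] (.node [] (.node [] (.node [] .nil (.node [(12,(.ofNat 1),1)] .nil .nil)) (.node [] (.node [] (.node [] .nil (.node [(68,(.negSucc 0),1)] .nil .nil)) .nil) .nil)) (.node [] (.node [] (.node [] .nil (.node [] .nil .nil)) (.node [(17,(.negSucc 0),1)] .nil .nil)) (.node [] (.node [] (.node [] .nil (.node [(73,(.ofNat 1),1)] .nil .nil)) (.node [(38,(.ofNat 1),1)] .nil .nil)) (.node [] .nil (.node [(56,(.negSucc 0),1)] .nil .nil))))) (.node [(36,(.negSucc 0),1)] (.node [] (.node [] (.node [] (.node [] .nil (.node [(63,(.ofNat 1),1)] .nil .nil)) .nil) .nil) (.node [(7,(.negSucc 0),1)] (.node [] .nil (.node [(37,(.ofNat 1),1)] .nil .nil)) (.node [(22,(.ofNat 1),1)] .nil .nil))) (.node [] .nil (.node [] (.node [] .nil (.node [(41,(.negSucc 0),1)] .nil .nil)) .nil)))) (.node [(36,(.negSucc 0),1)] (.node [] .nil (.node [(36,(.ofNat 1),1)] .nil (.node [] (.node [] .nil (.node [(39,(.negSucc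 0),1)] .nil .nil)) (.node [] .nil (.node [(57,(.negSucc 0),1)] .nil .nil))))) (.node [(36,(.ofNat 1),1)] (.node [] (.node [] (.node [] .nil (.node [(32,(.negSucc 0),1)] .nil .nil)) (.node [] .nil (.node [(48,(.ofNat 1),1)] .nil .nil))) (.node [] .nil (.node [(23,(.ofNat 1),1)] .nil .nil))) (.node [] (.node [] (.node [] (.node [] .nil (.node [(67,(.negSucc 0),1)] .nil .nil)) .nil) (.node [] .nil (.node [(52,(.ofNat 1),1)] .nil .nil))) (.node [(11,(.ofNat 1),1)] (.node [] .nil (.node [(3,(.negSucc 0),1),(4,(.negSucc 0),1),(5,(.negSucc 0),1),(36,(.negSucc 0),2)] .nil .nil)) (.node [(28,(.negSucc 0),1)] .nil .nil))))))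
noncomputable def ex31 : Trie (List (ℕ × ℤ × ℕ)) := (.node [] (.node [] (.node [] (.node [] (.node [] .nil (.node [(13,(.ofNat 1),1)] .nil .nil)) (.node [] (.node [] (.node [] .nil (.node [(69,(.ofNat 1),1)] .nil .nil)) .nil) .nil)) (.node [(37,(.ofNat 1),1)] (.node [] .nil (.node [(18,(.negSucc 0),1)] .nil .nil)) (.node [] (.node [] (.node [] .nil (.node [(74,(.negSucc 0),1)] .nil .nil)) .nil) .nil))) (.node [(37,(.negSucc 0),1)] (.node [] (.node [] .nil (.node [] .nil (.node [(48,(.ofNat 1),1)] .nil .nil))) .nil) (.node [] (.node [] (.node [] (.node [] .nil (.node [(67,(.negSucc 0),1)] .nil .nil)) .nil) (.node [] .nil (.node [(52,(.ofNat 1),1)] .nil .nil))) (.node [(11,(.negSucc 0),1)] (.node [] .nil (.node [(3,(.negSucc 0),1),(4,(.negSucc 0),1),(37,(.negSucc 0),2)] .nil .nil)) .nil)))) (.node [(37,(.negSucc 0),1)] (.node [] (.node [] (.node [] (.node [] (.node [] .nil (.node [(63,(.ofNat 1),1)] .nil .nil)) .nil) .nil) (.node [(7,(.ofNat 1),1)]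 (.node [] .nil (.node [(36,(.ofNat 1),1)] .nil .nil)) (.node [(22,(.negSucc 0),1)] .nil .nil))) (.node [(37,(.negSucc 0),1)] (.node [] (.node [] .nil (.node [] .nil .nil)) .nil) (.node [] (.node [] .nil (.node [(40,(.negSucc 0),1)] .nil .nil)) (.node [] .nil (.node [(58,(.ofNat 1),1)] .nil .nil))))) (.node [(37,(.ofNat 1),1)] (.node [] (.node [] (.node [] .nil (.node [(33,(.negSucc 0),1)] .nil .nil)) .nil) (.node [] (.node [] .nil (.node [(38,(.ofNat 1),1)] .nil .nil)) (.node [(24,(.ofNat 1),1)] .nil (.node [(56,(.negSucc 0),1)] .nil .nil)))) (.node [] .nil (.node [] (.node [] .nil (.node [(42,(.negSucc 0),1)] .nil .nil)) (.node [(29,(.negSucc 0),1)] .nil .nil))))))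
noncomputable def ex32 : Trie (List (ℕ × ℤ × ℕ)) := (.node [] (.node [] (.node [] (.node [] (.node [] (.node [] (.node [] .nil (.node [(63,(.ofNat 1),1)] .nil .nil)) .nil) .nil) (.node [(7,(.negSucc 0),1)] (.node [] .nil (.node [(37,(.ofNat 1),1)] .nil .nil)) .nil)) (.node [(38,(.negSucc 0),1)] (.node [] .nil (.node [(19,(.negSucc 0),1)] .nil .nil)) (.node [] (.node [] (.node [] .nil (.node [(75,(.ofNat 1),1)] .nil .nil)) .nil) (.node [] .nil (.node [(58,(.ofNat 1),1)] .nil .nil))))) (.node [(38,(.negSucc 0),1)] (.node [] .nil (.node [] .nil (.node [(24,(.negSucc 0),1)] .nil .nil))) (.node [] (.node [] (.node [] (.node [] .nil (.node [(68,(.ofNat 1),1)] .nil .nil)) (.node [] .nil .nil)) .nil) (.node [(12,(.negSucc 0),1)] (.node [] .nil (.node [(43,(.negSucc 0),1)] .nil .nil)) .nil)))) (.node [(38,(.negSucc 0),1)] (.node [] (.node [] (.node [] .nil (.node [] .nil (.node [(48,(.ofNat 1),1)] .nil .nil))) (.node [] .nil (.node [(23,(.negSucc 0),1)] .nil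 .nil))) (.node [] (.node [] .nil (.node [] .nil (.node [(52,(.ofNat 1),1)] .nil .nil))) (.node [] (.node [] .nil (.node [(3,(.negSucc 0),1),(38,(.negSucc 0),2)] .nil .nil)) .nil))) (.node [(38,(.ofNat 2),1)] (.node [] (.node [] (.node [] .nil (.node [(34,(.negSucc 0),1)] .nil .nil)) .nil) (.node [] .nil (.node [] .nil (.node [(57,(.ofNat 1),1)] .nil .nil)))) (.node [] (.node [] (.node [] (.node [] .nil (.node [(69,(.ofNat 1),1)] .nil .nil)) (.node [(36,(.ofNat 1),1)] .nil .nil)) .nil) (.node [(13,(.negSucc 0),1)] (.node [] .nil (.node [(44,(.negSucc 0),1)] .nil .nil)) (.node [(30,(.negSucc 0),1)] .nil .nil))))))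
noncomputable def ex33 : Trie (List (ℕ × ℤ × ℕ)) := (.node [] (.node [] (.node [] (.node [] (.node [] .nil (.node [(14,(.negSucc 0),1)] .nil .nil)) (.node [] (.node [] (.node [] .nil (.node [(70,(.negSucc 0),1)] .nil .nil)) .nil) (.node [(22,(.ofNat 1),1)] .nil .nil))) (.node [(39,(.ofNat 1),1)] .nil (.node [] (.node [] .nil (.node [(4,(.negSucc 0),1),(5,(.negSucc 0),1),(39,(.negSucc 0),2)] .nil .nil)) .nil))) (.node [] (.node [] (.node [] (.node [] (.node [] .nil (.node [(64,(.ofNat 1),1)] .nil .nil)) (.node [(32,(.negSucc 0),1)] .nil .nil)) .nil) (.node [(8,(.ofNat 1),1)] (.node [] .nil (.node [(40,(.ofNat 1),1)] .nil .nil)) (.node [] .nil (.node [(56,(.ofNat 1),1)] .nil .nil)))) (.node [] (.node [] (.node [] .nil (.node [(36,(.negSucc 0),1)] .nil .nil)) .nil) (.node [] .nil (.node [(28,(.negSucc 0),1)] .nil .nil))))) (.node [] (.node [] .nil (.node [(39,(.ofNat 1),1)] (.node [] (.node [] (.node [] .nil (.node [(67,(.ofNat 1),1)] .nil .nil)) .nil)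 .nil) (.node [(11,(.ofNat 1),1)] .nil (.node [] .nil (.node [(59,(.negSucc 0),1)] .nil .nil))))) (.node [(39,(.negSucc 0),1)] (.node [] (.node [] .nil (.node [(17,(.negSucc 0),1)] .nil (.node [(49,(.ofNat 1),1)] .nil .nil))) (.node [] (.node [] (.node [] .nil (.node [(73,(.negSucc 0),1)] .nil .nil)) (.node [(41,(.negSucc 0),1)] .nil .nil)) (.node [(25,(.negSucc 0),1)] .nil .nil))) (.node [] (.node [] (.node [] .nil (.node [] .nil .nil)) (.node [] .nil (.node [(53,(.ofNat 1),1)] .nil .nil))) (.node [] (.node [] .nil (.node [(45,(.ofNat 1),1)] .nil .nil)) .nil)))))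
noncomputable def ex34 : Trie (List (ℕ × ℤ × ℕ)) := (.node [] (.node [] (.node [] (.node [] (.node [] .nil (.node [(15,(.negSucc 0),1)] .nil .nil)) (.node [] (.node [] (.node [] .nil (.node [(71,(.ofNat 1),1)] .nil .nil)) (.node [] .nil .nil)) .nil)) (.node [(40,(.ofNat 2),1)] (.node [] (.node [] (.node [] .nil (.node [(67,(.ofNat 1),1)] .nil .nil)) .nil) .nil) (.node [(11,(.negSucc 0),1)] (.node [] .nil (.node [(42,(.negSucc 0),1)] .nil .nil)) .nil))) (.node [] (.node [] (.node [] (.node [] .nil (.node [(33,(.negSucc 0),1)] .nil .nil)) (.node [] .nil (.node [(49,(.ofNat 1),1)] .nil .nil))) .nil) (.node [] (.node [] (.node [] .nil (.node [(37,(.negSucc 0),1)] .nil .nil)) (.node [] .nil (.node [(53,(.ofNat 1),1)] .nil .nil))) (.node [] (.node [] .nil (.node [(45,(.ofNat 1),1)] .nil .nil)) (.node [(29,(.negSucc 0),1)] .nil .nil))))) (.node [] (.node [] (.node [] (.node [] (.node [] (.node [] .nil (.node [(64,(.ofNat 1),1)] .nil .nil)) .nil) .nil) (.node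 [(8,(.negSucc 0),1)] (.node [] .nil (.node [(39,(.ofNat 1),1)] .nil .nil)) (.node [] .nil (.node [(56,(.ofNat 1),1)] .nil .nil)))) (.node [(40,(.negSucc 0),1)] .nil (.node [] .nil (.node [] .nil (.node [(60,(.ofNat 1),1)] .nil .nil))))) (.node [(40,(.negSucc 0),1)] (.node [] (.node [] .nil (.node [(18,(.negSucc 0),1)] .nil .nil)) (.node [] (.node [] (.node [] .nil (.node [(74,(.ofNat 1),1)] .nil .nil)) (.node [(4,(.negSucc 0),1),(40,(.negSucc 0),2)] .nil .nil)) (.node [(26,(.negSucc 0),1)] .nil .nil))) (.node [] (.node [] .nil (.node [(22,(.negSucc 0),1)] .nil .nil)) .nil))))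
noncomputable def ex35 : Trie (List (ℕ × ℤ × ℕ)) := (.node [] (.node [] (.node [] (.node [] .nil (.node [] (.node [] .nil (.node [(39,(.negSucc 0),1)] .nil .nil)) (.node [(23,(.negSucc 0),1)] .nil .nil))) (.node [(41,(.negSucc 0),1)] .nil (.node [] (.node [] .nil (.node [(43,(.ofNat 1),1)] .nil .nil)) (.node [] .nil (.node [(59,(.ofNat 1),1)] .nil .nil))))) (.node [] (.node [] (.node [] (.node [] (.node [] .nil (.node [(65,(.ofNat 1),1)] .nil .nil)) .nil) (.node [(17,(.negSucc 0),1)] .nil .nil)) (.node [(9,(.negSucc 0),1)] (.node [] (.node [] .nil (.node [(73,(.ofNat 1),1)] .nil .nil)) (.node [(5,(.negSucc 0),1),(41,(.negSucc 0),2)] .nil .nil)) (.node [(25,(.negSucc 0),1)] .nil (.node [(57,(.ofNat 1),1)] .nil .nil)))) .nil)) (.node [] (.node [] (.node [] (.node [] (.node [] .nil (.node [(32,(.negSucc 0),1)] .nil .nil)) .nil) (.node [] (.node [] .nil (.node [] .nil .nil)) .nil)) (.node [(41,(.ofNat 2),1)] (.node [] (.node [] (.node [] .nil (.node [(68,(.ofNat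 1),1)] .nil .nil)) (.node [(36,(.negSucc 0),1)] .nil .nil)) .nil) (.node [(12,(.negSucc 0),1)] .nil (.node [(28,(.negSucc 0),1)] .nil .nil)))) (.node [] (.node [] (.node [] .nil (.node [] .nil (.node [(50,(.ofNat 1),1)] .nil .nil))) .nil) (.node [] (.node [] (.node [] (.node [] .nil (.node [(70,(.ofNat 1),1)] .nil .nil)) .nil) (.node [] .nil (.node [(54,(.ofNat 1),1)] .nil .nil))) (.node [(14,(.negSucc 0),1)] (.node [] .nil (.node [(46,(.ofNat 1),1)] .nil .nil)) .nil)))))
noncomputable def ex36 : Trie (List (ℕ × ℤ × ℕ)) := (.node [] (.node [] (.node [] (.node [] (.node [] (.node [] .nil (.node [(33,(.negSucc 0),1)] .nil .nil)) .nil) .nil) (.node [(42,(.ofNat 1),1)] (.node [] (.node [] (.node [] .nil (.node [(69,(.ofNat 1),1)] .nil .nil)) (.node [(37,(.negSucc 0),1)] .nil .nil)) .nil) (.node [(13,(.negSucc 0),1)] .nil (.node [(29,(.negSucc 0),1)] .nil .nil)))) (.node [] (.node [] (.node [] .nil (.node [] .nil (.node [(51,(.ofNat 1),1)] .nil .nil)))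 (.node [] (.node [] .nil (.node [] .nil .nil)) .nil)) (.node [] (.node [] (.node [] (.node [] .nil (.node [(71,(.ofNat 1),1)] .nil .nil)) .nil) (.node [] .nil (.node [(55,(.ofNat 1),1)] .nil .nil))) (.node [(15,(.negSucc 0),1)] (.node [] .nil (.node [(47,(.ofNat 1),1)] .nil .nil)) .nil)))) (.node [] (.node [] (.node [] (.node [] (.node [] (.node [] .nil (.node [(66,(.ofNat 1),1)] .nil .nil)) .nil) (.node [(18,(.negSucc 0),1)] .nil .nil)) (.node [(10,(.negSucc 0),1)] (.node [] (.node [] .nil (.node [(74,(.ofNat 1),1)] .nil .nil)) (.node [(5,(.ofNat 1),1),(42,(.negSucc 0),2)] .nil .nil)) (.node [(26,(.negSucc 0),1)] .nil (.node [(58,(.ofNat 1),1)] .nil .nil)))) (.node [(42,(.negSucc 1),1)] .nil .nil)) (.node [] (.node [] .nil (.node [] (.node [] .nil (.node [(44,(.ofNat 1),1)] .nil .nil)) (.node [] .nil (.node [(60,(.ofNat 1),1)] .nil .nil)))) (.node [] (.node [] (.node [] .nil (.node [(40,(.negSucc 0),1)] .nil .nil)) (.node [(24,(.negSucc 0),1)] .nil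 .nil)) .nil))))
noncomputable def ex37 : Trie (List (ℕ × ℤ × ℕ)) := (.node [] (.node [] (.node [] (.node [] (.node [] (.node [] (.node [] .nil (.node [(65,(.ofNat 1),1)] .nil .nil)) .nil) .nil) (.node [(9,(.negSucc 0),1)] (.node [] .nil (.node [(4,(.ofNat 1),1),(43,(.negSucc 0),2)] .nil .nil)) (.node [] .nil (.node [(57,(.ofNat 1),1)] .nil .nil)))) (.node [(43,(.negSucc 1),1)] .nil (.node [] .nil (.node [] .nil (.node [(61,(.ofNat 1),1)] .nil .nil))))) (.node [] (.node [] (.node [] .nil (.node [(19,(.negSucc 0),1)] .nil .nil)) (.node [] (.node [] (.node [] .nil (.node [(75,(.ofNat 1),1)] .nil .nil)) (.node [(44,(.negSucc 0),1)] .nil .nil)) (.node [(27,(.negSucc 0),1)] .nil .nil))) (.node [] (.node [] .nil (.node [(23,(.negSucc 0),1)] .nil .nil)) .nil))) (.node [] (.node [] (.node [] (.node [] (.node [] .nil (.node [(34,(.negSucc 0),1)] .nil .nil)) (.node [] .nil (.node [(50,(.ofNat 1),1)] .nil .nil))) .nil) (.node [(43,(.ofNat 1),1)] (.node [] (.node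 [] .nil (.node [(38,(.negSucc 0),1)] .nil .nil)) (.node [] .nil (.node [(54,(.ofNat 1),1)] .nil .nil))) (.node [] (.node [] .nil (.node [(46,(.ofNat 1),1)] .nil .nil)) (.node [(30,(.negSucc 0),1)] .nil .nil)))) (.node [(43,(.ofNat 1),1)] (.node [] (.node [] (.node [] (.node [] .nil (.node [(68,(.ofNat 1),1)] .nil .nil)) .nil) .nil) (.node [(12,(.negSucc 0),1)] (.node [] .nil (.node [] .nil .nil)) .nil)) (.node [] (.node [] (.node [] (.node [] .nil (.node [(72,(.ofNat 1),1)] .nil .nil)) (.node [(41,(.ofNat 1),1)] .nil .nil)) .nil) (.node [(16,(.negSucc 0),1)] .nil .nil)))))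
noncomputable def ex38 : Trie (List (ℕ × ℤ × ℕ)) := (.node [] (.node [] (.node [] (.node [] (.node [] (.node [] (.node [] .nil (.node [(66,(.ofNat 1),1)] .nil .nil)) (.node [(34,(.negSucc 0),1)] .nil .nil)) .nil) (.node [(10,(.ofNat 1),1)] (.node [] .nil (.node [(42,(.ofNat 1),1)] .nil .nil)) (.node [] .nil (.node [(58,(.ofNat 1),1)] .nil .nil)))) (.node [(44,(.negSucc 0),1)] (.node [] (.node [] .nil (.node [(38,(.negSucc 0),1)] .nil .nil)) .nil) (.node [] (.node [] .nil (.node [] .nil .nil)) (.node [(30,(.negSucc 0),1)] .nil .nil)))) (.node [] .nil (.node [] (.node [] (.node [] (.node [] .nil (.node [(72,(.negSucc 0),1)] .nil .nil)) .nil) (.node [(24,(.ofNat 1),1)] .nil .nil)) (.node [(16,(.negSucc 0),1)] .nil .nil)))) (.node [] (.node [] (.node [] (.node [] .nil (.node [(19,(.negSucc 0),1)] .nil (.node [(51,(.ofNat 1),1)] .nil .nil))) (.node [] (.node [] (.node [] .nil (.node [(75,(.negSucc 0),1)] .nil .nil)) (.node [(43,(.negSucc 0),1)] .nil .nil))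 (.node [(27,(.negSucc 0),1)] .nil .nil))) (.node [(44,(.negSucc 0),1)] (.node [] .nil (.node [] .nil (.node [(55,(.ofNat 1),1)] .nil .nil))) (.node [] (.node [] .nil (.node [(47,(.ofNat 1),1)] .nil .nil)) .nil))) (.node [(44,(.ofNat 1),1)] (.node [] (.node [] (.node [] (.node [] .nil (.node [(69,(.ofNat 1),1)] .nil .nil)) .nil) .nil) (.node [(13,(.ofNat 1),1)] .nil (.node [] .nil (.node [(61,(.negSucc 0),1)] .nil .nil)))) (.node [] (.node [] (.node [] .nil (.node [(4,(.ofNat 1),1),(5,(.ofNat 1),1),(44,(.negSucc 0),2)] .nil .nil)) .nil) .nil))))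
noncomputable def ex39 : Trie (List (ℕ × ℤ × ℕ)) := (.node [] (.node [] (.node [] (.node [] (.node [] .nil (.node [] .nil (.node [(49,(.ofNat 1),1)] .nil .nil))) (.node [] .nil (.node [(26,(.negSucc 0),1)] .nil .nil))) (.node [(45,(.ofNat 1),1)] (.node [] (.node [] (.node [] .nil (.node [(70,(.ofNat 1),1)] .nil .nil)) (.node [(39,(.ofNat 1),1)] .nil .nil)) (.node [] .nil (.node [(53,(.ofNat 1),1)] .nil .nil))) (.node [(14,(.negSucc 0),1)] (.node [] .nil (.node [(47,(.negSucc 0),1)] .nil .nil)) .nil))) (.node [(45,(.ofNat 1),1)] (.node [] (.node [] (.node [] .nil (.node [(35,(.negSucc 0),1)] .nil .nil)) .nil) (.node [] .nil (.node [] .nil (.node [(60,(.ofNat 1),1)] .nil .nil)))) (.node [] (.node [] (.node [] .nil (.node [(3,(.ofNat 1),1),(45,(.negSucc 0),2)] .nil .nil)) .nil) (.node [] .nil (.node [(31,(.negSucc 0),1)] .nil .nil))))) (.node [(45,(.ofNat 1),1)] (.node [] (.node [] .nil (.node [] .nil (.node [] .nil (.node [(59,(.ofNat 1),1)] .nil .nil))))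 (.node [] (.node [] (.node [] (.node [] .nil (.node [(71,(.ofNat 1),1)] .nil .nil)) (.node [(40,(.ofNat 1),1)] .nil .nil)) .nil) (.node [(15,(.negSucc 0),1)] (.node [] .nil (.node [] .nil .nil)) .nil))) (.node [(45,(.negSucc 1),1)] (.node [] (.node [] .nil (.node [(20,(.negSucc 0),1)] .nil .nil)) (.node [] (.node [] (.node [] .nil (.node [(76,(.ofNat 1),1)] .nil .nil)) (.node [(46,(.negSucc 0),1)] .nil .nil)) .nil)) (.node [(8,(.negSucc 0),1)] (.node [] .nil (.node [(25,(.negSucc 0),1)] .nil .nil)) (.node [] .nil (.node [] .nil (.node [(64,(.ofNat 1),1)] .nil .nil)))))))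
noncomputable def ex40 : Trie (List (ℕ × ℤ × ℕ)) := (.node [] (.node [] (.node [] (.node [] (.node [] .nil (.node [] .nil (.node [(50,(.ofNat 1),1)] .nil .nil))) (.node [] (.node [] .nil (.node [(45,(.negSucc 0),1)] .nil .nil)) (.node [(27,(.ofNat 1),1)] .nil (.node [(59,(.negSucc 0),1)] .nil .nil)))) (.node [(46,(.negSucc 0),1)] (.node [] (.node [] .nil (.node [(41,(.ofNat 1),1)] .nil .nil)) (.node [] .nil (.node [(54,(.ofNat 1),1)] .nil .nil))) .nil)) (.node [(46,(.ofNat 1),1)] (.node [] (.node [] .nil (.node [(20,(.negSucc 0),1)] .nil .nil)) (.node [] (.node [] (.node [] .nil (.node [(76,(.negSucc 0),1)] .nil .nil)) (.node [(47,(.negSucc 0),1)] .nil .nil)) (.node [] .nil (.node [(61,(.ofNat 1),1)] .nil .nil)))) (.node [] (.node [] (.node [] .nil (.node [(43,(.ofNat 1),1)] .nil .nil)) (.node [(25,(.negSucc 0),1)] .nil .nil)) (.node [] (.node [] .nil (.node [] .nil .nil)) .nil)))) (.node [(46,(.ofNat 1),1)] (.node [] (.node [] (.node [] (.node []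 .nil (.node [(35,(.negSucc 0),1)] .nil .nil)) .nil) .nil) (.node [(46,(.ofNat 1),1)] (.node [] (.node [] (.node [] .nil (.node [(72,(.ofNat 1),1)] .nil .nil)) (.node [(3,(.ofNat 1),1),(4,(.ofNat 1),1),(46,(.negSucc 0),2)] .nil .nil)) .nil) (.node [(16,(.ofNat 1),1)] .nil (.node [(31,(.negSucc 0),1)] .nil .nil)))) (.node [(46,(.negSucc 0),1)] (.node [] (.node [] (.node [] (.node [] .nil (.node [(70,(.negSucc 0),1)] .nil .nil)) .nil) .nil) (.node [(14,(.negSucc 0),1)] .nil .nil)) (.node [(9,(.ofNat 1),1)] .nil (.node [] .nil (.node [] .nil (.node [(65,(.ofNat 1),1)] .nil .nil)))))))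
noncomputable def ex41 : Trie (List (ℕ × ℤ × ℕ)) := (.node [] (.node [] (.node [] (.node [] (.node [] (.node [] .nil (.node [(35,(.negSucc 0),1)] .nil .nil)) (.node [] .nil (.node [(51,(.ofNat 1),1)] .nil .nil))) (.node [] .nil (.node [] .nil (.node [(60,(.negSucc 0),1)] .nil .nil)))) (.node [] (.node [] (.node [] (.node [] .nil (.node [(72,(.negSucc 0),1)] .nil .nil)) (.node [(3,(.ofNat 1),1),(4,(.ofNat 1),1),(5,(.ofNat 1),1),(47,(.negSucc 0),2)] .nil .nil)) (.node [] .nil (.node [(55,(.ofNat 1),1)] .nil .nil))) (.node [(16,(.ofNat 1),1)] .nil (.node [(31,(.negSucc 0),1)] .nil .nil)))) (.node [(47,(.ofNat 1),1)] .nil (.node [] (.node [] (.node [] .nil (.node [(44,(.ofNat 1),1)] .nil .nil)) (.node [(26,(.ofNat 1),1)] .nil .nil)) .nil))) (.node [(47,(.ofNat 1),1)] (.node [] (.node [] (.node [] .nil (.node [(20,(.negSucc 0),1)] .nil .nil)) (.node [] (.node [] (.node [] .nil (.node [(76,(.ofNat 1),1)] .nil .nil)) (.node [(46,(.negSucc 0),1)] .nil .nil))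 (.node [] .nil (.node [(61,(.negSucc 0),1)] .nil .nil)))) (.node [(47,(.negSucc 0),1)] (.node [] (.node [] .nil (.node [(42,(.ofNat 1),1)] .nil .nil)) .nil) .nil)) (.node [(47,(.negSucc 0),1)] (.node [] (.node [] (.node [] (.node [] .nil (.node [(71,(.negSucc 0),1)] .nil .nil)) .nil) .nil) (.node [(15,(.ofNat 1),1)] .nil .nil)) (.node [(10,(.negSucc 0),1)] (.node [] (.node [] .nil (.node [(45,(.negSucc 0),1)] .nil .nil)) (.node [(27,(.ofNat 1),1)] .nil .nil)) (.node [] (.node [] .nil (.node [] .nil .nil)) (.node [] .nil (.node [(66,(.ofNat 1),1)] .nil .nil)))))))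
noncomputable def ex42 : Trie (List (ℕ × ℤ × ℕ)) := (.node [(48,(.ofNat 1),1)] (.node [] (.node [] (.node [] (.node [] (.node [] .nil (.node [(36,(.ofNat 1),1)] .nil .nil)) (.node [] .nil (.node [] .nil .nil))) (.node [(11,(.negSucc 0),1)] (.node [] (.node [] .nil (.node [(75,(.ofNat 1),1)] .nil .nil)) .nil) .nil)) (.node [] (.node [] .nil (.node [(21,(.negSucc 0),1)] .nil .nil)) .nil)) (.node [(48,(.negSucc 1),1)] (.node [] (.node [] (.node [] .nil (.node [(38,(.ofNat 1),1)] .nil .nil)) .nil) (.node [(13,(.negSucc 0),1)] .nil (.node [(29,(.negSucc 0),1)] .nil .nil))) (.node [] (.node [] (.node [] (.node [] .nil (.node [(73,(.ofNat 1),1)] .nil .nil)) .nil) (.node [] .nil (.node [(57,(.ofNat 1),1)] .nil .nil))) (.node [] (.node [] .nil (.node [(50,(.negSucc 0),1)] .nil .nil)) (.node [] .nil (.node [(63,(.ofNat 1),1)] .nil .nil)))))) (.node [] (.node [] (.node [] (.node [] (.node [] .nil (.node [(37,(.ofNat 1),1)] .nil .nil)) .nil) (.node [(12,(.negSucc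 0),1)] .nil (.node [(28,(.negSucc 0),1)] .nil .nil))) (.node [] (.node [] .nil (.node [] .nil (.node [(56,(.ofNat 1),1)] .nil .nil))) (.node [] (.node [] .nil (.node [(49,(.negSucc 0),1)] .nil .nil)) .nil))) (.node [(48,(.ofNat 1),1)] (.node [] (.node [] (.node [] .nil (.node [(2,(.ofNat 1),1),(48,(.negSucc 0),2)] .nil .nil)) .nil) (.node [] .nil (.node [(30,(.negSucc 0),1)] .nil .nil))) (.node [] (.node [] (.node [] (.node [] .nil (.node [(74,(.ofNat 1),1)] .nil .nil)) .nil) (.node [] .nil (.node [(58,(.ofNat 1),1)] .nil .nil))) (.node [] (.node [] .nil (.node [(51,(.negSucc 0),1)] .nil .nil)) .nil)))))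
noncomputable def ex43 : Trie (List (ℕ × ℤ × ℕ)) := (.node [(49,(.ofNat 1),1)] (.node [] (.node [] (.node [] (.node [] (.node [] .nil (.node [(39,(.ofNat 1),1)] .nil .nil)) .nil) (.node [] (.node [] (.node [] .nil (.node [(76,(.ofNat 1),1)] .nil .nil)) .nil) (.node [(29,(.negSucc 0),1)] .nil .nil))) (.node [(49,(.ofNat 1),1)] (.node [] (.node [] (.node [] .nil (.node [(73,(.negSucc 0),1)] .nil .nil)) .nil) (.node [] .nil (.node [(56,(.negSucc 0),1)] .nil .nil))) (.node [] (.node [] .nil (.node [(51,(.negSucc 0),1)] .nil .nil)) .nil))) (.node [(49,(.negSucc 0),1)] (.node [] (.node [] (.node [] .nil (.node [(2,(.ofNat 1),1),(3,(.ofNat 1),1),(49,(.negSucc 0),2)] .nil .nil)) .nil) (.node [(15,(.ofNat 1),1)] .nil .nil)) (.node [] (.node [] (.node [] .nil (.node [(48,(.negSucc 0),1)] .nil .nil)) (.node [] .nil (.node [(59,(.ofNat 1),1)] .nil .nil))) (.node [] .nil (.node [] .nil (.node [(64,(.ofNat 1),1)] .nil .nil)))))) (.node [(49,(.ofNat 1),1)] (.node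 [] (.node [] (.node [] (.node [] .nil (.node [(40,(.ofNat 1),1)] .nil .nil)) (.node [] .nil (.node [] .nil .nil))) (.node [(14,(.ofNat 1),1)] .nil .nil)) (.node [] (.node [] (.node [] (.node [] .nil (.node [(74,(.negSucc 0),1)] .nil .nil)) .nil) .nil) .nil)) (.node [(49,(.negSucc 0),1)] (.node [] (.node [] (.node [] .nil (.node [(45,(.ofNat 1),1)] .nil .nil)) (.node [(21,(.negSucc 0),1)] .nil .nil)) (.node [] (.node [] .nil (.node [(50,(.negSucc 0),1)] .nil .nil)) (.node [(31,(.ofNat 1),1)] .nil .nil))) (.node [(11,(.negSucc 0),1)] (.node [] .nil (.node [(28,(.negSucc 0),1)] .nil (.node [(60,(.ofNat 1),1)] .nil .nil))) .nil))))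
noncomputable def ex44 : Trie (List (ℕ × ℤ × ℕ)) := (.node [(50,(.ofNat 1),1)] (.node [] (.node [] (.node [] (.node [] (.node [] .nil (.node [(41,(.ofNat 1),1)] .nil .nil)) .nil) (.node [(14,(.ofNat 1),1)] (.node [] .nil (.node [(49,(.negSucc 0),1)] .nil .nil)) (.node [(30,(.ofNat 1),1)] .nil .nil))) (.node [(50,(.negSucc 0),1)] (.node [] .nil (.node [] .nil (.node [(57,(.negSucc 0),1)] .nil .nil))) .nil)) (.node [(50,(.negSucc 0),1)] (.node [] (.node [] (.node [] .nil (.node [(43,(.ofNat 1),1)] .nil .nil)) (.node [(21,(.negSucc 0),1)] .nil (.node [] .nil .nil))) (.node [(16,(.negSucc 0),1)] (.node [] .nil (.node [(51,(.negSucc 0),1)] .nil .nil)) (.node [(31,(.ofNat 1),1)] .nil .nil))) (.node [] (.node [] .nil (.node [(28,(.negSucc 0),1)] .nil .nil)) (.node [] .nil (.node [] .nil (.node [(65,(.ofNat 1),1)] .nil .nil)))))) (.node [(50,(.ofNat 1),1)] (.node [] (.node [] (.node [] (.node [] .nil (.node [(2,(.ofNat 1),1),(3,(.ofNat 1),1),(4,(.ofNat 1),1),(50,(.negSucc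 0),2)] .nil .nil)) .nil) .nil) (.node [(50,(.ofNat 1),1)] (.node [] (.node [] (.node [] .nil (.node [(75,(.negSucc 0),1)] .nil .nil)) (.node [(48,(.negSucc 0),1)] .nil .nil)) (.node [] .nil (.node [(59,(.negSucc 0),1)] .nil .nil))) .nil)) (.node [] (.node [] (.node [] (.node [] (.node [] .nil (.node [(73,(.ofNat 1),1)] .nil .nil)) (.node [(46,(.ofNat 1),1)] .nil .nil)) .nil) .nil) (.node [(12,(.ofNat 1),1)] (.node [] (.node [] (.node [] .nil (.node [(76,(.negSucc 0),1)] .nil .nil)) .nil) (.node [] .nil (.node [(61,(.ofNat 1),1)] .nil .nil))) .nil))))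
noncomputable def ex45 : Trie (List (ℕ × ℤ × ℕ)) := (.node [(51,(.ofNat 1),1)] (.node [] (.node [] (.node [] (.node [] (.node [] .nil (.node [(2,(.ofNat 1),1),(3,(.ofNat 1),1),(4,(.ofNat 1),1),(5,(.ofNat 1),1),(51,(.negSucc 0),2)] .nil .nil)) .nil) (.node [(15,(.negSucc 0),1)] .nil .nil)) (.node [] (.node [] (.node [] (.node [] .nil (.node [(75,(.ofNat 1),1)] .nil .nil)) (.node [(48,(.negSucc 0),1)] .nil .nil)) (.node [] .nil (.node [(58,(.negSucc 0),1)] .nil .nil))) .nil)) (.node [(51,(.negSucc 0),1)] (.node [] (.node [] (.node [] .nil (.node [(44,(.ofNat 1),1)] .nil .nil)) .nil) .nil) (.node [] (.node [] (.node [] (.node [] .nil (.node [(76,(.ofNat 1),1)] .nil .nil)) .nil) (.node [(29,(.ofNat 1),1)] .nil (.node [(61,(.negSucc 0),1)] .nil .nil))) (.node [] .nil (.node [] .nil (.node [(66,(.ofNat 1),1)] .nil .nil)))))) (.node [(51,(.ofNat 1),1)] (.node [] (.node [] (.node [] (.node [] .nil (.node [(42,(.ofNat 1),1)] .nil .nil)) (.node [(21,(.negSucc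 0),1)] .nil .nil)) (.node [(16,(.negSucc 0),1)] (.node [] .nil (.node [(50,(.negSucc 0),1)] .nil .nil)) (.node [(31,(.ofNat 1),1)] .nil .nil))) (.node [(51,(.negSucc 0),1)] (.node [] .nil (.node [] .nil (.node [(60,(.negSucc 0),1)] .nil .nil))) .nil)) (.node [] (.node [] (.node [] (.node [] (.node [] .nil (.node [(74,(.ofNat 1),1)] .nil .nil)) (.node [(47,(.ofNat 1),1)] .nil .nil)) (.node [] .nil (.node [] .nil .nil))) .nil) (.node [(13,(.negSucc 0),1)] (.node [] (.node [] .nil (.node [(49,(.negSucc 0),1)] .nil .nil)) (.node [(30,(.ofNat 1),1)] .nil .nil)) .nil))))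
noncomputable def ex46 : Trie (List (ℕ × ℤ × ℕ)) := (.node [] (.node [] (.node [] (.node [] (.node [] (.node [] (.node [] .nil (.node [(67,(.ofNat 1),1)] .nil .nil)) .nil) (.node [(19,(.negSucc 0),1)] .nil .nil)) .nil) (.node [] (.node [] .nil (.node [] .nil (.node [] .nil .nil))) (.node [] (.node [] (.node [] .nil (.node [(77,(.ofNat 1),1)] .nil .nil)) .nil) (.node [(36,(.ofNat 1),1)] .nil .nil)))) (.node [] (.node [] (.node [] (.node [] (.node [] .nil (.node [(69,(.ofNat 1),1)] .nil .nil)) .nil) (.node [] .nil (.node [(57,(.ofNat 1),1)] .nil .nil))) (.node [] .nil (.node [(33,(.negSucc 0),1)] .nil .nil))) (.node [(7,(.negSucc 0),1)] .nil (.node [(17,(.negSucc 0),1)] (.node [] .nil (.node [(54,(.negSucc 0),1)] .nil .nil)) (.node [(38,(.ofNat 1),1)] .nil .nil))))) (.node [(52,(.negSucc 1),1)] (.node [] (.node [] (.node [] (.node [] (.node [] .nil (.node [(68,(.ofNat 1),1)] .nil .nil)) .nil) (.node [] .nil (.node [(56,(.ofNat 1),1)] .nil .nil))) (.node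 [] .nil (.node [(32,(.negSucc 0),1)] .nil .nil))) (.node [] .nil (.node [] (.node [] .nil (.node [(53,(.negSucc 0),1)] .nil .nil)) (.node [(37,(.ofNat 1),1)] .nil .nil)))) (.node [(52,(.ofNat 1),1)] (.node [] (.node [] .nil (.node [] .nil (.node [(58,(.ofNat 1),1)] .nil .nil))) (.node [] .nil (.node [(34,(.negSucc 0),1)] .nil .nil))) (.node [] .nil (.node [(18,(.negSucc 0),1)] (.node [] .nil (.node [(55,(.negSucc 0),1)] .nil .nil)) (.node [(1,(.ofNat 1),1),(52,(.negSucc 0),2)] .nil .nil))))))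
noncomputable def ex47 : Trie (List (ℕ × ℤ × ℕ)) := (.node [] (.node [] (.node [] (.node [] (.node [] .nil (.node [(20,(.ofNat 1),1)] .nil (.node [(56,(.negSucc 0),1)] .nil .nil))) (.node [] .nil (.node [(33,(.negSucc 0),1)] .nil .nil))) (.node [(53,(.ofNat 1),1)] .nil (.node [(17,(.negSucc 0),1)] (.node [] .nil (.node [(55,(.negSucc 0),1)] .nil .nil)) (.node [(39,(.ofNat 1),1)] .nil .nil)))) (.node [(53,(.ofNat 1),1)] (.node [] (.node [] (.node [] (.node [] .nil (.node [(71,(.ofNat 1),1)] .nil .nil)) .nil) (.node [] .nil (.node [(59,(.ofNat 1),1)] .nil .nil))) .nil) (.node [(8,(.ofNat 1),1)] (.node [] (.node [] .nil (.node [(52,(.negSucc 0),1)] .nil .nil)) .nil) (.node [] .nil (.node [(1,(.ofNat 1),1),(3,(.ofNat 1),1),(53,(.negSucc 0),2)] .nil .nil))))) (.node [(53,(.negSucc 0),1)] (.node [] (.node [] (.node [] (.node [] (.node [] .nil (.node [(70,(.ofNat 1),1)] .nil .nil)) .nil) .nil) .nil) (.node [] (.node [] .nil (.node [] .nil (.node [] .nil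 .nil))) (.node [(18,(.negSucc 0),1)] .nil (.node [(40,(.ofNat 1),1)] .nil .nil)))) (.node [(53,(.negSucc 0),1)] (.node [] (.node [] .nil (.node [] .nil (.node [(60,(.ofNat 1),1)] .nil .nil))) (.node [] (.node [] (.node [] .nil (.node [(77,(.negSucc 0),1)] .nil .nil)) (.node [(54,(.negSucc 0),1)] .nil .nil)) (.node [(35,(.ofNat 1),1)] .nil .nil))) (.node [] (.node [] .nil (.node [(32,(.negSucc 0),1)] .nil .nil)) (.node [] .nil (.node [(45,(.ofNat 1),1)] .nil (.node [(67,(.negSucc 0),1)] .nil .nil)))))))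
noncomputable def ex48 : Trie (List (ℕ × ℤ × ℕ)) := (.node [] (.node [] (.node [] (.node [] (.node [] (.node [] (.node [] .nil (.node [(70,(.negSucc 0),1)] .nil .nil)) .nil) (.node [] .nil (.node [(57,(.negSucc 0),1)] .nil .nil))) (.node [] (.node [] .nil (.node [(53,(.negSucc 0),1)] .nil .nil)) (.node [(34,(.ofNat 1),1)] .nil .nil))) (.node [(54,(.negSucc 0),1)] .nil (.node [] .nil (.node [(41,(.ofNat 1),1)] .nil .nil)))) (.node [(54,(.ofNat 1),1)] (.node [] (.node [] (.node [] (.node [] .nil (.node [(72,(.ofNat 1),1)] .nil .nil)) .nil) .nil) (.node [] (.node [] (.node [] .nil (.node [(77,(.ofNat 1),1)] .nil .nil)) (.node [(55,(.negSucc 0),1)] .nil .nil)) (.node [(35,(.ofNat 1),1)] .nil .nil))) (.node [(9,(.negSucc 0),1)] (.node [] .nil (.node [(32,(.negSucc 0),1)] .nil (.node [] .nil .nil))) (.node [] .nil (.node [(43,(.ofNat 1),1)] .nil .nil))))) (.node [(54,(.negSucc 0),1)] (.node [] (.node [] (.node [] .nil (.node [] .nil (.node [(59,(.negSucc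 0),1)] .nil .nil))) .nil) (.node [(54,(.ofNat 1),1)] (.node [] (.node [] .nil (.node [(52,(.negSucc 0),1)] .nil .nil)) .nil) (.node [(19,(.ofNat 1),1)] .nil (.node [(1,(.ofNat 1),1),(3,(.ofNat 1),1),(4,(.ofNat 1),1),(54,(.negSucc 0),2)] .nil .nil)))) (.node [] (.node [] (.node [] .nil (.node [] .nil (.node [(61,(.ofNat 1),1)] .nil .nil))) (.node [(17,(.negSucc 0),1)] .nil .nil)) (.node [] .nil (.node [(20,(.ofNat 1),1)] .nil (.node [(46,(.ofNat 1),1)] .nil (.node [(68,(.negSucc 0),1)] .nil .nil)))))))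
noncomputable def ex49 : Trie (List (ℕ × ℤ × ℕ)) := (.node [] (.node [] (.node [] (.node [] (.node [] (.node [] (.node [] .nil (.node [(71,(.negSucc 0),1)] .nil .nil)) .nil) (.node [] .nil (.node [(58,(.negSucc 0),1)] .nil .nil))) .nil) (.node [] (.node [] (.node [] .nil (.node [(52,(.negSucc 0),1)] .nil .nil)) .nil) (.node [(19,(.ofNat 1),1)] .nil (.node [(1,(.ofNat 1),1),(3,(.ofNat 1),1),(4,(.ofNat 1),1),(5,(.ofNat 1),1),(55,(.negSucc 0),2)] .nil .nil)))) (.node [(55,(.ofNat 1),1)] (.node [] (.node [] .nil (.node [] .nil (.node [(61,(.negSucc 0),1)] .nil .nil))) .nil) (.node [(10,(.ofNat 1),1)] (.node [] .nil (.node [(33,(.ofNat 1),1)] .nil .nil)) (.node [(20,(.ofNat 1),1)] .nil (.node [(44,(.ofNat 1),1)] .nil .nil))))) (.node [(55,(.negSucc 0),1)] (.node [] (.node [] (.node [] (.node [] (.node [] .nil (.node [(72,(.negSucc 0),1)] .nil .nil)) .nil) (.node [] .nil (.node [(60,(.negSucc 0),1)] .nil .nil))) (.node [] (.node [] (.node [] .nil (.node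 [(77,(.negSucc 0),1)] .nil .nil)) (.node [(54,(.negSucc 0),1)] .nil .nil)) (.node [(35,(.ofNat 1),1)] .nil .nil))) (.node [(55,(.negSucc 0),1)] .nil (.node [] .nil (.node [(42,(.ofNat 1),1)] .nil .nil)))) (.node [] (.node [] .nil (.node [(18,(.ofNat 1),1)] .nil .nil)) (.node [] (.node [] (.node [] .nil (.node [(53,(.negSucc 0),1)] .nil .nil)) (.node [(34,(.ofNat 1),1)] .nil (.node [] .nil .nil))) (.node [] .nil (.node [(47,(.ofNat 1),1)] .nil (.node [(69,(.negSucc 0),1)] .nil .nil)))))))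
noncomputable def ex50 : Trie (List (ℕ × ℤ × ℕ)) := (.node [(56,(.ofNat 1),1)] (.node [] (.node [] (.node [] (.node [] .nil (.node [(21,(.negSucc 0),1)] .nil .nil)) (.node [] (.node [] (.node [] .nil (.node [(77,(.ofNat 1),1)] .nil .nil)) .nil) (.node [(37,(.negSucc 0),1)] .nil (.node [] .nil .nil)))) (.node [(56,(.ofNat 1),1)] .nil (.node [] (.node [] .nil (.node [(58,(.negSucc 0),1)] .nil .nil)) .nil))) (.node [(56,(.negSucc 0),1)] (.node [] (.node [] (.node [] (.node [] .nil (.node [(74,(.ofNat 1),1)] .nil .nil)) (.node [(52,(.ofNat 1),1)] .nil .nil)) .nil) (.node [(18,(.negSucc 0),1)] .nil (.node [(40,(.ofNat 1),1)] .nil .nil))) (.node [(11,(.negSucc 0),1)] .nil (.node [] (.node [] .nil (.node [(59,(.ofNat 1),1)] .nil .nil)) (.node [(48,(.ofNat 1),1)] .nil (.node [(67,(.ofNat 1),1)] .nil .nil)))))) (.node [(56,(.negSucc 0),1)] (.node [] (.node [] (.node [] (.node [] (.node [] .nil (.node [(73,(.ofNat 1),1)] .nil .nil)) .nil) .nil) (.node [(17,(.negSucc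 0),1)] .nil (.node [(39,(.ofNat 1),1)] .nil .nil))) (.node [] .nil .nil)) (.node [] (.node [] (.node [] (.node [] .nil (.node [(53,(.negSucc 0),1)] .nil .nil)) .nil) (.node [] (.node [] .nil (.node [(57,(.negSucc 0),1)] .nil .nil)) (.node [(1,(.ofNat 1),1),(2,(.ofNat 1),1),(3,(.ofNat 1),1),(56,(.negSucc 0),2)] .nil .nil))) (.node [] (.node [] .nil (.node [(36,(.negSucc 0),1)] .nil .nil)) (.node [] (.node [] .nil (.node [(60,(.ofNat 1),1)] .nil .nil)) (.node [(49,(.negSucc 0),1)] .nil .nil))))))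
noncomputable def ex51 : Trie (List (ℕ × ℤ × ℕ)) := (.node [(57,(.ofNat 1),1)] (.node [] (.node [] (.node [] (.node [] (.node [] (.node [] .nil (.node [(73,(.negSucc 0),1)] .nil .nil)) .nil) .nil) (.node [(17,(.negSucc 0),1)] (.node [] .nil (.node [(56,(.negSucc 0),1)] .nil .nil)) (.node [(38,(.ofNat 1),1)] .nil .nil))) (.node [(57,(.negSucc 0),1)] .nil .nil)) (.node [(57,(.negSucc 0),1)] (.node [] (.node [] (.node [] (.node [] .nil (.node [(75,(.ofNat 1),1)] .nil .nil)) .nil) .nil) (.node [(19,(.ofNat 1),1)] (.node [] .nil (.node [(58,(.negSucc 0),1)] .nil .nil)) (.node [(1,(.ofNat 1),1),(2,(.ofNat 1),1),(3,(.ofNat 1),1),(4,(.ofNat 1),1),(57,(.negSucc 0),2)] .nil .nil))) (.node [(12,(.ofNat 1),1)] (.node [] .nil (.node [(36,(.negSucc 0),1)] .nil .nil)) (.node [] .nil (.node [] .nil (.node [(68,(.ofNat 1),1)] .nil .nil)))))) (.node [(57,(.negSucc 0),1)] (.node [] (.node [] (.node [] (.node [] .nil (.node [(52,(.ofNat 1),1)] .nil .nil)) .nil) (.node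 [] .nil (.node [(41,(.ofNat 1),1)] .nil (.node [] .nil .nil)))) (.node [(57,(.ofNat 1),1)] .nil (.node [] (.node [] .nil (.node [(59,(.negSucc 0),1)] .nil .nil)) (.node [(48,(.ofNat 1),1)] .nil .nil)))) (.node [(57,(.ofNat 1),1)] (.node [] (.node [] (.node [] .nil (.node [(54,(.negSucc 0),1)] .nil .nil)) .nil) (.node [] .nil (.node [(43,(.ofNat 1),1)] .nil .nil))) (.node [] (.node [] (.node [] (.node [] .nil (.node [(77,(.negSucc 0),1)] .nil .nil)) .nil) .nil) (.node [(21,(.negSucc 0),1)] (.node [] .nil (.node [(61,(.ofNat 1),1)] .nil .nil)) (.node [(50,(.negSucc 0),1)] .nil .nil))))))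
noncomputable def ex52 : Trie (List (ℕ × ℤ × ℕ)) := (.node [(58,(.ofNat 1),1)] (.node [] (.node [] (.node [] (.node [] (.node [] (.node [] .nil (.node [(74,(.negSucc 0),1)] .nil .nil)) (.node [(52,(.ofNat 1),1)] .nil .nil)) .nil) (.node [(18,(.ofNat 1),1)] .nil .nil)) (.node [] .nil (.node [] .nil (.node [(48,(.ofNat 1),1)] .nil .nil)))) (.node [(58,(.negSucc 0),1)] (.node [] .nil (.node [] .nil (.node [(42,(.ofNat 1),1)] .nil (.node [] .nil .nil)))) (.node [(13,(.negSucc 0),1)] (.node [] (.node [] (.node [] .nil (.node [(77,(.ofNat 1),1)] .nil .nil)) .nil) (.node [(37,(.ofNat 1),1)] .nil .nil)) (.node [(21,(.negSucc 0),1)] (.node [] .nil (.node [(61,(.negSucc 0),1)] .nil .nil)) (.node [] .nil (.node [(69,(.ofNat 1),1)] .nil .nil)))))) (.node [(58,(.negSucc 0),1)] (.node [] (.node [] (.node [] (.node [] (.node [] .nil (.node [(75,(.negSucc 0),1)] .nil .nil)) .nil) .nil) (.node [(19,(.ofNat 1),1)] (.node [] .nil (.node [(57,(.negSucc 0),1)] .nil .nil))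 (.node [(1,(.ofNat 1),1),(2,(.ofNat 1),1),(3,(.ofNat 1),1),(4,(.ofNat 1),1),(5,(.ofNat 1),1),(58,(.negSucc 0),2)] .nil .nil))) (.node [(58,(.negSucc 0),1)] .nil (.node [] (.node [] .nil (.node [(60,(.negSucc 0),1)] .nil .nil)) .nil))) (.node [(58,(.ofNat 1),1)] (.node [] (.node [] (.node [] .nil (.node [(55,(.negSucc 0),1)] .nil .nil)) .nil) (.node [] .nil (.node [(44,(.ofNat 1),1)] .nil .nil))) (.node [] (.node [] (.node [] .nil (.node [(56,(.negSucc 0),1)] .nil .nil)) (.node [(38,(.ofNat 1),1)] .nil .nil)) (.node [] .nil (.node [(51,(.negSucc 0),1)] .nil .nil))))))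
noncomputable def ex53 : Trie (List (ℕ × ℤ × ℕ)) := (.node [(59,(.ofNat 1),1)] (.node [] (.node [] (.node [] .nil (.node [] .nil (.node [(1,(.ofNat 1),1),(2,(.ofNat 1),1),(3,(.ofNat 2),1),(4,(.ofNat 1),1),(59,(.negSucc 0),2)] .nil .nil))) (.node [] .nil (.node [] (.node [] .nil (.node [(61,(.ofNat 1),1)] .nil .nil)) .nil))) (.node [] (.node [] (.node [] (.node [] (.node [] .nil (.node [(76,(.ofNat 1),1)] .nil .nil)) (.node [(54,(.negSucc 0),1)] .nil .nil)) .nil) (.node [(20,(.negSucc 0),1)] (.node [] .nil (.node [(60,(.negSucc 0),1)] .nil .nil)) (.node [(45,(.ofNat 1),1)] .nil .nil))) (.node [(14,(.negSucc 0),1)] (.node [] (.node [] .nil (.node [(57,(.negSucc 0),1)] .nil .nil)) (.node [(39,(.negSucc 0),1)] .nil .nil)) (.node [] .nil (.node [(50,(.negSucc 0),1)] .nil (.node [(70,(.ofNat 1),1)] .nil .nil)))))) (.node [] (.node [] (.node [] (.node [] (.node [] .nil (.node [(53,(.ofNat 1),1)] .nil .nil)) .nil) .nil) (.node [(59,(.ofNat 1),1)] (.node []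 (.node [] (.node [] .nil (.node [(77,(.ofNat 1),1)] .nil .nil)) (.node [(56,(.ofNat 1),1)] .nil .nil)) .nil) (.node [(21,(.negSucc 0),1)] .nil (.node [(49,(.ofNat 1),1)] .nil .nil)))) (.node [(59,(.negSucc 0),1)] (.node [] .nil (.node [] .nil (.node [(46,(.negSucc 0),1)] .nil (.node [] .nil .nil)))) (.node [(17,(.negSucc 0),1)] (.node [] .nil (.node [(41,(.ofNat 1),1)] .nil .nil)) (.node [] .nil (.node [] .nil (.node [(73,(.ofNat 1),1)] .nil .nil)))))))
noncomputable def ex54 : Trie (List (ℕ × ℤ × ℕ)) := (.node [(60,(.ofNat 1),1)] (.node [] (.node [] (.node [] (.node [] (.node [] .nil (.node [(53,(.ofNat 1),1)] .nil .nil)) .nil) (.node [] .nil (.node [(42,(.ofNat 1),1)] .nil .nil))) (.node [(60,(.ofNat 1),1)] (.node [] (.node [] (.node [] .nil (.node [(77,(.negSucc 0),1)] .nil .nil)) (.node [(56,(.ofNat 1),1)] .nil .nil)) .nil) (.node [(21,(.negSucc 0),1)] .nil (.node [(49,(.ofNat 1),1)] .nil (.node [] .nil .nil))))) (.node [] (.node [] (.node []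 (.node [] .nil (.node [(55,(.negSucc 0),1)] .nil .nil)) .nil) .nil) (.node [(15,(.ofNat 1),1)] (.node [] (.node [] .nil (.node [(58,(.negSucc 0),1)] .nil .nil)) (.node [(40,(.ofNat 1),1)] .nil .nil)) (.node [] .nil (.node [(51,(.negSucc 0),1)] .nil (.node [(71,(.ofNat 1),1)] .nil .nil)))))) (.node [] (.node [] (.node [] (.node [] (.node [] (.node [] .nil (.node [(76,(.negSucc 0),1)] .nil .nil)) .nil) .nil) (.node [(20,(.negSucc 0),1)] (.node [] .nil (.node [(59,(.negSucc 0),1)] .nil .nil)) (.node [(45,(.ofNat 1),1)] .nil .nil))) (.node [(60,(.negSucc 0),1)] .nil .nil)) (.node [(60,(.negSucc 0),1)] (.node [] .nil (.node [] (.node [] .nil (.node [(61,(.negSucc 0),1)] .nil .nil)) (.node [(47,(.negSucc 0),1)] .nil .nil))) (.node [(18,(.ofNat 1),1)] (.node [] .nil (.node [(1,(.ofNat 1),1),(2,(.ofNat 1),1),(3,(.ofNat 2),1),(4,(.ofNat 1),1),(5,(.ofNat 1),1),(60,(.negSucc 0),2)] .nil .nil)) (.node [] .nil (.node [] .nil (.node [(74,(.ofNat 1),1)] .nil .nil)))))))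
noncomputable def ex55 : Trie (List (ℕ × ℤ × ℕ)) := (.node [(61,(.ofNat 1),1)] (.node [] (.node [] (.node [] (.node [] (.node [] (.node [] .nil (.node [(76,(.ofNat 1),1)] .nil .nil)) (.node [(54,(.ofNat 1),1)] .nil .nil)) .nil) (.node [(20,(.negSucc 0),1)] (.node [] .nil (.node [(60,(.negSucc 0),1)] .nil .nil)) (.node [(44,(.negSucc 0),1)] .nil .nil))) (.node [(61,(.negSucc 0),1)] (.node [] (.node [] .nil (.node [(57,(.ofNat 1),1)] .nil .nil)) .nil) (.node [] .nil (.node [(50,(.ofNat 1),1)] .nil .nil)))) (.node [] (.node [] .nil (.node [] .nil (.node [(47,(.negSucc 0),1)] .nil .nil))) (.node [(16,(.negSucc 0),1)] (.node [] .nil (.node [(1,(.ofNat 1),1),(2,(.ofNat 1),1),(3,(.ofNat 2),1),(4,(.ofNat 2),1),(5,(.ofNat 1),1),(61,(.negSucc 0),2)] .nil .nil)) (.node [] .nil (.node [] .nil (.node [(72,(.ofNat 1),1)] .nil .nil)))))) (.node [] (.node [] (.node [] (.node [] (.node [] .nil (.node [(55,(.negSucc 0),1)] .nil .nil)) .nil) (.node [] .nil (.node [(46,(.ofNat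 1),1)] .nil .nil))) (.node [] (.node [] (.node [] .nil (.node [(58,(.negSucc 0),1)] .nil .nil)) .nil) (.node [] .nil (.node [(51,(.negSucc 0),1)] .nil (.node [] .nil .nil))))) (.node [] (.node [] (.node [] (.node [] (.node [] .nil (.node [(77,(.ofNat 1),1)] .nil .nil)) .nil) .nil) (.node [(21,(.negSucc 0),1)] .nil .nil)) (.node [(19,(.negSucc 0),1)] (.node [] (.node [] .nil (.node [(59,(.ofNat 1),1)] .nil .nil)) (.node [(43,(.ofNat 1),1)] .nil .nil)) (.node [] .nil (.node [] .nil (.node [(75,(.ofNat 1),1)] .nil .nil)))))))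
noncomputable def ex56 : Trie (List (ℕ × ℤ × ℕ)) := (.node [(62,(.negSucc 1),1)] (.node [] (.node [] (.node [] (.node [] .nil (.node [(27,(.ofNat 1),1)] .nil (.node [(63,(.negSucc 0),1)] .nil .nil))) (.node [] .nil (.node [] .nil (.node [(67,(.negSucc 0),1)] .nil .nil)))) (.node [] (.node [] .nil (.node [(35,(.ofNat 1),1)] .nil .nil)) (.node [(23,(.ofNat 1),1)] .nil (.node [] .nil (.node [(71,(.negSucc 0),1)] .nil .nil))))) (.node [(62,(.ofNat 1),1)] (.node [] (.node [] .nil (.node [(33,(.ofNat 1),1)] .nil (.node [(65,(.negSucc 0),1)] .nil .nil))) (.node [] .nil (.node [] .nil (.node [(69,(.negSucc 0),1)] .nil .nil)))) (.node [] .nil (.node [(25,(.ofNat 1),1)] .nil (.node [] .nil (.node [] .nil .nil)))))) (.node [] (.node [] (.node [] (.node [] .nil (.node [(32,(.ofNat 1),1)] .nil (.node [(64,(.negSucc 0),1)] .nil .nil))) (.node [] .nil (.node [] .nil (.node [(68,(.negSucc 0),1)] .nil .nil)))) (.node [] (.node [] .nil (.node [(0,(.ofNat 1),1),(62,(.negSucc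 0),2)] .nil .nil)) (.node [(24,(.ofNat 1),1)] .nil (.node [] .nil (.node [(72,(.negSucc 0),1)] .nil .nil))))) (.node [] (.node [] (.node [] .nil (.node [(34,(.ofNat 1),1)] .nil (.node [(66,(.negSucc 0),1)] .nil .nil))) (.node [(22,(.ofNat 1),1)] .nil (.node [] .nil (.node [(70,(.negSucc 0),1)] .nil .nil)))) (.node [] .nil (.node [(26,(.ofNat 1),1)] .nil .nil)))))
noncomputable def ex57 : Trie (List (ℕ × ℤ × ℕ)) := (.node [(63,(.negSucc 0),1)] (.node [] (.node [] (.node [] (.node [] .nil (.node [(30,(.negSucc 0),1)] .nil .nil)) (.node [(22,(.ofNat 1),1)] .nil .nil)) (.node [] (.node [] .nil (.node [(0,(.ofNat 1),1),(2,(.ofNat 1),1),(63,(.negSucc 0),2)] .nil .nil)) (.node [] .nil (.node [] .nil (.node [(74,(.negSucc 0),1)] .nil .nil))))) (.node [(63,(.negSucc 0),1)] (.node [] (.node [] .nil (.node [(37,(.ofNat 1),1)] .nil .nil)) (.node [(24,(.ofNat 1),1)] .nil .nil)) (.node [] (.node [] .nil (.node [] .nil (.node [(68,(.ofNat 1),1)] .nil .nil))) (.node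 [(28,(.negSucc 0),1)] (.node [] .nil (.node [(65,(.negSucc 0),1)] .nil .nil)) .nil)))) (.node [] (.node [] (.node [] (.node [] .nil (.node [(36,(.ofNat 1),1)] .nil .nil)) (.node [(23,(.ofNat 1),1)] .nil .nil)) (.node [] (.node [] .nil (.node [(48,(.ofNat 1),1)] .nil (.node [(67,(.ofNat 1),1)] .nil .nil))) (.node [] (.node [] .nil (.node [(64,(.negSucc 0),1)] .nil .nil)) (.node [] .nil (.node [(75,(.negSucc 0),1)] .nil .nil))))) (.node [(63,(.ofNat 1),1)] (.node [] (.node [] (.node [] .nil (.node [(62,(.negSucc 0),1)] .nil .nil)) (.node [(38,(.ofNat 1),1)] .nil .nil)) (.node [] .nil (.node [] .nil (.node [(73,(.negSucc 0),1)] .nil .nil)))) (.node [] (.node [] .nil (.node [] .nil (.node [(69,(.ofNat 1),1)] .nil .nil))) (.node [(29,(.negSucc 0),1)] (.node [] .nil (.node [(66,(.negSucc 0),1)] .nil .nil)) (.node [] .nil (.node [] .nil .nil)))))))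
noncomputable def ex58 : Trie (List (ℕ × ℤ × ℕ)) := (.node [(64,(.negSucc 0),1)] (.node [] (.node [] (.node [] (.node [] (.node [] (.node [] .nil (.node [] .nil .nil)) .nil) (.node [(31,(.ofNat 1),1)] .nil .nil)) .nil) (.node [(64,(.ofNat 1),1)] (.node [] .nil (.node [(45,(.ofNat 1),1)] .nil (.node [(67,(.negSucc 0),1)] .nil .nil))) (.node [(28,(.negSucc 0),1)] (.node [] .nil (.node [(66,(.negSucc 0),1)] .nil .nil)) .nil))) (.node [] (.node [] (.node [] (.node [] .nil (.node [(62,(.negSucc 0),1)] .nil .nil)) (.node [(40,(.ofNat 1),1)] .nil .nil)) (.node [(26,(.negSucc 0),1)] .nil (.node [] .nil (.node [(74,(.ofNat 1),1)] .nil .nil)))) (.node [] (.node [] (.node [] .nil (.node [(63,(.negSucc 0),1)] .nil .nil)) (.node [] .nil (.node [(70,(.ofNat 1),1)] .nil .nil))) .nil))) (.node [(64,(.ofNat 1),1)] (.node [] (.node [] (.node [] .nil (.node [(39,(.ofNat 1),1)] .nil .nil)) (.node [(25,(.negSucc 0),1)] .nil (.node [] .nil (.node [(73,(.ofNat 1),1)] .nil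 .nil)))) (.node [] (.node [] .nil (.node [(49,(.ofNat 1),1)] .nil .nil)) (.node [(29,(.negSucc 0),1)] .nil (.node [] .nil (.node [(76,(.negSucc 0),1)] .nil .nil))))) (.node [(64,(.negSucc 0),1)] (.node [] (.node [] .nil (.node [(0,(.ofNat 1),1),(2,(.ofNat 1),1),(3,(.ofNat 1),1),(64,(.negSucc 0),2)] .nil .nil)) (.node [] (.node [] .nil (.node [(65,(.negSucc 0),1)] .nil .nil)) .nil)) (.node [(22,(.ofNat 1),1)] (.node [] .nil (.node [] .nil (.node [(71,(.ofNat 1),1)] .nil .nil))) .nil))))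
noncomputable def ex59 : Trie (List (ℕ × ℤ × ℕ)) := (.node [(65,(.negSucc 0),1)] (.node [] (.node [] (.node [] .nil (.node [(25,(.negSucc 0),1)] (.node [] .nil (.node [(64,(.negSucc 0),1)] .nil .nil)) (.node [] .nil (.node [(73,(.negSucc 0),1)] .nil .nil)))) (.node [(65,(.negSucc 0),1)] (.node [] .nil (.node [(46,(.ofNat 1),1)] .nil (.node [(68,(.negSucc 0),1)] .nil .nil))) (.node [] .nil (.node [] .nil (.node [(76,(.ofNat 1),1)] .nil .nil))))) (.node [] (.node [] (.node [] .nil (.node [(0,(.ofNat 1),1),(2,(.ofNat 1),1),(3,(.ofNat 1),1),(4,(.ofNat 1),1),(65,(.negSucc 0),2)] .nil .nil)) (.node [(27,(.ofNat 1),1)] (.node [] .nil (.node [(66,(.negSucc 0),1)] .nil .nil)) (.node [] .nil (.node [(75,(.ofNat 1),1)] .nil .nil)))) .nil)) (.node [(65,(.ofNat 1),1)] (.node [] (.node [] (.node [] (.node [] (.node [] .nil (.node [] .nil .nil)) (.node [(62,(.negSucc 0),1)] .nil .nil)) (.node [(41,(.ofNat 1),1)] .nil .nil)) .nil) (.node [(65,(.ofNat 1),1)] (.node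 [] (.node [] .nil (.node [(63,(.negSucc 0),1)] .nil .nil)) (.node [(50,(.ofNat 1),1)] .nil (.node [(70,(.negSucc 0),1)] .nil .nil))) (.node [(30,(.ofNat 1),1)] .nil .nil))) (.node [] (.node [] (.node [] .nil (.node [(43,(.ofNat 1),1)] .nil .nil)) (.node [(28,(.negSucc 0),1)] .nil .nil)) (.node [(23,(.negSucc 0),1)] (.node [] .nil (.node [] .nil (.node [(72,(.ofNat 1),1)] .nil .nil))) (.node [(31,(.ofNat 1),1)] .nil .nil)))))
noncomputable def ex60 : Trie (List (ℕ × ℤ × ℕ)) := (.node [(66,(.negSucc 0),1)] (.node [] (.node [] (.node [] (.node [] (.node [] .nil (.node [(62,(.negSucc 0),1)] .nil .nil)) .nil) (.node [(26,(.ofNat 1),1)] .nil (.node [] .nil (.node [(74,(.negSucc 0),1)] .nil .nil)))) (.node [] (.node [] (.node [] .nil (.node [(63,(.negSucc 0),1)] .nil .nil)) (.node [(47,(.ofNat 1),1)] .nil (.node [(69,(.negSucc 0),1)] .nil .nil))) (.node [(30,(.ofNat 1),1)] .nil .nil))) (.node [] (.node [] (.node [] (.node [] (.node [] .nil (.node [] .nil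 .nil)) .nil) (.node [(42,(.ofNat 1),1)] .nil .nil)) .nil) (.node [] (.node [] .nil (.node [] .nil (.node [(72,(.negSucc 0),1)] .nil .nil))) (.node [(31,(.ofNat 1),1)] .nil .nil)))) (.node [(66,(.ofNat 1),1)] (.node [] (.node [] (.node [] .nil (.node [(0,(.ofNat 1),1),(2,(.ofNat 1),1),(3,(.ofNat 1),1),(4,(.ofNat 1),1),(5,(.ofNat 1),1),(66,(.negSucc 0),2)] .nil .nil)) (.node [(27,(.ofNat 1),1)] (.node [] .nil (.node [(65,(.negSucc 0),1)] .nil .nil)) (.node [] .nil (.node [(75,(.negSucc 0),1)] .nil .nil)))) (.node [(66,(.negSucc 0),1)] (.node [] .nil (.node [(51,(.ofNat 1),1)] .nil (.node [(71,(.negSucc 0),1)] .nil .nil))) .nil)) (.node [] (.node [] (.node [] .nil (.node [(44,(.ofNat 1),1)] .nil .nil)) (.node [(29,(.ofNat 1),1)] .nil (.node [] .nil (.node [(76,(.negSucc 0),1)] .nil .nil)))) (.node [(24,(.ofNat 1),1)] (.node [] (.node [] .nil (.node [(64,(.negSucc 0),1)] .nil .nil)) .nil) .nil))))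
noncomputable def ex61 : Trie (List (ℕ × ℤ × ℕ)) := (.node [(67,(.negSucc 0),1)] (.node [] (.node [] (.node [] (.node [] .nil (.node [(0,(.ofNat 1),1),(1,(.ofNat 1),1),(2,(.ofNat 1),1),(3,(.ofNat 1),1),(67,(.negSucc 0),2)] .nil .nil)) .nil) (.node [(67,(.ofNat 1),1)] (.node [] .nil (.node [(53,(.negSucc 0),1)] .nil .nil)) (.node [(36,(.negSucc 0),1)] (.node [] .nil (.node [(69,(.negSucc 0),1)] .nil .nil)) .nil))) (.node [] (.node [] (.node [] .nil (.node [] .nil (.node [(73,(.negSucc 0),1)] .nil .nil))) (.node [(33,(.ofNat 1),1)] .nil .nil)) (.node [(22,(.ofNat 1),1)] .nil (.node [(39,(.ofNat 1),1)] (.node [] .nil (.node [(70,(.ofNat 1),1)] .nil .nil)) (.node [(63,(.ofNat 1),1)] .nil .nil))))) (.node [(67,(.negSucc 0),1)] (.node [] (.node [] .nil (.node [(32,(.ofNat 1),1)] .nil .nil)) (.node [] (.node [] .nil (.node [(56,(.ofNat 1),1)] .nil .nil)) (.node [(37,(.negSucc 0),1)] .nil (.node [] .nil (.node [(77,(.negSucc 0),1)] .nil .nil))))) (.node []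 (.node [] (.node [] (.node [] (.node [] .nil (.node [] .nil .nil)) .nil) (.node [(52,(.ofNat 1),1)] .nil (.node [(74,(.negSucc 0),1)] .nil .nil))) (.node [] (.node [] .nil (.node [(68,(.negSucc 0),1)] .nil .nil)) (.node [(62,(.negSucc 0),1)] .nil .nil))) (.node [] .nil (.node [(40,(.ofNat 1),1)] (.node [] .nil (.node [(71,(.ofNat 1),1)] .nil .nil)) (.node [(64,(.negSucc 0),1)] .nil .nil))))))
noncomputable def ex62 : Trie (List (ℕ × ℤ × ℕ)) := (.node [(68,(.negSucc 0),1)] (.node [] (.node [] (.node [] (.node [] .nil (.node [(43,(.ofNat 1),1)] .nil .nil)) (.node [(32,(.ofNat 1),1)] (.node [] .nil (.node [(67,(.negSucc 0),1)] .nil .nil)) .nil)) (.node [(68,(.negSucc 0),1)] (.node [] (.node [] (.node [] .nil (.node [] .nil .nil)) .nil) (.node [(54,(.negSucc 0),1)] .nil .nil)) (.node [] .nil (.node [] .nil (.node [(77,(.ofNat 1),1)] .nil .nil))))) (.node [] (.node [] (.node [] .nil (.node [(52,(.ofNat 1),1)] .nil .nil)) (.node [(34,(.negSucc 0),1)] (.node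 [] .nil (.node [(69,(.negSucc 0),1)] .nil .nil)) (.node [(62,(.negSucc 0),1)] .nil .nil))) (.node [(23,(.negSucc 0),1)] .nil (.node [(41,(.ofNat 1),1)] .nil .nil)))) (.node [(68,(.negSucc 0),1)] (.node [] (.node [] (.node [] .nil (.node [] .nil (.node [(73,(.ofNat 1),1)] .nil .nil))) .nil) (.node [(68,(.ofNat 1),1)] (.node [] .nil (.node [(57,(.ofNat 1),1)] .nil .nil)) (.node [(38,(.ofNat 1),1)] (.node [] .nil (.node [(70,(.negSucc 0),1)] .nil .nil)) (.node [(63,(.ofNat 1),1)] .nil .nil)))) (.node [(68,(.ofNat 1),1)] (.node [] (.node [] .nil (.node [] .nil (.node [(75,(.negSucc 0),1)] .nil .nil))) (.node [(36,(.negSucc 0),1)] .nil .nil)) (.node [] .nil (.node [(0,(.ofNat 1),1),(1,(.ofNat 1),1),(2,(.ofNat 1),1),(3,(.ofNat 1),1),(4,(.ofNat 1),1),(68,(.negSucc 0),2)] (.node [] .nil (.node [(72,(.ofNat 1),1)] .nil .nil)) (.node [(65,(.negSucc 0),1)] .nil .nil))))))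
noncomputable def ex63 : Trie (List (ℕ × ℤ × ℕ)) := (.node [(69,(.negSucc 0),1)] (.node [] (.node [] (.node [] (.node [] .nil (.node [(44,(.ofNat 1),1)] .nil .nil)) (.node [(33,(.negSucc 0),1)] .nil .nil)) (.node [] (.node [] .nil (.node [(55,(.negSucc 0),1)] .nil .nil)) (.node [(38,(.ofNat 1),1)] .nil (.node [(63,(.ofNat 1),1)] .nil .nil)))) (.node [] (.node [] (.node [] .nil (.node [] .nil (.node [(75,(.ofNat 1),1)] .nil .nil))) .nil) (.node [(24,(.ofNat 1),1)] .nil (.node [(0,(.ofNat 1),1),(1,(.ofNat 1),1),(2,(.ofNat 1),1),(3,(.ofNat 1),1),(4,(.ofNat 1),1),(5,(.ofNat 1),1),(69,(.negSucc 0),2)] (.node [] .nil (.node [(72,(.negSucc 0),1)] .nil .nil)) .nil)))) (.node [(69,(.negSucc 0),1)] (.node [] (.node [] (.node [] .nil (.node [(52,(.ofNat 1),1)] .nil (.node [(74,(.ofNat 1),1)] .nil .nil))) (.node [(34,(.negSucc 0),1)] (.node [] .nil (.node [(68,(.negSucc 0),1)] .nil .nil)) (.node [(62,(.negSucc 0),1)] .nil .nil))) (.node [(69,(.negSucc 0),1)]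 (.node [] (.node [] (.node [] .nil (.node [] .nil .nil)) .nil) (.node [(58,(.ofNat 1),1)] .nil .nil)) (.node [] (.node [] .nil (.node [(71,(.negSucc 0),1)] .nil .nil)) .nil))) (.node [(69,(.ofNat 1),1)] (.node [] .nil (.node [(37,(.ofNat 1),1)] .nil (.node [] .nil (.node [(77,(.negSucc 0),1)] .nil .nil)))) (.node [] (.node [] (.node [] .nil (.node [(67,(.negSucc 0),1)] .nil .nil)) .nil) (.node [(42,(.ofNat 1),1)] .nil (.node [(66,(.negSucc 0),1)] .nil .nil))))))
noncomputable def ex64 : Trie (List (ℕ × ℤ × ℕ)) := (.node [(70,(.negSucc 0),1)] (.node [] (.node [] (.node [] (.node [] .nil (.node [(46,(.negSucc 0),1)] .nil (.node [(73,(.negSucc 0),1)] .nil .nil))) (.node [] .nil (.node [(62,(.negSucc 0),1)] .nil .nil))) (.node [] .nil (.node [(41,(.ofNat 1),1)] (.node [] .nil (.node [(72,(.ofNat 1),1)] .nil .nil)) .nil))) (.node [(70,(.ofNat 1),1)] (.node [] (.node [] .nil (.node [(53,(.ofNat 1),1)] .nil .nil)) (.node [(35,(.ofNat 1),1)] (.node [] .nil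 (.node [(71,(.negSucc 0),1)] .nil .nil)) (.node [] .nil (.node [(77,(.negSucc 0),1)] .nil .nil)))) (.node [(25,(.ofNat 1),1)] (.node [] (.node [] (.node [] .nil (.node [] .nil .nil)) (.node [(68,(.negSucc 0),1)] .nil .nil)) .nil) (.node [] .nil (.node [(65,(.negSucc 0),1)] .nil .nil))))) (.node [] (.node [] .nil (.node [(70,(.ofNat 1),1)] (.node [] (.node [] .nil (.node [(67,(.ofNat 1),1)] .nil .nil)) (.node [(59,(.ofNat 1),1)] .nil .nil)) (.node [(0,(.ofNat 1),1),(1,(.ofNat 1),1),(2,(.ofNat 1),1),(3,(.ofNat 2),1),(4,(.ofNat 1),1),(70,(.negSucc 0),2)] .nil (.node [(64,(.ofNat 1),1)] .nil .nil)))) (.node [(70,(.negSucc 0),1)] (.node [] (.node [] .nil (.node [(54,(.negSucc 0),1)] .nil (.node [(76,(.negSucc 0),1)] .nil .nil))) (.node [(39,(.negSucc 0),1)] .nil .nil)) (.node [(32,(.ofNat 1),1)] .nil (.node [(45,(.ofNat 1),1)] .nil .nil)))))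
noncomputable def ex65 : Trie (List (ℕ × ℤ × ℕ)) := (.node [(71,(.negSucc 0),1)] (.node [] (.node [] (.node [] (.node [] .nil (.node [(47,(.negSucc 0),1)] .nil (.node [(74,(.negSucc 0),1)] .nil .nil))) .nil) (.node [(71,(.ofNat 1),1)] (.node [] (.node [] .nil (.node [(67,(.ofNat 1),1)] .nil .nil)) .nil) (.node [(0,(.ofNat 1),1),(1,(.ofNat 1),1),(2,(.ofNat 1),1),(3,(.ofNat 2),1),(4,(.ofNat 1),1),(5,(.ofNat 1),1),(71,(.negSucc 0),2)] .nil (.node [(64,(.ofNat 1),1)] .nil .nil)))) (.node [(71,(.ofNat 1),1)] (.node [] (.node [] .nil (.node [] .nil (.node [(76,(.ofNat 1),1)] .nil .nil))) .nil) (.node [(26,(.negSucc 0),1)] (.node [] (.node [] .nil (.node [(69,(.negSucc 0),1)] .nil .nil)) .nil) (.node [(45,(.ofNat 1),1)] .nil (.node [(66,(.negSucc 0),1)] .nil .nil))))) (.node [] (.node [] (.node [] (.node [] .nil (.node [(53,(.ofNat 1),1)] .nil .nil)) (.node [(35,(.ofNat 1),1)] (.node [] .nil (.node [(70,(.negSucc 0),1)] .nil .nil)) (.node [] .nil (.node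 [(77,(.ofNat 1),1)] .nil .nil)))) (.node [(71,(.negSucc 0),1)] (.node [] .nil (.node [(60,(.ofNat 1),1)] .nil .nil)) (.node [(42,(.ofNat 1),1)] .nil .nil))) (.node [(71,(.negSucc 0),1)] (.node [] (.node [] .nil (.node [(55,(.negSucc 0),1)] .nil .nil)) (.node [(40,(.ofNat 1),1)] (.node [] .nil (.node [(72,(.negSucc 0),1)] .nil .nil)) .nil)) (.node [(33,(.negSucc 0),1)] (.node [] (.node [] (.node [] .nil (.node [] .nil .nil)) .nil) (.node [(62,(.negSucc 0),1)] .nil .nil)) .nil))))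
noncomputable def ex66 : Trie (List (ℕ × ℤ × ℕ)) := (.node [(72,(.negSucc 0),1)] (.node [] (.node [] (.node [] (.node [] .nil (.node [] .nil (.node [(75,(.negSucc 0),1)] .nil .nil))) (.node [(35,(.ofNat 1),1)] (.node [] (.node [] .nil (.node [] .nil .nil)) (.node [(71,(.negSucc 0),1)] .nil .nil)) (.node [] .nil (.node [(77,(.negSucc 0),1)] .nil .nil)))) (.node [(72,(.negSucc 0),1)] (.node [] (.node [] .nil (.node [(68,(.ofNat 1),1)] .nil .nil)) .nil) (.node [(43,(.ofNat 1),1)] .nil (.node [(65,(.ofNat 1),1)] .nil .nil)))) (.node [(72,(.ofNat 1),1)] (.node [] (.node [] .nil (.node [(55,(.negSucc 0),1)] .nil .nil)) .nil) (.node [(27,(.ofNat 1),1)] (.node [] .nil (.node [(62,(.negSucc 0),1)] .nil .nil)) (.node [(46,(.ofNat 1),1)] .nil .nil)))) (.node [] (.node [] (.node [] (.node [] .nil (.node [(54,(.ofNat 1),1)] .nil (.node [(76,(.negSucc 0),1)] .nil .nil))) .nil) (.node [] (.node [] (.node [] .nil (.node [(69,(.negSucc 0),1)] .nil .nil)) (.node [(61,(.ofNat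 1),1)] .nil .nil)) (.node [(44,(.negSucc 0),1)] .nil (.node [(66,(.negSucc 0),1)] .nil .nil)))) (.node [] (.node [] .nil (.node [(0,(.ofNat 1),1),(1,(.ofNat 1),1),(2,(.ofNat 1),1),(3,(.ofNat 2),1),(4,(.ofNat 2),1),(5,(.ofNat 1),1),(72,(.negSucc 0),2)] .nil .nil)) (.node [(34,(.ofNat 1),1)] (.node [] (.node [] .nil (.node [(70,(.ofNat 1),1)] .nil .nil)) .nil) (.node [(47,(.negSucc 0),1)] .nil .nil)))))
noncomputable def ex67 : Trie (List (ℕ × ℤ × ℕ)) := (.node [] (.node [] (.node [] (.node [] (.node [] .nil (.node [(50,(.ofNat 1),1)] .nil .nil)) (.node [(39,(.negSucc 0),1)] .nil (.node [(63,(.negSucc 0),1)] .nil .nil))) (.node [] (.node [] .nil (.node [(59,(.ofNat 1),1)] .nil .nil)) (.node [] (.node [] .nil (.node [(75,(.ofNat 1),1)] .nil .nil)) .nil))) (.node [(73,(.negSucc 0),1)] (.node [] (.node [] (.node [] .nil (.node [(68,(.ofNat 1),1)] .nil .nil)) (.node [(56,(.ofNat 1),1)] .nil .nil)) (.node [(0,(.ofNat 1),1),(1,(.ofNat 1),1),(2,(.ofNat 2),1),(3,(.ofNat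 2),1),(4,(.ofNat 1),1),(73,(.negSucc 0),2)] (.node [] .nil (.node [(74,(.negSucc 0),1)] .nil .nil)) (.node [(64,(.ofNat 1),1)] .nil .nil))) (.node [(28,(.negSucc 0),1)] .nil .nil))) (.node [] (.node [] (.node [] (.node [] (.node [] .nil (.node [(67,(.negSucc 0),1)] .nil .nil)) .nil) (.node [(41,(.ofNat 1),1)] (.node [] (.node [] .nil (.node [] .nil .nil)) .nil) .nil)) (.node [(73,(.ofNat 1),1)] .nil (.node [(48,(.ofNat 1),1)] .nil .nil))) (.node [] (.node [] (.node [] (.node [] .nil (.node [(70,(.negSucc 0),1)] .nil .nil)) (.node [(57,(.negSucc 0),1)] .nil .nil)) (.node [] .nil (.node [(65,(.negSucc 0),1)] .nil .nil))) (.node [(36,(.ofNat 1),1)] (.node [] .nil (.node [] .nil (.node [(77,(.ofNat 1),1)] .nil .nil))) (.node [(49,(.negSucc 0),1)] (.node [] .nil (.node [(76,(.negSucc 0),1)] .nil .nil)) .nil)))))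
noncomputable def ex68 : Trie (List (ℕ × ℤ × ℕ)) := (.node [] (.node [] (.node [] (.node [] (.node [] (.node [] .nil (.node [(67,(.negSucc 0),1)] .nil .nil)) (.node [(51,(.ofNat 1),1)] .nil .nil)) (.node [(40,(.ofNat 1),1)] .nil .nil)) (.node [(74,(.ofNat 1),1)] (.node [] .nil (.node [(60,(.ofNat 1),1)] .nil .nil)) (.node [(48,(.ofNat 1),1)] .nil .nil))) (.node [(74,(.negSucc 0),1)] (.node [] (.node [] (.node [] .nil (.node [(69,(.ofNat 1),1)] .nil .nil)) .nil) (.node [(42,(.ofNat 1),1)] (.node [] (.node [] .nil (.node [] .nil .nil)) .nil) .nil)) (.node [(29,(.ofNat 1),1)] (.node [] .nil (.node [] .nil (.node [(77,(.negSucc 0),1)] .nil .nil))) (.node [(49,(.negSucc 0),1)] (.node [] .nil (.node [(76,(.ofNat 1),1)] .nil .nil)) .nil)))) (.node [] (.node [] (.node [] (.node [] .nil (.node [(56,(.ofNat 1),1)] .nil .nil)) (.node [(0,(.ofNat 1),1),(1,(.ofNat 1),1),(2,(.ofNat 2),1),(3,(.ofNat 2),1),(4,(.ofNat 1),1),(5,(.ofNat 1),1),(74,(.negSucc 0),2)] (.node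 [] .nil (.node [(73,(.negSucc 0),1)] .nil .nil)) (.node [(64,(.ofNat 1),1)] .nil .nil))) (.node [(74,(.negSucc 0),1)] .nil .nil)) (.node [] (.node [] (.node [] (.node [] .nil (.node [(71,(.negSucc 0),1)] .nil .nil)) (.node [(58,(.negSucc 0),1)] .nil .nil)) (.node [] (.node [] .nil (.node [(75,(.negSucc 0),1)] .nil .nil)) (.node [(66,(.negSucc 0),1)] .nil .nil))) (.node [(37,(.negSucc 0),1)] (.node [] .nil (.node [(63,(.negSucc 0),1)] .nil .nil)) .nil))))
noncomputable def ex69 : Trie (List (ℕ × ℤ × ℕ)) := (.node [] (.node [] (.node [] (.node [] (.node [] (.node [] .nil (.node [(68,(.negSucc 0),1)] .nil .nil)) .nil) (.node [(0,(.ofNat 1),1),(1,(.ofNat 1),1),(2,(.ofNat 2),1),(3,(.ofNat 2),1),(4,(.ofNat 2),1),(5,(.ofNat 1),1),(75,(.negSucc 0),2)] (.node [] .nil (.node [(74,(.negSucc 0),1)] .nil .nil)) .nil)) (.node [(75,(.negSucc 0),1)] (.node [] .nil (.node [(61,(.ofNat 1),1)] .nil .nil)) .nil)) (.node [(75,(.negSucc 0),1)] (.node [] (.node [] .nil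 (.node [(58,(.negSucc 0),1)] .nil .nil)) (.node [(44,(.negSucc 0),1)] .nil (.node [(66,(.negSucc 0),1)] .nil .nil))) (.node [(30,(.negSucc 0),1)] (.node [] .nil (.node [(63,(.negSucc 0),1)] .nil .nil)) (.node [(50,(.negSucc 0),1)] .nil .nil)))) (.node [] (.node [] (.node [] (.node [] (.node [] .nil (.node [(69,(.ofNat 1),1)] .nil .nil)) (.node [(57,(.ofNat 1),1)] .nil .nil)) (.node [(43,(.ofNat 1),1)] .nil (.node [(65,(.ofNat 1),1)] .nil .nil))) (.node [] (.node [] .nil (.node [] .nil (.node [(77,(.ofNat 1),1)] .nil .nil))) (.node [] (.node [] .nil (.node [(76,(.negSucc 0),1)] .nil .nil)) .nil))) (.node [(75,(.ofNat 1),1)] (.node [] (.node [] (.node [] .nil (.node [(72,(.negSucc 0),1)] .nil .nil)) .nil) (.node [(48,(.ofNat 1),1)] (.node [] (.node [] .nil (.node [] .nil .nil)) .nil) .nil)) (.node [(38,(.ofNat 1),1)] (.node [] (.node [] .nil (.node [(73,(.ofNat 1),1)] .nil .nil)) .nil) (.node [(51,(.ofNat 1),1)] .nil .nil)))))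
noncomputable def ex70 : Trie (List (ℕ × ℤ × ℕ)) := (.node [] (.node [] (.node [] (.node [] (.node [] (.node [] .nil (.node [(70,(.negSucc 0),1)] .nil .nil)) .nil) (.node [(45,(.ofNat 1),1)] .nil (.node [(66,(.negSucc 0),1)] .nil .nil))) (.node [] (.node [] (.node [] .nil (.node [(73,(.negSucc 0),1)] .nil .nil)) (.node [] .nil (.node [(77,(.negSucc 0),1)] .nil .nil))) (.node [(50,(.negSucc 0),1)] (.node [] (.node [] .nil (.node [] .nil .nil)) .nil) .nil))) (.node [] (.node [] (.node [] (.node [] .nil (.node [(72,(.negSucc 0),1)] .nil .nil)) (.node [(60,(.negSucc 0),1)] .nil .nil)) (.node [(47,(.ofNat 1),1)] .nil .nil)) (.node [(31,(.ofNat 1),1)] (.node [] (.node [] .nil (.node [(75,(.negSucc 0),1)] .nil .nil)) (.node [(64,(.negSucc 0),1)] .nil .nil)) .nil))) (.node [(76,(.ofNat 1),1)] (.node [] (.node [] (.node [] (.node [] .nil (.node [(71,(.ofNat 1),1)] .nil .nil)) (.node [(59,(.ofNat 1),1)] .nil .nil)) (.node [(46,(.negSucc 0),1)] .nil .nil)) (.node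 [] (.node [] (.node [] .nil (.node [(74,(.ofNat 1),1)] .nil .nil)) .nil) (.node [(51,(.ofNat 1),1)] .nil .nil))) (.node [(76,(.negSucc 0),1)] (.node [] (.node [] .nil (.node [(61,(.ofNat 1),1)] .nil .nil)) (.node [(49,(.ofNat 1),1)] .nil .nil)) (.node [(0,(.ofNat 1),1),(1,(.ofNat 1),1),(2,(.ofNat 2),1),(3,(.ofNat 3),1),(4,(.ofNat 2),1),(5,(.ofNat 1),1),(76,(.negSucc 0),2)] (.node [] .nil (.node [(65,(.ofNat 1),1)] .nil .nil)) .nil))))
noncomputable def ex71 : Trie (List (ℕ × ℤ × ℕ)) := (.node [] (.node [] (.node [] (.node [] (.node [] .nil (.node [(61,(.ofNat 1),1)] .nil .nil)) (.node [(53,(.negSucc 0),1)] .nil (.node [(69,(.negSucc 0),1)] .nil .nil))) (.node [] .nil (.node [(57,(.negSucc 0),1)] .nil (.node [(73,(.ofNat 1),1)] .nil .nil)))) (.node [] (.node [] .nil (.node [(55,(.negSucc 0),1)] .nil (.node [(71,(.ofNat 1),1)] .nil .nil))) (.node [(0,(.ofNat 1),1),(1,(.ofNat 2),1),(2,(.ofNat 2),1),(3,(.ofNat 3),1),(4,(.ofNat 2),1),(5,(.ofNat 1),1),(77,(.negSucc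 0),2)] (.node [] .nil (.node [(67,(.negSucc 0),1)] .nil .nil)) (.node [(59,(.ofNat 1),1)] .nil (.node [(75,(.ofNat 1),1)] .nil .nil))))) (.node [(77,(.negSucc 0),1)] (.node [] (.node [] .nil (.node [(54,(.ofNat 1),1)] .nil (.node [(70,(.negSucc 0),1)] .nil .nil))) (.node [] .nil (.node [(58,(.ofNat 1),1)] (.node [] (.node [] .nil (.node [] .nil .nil)) .nil) (.node [(74,(.negSucc 0),1)] .nil .nil)))) (.node [] (.node [] .nil (.node [(56,(.ofNat 1),1)] .nil (.node [(72,(.negSucc 0),1)] .nil .nil))) (.node [(52,(.ofNat 1),1)] (.node [] .nil (.node [(68,(.ofNat 1),1)] .nil .nil)) (.node [(60,(.negSucc 0),1)] .nil (.node [(76,(.negSucc 0),1)] .nil .nil))))))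
noncomputable def ex : Trie (Trie (List (ℕ × ℤ × ℕ))) := (.node ex0 (.node .nil (.node .nil (.node .nil (.node .nil (.node .nil (.node .nil .nil (.node ex64 .nil .nil)) (.node ex32 .nil .nil)) (.node ex16 .nil (.node ex48 .nil .nil))) (.node ex8 (.node .nil .nil (.node ex40 .nil .nil)) (.node ex24 .nil (.node ex56 .nil .nil)))) (.node ex4 (.node .nil (.node .nil (.node .nil .nil (.node ex68 .nil .nil)) (.node ex36 .nil .nil)) (.node ex20 .nil (.node ex52 .nil .nil))) (.node ex12 (.node .nil .nil (.node ex44 .nil .nil)) (.node ex28 .nil (.node ex60 .nil .nil))))) (.node ex2 (.node .nil (.node .nil (.node .nil (.node .nil .nil (.node ex66 .nil .nil)) (.node ex34 .nil .nil)) (.node ex18 .nil (.node ex50 .nil .nil))) (.node ex10 (.node .nil .nil (.node ex42 .nil .nil)) (.node ex26 .nil (.node ex58 .nil .nil)))) (.node ex6 (.node .nil (.node .nil (.node .nil .nil (.node ex70 .nil .nil)) (.node ex38 .nil .nil)) (.node ex22 .nil (.node ex54 .nil .nil)))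 (.node ex14 (.node .nil .nil (.node ex46 .nil .nil)) (.node ex30 .nil (.node ex62 .nil .nil)))))) (.node ex1 (.node .nil (.node .nil (.node .nil (.node .nil (.node .nil .nil (.node ex65 .nil .nil)) (.node ex33 .nil .nil)) (.node ex17 .nil (.node ex49 .nil .nil))) (.node ex9 (.node .nil .nil (.node ex41 .nil .nil)) (.node ex25 .nil (.node ex57 .nil .nil)))) (.node ex5 (.node .nil (.node .nil (.node .nil .nil (.node ex69 .nil .nil)) (.node ex37 .nil .nil)) (.node ex21 .nil (.node ex53 .nil .nil))) (.node ex13 (.node .nil .nil (.node ex45 .nil .nil)) (.node ex29 .nil (.node ex61 .nil .nil))))) (.node ex3 (.node .nil (.node .nil (.node .nil (.node .nil .nil (.node ex67 .nil .nil)) (.node ex35 .nil .nil)) (.node ex19 .nil (.node ex51 .nil .nil))) (.node ex11 (.node .nil .nil (.node ex43 .nil .nil)) (.node ex27 .nil (.node ex59 .nil .nil)))) (.node ex7 (.node .nil (.node .nil (.node .nil .nil (.node ex71 .nil .nil)) (.node ex39 .nil .nil)) (.node ex23 .nil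 (.node ex55 .nil .nil))) (.node ex15 (.node .nil .nil (.node ex47 .nil .nil)) (.node ex31 .nil (.node ex63 .nil .nil)))))))
noncomputable def nt5 : Trie (List (ℕ × ℤ)) := (.node [(0,(.ofNat 1))] (.node [] (.node [] (.node [] (.node [] (.node [] (.node [] .nil (.node [(64,(.ofNat 1))] .nil .nil)) (.node [(33,(.negSucc 0))] .nil .nil)) (.node [(16,(.ofNat 1))] .nil (.node [(48,(.ofNat 1))] .nil .nil))) (.node [(8,(.ofNat 1))] (.node [] (.node [] .nil (.node [(72,(.ofNat 1))] .nil .nil)) (.node [(39,(.ofNat 1))] .nil .nil)) (.node [(23,(.ofNat 1))] .nil (.node [(56,(.ofNat 1))] .nil .nil)))) (.node [(4,(.ofNat 1)),(5,(.ofNat 1))] (.node [] (.node [] (.node [] .nil (.node [(69,(.ofNat 1))] .nil .nil)) (.node [(37,(.negSucc 0))] .nil .nil)) (.node [(20,(.ofNat 1))] .nil (.node [(52,(.ofNat 1))] .nil .nil))) (.node [(13,(.negSucc 0))] (.node [] (.node [] .nil (.node [(76,(.ofNat 1))] .nil .nil)) (.node [(43,(.negSucc 0))] .nil .nil)) (.node [(29,(.negSucc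 0))] .nil (.node [(59,(.negSucc 0))] .nil .nil))))) (.node [(2,(.ofNat 1))] (.node [] (.node [] (.node [] (.node [] .nil (.node [(65,(.negSucc 0))] .nil .nil)) (.node [(34,(.ofNat 1))] .nil .nil)) (.node [(17,(.ofNat 1))] .nil (.node [(51,(.ofNat 1))] .nil .nil))) (.node [(9,(.ofNat 1))] (.node [] (.node [] .nil (.node [(73,(.negSucc 0))] .nil .nil)) (.node [(41,(.negSucc 0))] .nil .nil)) (.node [(25,(.ofNat 1))] .nil (.node [(57,(.negSucc 0))] .nil .nil)))) (.node [(6,(.ofNat 1))] (.node [] (.node [] (.node [] .nil (.node [(71,(.ofNat 1))] .nil .nil)) (.node [(38,(.ofNat 1))] .nil .nil)) (.node [(22,(.ofNat 1))] .nil (.node [(55,(.ofNat 1))] .nil .nil))) (.node [(15,(.negSucc 0))] (.node [] .nil (.node [(47,(.ofNat 1))] .nil .nil)) (.node [(30,(.ofNat 1))] .nil (.node [(62,(.ofNat 1))] .nil .nil)))))) (.node [(1,(.ofNat 1))] (.node [] (.node [] (.node [] (.node [] (.node [] .nil (.node [(66,(.ofNat 1))] .nil .nil)) (.node [(32,(.ofNat 1))] .nil .nil))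 (.node [(18,(.negSucc 0))] .nil (.node [(49,(.ofNat 1))] .nil .nil))) (.node [(10,(.negSucc 0))] (.node [] (.node [] .nil (.node [(74,(.ofNat 1))] .nil .nil)) (.node [(42,(.negSucc 0))] .nil .nil)) (.node [(26,(.negSucc 0))] .nil (.node [(58,(.ofNat 1))] .nil .nil)))) (.node [(5,(.negSucc 0))] (.node [] (.node [] (.node [] .nil (.node [(68,(.negSucc 0))] .nil .nil)) (.node [(36,(.ofNat 1))] .nil .nil)) (.node [(21,(.ofNat 1))] .nil (.node [(53,(.ofNat 1))] .nil .nil))) (.node [(12,(.ofNat 1))] (.node [] (.node [] .nil (.node [(77,(.ofNat 1))] .nil .nil)) (.node [(45,(.ofNat 1))] .nil .nil)) (.node [(28,(.ofNat 1))] .nil (.node [(61,(.ofNat 1))] .nil .nil))))) (.node [(3,(.ofNat 1))] (.node [] (.node [] (.node [] (.node [] .nil (.node [(67,(.ofNat 1))] .nil .nil)) (.node [(35,(.ofNat 1))] .nil .nil)) (.node [(19,(.ofNat 1))] .nil (.node [(50,(.negSucc 0))] .nil .nil))) (.node [(11,(.ofNat 1))] (.node [] (.node [] .nil (.node [(75,(.ofNat 1))] .nil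 .nil)) (.node [(44,(.ofNat 1))] .nil .nil)) (.node [(27,(.ofNat 1))] .nil (.node [(60,(.ofNat 1))] .nil .nil)))) (.node [(7,(.ofNat 1))] (.node [] (.node [] (.node [] .nil (.node [(70,(.negSucc 0))] .nil .nil)) (.node [(40,(.negSucc 0))] .nil .nil)) (.node [(24,(.negSucc 0))] .nil (.node [(54,(.negSucc 0))] .nil .nil))) (.node [(14,(.ofNat 1))] (.node [] .nil (.node [(46,(.negSucc 0))] .nil .nil)) (.node [(31,(.ofNat 1))] .nil (.node [(63,(.ofNat 1))] .nil .nil)))))))
noncomputable def nt4 : Trie (List (ℕ × ℤ)) := (.node [(0,(.ofNat 1))] (.node [] (.node [] (.node [] (.node [] (.node [] (.node [] .nil (.node [(65,(.ofNat 1))] .nil .nil)) (.node [(32,(.ofNat 1))] .nil .nil)) (.node [(15,(.ofNat 1))] .nil (.node [(48,(.ofNat 1))] .nil .nil))) (.node [(9,(.negSucc 0))] (.node [] (.node [] .nil (.node [(71,(.negSucc 0))] .nil .nil)) (.node [(43,(.negSucc 0))] .nil .nil)) (.node [(24,(.ofNat 1))] .nil (.node [(57,(.ofNat 1))] .nil .nil)))) (.node [(4,(.negSucc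 0))] (.node [] (.node [] (.node [] .nil (.node [(67,(.negSucc 0))] .nil .nil)) (.node [(36,(.ofNat 1))] .nil .nil)) (.node [(20,(.ofNat 1))] .nil (.node [(52,(.ofNat 1))] .nil .nil))) (.node [(11,(.ofNat 1))] (.node [] (.node [] .nil (.node [(76,(.ofNat 1))] .nil .nil)) (.node [(42,(.ofNat 1))] .nil .nil)) (.node [(28,(.ofNat 1))] .nil (.node [(61,(.ofNat 1))] .nil .nil))))) (.node [(2,(.ofNat 1))] (.node [] (.node [] (.node [] (.node [] .nil (.node [(66,(.ofNat 1))] .nil .nil)) (.node [(33,(.ofNat 1))] .nil .nil)) (.node [(19,(.negSucc 0))] .nil (.node [(49,(.negSucc 0))] .nil .nil))) (.node [(10,(.ofNat 1))] (.node [] (.node [] .nil (.node [(75,(.ofNat 1))] .nil .nil)) (.node [(44,(.negSucc 0))] .nil .nil)) (.node [(27,(.negSucc 0))] .nil (.node [(58,(.ofNat 1))] .nil .nil)))) (.node [(6,(.ofNat 1))] (.node [] (.node [] (.node [] .nil (.node [(70,(.ofNat 1))] .nil .nil)) (.node [(37,(.ofNat 1))] .nil .nil)) (.node [(23,(.negSucc 0))] .nil (.node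 [(53,(.negSucc 0))] .nil .nil))) (.node [(14,(.ofNat 1))] (.node [] .nil (.node [(45,(.negSucc 0))] .nil .nil)) (.node [(29,(.ofNat 1))] .nil (.node [(62,(.ofNat 1))] .nil .nil)))))) (.node [(1,(.ofNat 1))] (.node [] (.node [] (.node [] (.node [] (.node [] .nil (.node [(64,(.negSucc 0))] .nil .nil)) (.node [(34,(.negSucc 0))] .nil .nil)) (.node [(17,(.ofNat 1))] .nil (.node [(50,(.ofNat 1))] .nil .nil))) (.node [(8,(.ofNat 1))] (.node [] (.node [] .nil (.node [(73,(.ofNat 1))] .nil .nil)) (.node [(39,(.negSucc 0))] .nil .nil)) (.node [(25,(.ofNat 1))] .nil (.node [(56,(.negSucc 0))] .nil .nil)))) (.node [(4,(.ofNat 1)),(5,(.ofNat 1))] (.node [] (.node [] (.node [] .nil (.node [(69,(.ofNat 1))] .nil .nil)) (.node [(38,(.negSucc 0))] .nil .nil)) (.node [(21,(.ofNat 1))] .nil (.node [(54,(.ofNat 1))] .nil .nil))) (.node [(13,(.ofNat 1))] (.node [] (.node [] .nil (.node [(77,(.ofNat 1))] .nil .nil)) (.node [(46,(.ofNat 1))] .nil .nil)) (.node [(30,(.negSucc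 0))] .nil (.node [(60,(.negSucc 0))] .nil .nil))))) (.node [(3,(.ofNat 1)),(4,(.ofNat 1))] (.node [] (.node [] (.node [] (.node [] .nil (.node [(68,(.ofNat 1))] .nil .nil)) (.node [(35,(.ofNat 1))] .nil .nil)) (.node [(18,(.ofNat 1))] .nil (.node [(51,(.ofNat 1))] .nil .nil))) (.node [(12,(.negSucc 0))] (.node [] (.node [] .nil (.node [(74,(.negSucc 0))] .nil .nil)) (.node [(40,(.negSucc 0))] .nil .nil)) (.node [(26,(.ofNat 1))] .nil (.node [(59,(.ofNat 1))] .nil .nil)))) (.node [(7,(.ofNat 1))] (.node [] (.node [] (.node [] .nil (.node [(72,(.ofNat 1))] .nil .nil)) (.node [(41,(.ofNat 1))] .nil .nil)) (.node [(22,(.ofNat 1))] .nil (.node [(55,(.ofNat 1))] .nil .nil))) (.node [(16,(.negSucc 0))] (.node [] .nil (.node [(47,(.ofNat 1))] .nil .nil)) (.node [(31,(.ofNat 1))] .nil (.node [(63,(.ofNat 1))] .nil .nil)))))))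
noncomputable def nt3 : Trie (List (ℕ × ℤ)) := (.node [(0,(.ofNat 1))] (.node [] (.node [] (.node [] (.node [] (.node [] (.node [] .nil (.node [(63,(.negSucc 0))] .nil .nil)) (.node [(32,(.ofNat 1))] .nil .nil)) (.node [(16,(.ofNat 1))] .nil (.node [(49,(.ofNat 1))] .nil .nil))) (.node [(7,(.ofNat 1))] (.node [] (.node [] .nil (.node [(72,(.ofNat 1))] .nil .nil)) (.node [(37,(.negSucc 0))] .nil .nil)) (.node [(26,(.negSucc 0))] .nil (.node [(56,(.ofNat 1))] .nil .nil)))) (.node [(3,(.ofNat 1)),(4,(.ofNat 1))] (.node [] (.node [] (.node [] .nil (.node [(70,(.ofNat 1))] .nil .nil)) (.node [(39,(.ofNat 1))] .nil .nil)) (.node [(19,(.ofNat 1))] .nil (.node [(53,(.ofNat 1))] .nil .nil))) (.node [(14,(.negSucc 0))] (.node [] (.node [] .nil (.node [(75,(.negSucc 0))] .nil .nil)) (.node [(47,(.negSucc 0))] .nil .nil)) (.node [(28,(.ofNat 1))] .nil (.node [(58,(.negSucc 0))] .nil .nil))))) (.node [(2,(.ofNat 1)),(3,(.ofNat 1))] (.node [] (.node [] (.node []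 (.node [] .nil (.node [(66,(.ofNat 1))] .nil .nil)) (.node [(35,(.negSucc 0))] .nil .nil)) (.node [(18,(.ofNat 1))] .nil (.node [(50,(.ofNat 1))] .nil .nil))) (.node [(10,(.ofNat 1))] (.node [] (.node [] .nil (.node [(74,(.ofNat 1))] .nil .nil)) (.node [(42,(.ofNat 1))] .nil .nil)) (.node [(24,(.ofNat 1))] .nil (.node [(60,(.ofNat 1))] .nil .nil)))) (.node [(6,(.ofNat 1))] (.node [] (.node [] (.node [] .nil (.node [(68,(.negSucc 0))] .nil .nil)) (.node [(45,(.negSucc 0))] .nil .nil)) (.node [(22,(.ofNat 1))] .nil (.node [(54,(.ofNat 1))] .nil .nil))) (.node [(12,(.ofNat 1))] (.node [] .nil (.node [(43,(.ofNat 1))] .nil .nil)) (.node [(31,(.negSucc 0))] .nil (.node [(62,(.ofNat 1))] .nil .nil)))))) (.node [(1,(.ofNat 1)),(3,(.ofNat 1))] (.node [] (.node [] (.node [] (.node [] (.node [] .nil (.node [(65,(.ofNat 1))] .nil .nil)) (.node [(33,(.ofNat 1))] .nil .nil)) (.node [(17,(.ofNat 1))] .nil (.node [(48,(.negSucc 0))] .nil .nil))) (.node [(9,(.ofNat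 1))] (.node [] (.node [] .nil (.node [(73,(.ofNat 1))] .nil .nil)) (.node [(41,(.ofNat 1))] .nil .nil)) (.node [(23,(.ofNat 1))] .nil (.node [(59,(.ofNat 1))] .nil .nil)))) (.node [(5,(.ofNat 1))] (.node [] (.node [] (.node [] .nil (.node [(71,(.ofNat 1))] .nil .nil)) (.node [(40,(.ofNat 1))] .nil .nil)) (.node [(21,(.ofNat 1))] .nil (.node [(52,(.negSucc 0))] .nil .nil))) (.node [(15,(.negSucc 0))] (.node [] (.node [] .nil (.node [(77,(.ofNat 1))] .nil .nil)) (.node [(38,(.negSucc 0))] .nil .nil)) (.node [(29,(.ofNat 1))] .nil (.node [(61,(.ofNat 1))] .nil .nil))))) (.node [(3,(.negSucc 0))] (.node [] (.node [] (.node [] (.node [] .nil (.node [(67,(.ofNat 1))] .nil .nil)) (.node [(34,(.ofNat 1))] .nil .nil)) (.node [(20,(.negSucc 0))] .nil (.node [(51,(.ofNat 1))] .nil .nil))) (.node [(11,(.ofNat 1))] (.node [] (.node [] .nil (.node [(76,(.ofNat 1))] .nil .nil)) (.node [(46,(.negSucc 0))] .nil .nil)) (.node [(27,(.ofNat 1))] .nil (.node [(57,(.negSucc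 0))] .nil .nil)))) (.node [(8,(.negSucc 0))] (.node [] (.node [] (.node [] .nil (.node [(69,(.negSucc 0))] .nil .nil)) (.node [(36,(.negSucc 0))] .nil .nil)) (.node [(25,(.negSucc 0))] .nil (.node [(55,(.ofNat 1))] .nil .nil))) (.node [(13,(.ofNat 1))] (.node [] .nil (.node [(44,(.ofNat 1))] .nil .nil)) (.node [(30,(.ofNat 1))] .nil (.node [(64,(.ofNat 1))] .nil .nil)))))))
noncomputable def nt2 : Trie (List (ℕ × ℤ)) := (.node [(0,(.ofNat 1)),(2,(.ofNat 1))] (.node [] (.node [] (.node [] (.node [] (.node [] (.node [] .nil (.node [(64,(.ofNat 1))] .nil .nil)) (.node [(36,(.ofNat 1))] .nil .nil)) (.node [(16,(.ofNat 1))] .nil (.node [(35,(.negSucc 0))] .nil .nil))) (.node [(11,(.negSucc 0))] (.node [] (.node [] .nil (.node [(75,(.ofNat 1))] .nil .nil)) (.node [(40,(.ofNat 1))] .nil .nil)) (.node [(24,(.ofNat 1))] .nil (.node [(53,(.negSucc 0))] .nil .nil)))) (.node [(4,(.ofNat 1))] (.node [] (.node [] (.node [] .nil (.node [(68,(.ofNat 1))] .nil .nil))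 (.node [(32,(.negSucc 0))] .nil .nil)) (.node [(21,(.negSucc 0))] .nil (.node [(52,(.ofNat 1))] .nil .nil))) (.node [(9,(.ofNat 1))] (.node [] (.node [] .nil (.node [(76,(.ofNat 1))] .nil .nil)) (.node [(44,(.ofNat 1))] .nil .nil)) (.node [(25,(.ofNat 1))] .nil (.node [(60,(.ofNat 1))] .nil .nil))))) (.node [(2,(.negSucc 0))] (.node [] (.node [] (.node [] (.node [] .nil (.node [(66,(.ofNat 1))] .nil .nil)) (.node [(38,(.ofNat 1))] .nil .nil)) (.node [(18,(.ofNat 1))] .nil (.node [(46,(.ofNat 1))] .nil .nil))) (.node [(13,(.negSucc 0))] (.node [] (.node [] .nil (.node [(71,(.negSucc 0))] .nil .nil)) (.node [(42,(.ofNat 1))] .nil .nil)) (.node [(29,(.negSucc 0))] .nil (.node [(55,(.negSucc 0))] .nil .nil)))) (.node [(6,(.ofNat 1))] (.node [] (.node [] (.node [] .nil (.node [(73,(.ofNat 1))] .nil .nil)) (.node [(34,(.negSucc 0))] .nil .nil)) (.node [(22,(.ofNat 1))] .nil (.node [(57,(.ofNat 1))] .nil .nil))) (.node [(14,(.ofNat 1))] (.node [] .nil (.node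 [(50,(.negSucc 0))] .nil .nil)) (.node [(27,(.ofNat 1))] .nil (.node [(63,(.ofNat 1))] .nil .nil)))))) (.node [(1,(.ofNat 1))] (.node [] (.node [] (.node [] (.node [] (.node [] .nil (.node [(65,(.ofNat 1))] .nil .nil)) (.node [(37,(.ofNat 1))] .nil .nil)) (.node [(17,(.ofNat 1))] .nil (.node [(45,(.ofNat 1))] .nil .nil))) (.node [(12,(.negSucc 0))] (.node [] (.node [] .nil (.node [(70,(.negSucc 0))] .nil .nil)) (.node [(41,(.ofNat 1))] .nil .nil)) (.node [(28,(.negSucc 0))] .nil (.node [(54,(.negSucc 0))] .nil .nil)))) (.node [(5,(.ofNat 1))] (.node [] (.node [] (.node [] .nil (.node [(69,(.ofNat 1))] .nil .nil)) (.node [(33,(.negSucc 0))] .nil .nil)) (.node [(20,(.ofNat 1))] .nil (.node [(56,(.ofNat 1))] .nil .nil))) (.node [(10,(.ofNat 1))] (.node [] (.node [] .nil (.node [(77,(.ofNat 1))] .nil .nil)) (.node [(49,(.negSucc 0))] .nil .nil)) (.node [(26,(.ofNat 1))] .nil (.node [(61,(.ofNat 1))] .nil .nil))))) (.node [(2,(.ofNat 1)),(3,(.ofNat 1))]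 (.node [] (.node [] (.node [] (.node [] .nil (.node [(67,(.ofNat 1))] .nil .nil)) (.node [(48,(.negSucc 0))] .nil .nil)) (.node [(19,(.ofNat 1))] .nil (.node [(47,(.ofNat 1))] .nil .nil))) (.node [(8,(.ofNat 1))] (.node [] (.node [] .nil (.node [(72,(.negSucc 0))] .nil .nil)) (.node [(43,(.ofNat 1))] .nil .nil)) (.node [(30,(.negSucc 0))] .nil (.node [(59,(.ofNat 1))] .nil .nil)))) (.node [(7,(.ofNat 1))] (.node [] (.node [] (.node [] .nil (.node [(74,(.ofNat 1))] .nil .nil)) (.node [(39,(.ofNat 1))] .nil .nil)) (.node [(23,(.ofNat 1))] .nil (.node [(58,(.ofNat 1))] .nil .nil))) (.node [(15,(.ofNat 1))] (.node [] .nil (.node [(51,(.negSucc 0))] .nil .nil)) (.node [(31,(.ofNat 1))] .nil (.node [(62,(.negSucc 0))] .nil .nil)))))))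
noncomputable def nt1 : Trie (List (ℕ × ℤ)) := (.node [(0,(.ofNat 1))] (.node [] (.node [] (.node [] (.node [] (.node [] (.node [] .nil (.node [(67,(.ofNat 1))] .nil .nil)) (.node [(25,(.ofNat 1))] .nil .nil)) (.node [(19,(.negSucc 0))] .nil (.node [(48,(.ofNat 1))] .nil .nil))) (.node [(8,(.ofNat 1))] (.node [] (.node [] .nil (.node [(72,(.ofNat 1))] .nil .nil)) (.node [(40,(.ofNat 1))] .nil .nil)) (.node [(24,(.ofNat 1))] .nil (.node [(49,(.negSucc 0))] .nil .nil)))) (.node [(4,(.ofNat 1))] (.node [] (.node [] (.node [] .nil (.node [(65,(.negSucc 0))] .nil .nil)) (.node [(28,(.negSucc 0))] .nil .nil)) (.node [(20,(.ofNat 1))] .nil (.node [(31,(.negSucc 0))] .nil .nil))) (.node [(12,(.ofNat 1))] (.node [] (.node [] .nil (.node [(77,(.ofNat 1))] .nil .nil)) (.node [(44,(.ofNat 1))] .nil .nil)) (.node [(36,(.ofNat 1))] .nil (.node [(60,(.ofNat 1))] .nil .nil))))) (.node [(2,(.ofNat 1))] (.node [] (.node [] (.node [] (.node [] .nil (.node [(69,(.ofNat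 1))] .nil .nil)) (.node [(27,(.ofNat 1))] .nil .nil)) (.node [(15,(.ofNat 1))] .nil (.node [(57,(.ofNat 1))] .nil .nil))) (.node [(10,(.ofNat 1))] (.node [] (.node [] .nil (.node [(74,(.ofNat 1))] .nil .nil)) (.node [(42,(.ofNat 1))] .nil .nil)) (.node [(33,(.negSucc 0))] .nil (.node [(51,(.negSucc 0))] .nil .nil)))) (.node [(7,(.negSucc 0))] (.node [] (.node [] (.node [] .nil (.node [(70,(.ofNat 1))] .nil .nil)) (.node [(30,(.negSucc 0))] .nil .nil)) (.node [(22,(.ofNat 1))] .nil (.node [(46,(.ofNat 1))] .nil .nil))) (.node [(17,(.negSucc 0))] (.node [] .nil (.node [(54,(.negSucc 0))] .nil .nil)) (.node [(38,(.ofNat 1))] .nil (.node [(62,(.ofNat 1))] .nil .nil)))))) (.node [(1,(.negSucc 0))] (.node [] (.node [] (.node [] (.node [] (.node [] .nil (.node [(68,(.ofNat 1))] .nil .nil)) (.node [(26,(.ofNat 1))] .nil .nil)) (.node [(14,(.ofNat 1))] .nil (.node [(56,(.ofNat 1))] .nil .nil))) (.node [(9,(.ofNat 1))] (.node [] (.node [] .nil (.node [(73,(.ofNat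 1))] .nil .nil)) (.node [(41,(.ofNat 1))] .nil .nil)) (.node [(32,(.negSucc 0))] .nil (.node [(50,(.negSucc 0))] .nil .nil)))) (.node [(5,(.ofNat 1))] (.node [] (.node [] (.node [] .nil (.node [(66,(.negSucc 0))] .nil .nil)) (.node [(29,(.negSucc 0))] .nil .nil)) (.node [(21,(.ofNat 1))] .nil (.node [(45,(.ofNat 1))] .nil .nil))) (.node [(13,(.ofNat 1))] (.node [] (.node [] .nil (.node [(76,(.negSucc 0))] .nil .nil)) (.node [(53,(.negSucc 0))] .nil .nil)) (.node [(37,(.ofNat 1))] .nil (.node [(61,(.ofNat 1))] .nil .nil))))) (.node [(1,(.ofNat 1)),(3,(.ofNat 1))] (.node [] (.node [] (.node [] (.node [] .nil (.node [(64,(.negSucc 0))] .nil .nil)) (.node [(35,(.ofNat 1))] .nil .nil)) (.node [(16,(.ofNat 1))] .nil (.node [(58,(.ofNat 1))] .nil .nil))) (.node [(11,(.ofNat 1))] (.node [] (.node [] .nil (.node [(75,(.ofNat 1))] .nil .nil)) (.node [(43,(.ofNat 1))] .nil .nil)) (.node [(34,(.negSucc 0))] .nil (.node [(59,(.ofNat 1))] .nil .nil)))) (.node [(6,(.ofNat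 1))] (.node [] (.node [] (.node [] .nil (.node [(71,(.ofNat 1))] .nil .nil)) (.node [(39,(.ofNat 1))] .nil .nil)) (.node [(23,(.ofNat 1))] .nil (.node [(47,(.ofNat 1))] .nil .nil))) (.node [(18,(.negSucc 0))] (.node [] .nil (.node [(55,(.negSucc 0))] .nil .nil)) (.node [(52,(.negSucc 0))] .nil (.node [(63,(.ofNat 1))] .nil .nil)))))))
noncomputable def nt0 : Trie (List (ℕ × ℤ)) := (.node [(0,(.negSucc 0))] (.node [] (.node [] (.node [] (.node [] (.node [] (.node [] .nil (.node [(49,(.ofNat 1))] .nil .nil)) (.node [(17,(.negSucc 0))] .nil .nil)) (.node [(27,(.ofNat 1))] .nil (.node [(63,(.negSucc 0))] .nil .nil))) (.node [(8,(.ofNat 1))] (.node [] (.node [] .nil (.node [(61,(.ofNat 1))] .nil .nil)) (.node [(40,(.ofNat 1))] .nil .nil)) (.node [(13,(.negSucc 0))] .nil (.node [(67,(.negSucc 0))] .nil .nil)))) (.node [(4,(.ofNat 1))] (.node [] (.node [] (.node [] .nil (.node [(57,(.ofNat 1))] .nil .nil)) (.node [(36,(.ofNat 1))] .nil .nil)) (.node [(35,(.ofNat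 1))] .nil (.node [(52,(.ofNat 1))] .nil .nil))) (.node [(23,(.ofNat 1))] (.node [] (.node [] .nil (.node [(76,(.ofNat 1))] .nil .nil)) (.node [(44,(.ofNat 1))] .nil .nil)) (.node [(28,(.ofNat 1))] .nil (.node [(71,(.negSucc 0))] .nil .nil))))) (.node [(0,(.ofNat 1)),(2,(.ofNat 1))] (.node [] (.node [] (.node [] (.node [] .nil (.node [(51,(.ofNat 1))] .nil .nil)) (.node [(19,(.negSucc 0))] .nil .nil)) (.node [(33,(.ofNat 1))] .nil (.node [(65,(.negSucc 0))] .nil .nil))) (.node [(10,(.ofNat 1))] (.node [] (.node [] .nil (.node [(74,(.ofNat 1))] .nil .nil)) (.node [(42,(.ofNat 1))] .nil .nil)) (.node [(15,(.negSucc 0))] .nil (.node [(69,(.negSucc 0))] .nil .nil)))) (.node [(6,(.ofNat 1))] (.node [] (.node [] (.node [] .nil (.node [(59,(.ofNat 1))] .nil .nil)) (.node [(38,(.ofNat 1))] .nil .nil)) (.node [(11,(.negSucc 0))] .nil (.node [(54,(.ofNat 1))] .nil .nil))) (.node [(25,(.ofNat 1))] (.node [] .nil (.node [(46,(.ofNat 1))] .nil .nil)) (.node [(30,(.ofNat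 1))] .nil (.node [(21,(.negSucc 0))] .nil .nil)))))) (.node [(1,(.ofNat 1))] (.node [] (.node [] (.node [] (.node [] (.node [] .nil (.node [(50,(.ofNat 1))] .nil .nil)) (.node [(18,(.negSucc 0))] .nil .nil)) (.node [(32,(.ofNat 1))] .nil (.node [(64,(.negSucc 0))] .nil .nil))) (.node [(9,(.ofNat 1))] (.node [] (.node [] .nil (.node [(73,(.ofNat 1))] .nil .nil)) (.node [(41,(.ofNat 1))] .nil .nil)) (.node [(14,(.negSucc 0))] .nil (.node [(68,(.negSucc 0))] .nil .nil)))) (.node [(5,(.ofNat 1))] (.node [] (.node [] (.node [] .nil (.node [(58,(.ofNat 1))] .nil .nil)) (.node [(37,(.ofNat 1))] .nil .nil)) (.node [(62,(.negSucc 0))] .nil (.node [(53,(.ofNat 1))] .nil .nil))) (.node [(24,(.ofNat 1))] (.node [] (.node [] .nil (.node [(77,(.ofNat 1))] .nil .nil)) (.node [(45,(.ofNat 1))] .nil .nil)) (.node [(29,(.ofNat 1))] .nil (.node [(72,(.negSucc 0))] .nil .nil))))) (.node [(3,(.ofNat 1))] (.node [] (.node [] (.node [] (.node [] .nil (.node [(56,(.ofNat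 1))] .nil .nil)) (.node [(20,(.negSucc 0))] .nil .nil)) (.node [(34,(.ofNat 1))] .nil (.node [(66,(.negSucc 0))] .nil .nil))) (.node [(22,(.ofNat 1))] (.node [] (.node [] .nil (.node [(75,(.ofNat 1))] .nil .nil)) (.node [(43,(.ofNat 1))] .nil .nil)) (.node [(16,(.negSucc 0))] .nil (.node [(70,(.negSucc 0))] .nil .nil)))) (.node [(7,(.ofNat 1))] (.node [] (.node [] (.node [] .nil (.node [(60,(.ofNat 1))] .nil .nil)) (.node [(39,(.ofNat 1))] .nil .nil)) (.node [(12,(.negSucc 0))] .nil (.node [(55,(.ofNat 1))] .nil .nil))) (.node [(26,(.ofNat 1))] (.node [] .nil (.node [(47,(.ofNat 1))] .nil .nil)) (.node [(31,(.ofNat 1))] .nil (.node [(48,(.ofNat 1))] .nil .nil)))))))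
noncomputable def nt : Trie (Trie (List (ℕ × ℤ))) := (.node nt0 (.node .nil (.node .nil .nil (.node nt4 .nil .nil)) (.node nt2 .nil .nil)) (.node nt1 (.node .nil .nil (.node nt5 .nil .nil)) (.node nt3 .nil .nil)))
noncomputable def w5 : Trie (ℕ × ℤ) := (.node (0,(.ofNat 1)) (.node (0,0) (.node (0,0) (.node (0,0) (.node (0,0) (.node (0,0) (.node (0,0) .nil (.node (65,(.ofNat 1)) .nil .nil)) (.node (32,(.ofNat 1)) .nil .nil)) (.node (16,(.ofNat 1)) .nil (.node (49,(.ofNat 1)) .nil .nil))) (.node (9,(.negSucc 0)) (.node (0,0) .nil (.node (41,(.ofNat 1)) .nil .nil)) (.node (24,(.ofNat 1)) .nil (.node (56,(.ofNat 1)) .nil .nil)))) (.node (3,(.ofNat 1)) (.node (0,0) (.node (0,0) (.node (0,0) .nil (.node (67,(.negSucc 0)) .nil .nil)) (.node (35,(.negSucc 0)) .nil .nil)) (.node (19,(.ofNat 1)) .nil (.node (51,(.negSucc 0)) .nil .nil))) (.node (11,(.ofNat 1)) (.node (0,0) .nil (.node (45,(.ofNat 1)) .nil .nil)) (.node (28,(.ofNat 1)) .nil (.node (59,(.negSucc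 0)) .nil .nil))))) (.node (2,(.ofNat 1)) (.node (0,0) (.node (0,0) (.node (0,0) (.node (0,0) .nil (.node (66,(.ofNat 1)) .nil .nil)) (.node (33,(.ofNat 1)) .nil .nil)) (.node (17,(.ofNat 1)) .nil (.node (50,(.ofNat 1)) .nil .nil))) (.node (10,(.ofNat 1)) (.node (0,0) .nil (.node (42,(.ofNat 1)) .nil .nil)) (.node (27,(.negSucc 0)) .nil (.node (58,(.ofNat 1)) .nil .nil)))) (.node (7,(.negSucc 0)) (.node (0,0) (.node (0,0) (.node (0,0) .nil (.node (70,(.ofNat 1)) .nil .nil)) (.node (37,(.negSucc 0)) .nil .nil)) (.node (23,(.negSucc 0)) .nil (.node (53,(.negSucc 0)) .nil .nil))) (.node (14,(.ofNat 1)) (.node (0,0) .nil (.node (46,(.ofNat 1)) .nil .nil)) (.node (31,(.negSucc 0)) .nil (.node (63,(.ofNat 1)) .nil .nil)))))) (.node (1,(.ofNat 1)) (.node (0,0) (.node (0,0) (.node (0,0) (.node (0,0) (.node (0,0) .nil (.node (64,(.negSucc 0)) .nil .nil)) (.node (34,(.negSucc 0)) .nil .nil)) (.node (18,(.negSucc 0)) .nil (.node (48,(.negSucc 0)) .nil .nil)))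 (.node (8,(.ofNat 1)) (.node (0,0) .nil (.node (40,(.negSucc 0)) .nil .nil)) (.node (25,(.ofNat 1)) .nil (.node (57,(.ofNat 1)) .nil .nil)))) (.node (5,(.ofNat 1)) (.node (0,0) (.node (0,0) (.node (0,0) .nil (.node (69,(.ofNat 1)) .nil .nil)) (.node (38,(.ofNat 1)) .nil .nil)) (.node (21,(.ofNat 1)) .nil (.node (54,(.ofNat 1)) .nil .nil))) (.node (13,(.ofNat 1)) (.node (0,0) .nil (.node (44,(.negSucc 0)) .nil .nil)) (.node (29,(.ofNat 1)) .nil (.node (61,(.ofNat 1)) .nil .nil))))) (.node (4,(.negSucc 0)) (.node (0,0) (.node (0,0) (.node (0,0) (.node (0,0) .nil (.node (68,(.ofNat 1)) .nil .nil)) (.node (36,(.negSucc 0)) .nil .nil)) (.node (20,(.negSucc 0)) .nil (.node (52,(.ofNat 1)) .nil .nil))) (.node (12,(.negSucc 0)) (.node (0,0) .nil (.node (43,(.ofNat 1)) .nil .nil)) (.node (26,(.ofNat 1)) .nil (.node (60,(.ofNat 1)) .nil .nil)))) (.node (6,(.ofNat 1)) (.node (0,0) (.node (0,0) (.node (0,0) .nil (.node (71,(.ofNat 1)) .nil .nil)) (.node (39,(.ofNat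 1)) .nil .nil)) (.node (22,(.ofNat 1)) .nil (.node (55,(.ofNat 1)) .nil .nil))) (.node (15,(.ofNat 1)) (.node (0,0) .nil (.node (47,(.ofNat 1)) .nil .nil)) (.node (30,(.ofNat 1)) .nil (.node (62,(.negSucc 0)) .nil .nil)))))))
noncomputable def w4 : Trie (ℕ × ℤ) := (.node (0,(.ofNat 1)) (.node (0,0) (.node (0,0) (.node (0,0) (.node (0,0) (.node (0,0) (.node (0,0) .nil (.node (64,(.ofNat 1)) .nil .nil)) (.node (31,(.ofNat 1)) .nil .nil)) (.node (17,(.negSucc 0)) .nil (.node (47,(.negSucc 0)) .nil .nil))) (.node (8,(.ofNat 1)) (.node (0,0) .nil (.node (39,(.negSucc 0)) .nil .nil)) (.node (23,(.ofNat 1)) .nil (.node (56,(.ofNat 1)) .nil .nil)))) (.node (4,(.ofNat 1)) (.node (0,0) (.node (0,0) (.node (0,0) .nil (.node (69,(.ofNat 1)) .nil .nil)) (.node (38,(.negSucc 0)) .nil .nil)) (.node (21,(.negSucc 0)) .nil (.node (52,(.ofNat 1)) .nil .nil))) (.node (13,(.negSucc 0)) (.node (0,0) .nil (.node (43,(.negSucc 0)) .nil .nil)) (.node (27,(.ofNat 1)) .nil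 (.node (60,(.ofNat 1)) .nil .nil))))) (.node (3,(.negSucc 0)) (.node (0,0) (.node (0,0) (.node (0,0) (.node (0,0) .nil (.node (65,(.negSucc 0)) .nil .nil)) (.node (37,(.negSucc 0)) .nil .nil)) (.node (18,(.ofNat 1)) .nil (.node (51,(.ofNat 1)) .nil .nil))) (.node (9,(.ofNat 1)) (.node (0,0) .nil (.node (42,(.ofNat 1)) .nil .nil)) (.node (26,(.ofNat 1)) .nil (.node (59,(.ofNat 1)) .nil .nil)))) (.node (5,(.ofNat 1)) (.node (0,0) (.node (0,0) (.node (0,0) .nil (.node (70,(.ofNat 1)) .nil .nil)) (.node (36,(.ofNat 1)) .nil .nil)) (.node (22,(.ofNat 1)) .nil (.node (55,(.ofNat 1)) .nil .nil))) (.node (14,(.ofNat 1)) (.node (0,0) .nil (.node (46,(.ofNat 1)) .nil .nil)) (.node (30,(.ofNat 1)) .nil (.node (61,(.negSucc 0)) .nil .nil)))))) (.node (1,(.ofNat 1)) (.node (0,0) (.node (0,0) (.node (0,0) (.node (0,0) (.node (0,0) .nil (.node (66,(.ofNat 1)) .nil .nil)) (.node (35,(.ofNat 1)) .nil .nil)) (.node (16,(.ofNat 1)) .nil (.node (49,(.ofNat 1)) .nil .nil)))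 (.node (10,(.negSucc 0)) (.node (0,0) .nil (.node (41,(.ofNat 1)) .nil .nil)) (.node (25,(.ofNat 1)) .nil (.node (57,(.ofNat 1)) .nil .nil)))) (.node (6,(.negSucc 0)) (.node (0,0) (.node (0,0) (.node (0,0) .nil (.node (68,(.negSucc 0)) .nil .nil)) (.node (34,(.negSucc 0)) .nil .nil)) (.node (20,(.ofNat 1)) .nil (.node (53,(.ofNat 1)) .nil .nil))) (.node (12,(.ofNat 1)) (.node (0,0) .nil (.node (45,(.ofNat 1)) .nil .nil)) (.node (29,(.ofNat 1)) .nil (.node (62,(.ofNat 1)) .nil .nil))))) (.node (2,(.ofNat 1)) (.node (0,0) (.node (0,0) (.node (0,0) (.node (0,0) .nil (.node (67,(.ofNat 1)) .nil .nil)) (.node (33,(.negSucc 0)) .nil .nil)) (.node (19,(.ofNat 1)) .nil (.node (50,(.negSucc 0)) .nil .nil))) (.node (11,(.ofNat 1)) (.node (0,0) .nil (.node (44,(.ofNat 1)) .nil .nil)) (.node (28,(.negSucc 0)) .nil (.node (58,(.negSucc 0)) .nil .nil)))) (.node (7,(.ofNat 1)) (.node (0,0) (.node (0,0) (.node (0,0) .nil (.node (71,(.ofNat 1)) .nil .nil)) (.node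 (40,(.ofNat 1)) .nil .nil)) (.node (24,(.negSucc 0)) .nil (.node (54,(.negSucc 0)) .nil .nil))) (.node (15,(.ofNat 1)) (.node (0,0) .nil (.node (48,(.ofNat 1)) .nil .nil)) (.node (32,(.negSucc 0)) .nil (.node (63,(.ofNat 1)) .nil .nil)))))))
noncomputable def w3 : Trie (ℕ × ℤ) := (.node (0,(.ofNat 1)) (.node (0,0) (.node (0,0) (.node (0,0) (.node (0,0) (.node (0,0) (.node (0,0) .nil (.node (62,(.negSucc 0)) .nil .nil)) (.node (39,(.negSucc 0)) .nil .nil)) (.node (16,(.ofNat 1)) .nil (.node (48,(.ofNat 1)) .nil .nil))) (.node (6,(.ofNat 1)) (.node (0,0) .nil (.node (37,(.ofNat 1)) .nil .nil)) (.node (25,(.negSucc 0)) .nil (.node (56,(.ofNat 1)) .nil .nil)))) (.node (4,(.ofNat 1)) (.node (0,0) (.node (0,0) (.node (0,0) .nil (.node (68,(.ofNat 1)) .nil .nil)) (.node (36,(.ofNat 1)) .nil .nil)) (.node (18,(.ofNat 1)) .nil (.node (54,(.ofNat 1)) .nil .nil))) (.node (12,(.ofNat 1)) (.node (0,0) .nil (.node (44,(.ofNat 1)) .nil .nil)) (.node (29,(.negSucc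 0)) .nil (.node (60,(.ofNat 1)) .nil .nil))))) (.node (1,(.ofNat 1)) (.node (0,0) (.node (0,0) (.node (0,0) (.node (0,0) .nil (.node (66,(.ofNat 1)) .nil .nil)) (.node (31,(.negSucc 0)) .nil .nil)) (.node (20,(.negSucc 0)) .nil (.node (50,(.ofNat 1)) .nil .nil))) (.node (10,(.ofNat 1)) (.node (0,0) .nil (.node (43,(.ofNat 1)) .nil .nil)) (.node (26,(.ofNat 1)) .nil (.node (57,(.negSucc 0)) .nil .nil)))) (.node (8,(.negSucc 0)) (.node (0,0) (.node (0,0) (.node (0,0) .nil (.node (69,(.negSucc 0)) .nil .nil)) (.node (41,(.negSucc 0)) .nil .nil)) (.node (22,(.ofNat 1)) .nil (.node (52,(.negSucc 0)) .nil .nil))) (.node (13,(.ofNat 1)) (.node (0,0) .nil (.node (47,(.ofNat 1)) .nil .nil)) (.node (33,(.ofNat 1)) .nil (.node (64,(.ofNat 1)) .nil .nil)))))) (.node (2,(.negSucc 0)) (.node (0,0) (.node (0,0) (.node (0,0) (.node (0,0) (.node (0,0) .nil (.node (63,(.negSucc 0)) .nil .nil)) (.node (30,(.negSucc 0)) .nil .nil)) (.node (19,(.negSucc 0)) .nil (.node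 (49,(.ofNat 1)) .nil .nil))) (.node (7,(.ofNat 1)) (.node (0,0) .nil (.node (38,(.ofNat 1)) .nil .nil)) (.node (24,(.ofNat 1)) .nil (.node (58,(.ofNat 1)) .nil .nil)))) (.node (5,(.ofNat 1)) (.node (0,0) (.node (0,0) (.node (0,0) .nil (.node (70,(.ofNat 1)) .nil .nil)) (.node (40,(.negSucc 0)) .nil .nil)) (.node (21,(.ofNat 1)) .nil (.node (51,(.negSucc 0)) .nil .nil))) (.node (14,(.negSucc 0)) (.node (0,0) .nil (.node (45,(.ofNat 1)) .nil .nil)) (.node (28,(.ofNat 1)) .nil (.node (61,(.ofNat 1)) .nil .nil))))) (.node (3,(.ofNat 1)) (.node (0,0) (.node (0,0) (.node (0,0) (.node (0,0) .nil (.node (67,(.ofNat 1)) .nil .nil)) (.node (35,(.ofNat 1)) .nil .nil)) (.node (17,(.ofNat 1)) .nil (.node (53,(.ofNat 1)) .nil .nil))) (.node (11,(.ofNat 1)) (.node (0,0) .nil (.node (42,(.negSucc 0)) .nil .nil)) (.node (27,(.ofNat 1)) .nil (.node (59,(.ofNat 1)) .nil .nil)))) (.node (9,(.negSucc 0)) (.node (0,0) (.node (0,0) (.node (0,0) .nil (.node (71,(.ofNat 1))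 .nil .nil)) (.node (32,(.negSucc 0)) .nil .nil)) (.node (23,(.ofNat 1)) .nil (.node (55,(.ofNat 1)) .nil .nil))) (.node (15,(.ofNat 1)) (.node (0,0) .nil (.node (46,(.negSucc 0)) .nil .nil)) (.node (34,(.ofNat 1)) .nil (.node (65,(.ofNat 1)) .nil .nil)))))))
noncomputable def w2 : Trie (ℕ × ℤ) := (.node (0,(.ofNat 1)) (.node (0,0) (.node (0,0) (.node (0,0) (.node (0,0) (.node (0,0) (.node (0,0) .nil (.node (67,(.ofNat 1)) .nil .nil)) (.node (28,(.negSucc 0)) .nil .nil)) (.node (16,(.ofNat 1)) .nil (.node (51,(.ofNat 1)) .nil .nil))) (.node (8,(.ofNat 1)) (.node (0,0) .nil (.node (44,(.negSucc 0)) .nil .nil)) (.node (21,(.ofNat 1)) .nil (.node (57,(.ofNat 1)) .nil .nil)))) (.node (7,(.negSucc 0)) (.node (0,0) (.node (0,0) (.node (0,0) .nil (.node (65,(.negSucc 0)) .nil .nil)) (.node (36,(.ofNat 1)) .nil .nil)) (.node (23,(.negSucc 0)) .nil (.node (49,(.negSucc 0)) .nil .nil))) (.node (12,(.ofNat 1)) (.node (0,0) .nil (.node (40,(.ofNat 1)) .nil .nil))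 (.node (32,(.ofNat 1)) .nil (.node (60,(.ofNat 1)) .nil .nil))))) (.node (5,(.negSucc 0)) (.node (0,0) (.node (0,0) (.node (0,0) (.node (0,0) .nil (.node (69,(.ofNat 1)) .nil .nil)) (.node (34,(.ofNat 1)) .nil .nil)) (.node (18,(.ofNat 1)) .nil (.node (47,(.negSucc 0)) .nil .nil))) (.node (10,(.ofNat 1)) (.node (0,0) .nil (.node (29,(.negSucc 0)) .nil .nil)) (.node (30,(.ofNat 1)) .nil (.node (58,(.ofNat 1)) .nil .nil)))) (.node (3,(.ofNat 1)) (.node (0,0) (.node (0,0) (.node (0,0) .nil (.node (70,(.ofNat 1)) .nil .nil)) (.node (38,(.ofNat 1)) .nil .nil)) (.node (19,(.ofNat 1)) .nil (.node (54,(.ofNat 1)) .nil .nil))) (.node (15,(.negSucc 0)) (.node (0,0) .nil (.node (46,(.ofNat 1)) .nil .nil)) (.node (26,(.negSucc 0)) .nil (.node (62,(.ofNat 1)) .nil .nil)))))) (.node (1,(.ofNat 1)) (.node (0,0) (.node (0,0) (.node (0,0) (.node (0,0) (.node (0,0) .nil (.node (68,(.ofNat 1)) .nil .nil)) (.node (33,(.ofNat 1)) .nil .nil)) (.node (17,(.ofNat 1)) .nil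 (.node (52,(.ofNat 1)) .nil .nil))) (.node (9,(.ofNat 1)) (.node (0,0) .nil (.node (45,(.negSucc 0)) .nil .nil)) (.node (25,(.ofNat 1)) .nil (.node (56,(.negSucc 0)) .nil .nil)))) (.node (2,(.ofNat 1)) (.node (0,0) (.node (0,0) (.node (0,0) .nil (.node (66,(.negSucc 0)) .nil .nil)) (.node (37,(.ofNat 1)) .nil .nil)) (.node (24,(.negSucc 0)) .nil (.node (53,(.ofNat 1)) .nil .nil))) (.node (13,(.ofNat 1)) (.node (0,0) .nil (.node (41,(.ofNat 1)) .nil .nil)) (.node (42,(.negSucc 0)) .nil (.node (61,(.ofNat 1)) .nil .nil))))) (.node (6,(.negSucc 0)) (.node (0,0) (.node (0,0) (.node (0,0) (.node (0,0) .nil (.node (64,(.negSucc 0)) .nil .nil)) (.node (35,(.ofNat 1)) .nil .nil)) (.node (22,(.negSucc 0)) .nil (.node (48,(.negSucc 0)) .nil .nil))) (.node (11,(.ofNat 1)) (.node (0,0) .nil (.node (39,(.ofNat 1)) .nil .nil)) (.node (31,(.ofNat 1)) .nil (.node (59,(.ofNat 1)) .nil .nil)))) (.node (4,(.ofNat 1)) (.node (0,0) (.node (0,0) (.node (0,0) .nil (.node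 (71,(.ofNat 1)) .nil .nil)) (.node (43,(.negSucc 0)) .nil .nil)) (.node (20,(.ofNat 1)) .nil (.node (55,(.ofNat 1)) .nil .nil))) (.node (14,(.ofNat 1)) (.node (0,0) .nil (.node (50,(.ofNat 1)) .nil .nil)) (.node (27,(.negSucc 0)) .nil (.node (63,(.ofNat 1)) .nil .nil)))))))
noncomputable def w1 : Trie (ℕ × ℤ) := (.node (1,(.negSucc 0)) (.node (0,0) (.node (0,0) (.node (0,0) (.node (0,0) (.node (0,0) (.node (0,0) .nil (.node (64,(.ofNat 1)) .nil .nil)) (.node (24,(.negSucc 0)) .nil .nil)) (.node (16,(.ofNat 1)) .nil (.node (40,(.ofNat 1)) .nil .nil))) (.node (11,(.negSucc 0)) (.node (0,0) .nil (.node (48,(.negSucc 0)) .nil .nil)) (.node (32,(.ofNat 1)) .nil (.node (56,(.ofNat 1)) .nil .nil)))) (.node (4,(.ofNat 1)) (.node (0,0) (.node (0,0) (.node (0,0) .nil (.node (68,(.ofNat 1)) .nil .nil)) (.node (36,(.ofNat 1)) .nil .nil)) (.node (27,(.negSucc 0)) .nil (.node (45,(.negSucc 0)) .nil .nil))) (.node (9,(.ofNat 1)) (.node (0,0) .nil (.node (51,(.ofNat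 1)) .nil .nil)) (.node (21,(.ofNat 1)) .nil (.node (63,(.ofNat 1)) .nil .nil))))) (.node (2,(.ofNat 1)) (.node (0,0) (.node (0,0) (.node (0,0) (.node (0,0) .nil (.node (66,(.ofNat 1)) .nil .nil)) (.node (34,(.ofNat 1)) .nil .nil)) (.node (18,(.ofNat 1)) .nil (.node (43,(.negSucc 0)) .nil .nil))) (.node (13,(.negSucc 0)) (.node (0,0) .nil (.node (42,(.ofNat 1)) .nil .nil)) (.node (19,(.ofNat 1)) .nil (.node (61,(.ofNat 1)) .nil .nil)))) (.node (6,(.ofNat 1)) (.node (0,0) (.node (0,0) (.node (0,0) .nil (.node (71,(.ofNat 1)) .nil .nil)) (.node (38,(.ofNat 1)) .nil .nil)) (.node (30,(.ofNat 1)) .nil (.node (54,(.ofNat 1)) .nil .nil))) (.node (14,(.ofNat 1)) (.node (0,0) .nil (.node (25,(.negSucc 0)) .nil .nil)) (.node (22,(.negSucc 0)) .nil (.node (59,(.negSucc 0)) .nil .nil)))))) (.node (0,(.ofNat 1)) (.node (0,0) (.node (0,0) (.node (0,0) (.node (0,0) (.node (0,0) .nil (.node (65,(.ofNat 1)) .nil .nil)) (.node (33,(.ofNat 1)) .nil .nil)) (.node (17,(.ofNat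 1)) .nil (.node (41,(.ofNat 1)) .nil .nil))) (.node (12,(.negSucc 0)) (.node (0,0) .nil (.node (49,(.negSucc 0)) .nil .nil)) (.node (46,(.negSucc 0)) .nil (.node (57,(.ofNat 1)) .nil .nil)))) (.node (5,(.ofNat 1)) (.node (0,0) (.node (0,0) (.node (0,0) .nil (.node (69,(.ofNat 1)) .nil .nil)) (.node (37,(.ofNat 1)) .nil .nil)) (.node (28,(.negSucc 0)) .nil (.node (53,(.ofNat 1)) .nil .nil))) (.node (10,(.ofNat 1)) (.node (0,0) .nil (.node (52,(.ofNat 1)) .nil .nil)) (.node (29,(.ofNat 1)) .nil (.node (58,(.negSucc 0)) .nil .nil))))) (.node (3,(.ofNat 1)) (.node (0,0) (.node (0,0) (.node (0,0) (.node (0,0) .nil (.node (67,(.ofNat 1)) .nil .nil)) (.node (35,(.ofNat 1)) .nil .nil)) (.node (26,(.negSucc 0)) .nil (.node (44,(.negSucc 0)) .nil .nil))) (.node (8,(.ofNat 1)) (.node (0,0) .nil (.node (50,(.ofNat 1)) .nil .nil)) (.node (20,(.ofNat 1)) .nil (.node (62,(.ofNat 1)) .nil .nil)))) (.node (7,(.ofNat 1)) (.node (0,0) (.node (0,0) (.node (0,0) .nil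 (.node (70,(.negSucc 0)) .nil .nil)) (.node (47,(.negSucc 0)) .nil .nil)) (.node (31,(.ofNat 1)) .nil (.node (55,(.ofNat 1)) .nil .nil))) (.node (15,(.ofNat 1)) (.node (0,0) .nil (.node (39,(.ofNat 1)) .nil .nil)) (.node (23,(.negSucc 0)) .nil (.node (60,(.negSucc 0)) .nil .nil)))))))
noncomputable def w0 : Trie (ℕ × ℤ) := (.node (0,(.ofNat 1)) (.node (0,0) (.node (0,0) (.node (0,0) (.node (0,0) (.node (0,0) (.node (0,0) .nil (.node (53,(.ofNat 1)) .nil .nil)) (.node (32,(.ofNat 1)) .nil .nil)) (.node (5,(.negSucc 0)) .nil (.node (48,(.ofNat 1)) .nil .nil))) (.node (19,(.ofNat 1)) (.node (0,0) .nil (.node (40,(.ofNat 1)) .nil .nil)) (.node (24,(.ofNat 1)) .nil (.node (15,(.negSucc 0)) .nil .nil)))) (.node (4,(.ofNat 1)) (.node (0,0) (.node (0,0) (.node (0,0) .nil (.node (68,(.ofNat 1)) .nil .nil)) (.node (36,(.ofNat 1)) .nil .nil)) (.node (9,(.negSucc 0)) .nil (.node (63,(.negSucc 0)) .nil .nil))) (.node (27,(.ofNat 1)) (.node (0,0) .nil (.node (59,(.negSucc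 0)) .nil .nil)) (.node (13,(.negSucc 0)) .nil (.node (45,(.ofNat 1)) .nil .nil))))) (.node (2,(.ofNat 1)) (.node (0,0) (.node (0,0) (.node (0,0) (.node (0,0) .nil (.node (55,(.ofNat 1)) .nil .nil)) (.node (34,(.ofNat 1)) .nil .nil)) (.node (7,(.negSucc 0)) .nil (.node (61,(.negSucc 0)) .nil .nil))) (.node (21,(.ofNat 1)) (.node (0,0) .nil (.node (57,(.negSucc 0)) .nil .nil)) (.node (11,(.negSucc 0)) .nil (.node (43,(.ofNat 1)) .nil .nil)))) (.node (17,(.ofNat 1)) (.node (0,0) (.node (0,0) (.node (0,0) .nil (.node (70,(.ofNat 1)) .nil .nil)) (.node (38,(.ofNat 1)) .nil .nil)) (.node (22,(.ofNat 1)) .nil (.node (65,(.negSucc 0)) .nil .nil))) (.node (29,(.ofNat 1)) (.node (0,0) .nil (.node (46,(.ofNat 1)) .nil .nil)) (.node (30,(.ofNat 1)) .nil (.node (51,(.ofNat 1)) .nil .nil)))))) (.node (1,(.ofNat 1)) (.node (0,0) (.node (0,0) (.node (0,0) (.node (0,0) (.node (0,0) .nil (.node (54,(.ofNat 1)) .nil .nil)) (.node (33,(.ofNat 1)) .nil .nil)) (.node (6,(.negSucc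 0)) .nil (.node (49,(.ofNat 1)) .nil .nil))) (.node (20,(.ofNat 1)) (.node (0,0) .nil (.node (41,(.ofNat 1)) .nil .nil)) (.node (25,(.ofNat 1)) .nil (.node (42,(.ofNat 1)) .nil .nil)))) (.node (16,(.ofNat 1)) (.node (0,0) (.node (0,0) (.node (0,0) .nil (.node (69,(.ofNat 1)) .nil .nil)) (.node (37,(.ofNat 1)) .nil .nil)) (.node (10,(.negSucc 0)) .nil (.node (64,(.negSucc 0)) .nil .nil))) (.node (28,(.ofNat 1)) (.node (0,0) .nil (.node (60,(.negSucc 0)) .nil .nil)) (.node (14,(.negSucc 0)) .nil (.node (50,(.ofNat 1)) .nil .nil))))) (.node (3,(.ofNat 1)) (.node (0,0) (.node (0,0) (.node (0,0) (.node (0,0) .nil (.node (67,(.ofNat 1)) .nil .nil)) (.node (35,(.ofNat 1)) .nil .nil)) (.node (8,(.negSucc 0)) .nil (.node (62,(.negSucc 0)) .nil .nil))) (.node (26,(.ofNat 1)) (.node (0,0) .nil (.node (58,(.negSucc 0)) .nil .nil)) (.node (12,(.negSucc 0)) .nil (.node (44,(.ofNat 1)) .nil .nil)))) (.node (18,(.ofNat 1)) (.node (0,0) (.node (0,0) (.node (0,0) .nil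 (.node (71,(.ofNat 1)) .nil .nil)) (.node (39,(.ofNat 1)) .nil .nil)) (.node (23,(.ofNat 1)) .nil (.node (66,(.negSucc 0)) .nil .nil))) (.node (56,(.negSucc 0)) (.node (0,0) .nil (.node (47,(.ofNat 1)) .nil .nil)) (.node (31,(.ofNat 1)) .nil (.node (52,(.ofNat 1)) .nil .nil)))))))
noncomputable def w : Trie (Trie (ℕ × ℤ)) := (.node w0 (.node .nil (.node .nil .nil (.node w4 .nil .nil)) (.node w2 .nil .nil)) (.node w1 (.node .nil .nil (.node w5 .nil .nil)) (.node w3 .nil .nil)))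
noncomputable def chi : Trie ℕ := (.node 16925189734198060745380869106998954210518452736166751934484728101 (.node 0 (.node 0 (.node 0 (.node 0 (.node 0 (.node 0 .nil (.node 59947058794587860470773773444582173119449876497470041119229814482 .nil .nil)) (.node 43693967187649307795090772031753963292439112337166152311388616355 .nil .nil)) (.node 30118208478744615356289836602560411115888690991229593662165759780 .nil (.node 58272572844519141398721752101536185534129175129135262040599640282 .nil .nil))) (.node 31737950117105642816464949714500540962822591994892244556883048732 (.node 0 .nil (.node 46754040050041305859864805949020716214079638242407199391548782803 .nil .nil)) (.node 32175434393171472256233825879238493972389575450438089662337758876 .nil (.node 45134298411680278399689692837080586367145737238744548496831493851 .nil .nil)))) (.node 30086465052423408231417149746558832928988985950529957062706583844 (.node 0 (.node 0 (.node 0 .nil (.node 60203755280856323610363414384755416093931780506832557637601174162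 .nil .nil)) (.node 45156381046755223256958552266884063743394296999984324162745910491 .nil .nil)) (.node 31760951002492127303469171089604820514309687318864736141336758044 .nil (.node 58529269330787604538311393041709428508611079138497778558970999962 .nil .nil))) (.node 43279024671814193027458436269469888746739956424226440831117969187 (.node 0 .nil (.node 46988194776079054327317906486740080724693714709163582284736079507 .nil .nil)) (.node 43459812461611559327637671494034598781825035870409769418201319651 .nil (.node 47011195661465538814322127861844360276180810033136073869189788819 .nil .nil))))) (.node 29883594627551097073969055092190645517655346743106852809708816740 (.node 0 (.node 0 (.node 0 (.node 0 .nil (.node 60149929219460171628221868098950360530783515704893145372227581586 .nil .nil)) (.node 44953510621882912099510457612515876332060657792561219909748143387 .nil .nil)) (.node 30321078903616926513737931256928598527222330198652697915163526884 .nil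 (.node 58326398905915293380863298387341241097277439931074674305973232858 .nil .nil))) (.node 31940820541977953973913044368868728374156231202315348809880815836 (.node 0 .nil (.node 45367994012562257052275112402149549790140545924134573430749144219 .nil .nil)) (.node 43256942036739248170189576839666411370491396662986665165203552547 .nil (.node 46808325236593227656874033207476172864847170825712969616192021715 .nil .nil)))) (.node 30298078018230442026733709881824318975735234874680206330709817572 (.node 0 (.node 0 (.node 0 .nil (.node 61823956044373120885406208469345947028484949291861566491588109450 .nil .nil)) (.node 45336709711396819742270106518798372690860108664801294790559614619 .nil .nil)) (.node 31972563968299161098785731224870306561055936243014985409339991772 .nil (.node 59969141429662805328042632874385650495698436258709816785144231122 .nil .nil))) (.node 44899225435330990302501230354060419681293125209255449685104904475 (.node 0 .nil (.node 56652372081002344123678958016945654599576006344106253186612704994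 .nil .nil)) (.node 43491096762776996637642677377385775881105473129743048058390849251 .nil (.node 58507186695712659681042533611905951132362519377258002893056583322 .nil .nil)))))) (.node 28443722528675896284237815259514423530567989622894814583535585580 (.node 0 (.node 0 (.node 0 (.node 0 (.node 0 .nil (.node 59969600554818575142910313847036051583317704040076174744413877458 .nil .nil)) (.node 44930968861652197427373917210061997868192830249955086284564080411 .nil .nil)) (.node 30298537143386211841601390854474720063354502656046564289979463908 .nil (.node 58295114604749856070858292503990063997997002671741395665783703258 .nil .nil))) (.node 31760491877336357488601490116954419426690419537498378182067111708 (.node 0 .nil (.node 46776581810272020532001346351474594677947465785013333016732845779 .nil .nil)) (.node 33615306492046673045965065711914715959476932570650127888510990036 .nil (.node 45368453137718026867142793374799950877759813705500931390018790555 .nil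 .nil)))) (.node 30117749353588845541422155629910010028269423209863235702896113444 (.node 0 (.node 0 (.node 0 .nil (.node 60384083945497920095674968636669725041397592171649528265414878290 .nil .nil)) (.node 45314167951166105070133566116344494226992281122195161165375551643 .nil .nil)) (.node 31941279667133723788780725341519129461775498983681706769150462172 .nil (.node 59946599669432090655906092471931772031830608716103683159960168146 .nil .nil))) (.node 43459353336455789512769990521384197694205768089043411458931673315 (.node 0 .nil (.node 47010736536309768999454446889193959188561542251769715909920142483 .nil .nil)) (.node 44899684560486760117368911326710820768912392990621807644374550811 .nil (.node 58326858031071063195730979359991642184896707712441032265242879194 .nil .nil))))) (.node 30063923292192693559280609344104954465121158407923823437522520868 (.node 0 (.node 0 (.node 0 (.node 0 .nil (.node 60181213520625608938226873982301537630063952964226424012417111186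 .nil .nil)) (.node 45111297526293793912685471461976306815658641914772056912377784539 .nil .nil)) (.node 31738409242261412631332630687150942050441859776258602516152695068 .nil (.node 58506727570556889866174852639255550044743251595891644933786936986 .nil .nil))) (.node 43256482911583478355321895867016010282872128881620307205933906211 (.node 0 .nil (.node 46807866111437457842006352234825771777227903044346611656922375379 .nil .nil)) (.node 43279483796969962842326117242120289834359224205592798790387615523 .nil (.node 46988653901234824142185587459390481812312982490529940244005725843 .nil .nil)))) (.node 30320619778461156698870250284278197439603062417286339955893880548 (.node 0 (.node 0 (.node 0 .nil (.node 73342488838850956424263154621861416348534486178589629140638966929 .nil .nil)) (.node 46573711385399709374553251697106407266613826577590228763735078675 .nil .nil)) (.node 31995105728529875770922271627324185024923763785621119034524054748 .nil (.node 60149470094304401813354187126299959443164247923526787412957935250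 .nil .nil))) (.node 45133380161368738769954330891779784191907201676011832578292201179 (.node 0 .nil (.node 58092244179877544913410197849621876586663363464318291412785936154 .nil .nil)) (.node 43513638523007711309779217779839654344973300672349181683574912227 .nil (.node 58529728455943374353179074014359829596230346919864136518240646298 .nil .nil)))))))
noncomputable def par : Trie (ℕ × ℕ × ℕ) := (.node (1,1,11) (.node (0,0,0) (.node (0,0,0) (.node (0,0,0) (.node (0,0,0) (.node (0,0,0) (.node (0,0,0) .nil (.node (3,62,5) .nil .nil)) (.node (2,28,5) .nil .nil)) (.node (4,17,9) .nil (.node (4,47,6) .nil .nil))) (.node (5,9,6) (.node (0,0,0) .nil (.node (4,39,5) .nil .nil)) (.node (2,21,6) .nil (.node (6,0,0) .nil .nil)))) (.node (2,7,7) (.node (0,0,0) (.node (0,0,0) (.node (0,0,0) .nil (.node (5,67,7) .nil .nil)) (.node (4,38,8) .nil .nil)) (.node (4,21,6) .nil (.node (5,51,6) .nil .nil))) (.node (4,13,4) (.node (0,0,0) .nil (.node (4,43,4) .nil .nil))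 (.node (3,29,4) .nil (.node (5,59,4) .nil .nil))))) (.node (4,3,9) (.node (0,0,0) (.node (0,0,0) (.node (0,0,0) (.node (0,0,0) .nil (.node (4,65,7) .nil .nil)) (.node (3,31,7) .nil .nil)) (.node (3,20,7) .nil (.node (1,43,4) .nil .nil))) (.node (1,13,4) (.node (0,0,0) .nil (.node (0,57,2) .nil .nil)) (.node (5,27,6) .nil (.node (3,57,2) .nil .nil)))) (.node (5,7,7) (.node (0,0,0) (.node (0,0,0) (.node (0,0,0) .nil (.node (3,69,9) .nil .nil)) (.node (5,37,7) .nil .nil)) (.node (5,23,8) .nil (.node (5,53,7) .nil .nil))) (.node (2,15,2) (.node (0,0,0) .nil (.node (3,47,6) .nil .nil)) (.node (5,31,7) .nil (.node (4,61,4) .nil .nil)))))) (.node (3,2,10) (.node (0,0,0) (.node (0,0,0) (.node (0,0,0) (.node (0,0,0) (.node (0,0,0) .nil (.node (5,64,6) .nil .nil)) (.node (5,34,8) .nil .nil)) (.node (5,18,8) .nil (.node (5,48,7) .nil .nil))) (.node (4,10,5) (.node (0,0,0) .nil (.node (5,40,6) .nil .nil)) (.node (3,24,7) .nil (.node (2,56,1) .nil .nil)))) (.node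 (4,6,8) (.node (0,0,0) (.node (0,0,0) (.node (0,0,0) .nil (.node (4,68,8) .nil .nil)) (.node (3,40,6) .nil .nil)) (.node (1,28,5) .nil (.node (3,51,6) .nil .nil))) (.node (3,14,3) (.node (0,0,0) .nil (.node (5,44,5) .nil .nil)) (.node (0,14,3) .nil (.node (1,58,3) .nil .nil))))) (.node (5,4,8) (.node (0,0,0) (.node (0,0,0) (.node (0,0,0) (.node (0,0,0) .nil (.node (2,64,6) .nil .nil)) (.node (4,33,9) .nil .nil)) (.node (5,20,7) .nil (.node (4,50,5) .nil .nil))) (.node (5,12,5) (.node (0,0,0) .nil (.node (3,42,3) .nil .nil)) (.node (4,28,5) .nil (.node (4,58,3) .nil .nil)))) (.node (3,9,6) (.node (0,0,0) (.node (0,0,0) (.node (0,0,0) .nil (.node (1,70,10) .nil .nil)) (.node (2,43,4) .nil .nil)) (.node (4,24,7) .nil (.node (4,54,8) .nil .nil))) (.node (0,56,1) (.node (0,0,0) .nil (.node (2,50,5) .nil .nil)) (.node (4,32,6) .nil (.node (5,62,5) .nil .nil)))))))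
noncomputable def T : Tabs := ⟨6, 72, 78, ex, nt⟩
noncomputable def X : Extra := ⟨w, chi, .nil, par⟩
theorem ex_ok : exBeq chevE6 T.ex = true := by decide +kernel
end Cfsg.Agent.Lib.Chev.TabE6
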