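import Cfsg.Agent.Lib.Chev.Comm
import Cfsg.Prelude.Def_ChevE7

namespace Cfsg.Agent.Lib.Chev.TabE7
open Cfsg.Agent.Lib.Chev Cfsg.Lie

noncomputable def ex0 : Trie (List (ℕ × ℤ × ℕ)) := (.node [(7,(.ofNat 1),1)] (.node [] (.node [] (.node [] (.node [] (.node [] (.node [] (.node [] .nil (.node [(36,(.ofNat 1),1)] .nil .nil)) .nil) .nil) (.node [] .nil (.node [] .nil (.node [(20,(.negSucc 0),1)] .nil .nil)))) (.node [] (.node [] .nil (.node [] .nil (.node [(12,(.ofNat 1),1)] .nil .nil))) (.node [] .nil (.node [] .nil (.node [(28,(.negSucc 0),1)] .nil .nil))))) (.node [] (.node [] (.node [] (.node [] (.node [] .nil (.node [(0,(.negSucc 1),1),(1,(.negSucc 1),1),(2,(.negSucc 2),1),(3,(.negSucc 3),1),(4,(.negSucc 2),1),(5,(.negSucc 1),1),(6,(.negSucc 0),1),(7,(.negSucc 0),2)] .nil .nil)) .nil) (.node [] .nil (.node [(8,(.ofNat 1),1)] .nil .nil))) (.node [] .nil (.node [] .nil (.node [(24,(.ofNat 1),1)] .nil .nil)))) (.node [] (.node [] .nil (.node [] .nil (.node [(16,(.negSucc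 0),1)] .nil .nil))) (.node [] .nil (.node [] .nil (.node [(32,(.negSucc 0),1)] .nil .nil)))))) (.node [] (.node [] (.node [] (.node [] (.node [] (.node [] .nil (.node [(38,(.ofNat 1),1)] .nil .nil)) .nil) .nil) (.node [] .nil (.node [] .nil (.node [(22,(.ofNat 1),1)] .nil .nil)))) (.node [] (.node [] .nil (.node [] .nil (.node [(14,(.negSucc 0),1)] .nil .nil))) (.node [] .nil (.node [] .nil (.node [(30,(.negSucc 0),1)] .nil .nil))))) (.node [] (.node [] (.node [] .nil (.node [] .nil (.node [(10,(.ofNat 1),1)] .nil .nil))) (.node [] .nil (.node [] .nil (.node [(26,(.ofNat 1),1)] .nil .nil)))) (.node [] (.node [] .nil (.node [] .nil (.node [(18,(.negSucc 0),1)] .nil .nil))) (.node [] .nil (.node [] .nil (.node [(34,(.ofNat 1),1)] .nil .nil))))))) (.node [] (.node [] (.node [] (.node [] (.node [] (.node [] (.node [] .nil (.node [(37,(.negSucc 0),1)] .nil .nil)) .nil) .nil) (.node [] .nil (.node [] .nil (.node [(21,(.negSucc 0),1)] .nil .nil)))) (.node [] (.node []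 .nil (.node [] .nil (.node [(13,(.negSucc 0),1)] .nil .nil))) (.node [] .nil (.node [] .nil (.node [(29,(.ofNat 1),1)] .nil .nil))))) (.node [] (.node [] (.node [] .nil (.node [] .nil (.node [(9,(.negSucc 0),1)] .nil .nil))) (.node [] .nil (.node [] .nil (.node [(25,(.negSucc 0),1)] .nil .nil)))) (.node [] (.node [] .nil (.node [] .nil (.node [(17,(.ofNat 1),1)] .nil .nil))) (.node [] .nil (.node [] .nil (.node [(33,(.ofNat 1),1)] .nil .nil)))))) (.node [] (.node [] (.node [] (.node [] (.node [] (.node [] .nil (.node [(39,(.negSucc 0),1)] .nil .nil)) .nil) .nil) (.node [] .nil (.node [] .nil (.node [(23,(.negSucc 0),1)] .nil .nil)))) (.node [] (.node [] .nil (.node [] .nil (.node [(15,(.ofNat 1),1)] .nil .nil))) (.node [] .nil (.node [] .nil (.node [(31,(.ofNat 1),1)] .nil .nil))))) (.node [] (.node [] (.node [] .nil (.node [] .nil (.node [(11,(.negSucc 0),1)] .nil .nil))) (.node [] .nil (.node [] .nil (.node [(27,(.ofNat 1),1)] .nil .nil)))) (.node [] (.node []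 .nil (.node [] .nil (.node [(19,(.ofNat 1),1)] .nil .nil))) (.node [] .nil (.node [] .nil (.node [(35,(.negSucc 0),1)] .nil .nil))))))))
noncomputable def ex1 : Trie (List (ℕ × ℤ × ℕ)) := (.node [(8,(.negSucc 0),1)] (.node [] (.node [] (.node [] (.node [] (.node [] (.node [] (.node [] .nil (.node [(57,(.negSucc 0),1)] .nil .nil)) .nil) (.node [] .nil (.node [(20,(.ofNat 1),1)] .nil .nil))) (.node [] (.node [] .nil (.node [(9,(.ofNat 1),1)] .nil .nil)) .nil)) (.node [] .nil (.node [] .nil (.node [] .nil (.node [(44,(.ofNat 1),1)] .nil .nil))))) (.node [] (.node [] (.node [] (.node [] (.node [] .nil (.node [(100,(.negSucc 0),1)] .nil .nil)) .nil) .nil) (.node [] (.node [] .nil (.node [(13,(.ofNat 1),1)] .nil .nil)) (.node [] .nil (.node [(40,(.negSucc 0),1)] .nil .nil)))) (.node [] .nil (.node [] (.node [] .nil (.node [(16,(.ofNat 1),1)] .nil .nil)) (.node [] .nil (.node [(48,(.ofNat 1),1)] .nil .nil)))))) (.node [(8,(.ofNat 1),1)] (.node [] (.node [] (.node [] (.node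 [] (.node [] .nil (.node [(59,(.negSucc 0),1)] .nil .nil)) .nil) (.node [] .nil (.node [(22,(.negSucc 0),1)] .nil .nil))) (.node [] (.node [] .nil (.node [(11,(.ofNat 1),1)] .nil .nil)) .nil)) (.node [] .nil (.node [] (.node [] .nil (.node [(14,(.ofNat 1),1)] .nil .nil)) (.node [] .nil (.node [(46,(.ofNat 1),1)] .nil .nil))))) (.node [] (.node [] .nil (.node [] .nil (.node [] .nil (.node [(42,(.negSucc 0),1)] .nil .nil)))) (.node [] .nil (.node [] (.node [] .nil (.node [(18,(.ofNat 1),1)] .nil .nil)) (.node [] .nil (.node [(55,(.negSucc 0),1)] .nil .nil))))))) (.node [] (.node [] (.node [] (.node [] (.node [] (.node [] (.node [] .nil (.node [(58,(.ofNat 1),1)] .nil .nil)) .nil) (.node [] .nil (.node [(21,(.ofNat 1),1)] .nil .nil))) (.node [] (.node [] .nil (.node [(10,(.negSucc 0),1)] .nil .nil)) .nil)) (.node [] .nil (.node [] .nil (.node [] .nil (.node [(45,(.negSucc 0),1)] .nil .nil))))) (.node [] (.node [] .nil (.node [] .nil (.node [] .nil (.node [(41,(.ofNat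 1),1)] .nil .nil)))) (.node [] .nil (.node [] (.node [] .nil (.node [(17,(.negSucc 0),1)] .nil .nil)) (.node [] .nil (.node [(49,(.negSucc 0),1)] .nil .nil)))))) (.node [] (.node [] (.node [] (.node [] (.node [] (.node [] .nil (.node [(0,(.negSucc 0),1),(1,(.negSucc 1),1),(2,(.negSucc 2),1),(3,(.negSucc 3),1),(4,(.negSucc 2),1),(5,(.negSucc 1),1),(6,(.negSucc 0),1),(8,(.negSucc 0),2)] .nil .nil)) .nil) (.node [] .nil (.node [(23,(.ofNat 1),1)] .nil .nil))) (.node [] (.node [] .nil (.node [(12,(.negSucc 0),1)] .nil .nil)) .nil)) (.node [] .nil (.node [] (.node [] .nil (.node [(15,(.negSucc 0),1)] .nil .nil)) (.node [] .nil (.node [(47,(.negSucc 0),1)] .nil .nil))))) (.node [] (.node [] (.node [] .nil (.node [(7,(.ofNat 1),1)] .nil .nil)) (.node [] .nil (.node [] .nil (.node [(43,(.negSucc 0),1)] .nil .nil)))) (.node [] .nil (.node [] (.node [] .nil (.node [(19,(.negSucc 0),1)] .nil .nil)) (.node [] .nil (.node [(56,(.ofNat 1),1)] .nil .nil))))))))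
noncomputable def ex2 : Trie (List (ℕ × ℤ × ℕ)) := (.node [] (.node [] (.node [] (.node [] (.node [] (.node [] (.node [] (.node [] .nil (.node [(62,(.ofNat 1),1)] .nil .nil)) .nil) (.node [] .nil (.node [(26,(.ofNat 1),1)] .nil .nil))) (.node [] .nil (.node [] .nil (.node [(42,(.negSucc 0),1)] .nil .nil)))) (.node [] .nil (.node [] (.node [] .nil (.node [(16,(.ofNat 1),1)] .nil .nil)) .nil))) (.node [] (.node [] (.node [] (.node [] (.node [] .nil (.node [(101,(.ofNat 1),1)] .nil .nil)) .nil) .nil) .nil) (.node [] (.node [] (.node [] .nil (.node [(10,(.ofNat 1),1)] .nil .nil)) .nil) (.node [] .nil (.node [] .nil (.node [(52,(.ofNat 1),1)] .nil .nil)))))) (.node [(9,(.negSucc 0),1)] (.node [] (.node [] (.node [] (.node [] (.node [] .nil (.node [(0,(.negSucc 0),1),(1,(.negSucc 1),1),(2,(.negSucc 1),1),(3,(.negSucc 3),1),(4,(.negSucc 2),1),(5,(.negSucc 1),1),(6,(.negSucc 0),1),(9,(.negSucc 0),2)] .nil .nil)) .nil) (.node [] .nil (.node [(28,(.negSucc 0),1)] .nil .nil)))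 (.node [] .nil (.node [] .nil (.node [(44,(.ofNat 1),1)] .nil .nil)))) (.node [] .nil (.node [] .nil (.node [] .nil (.node [(50,(.ofNat 1),1)] .nil .nil))))) (.node [] (.node [] (.node [] .nil (.node [(7,(.negSucc 0),1)] .nil .nil)) (.node [] (.node [] .nil (.node [(14,(.ofNat 1),1)] .nil .nil)) .nil)) (.node [] (.node [] (.node [] .nil (.node [(12,(.ofNat 1),1)] .nil .nil)) (.node [] .nil (.node [(40,(.negSucc 0),1)] .nil .nil))) (.node [] (.node [] .nil (.node [(24,(.ofNat 1),1)] .nil .nil)) (.node [] .nil (.node [(60,(.ofNat 1),1)] .nil .nil))))))) (.node [] (.node [] (.node [] (.node [] (.node [] (.node [] (.node [] .nil (.node [(63,(.negSucc 0),1)] .nil .nil)) .nil) (.node [] .nil (.node [(27,(.ofNat 1),1)] .nil .nil))) (.node [] .nil (.node [] .nil (.node [(43,(.negSucc 0),1)] .nil .nil)))) (.node [] .nil (.node [] (.node [] .nil (.node [(17,(.negSucc 0),1)] .nil .nil)) .nil))) (.node [] .nil (.node [] (.node [] (.node [] .nil (.node [(11,(.negSucc 0),1)]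 .nil .nil)) .nil) (.node [] .nil (.node [] .nil (.node [(53,(.negSucc 0),1)] .nil .nil)))))) (.node [(9,(.ofNat 1),1)] (.node [] (.node [] (.node [] (.node [] (.node [] .nil (.node [(80,(.negSucc 0),1)] .nil .nil)) .nil) (.node [] .nil (.node [(29,(.ofNat 1),1)] .nil .nil))) (.node [] .nil (.node [] .nil (.node [(45,(.negSucc 0),1)] .nil .nil)))) (.node [] .nil (.node [] .nil (.node [(8,(.ofNat 1),1)] .nil (.node [(51,(.negSucc 0),1)] .nil .nil))))) (.node [] (.node [] .nil (.node [] (.node [] .nil (.node [(15,(.negSucc 0),1)] .nil .nil)) .nil)) (.node [] (.node [] (.node [] .nil (.node [(13,(.negSucc 0),1)] .nil .nil)) (.node [] .nil (.node [(41,(.ofNat 1),1)] .nil .nil))) (.node [] (.node [] .nil (.node [(25,(.negSucc 0),1)] .nil .nil)) (.node [] .nil (.node [(61,(.negSucc 0),1)] .nil .nil))))))))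
noncomputable def ex3 : Trie (List (ℕ × ℤ × ℕ)) := (.node [] (.node [] (.node [] (.node [] (.node [] (.node [] (.node [] (.node [] .nil (.node [(66,(.negSucc 0),1)] .nil .nil)) .nil) .nil) .nil) (.node [] .nil (.node [] (.node [] .nil (.node [(19,(.ofNat 1),1)] .nil .nil)) (.node [] .nil (.node [(51,(.negSucc 0),1)] .nil .nil))))) (.node [(10,(.ofNat 1),1)] (.node [] (.node [] (.node [] (.node [] .nil (.node [(102,(.negSucc 0),1)] .nil .nil)) .nil) .nil) .nil) (.node [] (.node [] .nil (.node [] .nil (.node [(41,(.ofNat 1),1)] .nil .nil))) (.node [] (.node [] .nil (.node [(25,(.negSucc 0),1)] .nil .nil)) .nil)))) (.node [] (.node [] (.node [] (.node [] (.node [] (.node [] .nil (.node [(76,(.negSucc 0),1)] .nil .nil)) .nil) (.node [] .nil (.node [(31,(.negSucc 0),1)] .nil .nil))) (.node [] .nil (.node [] .nil (.node [(47,(.ofNat 1),1)] .nil .nil)))) (.node [] (.node [] (.node [] .nil (.node [(12,(.negSucc 0),1)] .nil .nil)) .nil) (.node [] .nil (.node [(8,(.negSucc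 0),1)] .nil .nil)))) (.node [] .nil (.node [] .nil (.node [] .nil (.node [] .nil (.node [(64,(.negSucc 0),1)] .nil .nil))))))) (.node [(10,(.ofNat 1),1)] (.node [] (.node [] (.node [] (.node [] (.node [] (.node [] .nil (.node [(0,(.negSucc 0),1),(1,(.negSucc 1),1),(2,(.negSucc 1),1),(3,(.negSucc 2),1),(4,(.negSucc 2),1),(5,(.negSucc 1),1),(6,(.negSucc 0),1),(10,(.negSucc 0),2)] .nil .nil)) .nil) (.node [] .nil (.node [(30,(.ofNat 1),1)] .nil .nil))) (.node [] .nil (.node [] .nil (.node [(46,(.negSucc 0),1)] .nil .nil)))) (.node [] (.node [] (.node [] .nil (.node [(11,(.ofNat 1),1)] .nil .nil)) .nil) (.node [] (.node [] .nil (.node [(20,(.negSucc 0),1)] .nil .nil)) (.node [] .nil (.node [(52,(.ofNat 1),1)] .nil .nil))))) (.node [] (.node [] (.node [] .nil (.node [(7,(.ofNat 1),1)] .nil .nil)) (.node [] (.node [] .nil (.node [(14,(.ofNat 1),1)] .nil .nil)) .nil)) (.node [] (.node [] .nil (.node [] .nil (.node [(42,(.negSucc 0),1)] .nil .nil))) (.node [] (.node []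 .nil (.node [(26,(.ofNat 1),1)] .nil .nil)) (.node [] .nil (.node [(54,(.negSucc 0),1)] .nil .nil)))))) (.node [(10,(.negSucc 0),1)] (.node [] (.node [] (.node [] (.node [] (.node [] .nil (.node [(81,(.ofNat 1),1)] .nil .nil)) .nil) (.node [] .nil (.node [(32,(.ofNat 1),1)] .nil .nil))) (.node [] .nil (.node [] .nil (.node [(48,(.negSucc 0),1)] .nil .nil)))) (.node [] (.node [] (.node [] .nil (.node [(13,(.ofNat 1),1)] .nil .nil)) (.node [] .nil (.node [(40,(.negSucc 0),1)] .nil .nil))) (.node [] (.node [] .nil (.node [(24,(.ofNat 1),1)] .nil .nil)) .nil))) (.node [] (.node [] .nil (.node [] (.node [] .nil (.node [(18,(.negSucc 0),1)] .nil .nil)) (.node [] .nil (.node [(50,(.ofNat 1),1)] .nil .nil)))) (.node [] .nil (.node [] .nil (.node [(9,(.ofNat 1),1)] .nil (.node [(65,(.ofNat 1),1)] .nil .nil))))))))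
noncomputable def ex4 : Trie (List (ℕ × ℤ × ℕ)) := (.node [] (.node [] (.node [] (.node [] (.node [] (.node [] (.node [] (.node [] .nil (.node [(0,(.negSucc 0),1),(1,(.negSucc 1),1),(2,(.negSucc 1),1),(3,(.negSucc 2),1),(4,(.negSucc 1),1),(5,(.negSucc 1),1),(6,(.negSucc 0),1),(11,(.negSucc 0),2)] .nil .nil)) .nil) (.node [] .nil (.node [(31,(.negSucc 0),1)] .nil .nil))) (.node [] .nil (.node [] .nil (.node [(47,(.ofNat 1),1)] .nil .nil)))) (.node [] (.node [] (.node [] .nil (.node [(13,(.negSucc 0),1)] .nil .nil)) .nil) (.node [] (.node [] .nil (.node [(21,(.ofNat 1),1)] .nil .nil)) .nil))) (.node [(11,(.negSucc 0),1)] (.node [] (.node [] (.node [] (.node [] .nil (.node [(103,(.ofNat 1),1)] .nil .nil)) .nil) (.node [(7,(.negSucc 0),1)] .nil .nil)) .nil) (.node [] (.node [] .nil (.node [] .nil (.node [(43,(.ofNat 1),1)] .nil .nil))) (.node [] (.node [] .nil (.node [(27,(.negSucc 0),1)] .nil .nil)) (.node [] .nil (.node [(54,(.negSucc 0),1)] .nil .nil)))))) (.node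 [] (.node [] (.node [] (.node [] (.node [] (.node [] .nil (.node [(77,(.ofNat 1),1)] .nil .nil)) (.node [(10,(.ofNat 1),1)] .nil .nil)) .nil) .nil) (.node [] (.node [] .nil (.node [] .nil (.node [(40,(.negSucc 0),1)] .nil .nil))) (.node [] (.node [] .nil (.node [(24,(.ofNat 1),1)] .nil .nil)) .nil))) (.node [] (.node [] .nil (.node [] (.node [] .nil (.node [(18,(.negSucc 0),1)] .nil .nil)) (.node [] .nil (.node [(51,(.negSucc 0),1)] .nil .nil)))) (.node [] .nil (.node [] .nil (.node [(9,(.negSucc 0),1)] .nil (.node [(67,(.ofNat 1),1)] .nil .nil))))))) (.node [(11,(.ofNat 1),1)] (.node [] (.node [] (.node [] (.node [] (.node [] (.node [] .nil (.node [(73,(.negSucc 0),1)] .nil .nil)) .nil) .nil) .nil) (.node [] .nil (.node [] (.node [] .nil (.node [(22,(.negSucc 0),1)] .nil .nil)) (.node [(8,(.ofNat 1),1)] .nil (.node [(53,(.ofNat 1),1)] .nil .nil))))) (.node [(11,(.ofNat 1),1)] (.node [] .nil (.node [] (.node [] .nil (.node [(15,(.ofNat 1),1)] .nil .nil)) (.node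 [] .nil (.node [(50,(.ofNat 1),1)] .nil .nil)))) (.node [] (.node [] .nil (.node [] .nil (.node [(44,(.negSucc 0),1)] .nil .nil))) (.node [] (.node [] .nil (.node [(28,(.ofNat 1),1)] .nil .nil)) .nil)))) (.node [] (.node [] (.node [] (.node [] (.node [] (.node [] .nil (.node [(82,(.negSucc 0),1)] .nil .nil)) .nil) (.node [] .nil (.node [(33,(.ofNat 1),1)] .nil .nil))) (.node [] .nil (.node [] .nil (.node [(49,(.negSucc 0),1)] .nil .nil)))) (.node [] .nil .nil)) (.node [] (.node [] (.node [] (.node [] .nil (.node [(12,(.ofNat 1),1)] .nil .nil)) .nil) .nil) (.node [] (.node [] .nil (.node [] .nil (.node [(46,(.negSucc 0),1)] .nil .nil))) (.node [] (.node [] .nil (.node [(30,(.ofNat 1),1)] .nil .nil)) (.node [] .nil (.node [(68,(.negSucc 0),1)] .nil .nil))))))))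
noncomputable def ex5 : Trie (List (ℕ × ℤ × ℕ)) := (.node [] (.node [] (.node [] (.node [] (.node [] (.node [] (.node [] (.node [] .nil (.node [(71,(.negSucc 0),1)] .nil .nil)) .nil) (.node [] .nil (.node [(32,(.negSucc 0),1)] .nil .nil))) (.node [] .nil (.node [] .nil (.node [(48,(.ofNat 1),1)] .nil .nil)))) (.node [] .nil (.node [] .nil (.node [(8,(.negSucc 0),1)] .nil (.node [(53,(.ofNat 1),1)] .nil .nil))))) (.node [] (.node [] (.node [] (.node [] (.node [] .nil (.node [(104,(.negSucc 0),1)] .nil .nil)) (.node [(11,(.ofNat 1),1)] .nil .nil)) .nil) (.node [] .nil (.node [] .nil (.node [(50,(.ofNat 1),1)] .nil .nil)))) (.node [] .nil .nil))) (.node [] (.node [] (.node [] (.node [] (.node [] (.node [] .nil (.node [(78,(.negSucc 0),1)] .nil .nil)) .nil) (.node [] .nil (.node [(33,(.ofNat 1),1)] .nil .nil))) (.node [] .nil (.node [] .nil (.node [(49,(.negSucc 0),1)] .nil .nil)))) (.node [] (.node [] .nil (.node [] .nil (.node [(41,(.negSucc 0),1)] .nil .nil))) (.node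 [] (.node [] .nil (.node [(25,(.ofNat 1),1)] .nil .nil)) .nil))) (.node [(12,(.ofNat 1),1)] (.node [] (.node [] (.node [] .nil (.node [(13,(.ofNat 1),1)] .nil .nil)) .nil) (.node [] (.node [] .nil (.node [(19,(.negSucc 0),1)] .nil .nil)) (.node [] .nil (.node [(52,(.negSucc 0),1)] .nil .nil)))) (.node [] (.node [] .nil (.node [] .nil (.node [(46,(.negSucc 0),1)] .nil .nil))) (.node [] (.node [] .nil (.node [(30,(.ofNat 1),1)] .nil .nil)) (.node [] .nil (.node [(69,(.negSucc 0),1)] .nil .nil))))))) (.node [(12,(.ofNat 1),1)] (.node [] (.node [] (.node [] (.node [] (.node [] (.node [] .nil (.node [(74,(.ofNat 1),1)] .nil .nil)) (.node [(10,(.negSucc 0),1)] .nil .nil)) .nil) .nil) (.node [] .nil (.node [] (.node [] .nil (.node [(23,(.negSucc 0),1)] .nil .nil)) .nil))) (.node [(12,(.negSucc 0),1)] (.node [] .nil (.node [] (.node [] .nil (.node [(16,(.ofNat 1),1)] .nil .nil)) .nil)) (.node [] (.node [] .nil (.node [] .nil (.node [(45,(.negSucc 0),1)] .nil .nil))) (.node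 [] (.node [] .nil (.node [(29,(.ofNat 1),1)] .nil .nil)) (.node [(9,(.ofNat 1),1)] .nil .nil))))) (.node [] (.node [] (.node [] (.node [] (.node [] (.node [] .nil (.node [(83,(.ofNat 1),1)] .nil .nil)) .nil) (.node [(7,(.ofNat 1),1)] .nil .nil)) .nil) (.node [] (.node [] .nil (.node [] .nil (.node [(43,(.ofNat 1),1)] .nil .nil))) (.node [] (.node [] .nil (.node [(27,(.negSucc 0),1)] .nil .nil)) (.node [] .nil (.node [(54,(.negSucc 0),1)] .nil .nil))))) (.node [] (.node [] .nil (.node [] (.node [] .nil (.node [(21,(.ofNat 1),1)] .nil .nil)) .nil)) (.node [] .nil (.node [] .nil (.node [] .nil (.node [(0,(.negSucc 0),1),(1,(.negSucc 1),1),(2,(.negSucc 1),1),(3,(.negSucc 2),1),(4,(.negSucc 1),1),(5,(.negSucc 0),1),(6,(.negSucc 0),1),(12,(.negSucc 0),2)] .nil .nil))))))))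
noncomputable def ex6 : Trie (List (ℕ × ℤ × ℕ)) := (.node [] (.node [] (.node [] (.node [] (.node [] (.node [] (.node [] (.node [] .nil (.node [(72,(.ofNat 1),1)] .nil .nil)) (.node [(10,(.ofNat 1),1)] .nil .nil)) .nil) .nil) (.node [] .nil (.node [] (.node [] .nil (.node [(23,(.negSucc 0),1)] .nil .nil)) .nil))) (.node [] (.node [] (.node [] (.node [] (.node [] .nil (.node [(105,(.ofNat 1),1)] .nil .nil)) .nil) .nil) (.node [] .nil (.node [] .nil (.node [(51,(.ofNat 1),1)] .nil .nil)))) (.node [] (.node [] .nil (.node [] .nil (.node [(45,(.negSucc 0),1)] .nil .nil))) (.node [] (.node [] .nil (.node [(29,(.ofNat 1),1)] .nil .nil)) (.node [(9,(.negSucc 0),1)] .nil .nil))))) (.node [] (.node [] (.node [] (.node [] (.node [] (.node [] .nil (.node [(79,(.ofNat 1),1)] .nil .nil)) .nil) (.node [(7,(.negSucc 0),1)] .nil .nil)) .nil) (.node [] (.node [] .nil (.node [] .nil (.node [(42,(.negSucc 0),1)] .nil .nil))) (.node [] (.node [] .nil (.node [(26,(.ofNat 1),1)] .nil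 .nil)) (.node [] .nil (.node [(54,(.negSucc 0),1)] .nil .nil))))) (.node [(13,(.negSucc 0),1)] (.node [] .nil (.node [] (.node [] .nil (.node [(20,(.negSucc 0),1)] .nil .nil)) .nil)) (.node [] (.node [] .nil (.node [] .nil (.node [(47,(.negSucc 0),1)] .nil .nil))) (.node [] (.node [] .nil (.node [(31,(.ofNat 1),1)] .nil .nil)) (.node [] .nil (.node [(0,(.negSucc 0),1),(1,(.negSucc 1),1),(2,(.negSucc 1),1),(3,(.negSucc 2),1),(4,(.negSucc 1),1),(5,(.negSucc 0),1),(13,(.negSucc 0),2)] .nil .nil))))))) (.node [(13,(.ofNat 1),1)] (.node [] (.node [] (.node [] (.node [] (.node [] (.node [] .nil (.node [(75,(.negSucc 0),1)] .nil .nil)) .nil) (.node [] .nil (.node [(33,(.ofNat 1),1)] .nil .nil))) (.node [] .nil (.node [] .nil (.node [(49,(.negSucc 0),1)] .nil .nil)))) .nil) (.node [] (.node [] (.node [] (.node [] .nil (.node [(12,(.ofNat 1),1)] .nil .nil)) .nil) (.node [] (.node [] .nil (.node [(17,(.ofNat 1),1)] .nil .nil)) (.node [] .nil (.node [(52,(.negSucc 0),1)] .nil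 .nil)))) (.node [] .nil .nil))) (.node [] (.node [] (.node [] (.node [] (.node [] (.node [] .nil (.node [(84,(.negSucc 0),1)] .nil .nil)) (.node [(11,(.negSucc 0),1)] .nil .nil)) .nil) .nil) (.node [] (.node [] .nil (.node [] .nil (.node [(44,(.ofNat 1),1)] .nil .nil))) (.node [] (.node [] .nil (.node [(28,(.negSucc 0),1)] .nil .nil)) .nil))) (.node [] (.node [] .nil (.node [] (.node [] .nil (.node [(22,(.ofNat 1),1)] .nil .nil)) (.node [(8,(.ofNat 1),1)] .nil (.node [(53,(.ofNat 1),1)] .nil .nil)))) (.node [] (.node [] .nil (.node [] .nil (.node [(48,(.ofNat 1),1)] .nil .nil))) (.node [] (.node [] .nil (.node [(32,(.negSucc 0),1)] .nil .nil)) (.node [] .nil (.node [(70,(.negSucc 0),1)] .nil .nil))))))))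
noncomputable def ex7 : Trie (List (ℕ × ℤ × ℕ)) := (.node [] (.node [] (.node [] (.node [] .nil (.node [] (.node [] .nil (.node [] .nil (.node [(41,(.ofNat 1),1)] .nil .nil))) (.node [] .nil (.node [] .nil (.node [(61,(.ofNat 1),1)] .nil .nil))))) (.node [(14,(.ofNat 1),1)] (.node [] (.node [] (.node [] (.node [] .nil (.node [(106,(.ofNat 1),1)] .nil .nil)) .nil) .nil) (.node [] (.node [] .nil (.node [(26,(.ofNat 1),1)] .nil .nil)) .nil)) (.node [] .nil (.node [] .nil (.node [] .nil (.node [(66,(.negSucc 0),1)] .nil .nil)))))) (.node [] (.node [] (.node [] (.node [] (.node [] (.node [] .nil (.node [(86,(.negSucc 0),1)] .nil .nil)) .nil) (.node [] .nil (.node [(35,(.negSucc 0),1)] .nil .nil))) (.node [] (.node [] .nil (.node [(24,(.ofNat 1),1)] .nil .nil)) (.node [] .nil (.node [(56,(.ofNat 1),1)] .nil .nil)))) (.node [] (.node [] (.node [] .nil (.node [(16,(.negSucc 0),1)] .nil .nil)) .nil) (.node [] .nil (.node [] .nil (.node [(64,(.negSucc 0),1)] .nil .nil)))))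 (.node [] (.node [] .nil (.node [] .nil (.node [(10,(.ofNat 1),1)] .nil .nil))) (.node [] (.node [] (.node [] .nil (.node [(19,(.negSucc 0),1)] .nil .nil)) .nil) .nil)))) (.node [(14,(.negSucc 0),1)] (.node [] (.node [] (.node [] (.node [] (.node [] (.node [] .nil (.node [(85,(.negSucc 0),1)] .nil .nil)) .nil) (.node [(7,(.negSucc 0),1)] .nil (.node [(34,(.ofNat 1),1)] .nil .nil))) (.node [] .nil (.node [(8,(.ofNat 1),1)] .nil (.node [(55,(.negSucc 0),1)] .nil .nil)))) (.node [] (.node [] (.node [] .nil (.node [(15,(.ofNat 1),1)] .nil .nil)) (.node [] .nil (.node [(42,(.negSucc 0),1)] .nil .nil))) (.node [] .nil (.node [] .nil (.node [(62,(.negSucc 0),1)] .nil .nil))))) (.node [] (.node [] .nil (.node [] .nil (.node [(9,(.ofNat 1),1)] .nil .nil))) (.node [] (.node [] (.node [] .nil (.node [(18,(.ofNat 1),1)] .nil .nil)) .nil) (.node [] .nil (.node [] .nil (.node [(0,(.negSucc 0),1),(1,(.negSucc 0),1),(2,(.negSucc 1),1),(3,(.negSucc 2),1),(4,(.negSucc 2),1),(5,(.negSucc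 1),1),(6,(.negSucc 0),1),(14,(.negSucc 0),2)] .nil .nil)))))) (.node [] (.node [] (.node [] (.node [] (.node [] (.node [] .nil (.node [(90,(.negSucc 0),1)] .nil .nil)) .nil) (.node [] .nil (.node [(36,(.ofNat 1),1)] .nil .nil))) (.node [] (.node [] .nil (.node [(25,(.negSucc 0),1)] .nil .nil)) (.node [] .nil (.node [(57,(.negSucc 0),1)] .nil .nil)))) (.node [] (.node [] (.node [] .nil (.node [(17,(.ofNat 1),1)] .nil .nil)) .nil) (.node [] .nil (.node [] .nil (.node [(65,(.ofNat 1),1)] .nil .nil))))) (.node [] (.node [] (.node [] .nil (.node [] .nil (.node [(40,(.negSucc 0),1)] .nil .nil))) (.node [] .nil (.node [] .nil (.node [(60,(.negSucc 0),1)] .nil .nil)))) (.node [] (.node [] (.node [] .nil (.node [(20,(.ofNat 1),1)] .nil .nil)) .nil) .nil)))))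
noncomputable def ex8 : Trie (List (ℕ × ℤ × ℕ)) := (.node [] (.node [] (.node [] (.node [] (.node [] (.node [] (.node [] (.node [] .nil (.node [(85,(.negSucc 0),1)] .nil .nil)) .nil) (.node [(7,(.ofNat 1),1)] .nil (.node [(35,(.negSucc 0),1)] .nil .nil))) (.node [] .nil (.node [(8,(.negSucc 0),1)] .nil (.node [(56,(.ofNat 1),1)] .nil .nil)))) (.node [] (.node [] (.node [] .nil (.node [(17,(.negSucc 0),1)] .nil .nil)) (.node [] .nil (.node [(43,(.ofNat 1),1)] .nil .nil))) .nil)) (.node [(15,(.negSucc 0),1)] (.node [] (.node [] (.node [] (.node [] .nil (.node [(107,(.negSucc 0),1)] .nil .nil)) .nil) .nil) (.node [] (.node [] .nil (.node [(28,(.ofNat 1),1)] .nil .nil)) (.node [(9,(.negSucc 0),1)] .nil .nil))) (.node [] (.node [] (.node [] .nil (.node [(18,(.ofNat 1),1)] .nil .nil)) .nil) (.node [] .nil (.node [] .nil (.node [(0,(.negSucc 0),1),(1,(.negSucc 0),1),(2,(.negSucc 1),1),(3,(.negSucc 2),1),(4,(.negSucc 1),1),(5,(.negSucc 1),1),(6,(.negSucc 0),1),(15,(.negSucc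 0),2)] .nil .nil)))))) (.node [] (.node [] (.node [] (.node [] (.node [] (.node [] .nil (.node [(87,(.ofNat 1),1)] .nil .nil)) (.node [(14,(.ofNat 1),1)] .nil .nil)) .nil) .nil) (.node [] .nil (.node [] .nil (.node [] .nil (.node [(67,(.ofNat 1),1)] .nil .nil))))) (.node [] (.node [] (.node [] .nil (.node [] .nil (.node [(40,(.negSucc 0),1)] .nil .nil))) (.node [] .nil (.node [(11,(.ofNat 1),1)] .nil (.node [(61,(.ofNat 1),1)] .nil .nil)))) (.node [] (.node [] (.node [] .nil (.node [(21,(.negSucc 0),1)] .nil .nil)) .nil) .nil)))) (.node [(15,(.negSucc 0),1)] (.node [] (.node [] (.node [] .nil (.node [] (.node [] .nil (.node [(24,(.ofNat 1),1)] .nil .nil)) .nil)) (.node [] (.node [] .nil (.node [] .nil (.node [(44,(.negSucc 0),1)] .nil .nil))) (.node [] .nil (.node [] .nil (.node [(63,(.negSucc 0),1)] .nil .nil))))) (.node [(15,(.ofNat 1),1)] (.node [] .nil (.node [] .nil (.node [] .nil (.node [(60,(.negSucc 0),1)] .nil .nil)))) (.node [] .nil (.node [] .nil (.node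 [] .nil (.node [(73,(.negSucc 0),1)] .nil .nil)))))) (.node [(15,(.ofNat 1),1)] (.node [] (.node [] (.node [] (.node [] (.node [] .nil (.node [(91,(.ofNat 1),1)] .nil .nil)) .nil) (.node [] .nil (.node [(37,(.ofNat 1),1)] .nil .nil))) (.node [] (.node [] .nil (.node [(27,(.negSucc 0),1)] .nil .nil)) (.node [] .nil (.node [(58,(.negSucc 0),1)] .nil .nil)))) (.node [] .nil (.node [] .nil (.node [] .nil (.node [(68,(.negSucc 0),1)] .nil .nil))))) (.node [] (.node [] (.node [] (.node [] .nil (.node [(16,(.ofNat 1),1)] .nil .nil)) .nil) .nil) (.node [] (.node [] (.node [] .nil (.node [(22,(.ofNat 1),1)] .nil .nil)) (.node [] .nil (.node [(55,(.negSucc 0),1)] .nil .nil))) (.node [] (.node [] .nil (.node [(34,(.ofNat 1),1)] .nil .nil)) .nil))))))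
noncomputable def ex9 : Trie (List (ℕ × ℤ × ℕ)) := (.node [] (.node [] (.node [] (.node [] (.node [] (.node [] .nil (.node [] .nil (.node [(36,(.negSucc 0),1)] .nil .nil))) (.node [] .nil (.node [] .nil (.node [(57,(.ofNat 1),1)] .nil .nil)))) (.node [] .nil (.node [] .nil (.node [] .nil (.node [(63,(.negSucc 0),1)] .nil .nil))))) (.node [] (.node [] (.node [] (.node [] (.node [] .nil (.node [(108,(.ofNat 1),1)] .nil .nil)) (.node [(15,(.ofNat 1),1)] .nil .nil)) .nil) (.node [] (.node [] .nil (.node [(29,(.ofNat 1),1)] .nil .nil)) (.node [] .nil (.node [(60,(.negSucc 0),1)] .nil .nil)))) (.node [] (.node [] (.node [] .nil (.node [(19,(.ofNat 1),1)] .nil .nil)) .nil) (.node [] .nil (.node [] .nil (.node [(71,(.negSucc 0),1)] .nil .nil)))))) (.node [] (.node [] (.node [] (.node [] (.node [] (.node [] .nil (.node [(88,(.negSucc 0),1)] .nil .nil)) .nil) (.node [] .nil (.node [(37,(.ofNat 1),1)] .nil .nil))) (.node [] (.node [] .nil (.node [(27,(.negSucc 0),1)] .nil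 .nil)) (.node [] .nil (.node [(58,(.negSucc 0),1)] .nil .nil)))) (.node [] .nil (.node [] .nil (.node [] .nil (.node [(69,(.negSucc 0),1)] .nil .nil))))) (.node [(16,(.ofNat 1),1)] (.node [] (.node [] (.node [] .nil (.node [(17,(.ofNat 1),1)] .nil .nil)) (.node [] .nil (.node [(41,(.negSucc 0),1)] .nil .nil))) (.node [] .nil (.node [(12,(.ofNat 1),1)] .nil (.node [(62,(.ofNat 1),1)] .nil .nil)))) (.node [] (.node [] .nil (.node [] .nil (.node [(55,(.negSucc 0),1)] .nil .nil))) (.node [] (.node [] .nil (.node [(34,(.ofNat 1),1)] .nil .nil)) .nil))))) (.node [(16,(.negSucc 0),1)] (.node [] (.node [] (.node [] (.node [] (.node [] .nil (.node [(14,(.negSucc 0),1)] .nil .nil)) .nil) (.node [] (.node [] .nil (.node [(25,(.ofNat 1),1)] .nil .nil)) .nil)) (.node [] (.node [] .nil (.node [] .nil (.node [(45,(.negSucc 0),1)] .nil .nil))) .nil)) (.node [(16,(.negSucc 0),1)] .nil (.node [] (.node [] (.node [] .nil (.node [(21,(.negSucc 0),1)] .nil .nil)) .nil) (.node [] .nil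 (.node [] .nil (.node [(74,(.ofNat 1),1)] .nil .nil)))))) (.node [(16,(.ofNat 1),1)] (.node [] (.node [] (.node [] (.node [] (.node [] .nil (.node [(92,(.negSucc 0),1)] .nil .nil)) .nil) .nil) (.node [] .nil (.node [(9,(.ofNat 1),1)] .nil .nil))) (.node [] .nil (.node [] .nil (.node [] .nil (.node [(0,(.negSucc 0),1),(1,(.negSucc 0),1),(2,(.negSucc 1),1),(3,(.negSucc 2),1),(4,(.negSucc 1),1),(5,(.negSucc 0),1),(6,(.negSucc 0),1),(16,(.negSucc 0),2)] .nil .nil))))) (.node [] (.node [] (.node [] .nil (.node [] .nil (.node [(43,(.ofNat 1),1)] .nil .nil))) .nil) (.node [] (.node [] (.node [] .nil (.node [(23,(.ofNat 1),1)] .nil .nil)) (.node [(8,(.ofNat 1),1)] .nil .nil)) (.node [(7,(.negSucc 0),1)] .nil (.node [] .nil (.node [(85,(.negSucc 0),1)] .nil .nil))))))))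
noncomputable def ex10 : Trie (List (ℕ × ℤ × ℕ)) := (.node [] (.node [] (.node [] (.node [] (.node [] (.node [] (.node [] .nil (.node [(14,(.ofNat 1),1)] .nil .nil)) .nil) .nil) (.node [] (.node [] .nil (.node [] .nil (.node [(45,(.negSucc 0),1)] .nil .nil))) .nil)) (.node [] (.node [] (.node [] (.node [] (.node [] .nil (.node [(109,(.negSucc 0),1)] .nil .nil)) .nil) .nil) (.node [] .nil (.node [] .nil (.node [(61,(.negSucc 0),1)] .nil .nil)))) (.node [] (.node [] (.node [] .nil (.node [(20,(.ofNat 1),1)] .nil .nil)) .nil) (.node [] .nil (.node [] .nil (.node [(72,(.ofNat 1),1)] .nil .nil)))))) (.node [] (.node [] (.node [] (.node [] (.node [] (.node [] .nil (.node [(89,(.ofNat 1),1)] .nil .nil)) .nil) .nil) (.node [] (.node [] .nil (.node [(28,(.negSucc 0),1)] .nil .nil)) (.node [(9,(.negSucc 0),1)] .nil .nil))) (.node [] .nil (.node [] .nil (.node [] .nil (.node [(0,(.negSucc 0),1),(1,(.negSucc 0),1),(2,(.negSucc 1),1),(3,(.negSucc 2),1),(4,(.negSucc 1),1),(5,(.negSucc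 0),1),(17,(.negSucc 0),2)] .nil .nil))))) (.node [(17,(.negSucc 0),1)] (.node [] (.node [] .nil (.node [] .nil (.node [(42,(.negSucc 0),1)] .nil .nil))) (.node [] .nil (.node [(13,(.ofNat 1),1)] .nil .nil))) (.node [] (.node [] (.node [] .nil (.node [(23,(.ofNat 1),1)] .nil .nil)) (.node [(8,(.negSucc 0),1)] .nil (.node [(56,(.negSucc 0),1)] .nil .nil))) (.node [(7,(.ofNat 1),1)] (.node [] .nil (.node [(35,(.ofNat 1),1)] .nil .nil)) (.node [] .nil (.node [(85,(.negSucc 0),1)] .nil .nil))))))) (.node [(17,(.negSucc 0),1)] (.node [] (.node [] (.node [] (.node [] .nil (.node [] .nil (.node [(37,(.ofNat 1),1)] .nil .nil))) (.node [] (.node [] .nil (.node [(26,(.ofNat 1),1)] .nil .nil)) (.node [] .nil (.node [(58,(.negSucc 0),1)] .nil .nil)))) .nil) (.node [] (.node [] (.node [] (.node [] .nil (.node [(16,(.ofNat 1),1)] .nil .nil)) .nil) (.node [] .nil (.node [] .nil (.node [(62,(.ofNat 1),1)] .nil .nil)))) (.node [] (.node [] (.node [] .nil (.node [(22,(.negSucc 0),1)]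 .nil .nil)) .nil) (.node [] .nil (.node [] .nil (.node [(75,(.negSucc 0),1)] .nil .nil)))))) (.node [(17,(.ofNat 1),1)] (.node [] (.node [] (.node [] (.node [] (.node [] .nil (.node [(93,(.ofNat 1),1)] .nil .nil)) (.node [(15,(.negSucc 0),1)] .nil .nil)) .nil) (.node [] (.node [] .nil (.node [(29,(.ofNat 1),1)] .nil .nil)) .nil)) (.node [] .nil (.node [] .nil (.node [] .nil (.node [(70,(.negSucc 0),1)] .nil .nil))))) (.node [] (.node [] (.node [] .nil (.node [] .nil (.node [(44,(.ofNat 1),1)] .nil .nil))) (.node [] .nil (.node [] .nil (.node [(63,(.negSucc 0),1)] .nil .nil)))) (.node [] (.node [] .nil (.node [] .nil (.node [(57,(.ofNat 1),1)] .nil .nil))) (.node [] (.node [] .nil (.node [(36,(.negSucc 0),1)] .nil .nil)) .nil))))))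
noncomputable def ex11 : Trie (List (ℕ × ℤ × ℕ)) := (.node [] (.node [] (.node [] (.node [] (.node [] (.node [] (.node [] (.node [] .nil (.node [(86,(.ofNat 1),1)] .nil .nil)) .nil) .nil) (.node [] (.node [] .nil (.node [(24,(.ofNat 1),1)] .nil .nil)) .nil)) (.node [] (.node [] (.node [] .nil (.node [(20,(.negSucc 0),1)] .nil .nil)) (.node [] .nil (.node [(46,(.ofNat 1),1)] .nil .nil))) (.node [] .nil (.node [] .nil (.node [(68,(.negSucc 0),1)] .nil .nil))))) (.node [] (.node [] (.node [] (.node [] (.node [] .nil (.node [(110,(.ofNat 1),1)] .nil .nil)) .nil) .nil) (.node [] (.node [] .nil (.node [(31,(.ofNat 1),1)] .nil .nil)) (.node [(10,(.negSucc 0),1)] .nil .nil))) (.node [] (.node [] .nil (.node [] .nil (.node [(55,(.negSucc 0),1)] .nil .nil))) (.node [] (.node [] .nil (.node [(34,(.ofNat 1),1)] .nil .nil)) (.node [] .nil (.node [(76,(.negSucc 0),1)] .nil .nil)))))) (.node [(18,(.ofNat 1),1)] (.node [] (.node [] .nil (.node [] .nil .nil)) (.node [] (.node []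 (.node [] .nil (.node [(21,(.ofNat 1),1)] .nil .nil)) .nil) .nil)) (.node [] (.node [] .nil (.node [] .nil (.node [] .nil (.node [(65,(.negSucc 0),1)] .nil .nil)))) (.node [] .nil (.node [] .nil (.node [(14,(.ofNat 1),1)] .nil .nil)))))) (.node [] (.node [] (.node [] (.node [] (.node [] (.node [] (.node [] .nil (.node [(87,(.ofNat 1),1)] .nil .nil)) .nil) .nil) .nil) (.node [] (.node [] .nil (.node [] .nil (.node [(47,(.negSucc 0),1)] .nil .nil))) (.node [] .nil (.node [] .nil (.node [(0,(.negSucc 0),1),(1,(.negSucc 0),1),(2,(.negSucc 1),1),(3,(.negSucc 1),1),(4,(.negSucc 1),1),(5,(.negSucc 1),1),(6,(.negSucc 0),1),(18,(.negSucc 0),2)] .nil .nil))))) (.node [(18,(.ofNat 1),1)] (.node [] (.node [] .nil (.node [] .nil (.node [(40,(.negSucc 0),1)] .nil .nil))) (.node [] .nil (.node [(11,(.negSucc 0),1)] .nil (.node [(64,(.ofNat 1),1)] .nil .nil)))) (.node [] (.node [] .nil (.node [(8,(.ofNat 1),1)] .nil (.node [(56,(.ofNat 1),1)] .nil .nil))) (.node [(7,(.negSucc 0),1)]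 (.node [] .nil (.node [(35,(.negSucc 0),1)] .nil .nil)) (.node [] .nil (.node [(77,(.negSucc 0),1)] .nil .nil)))))) (.node [(18,(.negSucc 0),1)] (.node [] (.node [] (.node [] (.node [] (.node [] .nil (.node [(94,(.negSucc 0),1)] .nil .nil)) .nil) (.node [] .nil (.node [(38,(.ofNat 1),1)] .nil .nil))) (.node [] (.node [] .nil (.node [(30,(.negSucc 0),1)] .nil .nil)) (.node [] .nil (.node [(59,(.negSucc 0),1)] .nil .nil)))) (.node [] (.node [] (.node [] .nil (.node [(22,(.negSucc 0),1)] .nil .nil)) .nil) .nil)) (.node [] (.node [] (.node [] (.node [] .nil (.node [(19,(.ofNat 1),1)] .nil .nil)) .nil) (.node [] .nil (.node [] .nil (.node [(67,(.ofNat 1),1)] .nil .nil)))) (.node [] .nil (.node [] .nil (.node [(15,(.ofNat 1),1)] .nil .nil)))))))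
noncomputable def ex12 : Trie (List (ℕ × ℤ × ℕ)) := (.node [] (.node [] (.node [] (.node [] (.node [] .nil (.node [] (.node [] .nil (.node [(25,(.ofNat 1),1)] .nil .nil)) .nil)) (.node [] .nil (.node [] .nil (.node [] .nil (.node [(0,(.negSucc 0),1),(1,(.negSucc 0),1),(2,(.negSucc 1),1),(3,(.negSucc 1),1),(4,(.negSucc 1),1),(5,(.negSucc 0),1),(6,(.negSucc 0),1),(19,(.negSucc 0),2)] .nil .nil))))) (.node [(19,(.ofNat 1),1)] (.node [] (.node [] (.node [] (.node [] .nil (.node [(111,(.negSucc 0),1)] .nil .nil)) (.node [(18,(.ofNat 1),1)] .nil .nil)) .nil) (.node [] (.node [] .nil (.node [(32,(.ofNat 1),1)] .nil .nil)) (.node [] .nil (.node [(64,(.ofNat 1),1)] .nil .nil)))) (.node [] (.node [] .nil (.node [(8,(.negSucc 0),1)] .nil .nil)) (.node [(7,(.ofNat 1),1)] .nil .nil)))) (.node [(19,(.ofNat 1),1)] (.node [] (.node [] (.node [] .nil (.node [] .nil (.node [(38,(.ofNat 1),1)] .nil .nil))) (.node [] (.node [] .nil (.node [(30,(.negSucc 0),1)] .nil .nil)) (.node []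 .nil (.node [(59,(.negSucc 0),1)] .nil .nil)))) .nil) (.node [(19,(.ofNat 1),1)] (.node [] (.node [] (.node [] .nil (.node [(20,(.ofNat 1),1)] .nil .nil)) .nil) (.node [] .nil (.node [] .nil (.node [(66,(.negSucc 0),1)] .nil .nil)))) .nil))) (.node [] (.node [] (.node [] (.node [] (.node [] (.node [] (.node [] .nil (.node [(88,(.negSucc 0),1)] .nil .nil)) .nil) .nil) .nil) (.node [] (.node [] (.node [] .nil (.node [(21,(.ofNat 1),1)] .nil .nil)) (.node [] .nil (.node [(48,(.negSucc 0),1)] .nil .nil))) (.node [] .nil (.node [] .nil (.node [(71,(.negSucc 0),1)] .nil .nil))))) (.node [(19,(.negSucc 0),1)] (.node [] (.node [] .nil (.node [] .nil (.node [(41,(.negSucc 0),1)] .nil .nil))) (.node [] .nil (.node [(12,(.negSucc 0),1)] .nil .nil))) (.node [] (.node [] .nil (.node [] .nil (.node [(57,(.ofNat 1),1)] .nil .nil))) (.node [] (.node [] .nil (.node [(36,(.negSucc 0),1)] .nil .nil)) (.node [(14,(.negSucc 0),1)] .nil (.node [(78,(.ofNat 1),1)] .nil .nil)))))) (.node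 [(19,(.negSucc 0),1)] (.node [] (.node [] (.node [] (.node [] (.node [] .nil (.node [(95,(.ofNat 1),1)] .nil .nil)) .nil) .nil) (.node [] .nil (.node [(10,(.ofNat 1),1)] .nil .nil))) (.node [] (.node [] (.node [] .nil (.node [(23,(.negSucc 0),1)] .nil .nil)) (.node [] .nil (.node [(55,(.negSucc 0),1)] .nil .nil))) (.node [] (.node [] .nil (.node [(34,(.ofNat 1),1)] .nil .nil)) (.node [] .nil (.node [(76,(.negSucc 0),1)] .nil .nil))))) (.node [] (.node [] (.node [] .nil (.node [] .nil (.node [(46,(.ofNat 1),1)] .nil .nil))) (.node [] .nil (.node [] .nil (.node [(69,(.negSucc 0),1)] .nil .nil)))) (.node [] .nil (.node [] .nil (.node [(16,(.ofNat 1),1)] .nil (.node [(86,(.ofNat 1),1)] .nil .nil))))))))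
noncomputable def ex13 : Trie (List (ℕ × ℤ × ℕ)) := (.node [] (.node [] (.node [] (.node [] (.node [] .nil (.node [] (.node [] .nil (.node [(26,(.ofNat 1),1)] .nil .nil)) .nil)) (.node [] (.node [] .nil (.node [] .nil (.node [(48,(.negSucc 0),1)] .nil .nil))) (.node [] .nil (.node [] .nil (.node [(70,(.negSucc 0),1)] .nil .nil))))) (.node [(20,(.ofNat 1),1)] (.node [] (.node [] (.node [] (.node [] .nil (.node [(112,(.ofNat 1),1)] .nil .nil)) .nil) .nil) (.node [] .nil (.node [] .nil (.node [(65,(.ofNat 1),1)] .nil .nil)))) (.node [] (.node [] .nil (.node [] .nil (.node [(57,(.ofNat 1),1)] .nil .nil))) (.node [] (.node [] .nil (.node [(36,(.negSucc 0),1)] .nil .nil)) (.node [(14,(.ofNat 1),1)] .nil .nil))))) (.node [(20,(.ofNat 1),1)] (.node [] (.node [] .nil (.node [] (.node [] .nil (.node [(31,(.negSucc 0),1)] .nil .nil)) (.node [(10,(.negSucc 0),1)] .nil .nil))) (.node [] (.node [] (.node [] .nil (.node [(23,(.negSucc 0),1)] .nil .nil)) .nil) (.node [] .nil (.node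 [] .nil (.node [(76,(.negSucc 0),1)] .nil .nil))))) (.node [(20,(.negSucc 0),1)] .nil (.node [] .nil (.node [] .nil (.node [] .nil (.node [(86,(.ofNat 1),1)] .nil .nil))))))) (.node [] (.node [] (.node [] (.node [] (.node [] (.node [] (.node [] .nil (.node [(89,(.ofNat 1),1)] .nil .nil)) .nil) (.node [] .nil (.node [(38,(.ofNat 1),1)] .nil .nil))) (.node [] .nil (.node [] .nil (.node [(59,(.negSucc 0),1)] .nil .nil)))) (.node [] (.node [] (.node [] .nil (.node [(22,(.ofNat 1),1)] .nil .nil)) .nil) (.node [] .nil (.node [] .nil (.node [(72,(.ofNat 1),1)] .nil .nil))))) (.node [] (.node [] (.node [] (.node [] .nil (.node [(19,(.ofNat 1),1)] .nil .nil)) (.node [] .nil (.node [(42,(.negSucc 0),1)] .nil .nil))) (.node [] .nil (.node [(13,(.negSucc 0),1)] .nil (.node [(66,(.negSucc 0),1)] .nil .nil)))) (.node [] .nil (.node [] .nil (.node [] .nil (.node [(79,(.negSucc 0),1)] .nil .nil)))))) (.node [(20,(.negSucc 0),1)] (.node [] (.node [] (.node [] (.node [] (.node []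 .nil (.node [(96,(.negSucc 0),1)] .nil .nil)) (.node [(18,(.negSucc 0),1)] .nil .nil)) .nil) (.node [] (.node [] .nil (.node [(32,(.ofNat 1),1)] .nil .nil)) .nil)) (.node [] (.node [] .nil (.node [(8,(.ofNat 1),1)] .nil (.node [(56,(.negSucc 0),1)] .nil .nil))) (.node [(7,(.negSucc 0),1)] (.node [] .nil (.node [(35,(.ofNat 1),1)] .nil .nil)) .nil))) (.node [] (.node [] (.node [] .nil (.node [] .nil (.node [(47,(.ofNat 1),1)] .nil .nil))) (.node [] .nil (.node [] .nil (.node [(0,(.negSucc 0),1),(1,(.negSucc 0),1),(2,(.negSucc 1),1),(3,(.negSucc 1),1),(4,(.negSucc 1),1),(5,(.negSucc 0),1),(20,(.negSucc 0),2)] .nil .nil)))) (.node [] .nil (.node [] .nil (.node [(17,(.ofNat 1),1)] .nil .nil)))))))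
noncomputable def ex14 : Trie (List (ℕ × ℤ × ℕ)) := (.node [] (.node [] (.node [] (.node [] (.node [] (.node [] (.node [] (.node [] .nil (.node [(88,(.negSucc 0),1)] .nil .nil)) .nil) (.node [] .nil (.node [(38,(.ofNat 1),1)] .nil .nil))) (.node [] (.node [] .nil (.node [(27,(.ofNat 1),1)] .nil .nil)) (.node [] .nil (.node [(59,(.negSucc 0),1)] .nil .nil)))) (.node [] (.node [] (.node [] .nil (.node [(23,(.ofNat 1),1)] .nil .nil)) .nil) (.node [] .nil (.node [] .nil (.node [(73,(.negSucc 0),1)] .nil .nil))))) (.node [(21,(.negSucc 0),1)] (.node [] (.node [] (.node [] (.node [] .nil (.node [(113,(.ofNat 1),1)] .nil .nil)) .nil) .nil) (.node [] (.node [] .nil (.node [(33,(.ofNat 1),1)] .nil .nil)) (.node [(12,(.ofNat 1),1)] .nil (.node [(67,(.negSucc 0),1)] .nil .nil)))) (.node [] .nil (.node [] .nil (.node [] .nil (.node [(78,(.ofNat 1),1)] .nil .nil)))))) (.node [(21,(.ofNat 1),1)] (.node [] (.node [] (.node [] (.node [] .nil (.node [(19,(.ofNat 1),1)] .nil .nil))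 .nil) .nil) (.node [] (.node [] .nil (.node [(8,(.ofNat 1),1)] .nil (.node [(55,(.negSucc 0),1)] .nil .nil))) (.node [(7,(.negSucc 0),1)] (.node [] .nil (.node [(34,(.ofNat 1),1)] .nil .nil)) .nil))) (.node [(21,(.ofNat 1),1)] (.node [] (.node [] (.node [] .nil (.node [(22,(.ofNat 1),1)] .nil .nil)) (.node [] .nil (.node [(46,(.ofNat 1),1)] .nil .nil))) (.node [] .nil (.node [] .nil (.node [(0,(.negSucc 0),1),(1,(.negSucc 0),1),(2,(.negSucc 1),1),(3,(.negSucc 1),1),(4,(.negSucc 0),1),(5,(.negSucc 0),1),(6,(.negSucc 0),1),(21,(.negSucc 0),2)] .nil .nil)))) (.node [] .nil (.node [] .nil (.node [(16,(.negSucc 0),1)] .nil .nil)))))) (.node [] (.node [] (.node [] (.node [] (.node [] (.node [] .nil (.node [(18,(.ofNat 1),1)] .nil .nil)) .nil) (.node [] (.node [] .nil (.node [(30,(.negSucc 0),1)] .nil .nil)) .nil)) (.node [] (.node [] .nil (.node [] .nil (.node [(49,(.negSucc 0),1)] .nil .nil))) (.node [] .nil (.node [] .nil (.node [(74,(.negSucc 0),1)] .nil .nil)))))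 (.node [] (.node [] (.node [] .nil (.node [] .nil (.node [(43,(.negSucc 0),1)] .nil .nil))) (.node [] .nil (.node [] .nil (.node [(69,(.negSucc 0),1)] .nil .nil)))) (.node [] (.node [] .nil (.node [] .nil (.node [(58,(.ofNat 1),1)] .nil .nil))) (.node [] (.node [] .nil (.node [(37,(.negSucc 0),1)] .nil .nil)) (.node [(15,(.negSucc 0),1)] .nil .nil))))) (.node [] (.node [] (.node [] (.node [] (.node [] (.node [] .nil (.node [(97,(.negSucc 0),1)] .nil .nil)) .nil) .nil) (.node [] .nil (.node [(11,(.ofNat 1),1)] .nil .nil))) (.node [] .nil (.node [] .nil (.node [] .nil (.node [(77,(.ofNat 1),1)] .nil .nil))))) (.node [] .nil (.node [] .nil (.node [] .nil (.node [] .nil (.node [(87,(.negSucc 0),1)] .nil .nil))))))))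
noncomputable def ex15 : Trie (List (ℕ × ℤ × ℕ)) := (.node [] (.node [] (.node [] (.node [] (.node [] (.node [] (.node [] (.node [] .nil (.node [(89,(.ofNat 1),1)] .nil .nil)) (.node [(18,(.negSucc 0),1)] .nil .nil)) .nil) (.node [] (.node [] .nil (.node [(28,(.ofNat 1),1)] .nil .nil)) .nil)) (.node [] (.node [] .nil (.node [] .nil (.node [(49,(.negSucc 0),1)] .nil .nil))) .nil)) (.node [(22,(.negSucc 0),1)] (.node [] (.node [] (.node [] (.node [] .nil (.node [(114,(.negSucc 0),1)] .nil .nil)) .nil) .nil) (.node [] .nil (.node [(13,(.ofNat 1),1)] .nil (.node [(68,(.negSucc 0),1)] .nil .nil)))) (.node [] (.node [] .nil (.node [] .nil (.node [(58,(.ofNat 1),1)] .nil .nil))) (.node [] (.node [] .nil (.node [(37,(.negSucc 0),1)] .nil .nil)) (.node [(15,(.ofNat 1),1)] .nil (.node [(79,(.negSucc 0),1)] .nil .nil)))))) (.node [(22,(.ofNat 1),1)] (.node [] (.node [] (.node [] (.node [] .nil (.node [(20,(.ofNat 1),1)] .nil .nil)) .nil) (.node [] .nil (.node [(11,(.negSucc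 0),1)] .nil .nil))) (.node [] (.node [] .nil (.node [] .nil (.node [(56,(.negSucc 0),1)] .nil .nil))) (.node [] (.node [] .nil (.node [(35,(.ofNat 1),1)] .nil .nil)) (.node [] .nil (.node [(77,(.ofNat 1),1)] .nil .nil))))) (.node [(22,(.negSucc 0),1)] (.node [] (.node [] .nil (.node [] .nil (.node [(47,(.ofNat 1),1)] .nil .nil))) (.node [] .nil (.node [] .nil (.node [(70,(.negSucc 0),1)] .nil .nil)))) (.node [] .nil (.node [] .nil (.node [(17,(.negSucc 0),1)] .nil (.node [(87,(.negSucc 0),1)] .nil .nil))))))) (.node [] (.node [] (.node [] (.node [] .nil (.node [] (.node [] .nil (.node [(31,(.negSucc 0),1)] .nil .nil)) .nil)) (.node [] (.node [] .nil (.node [(8,(.negSucc 0),1)] .nil .nil)) (.node [(7,(.ofNat 1),1)] .nil (.node [] .nil (.node [(75,(.ofNat 1),1)] .nil .nil))))) (.node [(22,(.ofNat 1),1)] (.node [] (.node [] (.node [] .nil (.node [(21,(.ofNat 1),1)] .nil .nil)) (.node [] .nil (.node [(44,(.negSucc 0),1)] .nil .nil))) (.node [] .nil (.node [] .nil (.node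 [(0,(.negSucc 0),1),(1,(.negSucc 0),1),(2,(.negSucc 1),1),(3,(.negSucc 1),1),(4,(.negSucc 0),1),(5,(.negSucc 0),1),(22,(.negSucc 0),2)] .nil .nil)))) .nil)) (.node [] (.node [] (.node [] (.node [] (.node [] (.node [] .nil (.node [(98,(.ofNat 1),1)] .nil .nil)) .nil) .nil) (.node [] (.node [] .nil (.node [(33,(.ofNat 1),1)] .nil .nil)) .nil)) .nil) (.node [] (.node [] (.node [] (.node [] .nil (.node [(23,(.ofNat 1),1)] .nil .nil)) .nil) (.node [] .nil (.node [] .nil (.node [(73,(.negSucc 0),1)] .nil .nil)))) (.node [] (.node [] .nil (.node [] .nil (.node [(59,(.negSucc 0),1)] .nil .nil))) (.node [] (.node [] .nil (.node [(38,(.ofNat 1),1)] .nil .nil)) .nil))))))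
noncomputable def ex16 : Trie (List (ℕ × ℤ × ℕ)) := (.node [] (.node [] (.node [] (.node [] (.node [] (.node [] (.node [] .nil (.node [(19,(.negSucc 0),1)] .nil .nil)) .nil) (.node [] (.node [] .nil (.node [(29,(.ofNat 1),1)] .nil .nil)) .nil)) (.node [] (.node [] .nil (.node [(8,(.ofNat 1),1)] .nil .nil)) (.node [(7,(.negSucc 0),1)] .nil (.node [] .nil (.node [(75,(.ofNat 1),1)] .nil .nil))))) (.node [] (.node [] (.node [] (.node [] (.node [] .nil (.node [(115,(.ofNat 1),1)] .nil .nil)) (.node [(22,(.ofNat 1),1)] .nil .nil)) .nil) (.node [] .nil (.node [] .nil (.node [(0,(.negSucc 0),1),(1,(.negSucc 0),1),(2,(.negSucc 1),1),(3,(.negSucc 1),1),(4,(.negSucc 0),1),(23,(.negSucc 0),2)] .nil .nil)))) (.node [] .nil (.node [] .nil (.node [(16,(.ofNat 1),1)] .nil .nil))))) (.node [(23,(.ofNat 1),1)] (.node [] (.node [] .nil (.node [] (.node [] .nil (.node [(33,(.ofNat 1),1)] .nil .nil)) (.node [(12,(.negSucc 0),1)] .nil .nil))) (.node [] (.node [] .nil (.node [] .nil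 (.node [(57,(.negSucc 0),1)] .nil .nil))) (.node [] (.node [] .nil (.node [(36,(.ofNat 1),1)] .nil .nil)) (.node [] .nil (.node [(78,(.negSucc 0),1)] .nil .nil))))) (.node [] (.node [] (.node [] .nil (.node [] .nil (.node [(48,(.ofNat 1),1)] .nil .nil))) (.node [] .nil (.node [] .nil (.node [(72,(.negSucc 0),1)] .nil .nil)))) (.node [] (.node [] .nil (.node [] .nil (.node [(59,(.negSucc 0),1)] .nil .nil))) (.node [] (.node [] .nil (.node [(38,(.ofNat 1),1)] .nil .nil)) (.node [] .nil (.node [(88,(.ofNat 1),1)] .nil .nil))))))) (.node [] (.node [] (.node [] (.node [] (.node [] (.node [] .nil (.node [(20,(.negSucc 0),1)] .nil .nil)) .nil) (.node [] (.node [] .nil (.node [(32,(.negSucc 0),1)] .nil .nil)) .nil)) .nil) (.node [(23,(.negSucc 0),1)] (.node [] (.node [] .nil (.node [] .nil (.node [(45,(.negSucc 0),1)] .nil .nil))) (.node [] .nil (.node [] .nil (.node [(71,(.negSucc 0),1)] .nil .nil)))) (.node [] .nil (.node [] .nil (.node [(17,(.ofNat 1),1)] .nil .nil)))))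 (.node [] (.node [] (.node [] (.node [] (.node [] (.node [] .nil (.node [(99,(.negSucc 0),1)] .nil .nil)) (.node [(21,(.ofNat 1),1)] .nil .nil)) .nil) (.node [] .nil (.node [(13,(.negSucc 0),1)] .nil .nil))) (.node [] (.node [] .nil (.node [] .nil (.node [(58,(.ofNat 1),1)] .nil .nil))) (.node [] (.node [] .nil (.node [(37,(.negSucc 0),1)] .nil .nil)) (.node [] .nil (.node [(79,(.negSucc 0),1)] .nil .nil))))) (.node [] (.node [] (.node [] .nil (.node [] .nil (.node [(49,(.negSucc 0),1)] .nil .nil))) (.node [] .nil (.node [] .nil (.node [(74,(.ofNat 1),1)] .nil .nil)))) (.node [] .nil (.node [] .nil (.node [] .nil (.node [(89,(.ofNat 1),1)] .nil .nil))))))))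
noncomputable def ex17 : Trie (List (ℕ × ℤ × ℕ)) := (.node [(24,(.ofNat 1),1)] (.node [] (.node [] (.node [] (.node [] (.node [] (.node [] (.node [] .nil (.node [(90,(.negSucc 0),1)] .nil .nil)) .nil) .nil) (.node [] .nil (.node [(10,(.ofNat 1),1)] .nil (.node [(65,(.negSucc 0),1)] .nil .nil)))) (.node [] (.node [] (.node [] .nil (.node [(26,(.negSucc 0),1)] .nil .nil)) (.node [] .nil (.node [(50,(.ofNat 1),1)] .nil .nil))) (.node [] (.node [] .nil (.node [(34,(.ofNat 1),1)] .nil .nil)) .nil))) (.node [] (.node [] (.node [] (.node [] (.node [] .nil (.node [(116,(.negSucc 0),1)] .nil .nil)) .nil) (.node [] .nil (.node [(40,(.negSucc 0),1)] .nil .nil))) .nil) (.node [] (.node [] .nil (.node [] .nil (.node [(60,(.ofNat 1),1)] .nil .nil))) (.node [] .nil (.node [] .nil (.node [(81,(.negSucc 0),1)] .nil .nil)))))) (.node [(24,(.negSucc 0),1)] (.node [] (.node [] (.node [] (.node [] (.node [] .nil (.node [(94,(.negSucc 0),1)] .nil .nil)) .nil) .nil) (.node [] .nil (.node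 [] .nil (.node [(68,(.negSucc 0),1)] .nil .nil)))) (.node [] (.node [] (.node [] .nil (.node [(27,(.ofNat 1),1)] .nil .nil)) .nil) (.node [] .nil (.node [(15,(.ofNat 1),1)] .nil .nil)))) (.node [] .nil (.node [] (.node [] (.node [] .nil (.node [(30,(.ofNat 1),1)] .nil .nil)) .nil) .nil)))) (.node [] (.node [] (.node [] (.node [] (.node [] (.node [] (.node [] .nil (.node [(91,(.negSucc 0),1)] .nil .nil)) .nil) .nil) (.node [] .nil (.node [(11,(.ofNat 1),1)] .nil (.node [(67,(.ofNat 1),1)] .nil .nil)))) (.node [] (.node [] .nil (.node [] .nil (.node [(51,(.negSucc 0),1)] .nil .nil))) (.node [] (.node [] .nil (.node [(35,(.negSucc 0),1)] .nil .nil)) (.node [(14,(.ofNat 1),1)] .nil (.node [(80,(.negSucc 0),1)] .nil .nil))))) (.node [(24,(.ofNat 1),1)] .nil (.node [] (.node [] .nil (.node [(9,(.ofNat 1),1)] .nil (.node [(61,(.negSucc 0),1)] .nil .nil))) (.node [] .nil (.node [] .nil (.node [(82,(.negSucc 0),1)] .nil .nil)))))) (.node [] (.node [] (.node [] (.node []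 .nil (.node [] .nil (.node [(39,(.ofNat 1),1)] .nil .nil))) (.node [] .nil (.node [] .nil (.node [(0,(.negSucc 0),1),(1,(.negSucc 0),1),(2,(.negSucc 0),1),(3,(.negSucc 1),1),(4,(.negSucc 1),1),(5,(.negSucc 1),1),(6,(.negSucc 0),1),(24,(.negSucc 0),2)] .nil .nil)))) (.node [] (.node [] (.node [] .nil (.node [(28,(.negSucc 0),1)] .nil .nil)) .nil) (.node [] .nil (.node [(18,(.ofNat 1),1)] .nil .nil)))) (.node [] (.node [] (.node [] (.node [] .nil (.node [(25,(.ofNat 1),1)] .nil .nil)) .nil) (.node [(7,(.ofNat 1),1)] .nil .nil)) (.node [] (.node [] (.node [] .nil (.node [(31,(.negSucc 0),1)] .nil .nil)) (.node [] .nil (.node [(64,(.ofNat 1),1)] .nil .nil))) .nil)))))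
noncomputable def ex18 : Trie (List (ℕ × ℤ × ℕ)) := (.node [(25,(.ofNat 1),1)] (.node [] (.node [] (.node [] (.node [] .nil (.node [] .nil (.node [] .nil (.node [(66,(.negSucc 0),1)] .nil .nil)))) (.node [] .nil (.node [] .nil (.node [(14,(.negSucc 0),1)] .nil (.node [(80,(.negSucc 0),1)] .nil .nil))))) (.node [(25,(.ofNat 1),1)] (.node [] (.node [] (.node [] (.node [] .nil (.node [(117,(.ofNat 1),1)] .nil .nil)) (.node [(24,(.ofNat 1),1)] .nil .nil)) (.node [] .nil (.node [(41,(.negSucc 0),1)] .nil .nil))) .nil) (.node [] (.node [] .nil (.node [(9,(.negSucc 0),1)] .nil .nil)) .nil))) (.node [(25,(.negSucc 0),1)] (.node [] (.node [] (.node [] (.node [] (.node [] .nil (.node [(95,(.ofNat 1),1)] .nil .nil)) .nil) (.node [] .nil (.node [(39,(.ofNat 1),1)] .nil .nil))) (.node [] .nil (.node [] .nil (.node [(0,(.negSucc 0),1),(1,(.negSucc 0),1),(2,(.negSucc 0),1),(3,(.negSucc 1),1),(4,(.negSucc 1),1),(5,(.negSucc 0),1),(6,(.negSucc 0),1),(25,(.negSucc 0),2)] .nil .nil))))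 (.node [] .nil (.node [] .nil (.node [(16,(.ofNat 1),1)] .nil .nil)))) (.node [(25,(.ofNat 1),1)] (.node [] (.node [] (.node [] .nil (.node [(26,(.ofNat 1),1)] .nil .nil)) .nil) (.node [(7,(.negSucc 0),1)] .nil .nil)) (.node [] (.node [] .nil (.node [] .nil (.node [(64,(.ofNat 1),1)] .nil .nil))) .nil)))) (.node [] (.node [] (.node [] (.node [] (.node [] (.node [] (.node [] .nil (.node [(92,(.ofNat 1),1)] .nil .nil)) .nil) .nil) (.node [] .nil (.node [(12,(.ofNat 1),1)] .nil (.node [(69,(.negSucc 0),1)] .nil .nil)))) (.node [] (.node [] (.node [] .nil (.node [(27,(.ofNat 1),1)] .nil .nil)) (.node [] .nil (.node [(52,(.negSucc 0),1)] .nil .nil))) (.node [] (.node [] .nil (.node [(36,(.negSucc 0),1)] .nil .nil)) .nil))) (.node [(25,(.negSucc 0),1)] .nil (.node [] (.node [] (.node [] .nil (.node [(30,(.ofNat 1),1)] .nil .nil)) (.node [] .nil (.node [(62,(.negSucc 0),1)] .nil .nil))) (.node [] .nil (.node [] .nil (.node [(83,(.ofNat 1),1)] .nil .nil)))))) (.node []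 (.node [] (.node [] .nil (.node [] .nil (.node [] .nil (.node [(71,(.negSucc 0),1)] .nil .nil)))) (.node [] (.node [] (.node [] .nil (.node [(29,(.negSucc 0),1)] .nil .nil)) (.node [] .nil (.node [(60,(.ofNat 1),1)] .nil .nil))) (.node [] .nil (.node [(19,(.ofNat 1),1)] .nil (.node [(81,(.negSucc 0),1)] .nil .nil))))) (.node [] (.node [] (.node [] .nil (.node [] .nil (.node [(50,(.ofNat 1),1)] .nil .nil))) (.node [] (.node [] .nil (.node [(34,(.ofNat 1),1)] .nil .nil)) .nil)) (.node [] (.node [] (.node [] .nil (.node [(32,(.negSucc 0),1)] .nil .nil)) (.node [(10,(.negSucc 0),1)] .nil .nil)) (.node [] .nil (.node [] .nil (.node [(90,(.negSucc 0),1)] .nil .nil))))))))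
noncomputable def ex19 : Trie (List (ℕ × ℤ × ℕ)) := (.node [(26,(.ofNat 1),1)] (.node [] (.node [] (.node [] .nil (.node [] (.node [] .nil (.node [] .nil (.node [(52,(.negSucc 0),1)] .nil .nil))) (.node [] (.node [] .nil (.node [(36,(.negSucc 0),1)] .nil .nil)) .nil))) (.node [(26,(.ofNat 1),1)] (.node [] (.node [] (.node [] (.node [] .nil (.node [(118,(.negSucc 0),1)] .nil .nil)) .nil) (.node [] .nil (.node [(42,(.negSucc 0),1)] .nil .nil))) .nil) (.node [] (.node [] .nil (.node [] .nil (.node [(62,(.negSucc 0),1)] .nil .nil))) .nil))) (.node [(26,(.negSucc 0),1)] (.node [] (.node [] (.node [] (.node [] (.node [] .nil (.node [(96,(.negSucc 0),1)] .nil .nil)) .nil) .nil) (.node [] .nil (.node [] .nil (.node [(70,(.negSucc 0),1)] .nil .nil)))) (.node [] (.node [] (.node [] .nil (.node [(29,(.negSucc 0),1)] .nil .nil)) .nil) (.node [] .nil (.node [(17,(.ofNat 1),1)] .nil (.node [(81,(.negSucc 0),1)] .nil .nil))))) (.node [(26,(.negSucc 0),1)] .nil (.node [] (.node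 [] (.node [] .nil (.node [(32,(.negSucc 0),1)] .nil .nil)) (.node [(10,(.ofNat 1),1)] .nil (.node [(65,(.ofNat 1),1)] .nil .nil))) (.node [] .nil (.node [] .nil (.node [(90,(.negSucc 0),1)] .nil .nil))))))) (.node [] (.node [] (.node [] (.node [] (.node [] (.node [] (.node [] .nil (.node [(93,(.negSucc 0),1)] .nil .nil)) .nil) (.node [] .nil (.node [(39,(.ofNat 1),1)] .nil .nil))) (.node [] .nil (.node [(13,(.ofNat 1),1)] .nil (.node [(0,(.negSucc 0),1),(1,(.negSucc 0),1),(2,(.negSucc 0),1),(3,(.negSucc 1),1),(4,(.negSucc 1),1),(5,(.negSucc 0),1),(26,(.negSucc 0),2)] .nil .nil)))) (.node [] (.node [] (.node [] .nil (.node [(28,(.ofNat 1),1)] .nil .nil)) .nil) .nil)) (.node [] (.node [] (.node [] (.node [] .nil (.node [(25,(.ofNat 1),1)] .nil .nil)) .nil) (.node [(7,(.ofNat 1),1)] .nil .nil)) (.node [] (.node [] (.node [] .nil (.node [(31,(.ofNat 1),1)] .nil .nil)) .nil) (.node [] .nil (.node [] .nil (.node [(84,(.negSucc 0),1)] .nil .nil)))))) (.node [] (.node []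 (.node [] (.node [] (.node [] .nil (.node [(24,(.negSucc 0),1)] .nil .nil)) .nil) (.node [] .nil (.node [] .nil (.node [(72,(.ofNat 1),1)] .nil .nil)))) (.node [] (.node [] .nil (.node [(9,(.ofNat 1),1)] .nil (.node [(61,(.ofNat 1),1)] .nil .nil))) (.node [] .nil (.node [(20,(.ofNat 1),1)] .nil .nil)))) (.node [] (.node [] (.node [] .nil (.node [] .nil (.node [(51,(.ofNat 1),1)] .nil .nil))) (.node [] (.node [] .nil (.node [(35,(.ofNat 1),1)] .nil .nil)) (.node [(14,(.ofNat 1),1)] .nil (.node [(80,(.negSucc 0),1)] .nil .nil)))) (.node [] (.node [] .nil (.node [] .nil (.node [(66,(.negSucc 0),1)] .nil .nil))) .nil)))))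
noncomputable def ex20 : Trie (List (ℕ × ℤ × ℕ)) := (.node [(27,(.ofNat 1),1)] (.node [] (.node [] (.node [] (.node [] (.node [] (.node [] (.node [] .nil (.node [(92,(.ofNat 1),1)] .nil .nil)) .nil) (.node [] .nil (.node [(39,(.ofNat 1),1)] .nil .nil))) (.node [] .nil (.node [(12,(.negSucc 0),1)] .nil (.node [(0,(.negSucc 0),1),(1,(.negSucc 0),1),(2,(.negSucc 0),1),(3,(.negSucc 1),1),(4,(.negSucc 0),1),(5,(.negSucc 0),1),(6,(.negSucc 0),1),(27,(.negSucc 0),2)] .nil .nil)))) (.node [] (.node [] (.node [] .nil (.node [(29,(.ofNat 1),1)] .nil .nil)) .nil) (.node [] .nil (.node [(15,(.negSucc 0),1)] .nil .nil)))) (.node [(27,(.negSucc 0),1)] (.node [] (.node [] (.node [] (.node [] .nil (.node [(119,(.negSucc 0),1)] .nil .nil)) .nil) (.node [] .nil (.node [(43,(.negSucc 0),1)] .nil .nil))) (.node [(7,(.ofNat 1),1)] .nil .nil)) (.node [] (.node [] (.node [] .nil (.node [(30,(.ofNat 1),1)] .nil .nil)) .nil) (.node [] .nil (.node [] .nil (.node [(83,(.ofNat 1),1)] .nil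 .nil)))))) (.node [(27,(.negSucc 0),1)] (.node [] (.node [] (.node [] (.node [] (.node [] .nil (.node [(97,(.negSucc 0),1)] .nil .nil)) (.node [(25,(.ofNat 1),1)] .nil .nil)) .nil) (.node [] .nil (.node [] .nil (.node [(73,(.negSucc 0),1)] .nil .nil)))) (.node [] (.node [] .nil (.node [(9,(.ofNat 1),1)] .nil (.node [(60,(.ofNat 1),1)] .nil .nil))) .nil)) (.node [(27,(.ofNat 1),1)] (.node [] (.node [] (.node [] .nil (.node [(28,(.ofNat 1),1)] .nil .nil)) (.node [] .nil (.node [(50,(.ofNat 1),1)] .nil .nil))) (.node [] (.node [] .nil (.node [(34,(.ofNat 1),1)] .nil .nil)) (.node [] .nil (.node [(80,(.negSucc 0),1)] .nil .nil)))) (.node [] (.node [] .nil (.node [] .nil (.node [(67,(.negSucc 0),1)] .nil .nil))) .nil)))) (.node [] (.node [] (.node [] (.node [] (.node [] (.node [] .nil (.node [(24,(.ofNat 1),1)] .nil .nil)) .nil) .nil) (.node [] (.node [] .nil (.node [] .nil (.node [(53,(.negSucc 0),1)] .nil .nil))) (.node [] (.node [] .nil (.node [(37,(.negSucc 0),1)]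 .nil .nil)) (.node [(16,(.negSucc 0),1)] .nil .nil)))) (.node [] .nil (.node [] (.node [] .nil (.node [] .nil (.node [(63,(.negSucc 0),1)] .nil .nil))) .nil))) (.node [(27,(.ofNat 1),1)] (.node [] (.node [] .nil (.node [] .nil (.node [] .nil (.node [(74,(.negSucc 0),1)] .nil .nil)))) (.node [] .nil (.node [] .nil (.node [(21,(.ofNat 1),1)] .nil (.node [(82,(.ofNat 1),1)] .nil .nil))))) (.node [] .nil (.node [] (.node [] (.node [] .nil (.node [(33,(.negSucc 0),1)] .nil .nil)) (.node [(11,(.negSucc 0),1)] .nil (.node [(69,(.negSucc 0),1)] .nil .nil))) (.node [] .nil (.node [] .nil (.node [(91,(.ofNat 1),1)] .nil .nil))))))))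
noncomputable def ex21 : Trie (List (ℕ × ℤ × ℕ)) := (.node [(28,(.ofNat 1),1)] (.node [] (.node [] (.node [] (.node [] (.node [] (.node [] (.node [] .nil (.node [(93,(.negSucc 0),1)] .nil .nil)) (.node [(24,(.negSucc 0),1)] .nil .nil)) .nil) (.node [] .nil (.node [(13,(.negSucc 0),1)] .nil (.node [(70,(.negSucc 0),1)] .nil .nil)))) (.node [] (.node [] .nil (.node [] .nil (.node [(53,(.negSucc 0),1)] .nil .nil))) (.node [] (.node [] .nil (.node [(37,(.negSucc 0),1)] .nil .nil)) .nil))) (.node [(28,(.negSucc 0),1)] (.node [] (.node [] (.node [] (.node [] .nil (.node [(120,(.ofNat 1),1)] .nil .nil)) .nil) (.node [] .nil (.node [(44,(.negSucc 0),1)] .nil .nil))) .nil) (.node [] (.node [] (.node [] .nil (.node [(31,(.ofNat 1),1)] .nil .nil)) (.node [] .nil (.node [(63,(.negSucc 0),1)] .nil .nil))) (.node [] .nil (.node [] .nil (.node [(84,(.negSucc 0),1)] .nil .nil)))))) (.node [(28,(.negSucc 0),1)] (.node [] (.node [] (.node [] (.node [] (.node [] .nil (.node [(98,(.ofNat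 1),1)] .nil .nil)) (.node [(26,(.ofNat 1),1)] .nil .nil)) .nil) .nil) (.node [] (.node [] .nil (.node [] .nil (.node [(61,(.ofNat 1),1)] .nil .nil))) (.node [] .nil (.node [] .nil (.node [(82,(.ofNat 1),1)] .nil .nil))))) (.node [(28,(.negSucc 0),1)] (.node [] (.node [] .nil (.node [] .nil (.node [(51,(.ofNat 1),1)] .nil .nil))) (.node [] (.node [] .nil (.node [(35,(.ofNat 1),1)] .nil .nil)) .nil)) (.node [] (.node [] (.node [] .nil (.node [(33,(.negSucc 0),1)] .nil .nil)) (.node [(11,(.ofNat 1),1)] .nil (.node [(68,(.negSucc 0),1)] .nil .nil))) (.node [] .nil (.node [] .nil (.node [(91,(.ofNat 1),1)] .nil .nil))))))) (.node [] (.node [] (.node [] (.node [] .nil (.node [] .nil (.node [] .nil (.node [(73,(.negSucc 0),1)] .nil .nil)))) (.node [] (.node [] .nil (.node [(9,(.negSucc 0),1)] .nil .nil)) (.node [] .nil (.node [(17,(.negSucc 0),1)] .nil .nil)))) (.node [(28,(.ofNat 1),1)] (.node [] (.node [] (.node [] .nil (.node [(27,(.ofNat 1),1)] .nil .nil)) .nil) (.node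 [] .nil (.node [] .nil (.node [(80,(.negSucc 0),1)] .nil .nil)))) .nil)) (.node [(28,(.ofNat 1),1)] (.node [] (.node [] .nil (.node [(7,(.negSucc 0),1)] .nil (.node [] .nil (.node [(75,(.ofNat 1),1)] .nil .nil)))) (.node [] .nil (.node [] .nil (.node [(22,(.ofNat 1),1)] .nil .nil)))) (.node [] (.node [] (.node [] (.node [] .nil (.node [(29,(.ofNat 1),1)] .nil .nil)) .nil) (.node [] .nil (.node [(15,(.ofNat 1),1)] .nil .nil))) (.node [] (.node [] .nil (.node [] .nil (.node [(0,(.negSucc 0),1),(1,(.negSucc 0),1),(2,(.negSucc 0),1),(3,(.negSucc 1),1),(4,(.negSucc 0),1),(5,(.negSucc 0),1),(28,(.negSucc 0),2)] .nil .nil))) (.node [] (.node [] .nil (.node [(39,(.ofNat 1),1)] .nil .nil)) .nil))))))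
noncomputable def ex22 : Trie (List (ℕ × ℤ × ℕ)) := (.node [(29,(.ofNat 1),1)] (.node [] (.node [] (.node [] (.node [] (.node [] (.node [] .nil (.node [(25,(.negSucc 0),1)] .nil .nil)) .nil) (.node [] .nil (.node [] .nil (.node [(72,(.negSucc 0),1)] .nil .nil)))) (.node [] (.node [] .nil (.node [(9,(.ofNat 1),1)] .nil .nil)) (.node [] .nil (.node [(17,(.ofNat 1),1)] .nil .nil)))) (.node [] (.node [] (.node [] (.node [] (.node [] .nil (.node [(121,(.negSucc 0),1)] .nil .nil)) (.node [(28,(.ofNat 1),1)] .nil .nil)) (.node [] .nil (.node [(45,(.negSucc 0),1)] .nil .nil))) (.node [] .nil (.node [] .nil (.node [(80,(.negSucc 0),1)] .nil .nil)))) (.node [] (.node [] (.node [] .nil (.node [(32,(.ofNat 1),1)] .nil .nil)) .nil) .nil))) (.node [(29,(.negSucc 0),1)] (.node [] (.node [] (.node [] (.node [] (.node [] .nil (.node [(99,(.negSucc 0),1)] .nil .nil)) .nil) .nil) (.node [(7,(.ofNat 1),1)] .nil (.node [] .nil (.node [(75,(.ofNat 1),1)] .nil .nil)))) (.node [] (.node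 [] .nil (.node [] .nil (.node [(62,(.ofNat 1),1)] .nil .nil))) (.node [] .nil (.node [] .nil (.node [(83,(.negSucc 0),1)] .nil .nil))))) (.node [] (.node [] (.node [] .nil (.node [] .nil (.node [(52,(.ofNat 1),1)] .nil .nil))) (.node [] (.node [] .nil (.node [(36,(.ofNat 1),1)] .nil .nil)) .nil)) (.node [] (.node [] .nil (.node [(12,(.ofNat 1),1)] .nil (.node [(0,(.negSucc 0),1),(1,(.negSucc 0),1),(2,(.negSucc 0),1),(3,(.negSucc 1),1),(4,(.negSucc 0),1),(29,(.negSucc 0),2)] .nil .nil))) (.node [] (.node [] .nil (.node [(39,(.ofNat 1),1)] .nil .nil)) (.node [] .nil (.node [(92,(.negSucc 0),1)] .nil .nil))))))) (.node [] (.node [] (.node [] (.node [] (.node [] (.node [] .nil (.node [(26,(.negSucc 0),1)] .nil .nil)) .nil) (.node [] .nil (.node [] .nil (.node [(74,(.ofNat 1),1)] .nil .nil)))) .nil) (.node [(29,(.negSucc 0),1)] .nil (.node [] (.node [] (.node [] .nil (.node [(33,(.negSucc 0),1)] .nil .nil)) .nil) (.node [] .nil .nil)))) (.node [(29,(.ofNat 1),1)] (.node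 [] (.node [] (.node [] (.node [] .nil (.node [(27,(.ofNat 1),1)] .nil .nil)) .nil) .nil) (.node [] (.node [] .nil (.node [] .nil (.node [(63,(.negSucc 0),1)] .nil .nil))) (.node [] .nil (.node [(23,(.ofNat 1),1)] .nil (.node [(84,(.negSucc 0),1)] .nil .nil))))) (.node [] (.node [] (.node [] .nil (.node [] .nil (.node [(53,(.negSucc 0),1)] .nil .nil))) (.node [] (.node [] .nil (.node [(37,(.negSucc 0),1)] .nil .nil)) (.node [(16,(.ofNat 1),1)] .nil .nil))) (.node [] (.node [] .nil (.node [(13,(.ofNat 1),1)] .nil (.node [(71,(.negSucc 0),1)] .nil .nil))) (.node [] .nil (.node [] .nil (.node [(93,(.negSucc 0),1)] .nil .nil))))))))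
noncomputable def ex23 : Trie (List (ℕ × ℤ × ℕ)) := (.node [(30,(.ofNat 1),1)] (.node [] (.node [] (.node [] (.node [] (.node [] (.node [] (.node [] .nil (.node [(95,(.negSucc 0),1)] .nil .nil)) .nil) .nil) (.node [] .nil (.node [] .nil (.node [(76,(.negSucc 0),1)] .nil .nil)))) (.node [] (.node [] (.node [] .nil (.node [(32,(.ofNat 1),1)] .nil .nil)) .nil) (.node [] .nil (.node [(18,(.negSucc 0),1)] .nil (.node [(82,(.ofNat 1),1)] .nil .nil))))) (.node [] (.node [] (.node [] (.node [] (.node [] .nil (.node [(122,(.ofNat 1),1)] .nil .nil)) .nil) (.node [] .nil (.node [(46,(.negSucc 0),1)] .nil .nil))) .nil) (.node [] (.node [] .nil (.node [(11,(.ofNat 1),1)] .nil (.node [(69,(.negSucc 0),1)] .nil .nil))) .nil))) (.node [] (.node [] (.node [] .nil (.node [] .nil (.node [] .nil (.node [(77,(.negSucc 0),1)] .nil .nil)))) (.node [] (.node [] .nil (.node [(10,(.ofNat 1),1)] .nil (.node [(64,(.negSucc 0),1)] .nil .nil))) (.node [] .nil (.node [(21,(.negSucc 0),1)] .nil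 .nil)))) (.node [(30,(.ofNat 1),1)] (.node [] (.node [] (.node [] .nil (.node [(31,(.ofNat 1),1)] .nil .nil)) .nil) (.node [] .nil (.node [] .nil (.node [(81,(.ofNat 1),1)] .nil .nil)))) (.node [] .nil (.node [] .nil (.node [(25,(.ofNat 1),1)] .nil .nil)))))) (.node [(30,(.ofNat 1),1)] (.node [] (.node [] (.node [] (.node [] (.node [] (.node [] .nil (.node [(97,(.negSucc 0),1)] .nil .nil)) .nil) .nil) (.node [(7,(.negSucc 0),1)] .nil .nil)) (.node [] (.node [] .nil (.node [] .nil (.node [(54,(.negSucc 0),1)] .nil .nil))) (.node [] (.node [] .nil (.node [(38,(.negSucc 0),1)] .nil .nil)) (.node [(19,(.negSucc 0),1)] .nil (.node [(83,(.ofNat 1),1)] .nil .nil))))) (.node [] (.node [] (.node [] .nil (.node [] .nil (.node [(50,(.ofNat 1),1)] .nil .nil))) (.node [] (.node [] .nil (.node [(34,(.ofNat 1),1)] .nil .nil)) .nil)) (.node [] (.node [] .nil (.node [(12,(.ofNat 1),1)] .nil (.node [(0,(.negSucc 0),1),(1,(.negSucc 0),1),(2,(.negSucc 0),1),(3,(.negSucc 0),1),(4,(.negSucc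 0),1),(5,(.negSucc 0),1),(6,(.negSucc 0),1),(30,(.negSucc 0),2)] .nil .nil))) (.node [] (.node [] .nil (.node [(39,(.ofNat 1),1)] .nil .nil)) (.node [(24,(.ofNat 1),1)] .nil .nil))))) (.node [(30,(.negSucc 0),1)] (.node [] (.node [] .nil (.node [] .nil (.node [] .nil (.node [(78,(.negSucc 0),1)] .nil .nil)))) (.node [] (.node [] (.node [] .nil (.node [(33,(.ofNat 1),1)] .nil .nil)) (.node [] .nil (.node [(67,(.negSucc 0),1)] .nil .nil))) .nil)) (.node [] .nil (.node [] .nil (.node [] .nil (.node [(27,(.ofNat 1),1)] .nil (.node [(94,(.negSucc 0),1)] .nil .nil))))))))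
noncomputable def ex24 : Trie (List (ℕ × ℤ × ℕ)) := (.node [(31,(.ofNat 1),1)] (.node [] (.node [] (.node [] (.node [] (.node [] (.node [] (.node [] .nil (.node [(96,(.ofNat 1),1)] .nil .nil)) .nil) .nil) (.node [(7,(.ofNat 1),1)] .nil .nil)) (.node [] (.node [] .nil (.node [] .nil (.node [(54,(.negSucc 0),1)] .nil .nil))) (.node [] (.node [] .nil (.node [(38,(.negSucc 0),1)] .nil .nil)) .nil))) (.node [] (.node [] (.node [] (.node [] (.node [] .nil (.node [(123,(.negSucc 0),1)] .nil .nil)) .nil) (.node [] .nil (.node [(47,(.negSucc 0),1)] .nil .nil))) .nil) (.node [] (.node [] .nil (.node [] .nil (.node [(0,(.negSucc 0),1),(1,(.negSucc 0),1),(2,(.negSucc 0),1),(3,(.negSucc 0),1),(4,(.negSucc 0),1),(5,(.negSucc 0),1),(31,(.negSucc 0),2)] .nil .nil))) (.node [] (.node [] .nil (.node [(39,(.ofNat 1),1)] .nil .nil)) (.node [(24,(.negSucc 0),1)] .nil .nil))))) (.node [] (.node [] .nil (.node [] (.node [] (.node [] .nil (.node [(33,(.ofNat 1),1)] .nil .nil)) (.node []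 .nil (.node [(65,(.negSucc 0),1)] .nil .nil))) (.node [] .nil (.node [(22,(.negSucc 0),1)] .nil .nil)))) (.node [(31,(.negSucc 0),1)] .nil (.node [] .nil (.node [] .nil (.node [(26,(.ofNat 1),1)] .nil (.node [(94,(.negSucc 0),1)] .nil .nil))))))) (.node [(31,(.ofNat 1),1)] (.node [] (.node [] (.node [] (.node [] (.node [] (.node [] .nil (.node [(98,(.ofNat 1),1)] .nil .nil)) .nil) .nil) (.node [] .nil (.node [] .nil (.node [(77,(.negSucc 0),1)] .nil .nil)))) (.node [] (.node [] .nil (.node [(10,(.negSucc 0),1)] .nil .nil)) (.node [] .nil (.node [(20,(.negSucc 0),1)] .nil (.node [(84,(.negSucc 0),1)] .nil .nil))))) (.node [(31,(.ofNat 1),1)] (.node [] (.node [] (.node [] .nil (.node [(30,(.ofNat 1),1)] .nil .nil)) (.node [] .nil (.node [(51,(.ofNat 1),1)] .nil .nil))) (.node [] (.node [] .nil (.node [(35,(.ofNat 1),1)] .nil .nil)) (.node [] .nil (.node [(81,(.ofNat 1),1)] .nil .nil)))) (.node [] (.node [] .nil (.node [(13,(.ofNat 1),1)] .nil (.node [(70,(.negSucc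 0),1)] .nil .nil))) .nil))) (.node [(31,(.negSucc 0),1)] (.node [] (.node [] .nil (.node [] .nil (.node [] .nil (.node [(79,(.ofNat 1),1)] .nil .nil)))) (.node [] (.node [] .nil (.node [(11,(.negSucc 0),1)] .nil (.node [(68,(.negSucc 0),1)] .nil .nil))) .nil)) (.node [] (.node [] (.node [] (.node [] .nil (.node [(32,(.ofNat 1),1)] .nil .nil)) .nil) (.node [] .nil (.node [(18,(.ofNat 1),1)] .nil (.node [(82,(.ofNat 1),1)] .nil .nil)))) (.node [] (.node [] .nil (.node [] .nil (.node [(76,(.negSucc 0),1)] .nil .nil))) (.node [] .nil (.node [(28,(.ofNat 1),1)] .nil .nil)))))))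
noncomputable def ex25 : Trie (List (ℕ × ℤ × ℕ)) := (.node [(32,(.ofNat 1),1)] (.node [] (.node [] (.node [] (.node [] (.node [] .nil (.node [] .nil .nil)) .nil) (.node [] (.node [] .nil (.node [(10,(.ofNat 1),1)] .nil .nil)) (.node [] .nil (.node [(20,(.ofNat 1),1)] .nil (.node [(84,(.negSucc 0),1)] .nil .nil))))) (.node [(32,(.ofNat 1),1)] (.node [] (.node [] (.node [] (.node [] .nil (.node [(124,(.ofNat 1),1)] .nil .nil)) (.node [(31,(.ofNat 1),1)] .nil .nil)) (.node [] .nil (.node [(48,(.negSucc 0),1)] .nil .nil))) (.node [] .nil (.node [] .nil (.node [(81,(.ofNat 1),1)] .nil .nil)))) (.node [] (.node [] .nil (.node [(13,(.negSucc 0),1)] .nil (.node [(71,(.negSucc 0),1)] .nil .nil))) (.node [] .nil (.node [(25,(.negSucc 0),1)] .nil .nil))))) (.node [] (.node [] (.node [] .nil (.node [] .nil (.node [] .nil (.node [(79,(.ofNat 1),1)] .nil .nil)))) (.node [] (.node [] .nil (.node [] .nil (.node [(66,(.negSucc 0),1)] .nil .nil))) (.node [] .nil (.node [(23,(.negSucc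 0),1)] .nil .nil)))) (.node [] .nil (.node [] (.node [] .nil (.node [] .nil (.node [(76,(.negSucc 0),1)] .nil .nil))) (.node [] .nil (.node [] .nil (.node [(95,(.ofNat 1),1)] .nil .nil))))))) (.node [(32,(.ofNat 1),1)] (.node [] (.node [] (.node [] (.node [] (.node [] (.node [] .nil (.node [(99,(.negSucc 0),1)] .nil .nil)) .nil) .nil) (.node [] .nil (.node [] .nil (.node [(78,(.ofNat 1),1)] .nil .nil)))) (.node [] (.node [] (.node [] .nil (.node [(33,(.ofNat 1),1)] .nil .nil)) .nil) .nil)) (.node [(32,(.negSucc 0),1)] (.node [] (.node [] .nil (.node [] .nil (.node [(52,(.ofNat 1),1)] .nil .nil))) (.node [] (.node [] .nil (.node [(36,(.ofNat 1),1)] .nil .nil)) .nil)) (.node [] (.node [] .nil (.node [] .nil (.node [(72,(.negSucc 0),1)] .nil .nil))) (.node [] .nil (.node [(26,(.negSucc 0),1)] .nil .nil))))) (.node [(32,(.negSucc 0),1)] (.node [] (.node [] (.node [] (.node [] .nil (.node [(30,(.ofNat 1),1)] .nil .nil)) .nil) .nil) (.node [] (.node [] .nil (.node [(12,(.negSucc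 0),1)] .nil (.node [(0,(.negSucc 0),1),(1,(.negSucc 0),1),(2,(.negSucc 0),1),(3,(.negSucc 0),1),(4,(.negSucc 0),1),(32,(.negSucc 0),2)] .nil .nil))) (.node [] (.node [] .nil (.node [(39,(.ofNat 1),1)] .nil .nil)) .nil))) (.node [] (.node [] (.node [] .nil (.node [] .nil (.node [(54,(.negSucc 0),1)] .nil .nil))) (.node [] (.node [] .nil (.node [(38,(.negSucc 0),1)] .nil .nil)) (.node [(19,(.ofNat 1),1)] .nil (.node [(83,(.negSucc 0),1)] .nil .nil)))) (.node [(7,(.negSucc 0),1)] .nil (.node [] .nil (.node [(29,(.ofNat 1),1)] .nil (.node [(96,(.ofNat 1),1)] .nil .nil))))))))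
noncomputable def ex26 : Trie (List (ℕ × ℤ × ℕ)) := (.node [(33,(.ofNat 1),1)] (.node [] (.node [] (.node [] (.node [] (.node [] (.node [] (.node [] .nil (.node [(99,(.negSucc 0),1)] .nil .nil)) (.node [(30,(.ofNat 1),1)] .nil .nil)) .nil) (.node [] .nil (.node [] .nil (.node [(79,(.ofNat 1),1)] .nil .nil)))) (.node [] (.node [] .nil (.node [(11,(.ofNat 1),1)] .nil .nil)) (.node [] .nil (.node [(22,(.ofNat 1),1)] .nil .nil)))) (.node [(33,(.negSucc 0),1)] (.node [] (.node [] (.node [] (.node [] .nil (.node [(125,(.negSucc 0),1)] .nil .nil)) .nil) (.node [] .nil (.node [(49,(.negSucc 0),1)] .nil .nil))) (.node [] .nil (.node [] .nil (.node [(82,(.negSucc 0),1)] .nil .nil)))) (.node [] (.node [] .nil (.node [] .nil (.node [(74,(.negSucc 0),1)] .nil .nil))) (.node [] .nil (.node [(27,(.negSucc 0),1)] .nil .nil))))) (.node [] (.node [] (.node [] (.node [] (.node [] .nil (.node [(32,(.ofNat 1),1)] .nil .nil)) .nil) .nil) (.node [] (.node [] .nil (.node [(13,(.ofNat 1),1)]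 .nil (.node [(0,(.negSucc 0),1),(1,(.negSucc 0),1),(2,(.negSucc 0),1),(3,(.negSucc 0),1),(33,(.negSucc 0),2)] .nil .nil))) (.node [] (.node [] .nil (.node [(39,(.ofNat 1),1)] .nil .nil)) .nil))) (.node [] (.node [] (.node [] .nil (.node [] .nil (.node [(54,(.negSucc 0),1)] .nil .nil))) (.node [] (.node [] .nil (.node [(38,(.negSucc 0),1)] .nil .nil)) (.node [] .nil (.node [(84,(.negSucc 0),1)] .nil .nil)))) (.node [(7,(.ofNat 1),1)] (.node [] .nil (.node [] .nil (.node [(77,(.ofNat 1),1)] .nil .nil))) (.node [] .nil (.node [(29,(.negSucc 0),1)] .nil (.node [(97,(.negSucc 0),1)] .nil .nil))))))) (.node [(33,(.ofNat 1),1)] (.node [] (.node [] (.node [] (.node [] (.node [] .nil (.node [(31,(.ofNat 1),1)] .nil .nil)) (.node [] .nil .nil)) .nil) (.node [] (.node [] .nil (.node [(12,(.ofNat 1),1)] .nil .nil)) (.node [] .nil (.node [(23,(.ofNat 1),1)] .nil .nil)))) (.node [] (.node [] (.node [] .nil (.node [] .nil (.node [(53,(.ofNat 1),1)] .nil .nil))) (.node [] (.node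 [] .nil (.node [(37,(.ofNat 1),1)] .nil .nil)) (.node [] .nil (.node [(83,(.negSucc 0),1)] .nil .nil)))) (.node [] (.node [] .nil (.node [] .nil (.node [(75,(.negSucc 0),1)] .nil .nil))) (.node [] .nil (.node [(28,(.negSucc 0),1)] .nil .nil))))) (.node [] (.node [] .nil (.node [] (.node [] .nil (.node [] .nil (.node [(73,(.negSucc 0),1)] .nil .nil))) .nil)) (.node [] (.node [] .nil (.node [] .nil (.node [(21,(.ofNat 1),1)] .nil .nil))) (.node [] (.node [] .nil (.node [] .nil (.node [(78,(.ofNat 1),1)] .nil .nil))) (.node [] .nil (.node [] .nil (.node [(98,(.negSucc 0),1)] .nil .nil))))))))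
noncomputable def ex27 : Trie (List (ℕ × ℤ × ℕ)) := (.node [(34,(.ofNat 1),1)] (.node [] (.node [] (.node [] (.node [] .nil (.node [] .nil (.node [(19,(.ofNat 1),1)] .nil (.node [(86,(.negSucc 0),1)] .nil .nil)))) (.node [] (.node [] (.node [] .nil (.node [(36,(.ofNat 1),1)] .nil .nil)) (.node [] .nil (.node [(69,(.negSucc 0),1)] .nil .nil))) (.node [] .nil (.node [] .nil (.node [(91,(.negSucc 0),1)] .nil .nil))))) (.node [] (.node [] (.node [] (.node [] (.node [] .nil (.node [(126,(.negSucc 0),1)] .nil .nil)) .nil) (.node [] .nil (.node [(55,(.negSucc 0),1)] .nil .nil))) (.node [] (.node [] .nil (.node [(39,(.ofNat 1),1)] .nil .nil)) (.node [(25,(.ofNat 1),1)] .nil .nil))) (.node [] (.node [] .nil (.node [(15,(.ofNat 1),1)] .nil .nil)) (.node [] .nil (.node [] .nil (.node [(95,(.negSucc 0),1)] .nil .nil)))))) (.node [] (.node [] (.node [] (.node [] .nil (.node [] .nil .nil)) (.node [] .nil (.node [] .nil (.node [(87,(.negSucc 0),1)] .nil .nil)))) (.node [] (.node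 [] .nil (.node [(14,(.ofNat 1),1)] .nil .nil)) .nil)) (.node [(34,(.ofNat 1),1)] (.node [] (.node [] (.node [] .nil (.node [(35,(.ofNat 1),1)] .nil .nil)) (.node [] .nil (.node [(64,(.negSucc 0),1)] .nil .nil))) (.node [] .nil (.node [(30,(.ofNat 1),1)] .nil (.node [(90,(.negSucc 0),1)] .nil .nil)))) .nil))) (.node [(34,(.negSucc 0),1)] (.node [] (.node [] (.node [] .nil (.node [] .nil (.node [(21,(.ofNat 1),1)] .nil .nil))) (.node [] (.node [] .nil (.node [] .nil (.node [(0,(.negSucc 0),1),(2,(.negSucc 0),1),(3,(.negSucc 0),1),(4,(.negSucc 0),1),(5,(.negSucc 0),1),(6,(.negSucc 0),1),(34,(.negSucc 0),2)] .nil .nil))) (.node [] .nil (.node [] .nil (.node [(92,(.negSucc 0),1)] .nil .nil))))) (.node [] (.node [] (.node [] .nil (.node [] .nil (.node [(60,(.negSucc 0),1)] .nil .nil))) (.node [] .nil (.node [(27,(.ofNat 1),1)] .nil .nil))) (.node [(7,(.ofNat 1),1)] (.node [] .nil (.node [(16,(.ofNat 1),1)] .nil (.node [(85,(.negSucc 0),1)] .nil .nil))) (.node [] .nil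 (.node [] .nil (.node [(97,(.negSucc 0),1)] .nil .nil)))))) (.node [] (.node [] (.node [] .nil (.node [] .nil (.node [(24,(.ofNat 1),1)] .nil (.node [(88,(.negSucc 0),1)] .nil .nil)))) (.node [] (.node [] (.node [] .nil (.node [(37,(.ofNat 1),1)] .nil .nil)) .nil) (.node [] .nil (.node [] .nil (.node [(94,(.negSucc 0),1)] .nil .nil))))) (.node [] (.node [] (.node [] .nil (.node [] .nil (.node [(67,(.negSucc 0),1)] .nil .nil))) .nil) (.node [] (.node [] (.node [] .nil (.node [(38,(.ofNat 1),1)] .nil .nil)) (.node [(18,(.ofNat 1),1)] .nil .nil)) .nil)))))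
noncomputable def ex28 : Trie (List (ℕ × ℤ × ℕ)) := (.node [(35,(.ofNat 1),1)] (.node [] (.node [] (.node [] (.node [] .nil (.node [] .nil (.node [(20,(.ofNat 1),1)] .nil .nil))) (.node [] (.node [] .nil (.node [] .nil (.node [(0,(.negSucc 0),1),(2,(.negSucc 0),1),(3,(.negSucc 0),1),(4,(.negSucc 0),1),(5,(.negSucc 0),1),(35,(.negSucc 0),2)] .nil .nil))) .nil)) (.node [] (.node [] (.node [] (.node [] (.node [] .nil (.node [(127,(.ofNat 1),1)] .nil .nil)) .nil) (.node [] .nil (.node [(56,(.negSucc 0),1)] .nil .nil))) (.node [] .nil (.node [(26,(.ofNat 1),1)] .nil .nil))) (.node [(7,(.negSucc 0),1)] (.node [] .nil (.node [] .nil (.node [(85,(.negSucc 0),1)] .nil .nil))) (.node [] .nil (.node [] .nil (.node [(96,(.ofNat 1),1)] .nil .nil)))))) (.node [] (.node [] (.node [] .nil (.node [] .nil (.node [(24,(.negSucc 0),1)] .nil .nil))) (.node [] (.node [] (.node [] .nil (.node [(37,(.ofNat 1),1)] .nil .nil)) .nil) (.node [] .nil (.node [] .nil (.node [(94,(.negSucc 0),1)]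 .nil .nil))))) (.node [(35,(.negSucc 0),1)] (.node [] (.node [] .nil (.node [] .nil (.node [(65,(.negSucc 0),1)] .nil .nil))) (.node [] .nil (.node [(31,(.ofNat 1),1)] .nil .nil))) (.node [] (.node [] (.node [] .nil (.node [(38,(.ofNat 1),1)] .nil .nil)) (.node [(18,(.negSucc 0),1)] .nil .nil)) .nil)))) (.node [(35,(.negSucc 0),1)] (.node [] (.node [] (.node [] .nil (.node [] .nil (.node [(22,(.ofNat 1),1)] .nil (.node [(87,(.negSucc 0),1)] .nil .nil)))) (.node [] (.node [] .nil (.node [(14,(.negSucc 0),1)] .nil (.node [(70,(.negSucc 0),1)] .nil .nil))) (.node [] .nil (.node [] .nil (.node [(93,(.ofNat 1),1)] .nil .nil))))) (.node [(35,(.ofNat 1),1)] (.node [] (.node [] (.node [] .nil (.node [(34,(.ofNat 1),1)] .nil .nil)) (.node [] .nil (.node [(61,(.negSucc 0),1)] .nil .nil))) (.node [] .nil (.node [(28,(.ofNat 1),1)] .nil (.node [(90,(.negSucc 0),1)] .nil .nil)))) (.node [] (.node [] .nil (.node [(17,(.ofNat 1),1)] .nil .nil)) (.node [] .nil (.node [] .nil (.node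 [(98,(.ofNat 1),1)] .nil .nil)))))) (.node [] (.node [] (.node [] (.node [] .nil (.node [] .nil .nil)) (.node [] (.node [] .nil (.node [(39,(.ofNat 1),1)] .nil .nil)) (.node [] .nil (.node [(89,(.ofNat 1),1)] .nil .nil)))) (.node [] (.node [] .nil (.node [(15,(.negSucc 0),1)] .nil .nil)) .nil)) (.node [] (.node [] (.node [] (.node [] .nil (.node [(36,(.ofNat 1),1)] .nil .nil)) (.node [] .nil (.node [(68,(.negSucc 0),1)] .nil .nil))) (.node [] .nil (.node [] .nil (.node [(91,(.negSucc 0),1)] .nil .nil)))) (.node [] (.node [] .nil (.node [] .nil (.node [(86,(.negSucc 0),1)] .nil .nil))) .nil)))))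
noncomputable def ex29 : Trie (List (ℕ × ℤ × ℕ)) := (.node [(36,(.ofNat 1),1)] (.node [] (.node [] (.node [] .nil (.node [] (.node [] .nil (.node [(14,(.ofNat 1),1)] .nil (.node [(71,(.negSucc 0),1)] .nil .nil))) (.node [] .nil (.node [] .nil (.node [(93,(.ofNat 1),1)] .nil .nil))))) (.node [(36,(.ofNat 1),1)] (.node [] (.node [] (.node [] (.node [] .nil (.node [(128,(.negSucc 0),1)] .nil .nil)) (.node [(35,(.ofNat 1),1)] .nil .nil)) (.node [] .nil (.node [(57,(.negSucc 0),1)] .nil .nil))) (.node [] .nil (.node [] .nil (.node [(90,(.negSucc 0),1)] .nil .nil)))) (.node [] (.node [] .nil (.node [(17,(.negSucc 0),1)] .nil .nil)) .nil))) (.node [] (.node [] (.node [] .nil (.node [] (.node [] .nil (.node [(39,(.ofNat 1),1)] .nil .nil)) (.node [(25,(.negSucc 0),1)] .nil (.node [(89,(.ofNat 1),1)] .nil .nil)))) (.node [] .nil (.node [] .nil (.node [] .nil (.node [(95,(.ofNat 1),1)] .nil .nil))))) (.node [] (.node [] (.node [] .nil (.node [] .nil (.node [(66,(.negSucc 0),1)]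 .nil .nil))) (.node [] .nil (.node [(32,(.ofNat 1),1)] .nil .nil))) (.node [] (.node [] .nil (.node [(19,(.negSucc 0),1)] .nil (.node [(86,(.negSucc 0),1)] .nil .nil))) .nil)))) (.node [(36,(.negSucc 0),1)] (.node [] (.node [] (.node [] .nil (.node [] .nil (.node [(23,(.ofNat 1),1)] .nil (.node [(88,(.ofNat 1),1)] .nil .nil)))) (.node [] (.node [] (.node [] .nil (.node [(37,(.ofNat 1),1)] .nil .nil)) (.node [] .nil (.node [(72,(.negSucc 0),1)] .nil .nil))) .nil)) (.node [(36,(.negSucc 0),1)] (.node [] (.node [] .nil (.node [] .nil (.node [(62,(.negSucc 0),1)] .nil .nil))) (.node [] .nil (.node [(29,(.ofNat 1),1)] .nil .nil))) (.node [] (.node [] (.node [] .nil (.node [(38,(.ofNat 1),1)] .nil .nil)) .nil) (.node [] .nil (.node [] .nil (.node [(99,(.negSucc 0),1)] .nil .nil)))))) (.node [] (.node [] (.node [] (.node [] (.node [] .nil (.node [(34,(.ofNat 1),1)] .nil .nil)) .nil) (.node [] .nil (.node [(26,(.negSucc 0),1)] .nil .nil))) (.node [(7,(.ofNat 1),1)] (.node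 [] .nil (.node [(16,(.negSucc 0),1)] .nil (.node [(85,(.negSucc 0),1)] .nil .nil))) (.node [] .nil (.node [] .nil (.node [(96,(.ofNat 1),1)] .nil .nil))))) (.node [] (.node [] (.node [] .nil (.node [] .nil (.node [(0,(.negSucc 0),1),(2,(.negSucc 0),1),(3,(.negSucc 0),1),(4,(.negSucc 0),1),(36,(.negSucc 0),2)] .nil .nil))) (.node [] .nil (.node [] .nil (.node [(92,(.ofNat 1),1)] .nil .nil)))) (.node [] (.node [] .nil (.node [(20,(.negSucc 0),1)] .nil .nil)) .nil)))))
noncomputable def ex30 : Trie (List (ℕ × ℤ × ℕ)) := (.node [(37,(.ofNat 1),1)] (.node [] (.node [] (.node [] (.node [] (.node [] (.node [] .nil (.node [(34,(.ofNat 1),1)] .nil .nil)) .nil) (.node [] .nil (.node [(23,(.negSucc 0),1)] .nil (.node [(89,(.ofNat 1),1)] .nil .nil)))) (.node [] (.node [] .nil (.node [(15,(.ofNat 1),1)] .nil (.node [(74,(.negSucc 0),1)] .nil .nil))) .nil)) (.node [(37,(.negSucc 0),1)] (.node [] (.node [] (.node [] (.node [] .nil (.node [(129,(.ofNat 1),1)] .nil .nil)) .nil)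 (.node [] .nil (.node [(58,(.negSucc 0),1)] .nil .nil))) (.node [] .nil (.node [(29,(.negSucc 0),1)] .nil (.node [(91,(.ofNat 1),1)] .nil .nil)))) (.node [] (.node [] (.node [] .nil (.node [(38,(.ofNat 1),1)] .nil .nil)) .nil) (.node [] .nil (.node [] .nil (.node [(99,(.negSucc 0),1)] .nil .nil)))))) (.node [] (.node [] (.node [] (.node [] (.node [] .nil (.node [(36,(.ofNat 1),1)] .nil .nil)) .nil) (.node [] .nil (.node [(27,(.negSucc 0),1)] .nil .nil))) (.node [(7,(.negSucc 0),1)] (.node [] .nil (.node [(17,(.ofNat 1),1)] .nil (.node [(85,(.negSucc 0),1)] .nil .nil))) (.node [] .nil (.node [] .nil (.node [(97,(.negSucc 0),1)] .nil .nil))))) (.node [] (.node [] (.node [] .nil (.node [] .nil (.node [(0,(.negSucc 0),1),(2,(.negSucc 0),1),(3,(.negSucc 0),1),(37,(.negSucc 0),2)] .nil .nil))) (.node [] .nil (.node [(33,(.ofNat 1),1)] .nil (.node [(93,(.ofNat 1),1)] .nil .nil)))) (.node [] (.node [] .nil (.node [(21,(.negSucc 0),1)] .nil (.node [(87,(.ofNat 1),1)] .nil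 .nil))) .nil)))) (.node [(37,(.negSucc 0),1)] (.node [] (.node [] (.node [] (.node [] (.node [] .nil (.node [(35,(.ofNat 1),1)] .nil .nil)) .nil) (.node [] (.node [] .nil (.node [(39,(.ofNat 1),1)] .nil .nil)) .nil)) (.node [] (.node [] .nil (.node [(16,(.ofNat 1),1)] .nil (.node [(75,(.negSucc 0),1)] .nil .nil))) .nil)) (.node [] (.node [] (.node [] .nil (.node [] .nil (.node [(63,(.negSucc 0),1)] .nil .nil))) (.node [] .nil (.node [] .nil (.node [(92,(.ofNat 1),1)] .nil .nil)))) .nil)) (.node [(37,(.ofNat 1),1)] (.node [] (.node [] .nil (.node [] .nil (.node [(28,(.negSucc 0),1)] .nil .nil))) (.node [] .nil (.node [] .nil (.node [] .nil (.node [(98,(.negSucc 0),1)] .nil .nil))))) (.node [] (.node [] (.node [] .nil (.node [] .nil (.node [(73,(.negSucc 0),1)] .nil .nil))) .nil) (.node [] (.node [] .nil (.node [(22,(.negSucc 0),1)] .nil (.node [(88,(.ofNat 1),1)] .nil .nil))) .nil)))))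
noncomputable def ex31 : Trie (List (ℕ × ℤ × ℕ)) := (.node [(38,(.ofNat 1),1)] (.node [] (.node [] (.node [] (.node [] .nil (.node [] (.node [] .nil (.node [(39,(.ofNat 1),1)] .nil .nil)) .nil)) (.node [] (.node [] .nil (.node [(18,(.ofNat 1),1)] .nil (.node [(78,(.negSucc 0),1)] .nil .nil))) (.node [] .nil (.node [] .nil (.node [(98,(.negSucc 0),1)] .nil .nil))))) (.node [] (.node [] (.node [] (.node [] (.node [] .nil (.node [(130,(.negSucc 0),1)] .nil .nil)) .nil) (.node [] .nil (.node [(59,(.negSucc 0),1)] .nil .nil))) (.node [] .nil (.node [(32,(.negSucc 0),1)] .nil (.node [(94,(.negSucc 0),1)] .nil .nil)))) (.node [] (.node [] .nil (.node [(22,(.ofNat 1),1)] .nil (.node [(88,(.ofNat 1),1)] .nil .nil))) (.node [] .nil (.node [(34,(.ofNat 1),1)] .nil .nil))))) (.node [(38,(.ofNat 1),1)] (.node [] (.node [] .nil (.node [] .nil (.node [(30,(.negSucc 0),1)] .nil .nil))) (.node [] (.node [] .nil (.node [(20,(.ofNat 1),1)] .nil (.node [(86,(.ofNat 1),1)] .nil .nil)))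 .nil)) (.node [] (.node [] (.node [] .nil (.node [] .nil (.node [(76,(.negSucc 0),1)] .nil .nil))) (.node [] .nil (.node [] .nil (.node [(96,(.negSucc 0),1)] .nil .nil)))) (.node [] .nil (.node [] .nil (.node [(36,(.ofNat 1),1)] .nil .nil)))))) (.node [] (.node [] (.node [] .nil (.node [(7,(.ofNat 1),1)] (.node [] .nil (.node [(19,(.ofNat 1),1)] .nil (.node [(79,(.negSucc 0),1)] .nil .nil))) (.node [] .nil (.node [] .nil (.node [(99,(.negSucc 0),1)] .nil .nil))))) (.node [] (.node [] (.node [] .nil (.node [] .nil (.node [(0,(.negSucc 0),1),(2,(.negSucc 0),1),(38,(.negSucc 0),2)] .nil .nil))) (.node [] .nil (.node [(33,(.negSucc 0),1)] .nil (.node [(95,(.negSucc 0),1)] .nil .nil)))) (.node [] (.node [] .nil (.node [(23,(.ofNat 1),1)] .nil (.node [(89,(.ofNat 1),1)] .nil .nil))) (.node [] .nil (.node [(35,(.ofNat 1),1)] .nil .nil))))) (.node [(38,(.negSucc 0),1)] (.node [] (.node [] .nil (.node [] .nil (.node [(31,(.negSucc 0),1)] .nil .nil))) (.node [] (.node []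 .nil (.node [(21,(.ofNat 1),1)] .nil (.node [(87,(.ofNat 1),1)] .nil .nil))) .nil)) (.node [] (.node [] (.node [] .nil (.node [] .nil (.node [(77,(.negSucc 0),1)] .nil .nil))) (.node [] .nil (.node [] .nil (.node [(97,(.negSucc 0),1)] .nil .nil)))) (.node [] .nil (.node [] .nil (.node [(37,(.ofNat 1),1)] .nil .nil)))))))
noncomputable def ex32 : Trie (List (ℕ × ℤ × ℕ)) := (.node [(39,(.ofNat 2),1)] (.node [] (.node [] (.node [] (.node [] .nil (.node [] .nil (.node [(32,(.ofNat 1),1)] .nil (.node [(96,(.negSucc 0),1)] .nil .nil)))) (.node [(7,(.negSucc 0),1)] (.node [] .nil (.node [(24,(.ofNat 1),1)] .nil (.node [(83,(.negSucc 0),1)] .nil .nil))) (.node [] .nil (.node [(35,(.ofNat 1),1)] .nil .nil)))) (.node [] (.node [] (.node [] (.node [] (.node [] .nil (.node [(131,(.ofNat 1),1)] .nil .nil)) .nil) (.node [] .nil (.node [(0,(.negSucc 0),1),(39,(.negSucc 0),2)] .nil .nil))) .nil) (.node [] (.node [] .nil (.node [(28,(.ofNat 1),1)] .nil (.node [(92,(.negSucc 0),1)]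 .nil .nil))) .nil))) (.node [(39,(.negSucc 0),1)] (.node [] (.node [] .nil (.node [] .nil (.node [] .nil (.node [(98,(.negSucc 0),1)] .nil .nil)))) (.node [] (.node [] .nil (.node [(26,(.ofNat 1),1)] .nil (.node [(90,(.negSucc 0),1)] .nil .nil))) (.node [] .nil (.node [(37,(.ofNat 1),1)] .nil .nil)))) (.node [] (.node [] (.node [] .nil (.node [] .nil (.node [(81,(.negSucc 0),1)] .nil .nil))) .nil) (.node [] (.node [] .nil (.node [(30,(.ofNat 1),1)] .nil (.node [(94,(.negSucc 0),1)] .nil .nil))) .nil)))) (.node [] (.node [] (.node [] (.node [] .nil (.node [] .nil (.node [(33,(.ofNat 1),1)] .nil (.node [(97,(.negSucc 0),1)] .nil .nil)))) (.node [] (.node [] .nil (.node [(25,(.ofNat 1),1)] .nil (.node [(84,(.negSucc 0),1)] .nil .nil))) (.node [] .nil (.node [(36,(.ofNat 1),1)] .nil .nil)))) (.node [] (.node [] (.node [] .nil (.node [] .nil (.node [(80,(.negSucc 0),1)] .nil .nil))) .nil) (.node [] (.node [] .nil (.node [(29,(.ofNat 1),1)] .nil (.node [(93,(.negSucc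 0),1)] .nil .nil))) .nil))) (.node [] (.node [] (.node [] .nil (.node [] .nil (.node [] .nil (.node [(99,(.negSucc 0),1)] .nil .nil)))) (.node [] (.node [] .nil (.node [(27,(.ofNat 1),1)] .nil (.node [(91,(.negSucc 0),1)] .nil .nil))) (.node [] .nil (.node [(38,(.ofNat 1),1)] .nil .nil)))) (.node [] (.node [] (.node [] .nil (.node [] .nil (.node [(82,(.negSucc 0),1)] .nil .nil))) (.node [] .nil (.node [(34,(.ofNat 1),1)] .nil .nil))) (.node [] (.node [] .nil (.node [(31,(.ofNat 1),1)] .nil (.node [(95,(.negSucc 0),1)] .nil .nil))) .nil)))))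
noncomputable def ex33 : Trie (List (ℕ × ℤ × ℕ)) := (.node [(40,(.negSucc 0),1)] (.node [] (.node [] (.node [] (.node [] (.node [] (.node [] (.node [] .nil (.node [(106,(.ofNat 1),1)] .nil .nil)) .nil) (.node [(10,(.negSucc 0),1)] .nil (.node [(65,(.negSucc 0),1)] .nil .nil))) .nil) (.node [] (.node [] (.node [] .nil (.node [(42,(.negSucc 0),1)] .nil .nil)) (.node [] .nil .nil)) (.node [] (.node [] .nil (.node [(55,(.ofNat 1),1)] .nil .nil)) .nil))) (.node [] (.node [] (.node [] .nil (.node [(14,(.negSucc 0),1)] .nil .nil)) (.node [] (.node [] .nil (.node [(51,(.negSucc 0),1)] .nil .nil)) .nil)) (.node [] .nil (.node [] (.node [] .nil (.node [(60,(.ofNat 1),1)] .nil .nil)) (.node [] .nil (.node [(102,(.ofNat 1),1)] .nil .nil)))))) (.node [] (.node [] (.node [] (.node [] (.node [] (.node [] .nil (.node [(110,(.ofNat 1),1)] .nil .nil)) .nil) (.node [] .nil (.node [(68,(.negSucc 0),1)] .nil .nil))) .nil) (.node [] (.node [] (.node [] .nil (.node [(43,(.ofNat 1),1)]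 .nil .nil)) .nil) .nil)) (.node [] (.node [] (.node [] .nil (.node [(18,(.negSucc 0),1)] .nil .nil)) .nil) (.node [] (.node [] (.node [] .nil (.node [(46,(.ofNat 1),1)] .nil .nil)) .nil) .nil)))) (.node [] (.node [] (.node [] (.node [] (.node [] (.node [] (.node [] .nil (.node [(107,(.ofNat 1),1)] .nil .nil)) .nil) (.node [(11,(.negSucc 0),1)] .nil (.node [(67,(.ofNat 1),1)] .nil .nil))) .nil) (.node [] .nil (.node [] (.node [] .nil (.node [(56,(.negSucc 0),1)] .nil .nil)) (.node [] .nil (.node [(101,(.ofNat 1),1)] .nil .nil))))) (.node [(40,(.ofNat 1),1)] (.node [] (.node [] .nil (.node [(15,(.negSucc 0),1)] .nil .nil)) .nil) (.node [] .nil (.node [(9,(.negSucc 0),1)] (.node [] .nil (.node [(61,(.negSucc 0),1)] .nil .nil)) (.node [] .nil (.node [(103,(.ofNat 1),1)] .nil .nil)))))) (.node [] (.node [] (.node [] (.node [] (.node [] (.node [] .nil (.node [(116,(.ofNat 1),1)] .nil .nil)) .nil) (.node [] .nil (.node [(1,(.negSucc 0),1),(2,(.negSucc 0),1),(3,(.negSucc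 1),1),(4,(.negSucc 1),1),(5,(.negSucc 1),1),(6,(.negSucc 0),1),(40,(.negSucc 0),2)] .nil .nil))) (.node [] (.node [] .nil (.node [(50,(.ofNat 1),1)] .nil .nil)) (.node [] .nil (.node [(100,(.ofNat 1),1)] .nil .nil)))) (.node [] (.node [] (.node [] .nil (.node [(44,(.negSucc 0),1)] .nil .nil)) .nil) .nil)) (.node [] (.node [] (.node [] (.node [] .nil (.node [(41,(.ofNat 1),1)] .nil .nil)) (.node [(24,(.negSucc 0),1)] .nil .nil)) (.node [(8,(.negSucc 0),1)] .nil .nil)) (.node [] (.node [] (.node [] .nil (.node [(47,(.negSucc 0),1)] .nil .nil)) .nil) (.node [] (.node [] .nil (.node [(64,(.ofNat 1),1)] .nil .nil)) .nil))))))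
noncomputable def ex34 : Trie (List (ℕ × ℤ × ℕ)) := (.node [(41,(.negSucc 0),1)] (.node [] (.node [] (.node [] (.node [] (.node [] .nil (.node [] .nil (.node [(66,(.negSucc 0),1)] .nil .nil))) .nil) (.node [] .nil (.node [] .nil (.node [] .nil (.node [(101,(.ofNat 1),1)] .nil .nil))))) (.node [(41,(.ofNat 1),1)] (.node [] (.node [] (.node [] .nil (.node [(40,(.ofNat 1),1)] .nil .nil)) .nil) (.node [] (.node [] .nil (.node [(52,(.negSucc 0),1)] .nil .nil)) .nil)) (.node [] .nil (.node [(9,(.ofNat 1),1)] .nil .nil)))) (.node [] (.node [] (.node [] (.node [] (.node [] (.node [] .nil (.node [(111,(.negSucc 0),1)] .nil .nil)) .nil) (.node [] .nil (.node [(1,(.negSucc 0),1),(2,(.negSucc 0),1),(3,(.negSucc 1),1),(4,(.negSucc 1),1),(5,(.negSucc 0),1),(6,(.negSucc 0),1),(41,(.negSucc 0),2)] .nil .nil))) (.node [] (.node [] .nil (.node [(50,(.ofNat 1),1)] .nil .nil)) (.node [] .nil (.node [(100,(.ofNat 1),1)] .nil .nil)))) .nil) (.node [(41,(.ofNat 1),1)] (.node [] (.node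 [] (.node [] .nil (.node [(42,(.ofNat 1),1)] .nil .nil)) (.node [(19,(.negSucc 0),1)] .nil .nil)) (.node [(8,(.ofNat 1),1)] .nil .nil)) (.node [] .nil (.node [] (.node [] .nil (.node [(64,(.ofNat 1),1)] .nil .nil)) .nil))))) (.node [] (.node [] (.node [] (.node [] (.node [] (.node [] (.node [] .nil (.node [(108,(.negSucc 0),1)] .nil .nil)) .nil) (.node [(12,(.negSucc 0),1)] .nil (.node [(69,(.negSucc 0),1)] .nil .nil))) .nil) (.node [] (.node [] (.node [] .nil (.node [(43,(.ofNat 1),1)] .nil .nil)) (.node [] .nil .nil)) (.node [] (.node [] .nil (.node [(57,(.negSucc 0),1)] .nil .nil)) .nil))) (.node [(41,(.negSucc 0),1)] (.node [] (.node [] .nil (.node [(16,(.negSucc 0),1)] .nil .nil)) .nil) (.node [] (.node [] (.node [] .nil (.node [(46,(.ofNat 1),1)] .nil .nil)) .nil) (.node [] (.node [] .nil (.node [(62,(.negSucc 0),1)] .nil .nil)) (.node [] .nil (.node [(104,(.negSucc 0),1)] .nil .nil)))))) (.node [] (.node [] (.node [] (.node [] (.node [] (.node [] .nil (.node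 [(117,(.negSucc 0),1)] .nil .nil)) .nil) (.node [(14,(.ofNat 1),1)] .nil (.node [(71,(.negSucc 0),1)] .nil .nil))) .nil) (.node [] (.node [] (.node [] .nil (.node [(45,(.negSucc 0),1)] .nil .nil)) .nil) (.node [] (.node [] .nil (.node [(60,(.ofNat 1),1)] .nil .nil)) (.node [] .nil (.node [(102,(.ofNat 1),1)] .nil .nil))))) (.node [] (.node [] (.node [] .nil (.node [(25,(.negSucc 0),1)] .nil .nil)) (.node [] (.node [] .nil (.node [(55,(.ofNat 1),1)] .nil .nil)) .nil)) (.node [] (.node [] (.node [] .nil (.node [(48,(.negSucc 0),1)] .nil .nil)) .nil) (.node [(10,(.ofNat 1),1)] .nil (.node [] .nil (.node [(106,(.ofNat 1),1)] .nil .nil))))))))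
noncomputable def ex35 : Trie (List (ℕ × ℤ × ℕ)) := (.node [(42,(.negSucc 0),1)] (.node [] (.node [] (.node [] .nil (.node [] .nil (.node [] (.node [] .nil (.node [(57,(.negSucc 0),1)] .nil .nil)) .nil))) (.node [(42,(.ofNat 1),1)] .nil (.node [] .nil (.node [] (.node [] .nil (.node [(62,(.negSucc 0),1)] .nil .nil)) .nil)))) (.node [] (.node [] (.node [] (.node [] (.node [] (.node [] .nil (.node [(112,(.ofNat 1),1)] .nil .nil)) .nil) (.node [(14,(.negSucc 0),1)] .nil (.node [(70,(.negSucc 0),1)] .nil .nil))) (.node [] (.node [] .nil (.node [(51,(.ofNat 1),1)] .nil .nil)) .nil)) (.node [] (.node [] (.node [] .nil (.node [(45,(.negSucc 0),1)] .nil .nil)) (.node [] .nil .nil)) (.node [] .nil (.node [] .nil (.node [(102,(.ofNat 1),1)] .nil .nil))))) (.node [(42,(.negSucc 0),1)] (.node [] (.node [] .nil (.node [(20,(.negSucc 0),1)] .nil .nil)) .nil) (.node [] (.node [] (.node [] .nil (.node [(48,(.negSucc 0),1)] .nil .nil)) .nil) (.node [(10,(.negSucc 0),1)] (.node []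 .nil (.node [(65,(.ofNat 1),1)] .nil .nil)) (.node [] .nil (.node [(106,(.ofNat 1),1)] .nil .nil))))))) (.node [] (.node [] (.node [] (.node [] (.node [] (.node [] (.node [] .nil (.node [(109,(.ofNat 1),1)] .nil .nil)) .nil) (.node [(13,(.negSucc 0),1)] .nil (.node [(1,(.negSucc 0),1),(2,(.negSucc 0),1),(3,(.negSucc 1),1),(4,(.negSucc 1),1),(5,(.negSucc 0),1),(42,(.negSucc 0),2)] .nil .nil))) (.node [] .nil (.node [] .nil (.node [(100,(.ofNat 1),1)] .nil .nil)))) (.node [] (.node [] (.node [] .nil (.node [(44,(.ofNat 1),1)] .nil .nil)) .nil) .nil)) (.node [] (.node [] (.node [] (.node [] .nil (.node [(41,(.ofNat 1),1)] .nil .nil)) (.node [(17,(.negSucc 0),1)] .nil .nil)) (.node [(8,(.negSucc 0),1)] .nil .nil)) (.node [] (.node [] (.node [] .nil (.node [(47,(.ofNat 1),1)] .nil .nil)) .nil) (.node [] .nil (.node [] .nil (.node [(105,(.ofNat 1),1)] .nil .nil)))))) (.node [] (.node [] (.node [] (.node [] (.node [] (.node [] .nil (.node [(118,(.ofNat 1),1)] .nil .nil))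 (.node [(40,(.negSucc 0),1)] .nil .nil)) (.node [] .nil (.node [(72,(.ofNat 1),1)] .nil .nil))) (.node [] (.node [] .nil (.node [(52,(.negSucc 0),1)] .nil .nil)) .nil)) (.node [] .nil (.node [(9,(.negSucc 0),1)] (.node [] .nil (.node [(61,(.ofNat 1),1)] .nil .nil)) .nil))) (.node [] (.node [] (.node [] .nil (.node [(26,(.negSucc 0),1)] .nil .nil)) (.node [] (.node [] .nil (.node [(56,(.ofNat 1),1)] .nil .nil)) (.node [] .nil (.node [(101,(.ofNat 1),1)] .nil .nil)))) (.node [] .nil (.node [] (.node [] .nil (.node [(66,(.negSucc 0),1)] .nil .nil)) .nil))))))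
noncomputable def ex36 : Trie (List (ℕ × ℤ × ℕ)) := (.node [(43,(.negSucc 0),1)] (.node [] (.node [] (.node [] (.node [] (.node [] (.node [] (.node [] .nil (.node [(108,(.negSucc 0),1)] .nil .nil)) .nil) (.node [(12,(.ofNat 1),1)] .nil (.node [(1,(.negSucc 0),1),(2,(.negSucc 0),1),(3,(.negSucc 1),1),(4,(.negSucc 0),1),(5,(.negSucc 0),1),(6,(.negSucc 0),1),(43,(.negSucc 0),2)] .nil .nil))) (.node [] .nil (.node [] .nil (.node [(100,(.ofNat 1),1)] .nil .nil)))) (.node [] (.node [] (.node [] .nil (.node [(45,(.ofNat 1),1)] .nil .nil)) .nil) .nil)) (.node [(43,(.negSucc 0),1)] (.node [] (.node [] .nil (.node [(16,(.ofNat 1),1)] .nil .nil)) (.node [(8,(.negSucc 0),1)] (.node [] .nil (.node [(53,(.negSucc 0),1)] .nil .nil)) .nil)) (.node [] (.node [] (.node [] .nil (.node [(46,(.ofNat 1),1)] .nil .nil)) .nil) (.node [] .nil (.node [] .nil (.node [(104,(.negSucc 0),1)] .nil .nil)))))) (.node [] (.node [] (.node [] (.node [] (.node [] (.node [] .nil (.node [(113,(.ofNat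 1),1)] .nil .nil)) (.node [(41,(.ofNat 1),1)] .nil .nil)) (.node [] .nil (.node [(73,(.negSucc 0),1)] .nil .nil))) .nil) (.node [] .nil (.node [(9,(.negSucc 0),1)] (.node [] .nil (.node [(60,(.ofNat 1),1)] .nil .nil)) .nil))) (.node [(43,(.ofNat 1),1)] (.node [] (.node [] (.node [] .nil (.node [(44,(.ofNat 1),1)] .nil .nil)) (.node [(21,(.negSucc 0),1)] .nil .nil)) (.node [] (.node [] .nil (.node [(55,(.ofNat 1),1)] .nil .nil)) (.node [] .nil (.node [(101,(.ofNat 1),1)] .nil .nil)))) (.node [] .nil (.node [] (.node [] .nil (.node [(67,(.negSucc 0),1)] .nil .nil)) .nil))))) (.node [] (.node [] (.node [] (.node [] (.node [] (.node [] .nil (.node [(40,(.ofNat 1),1)] .nil .nil)) .nil) (.node [] (.node [] .nil (.node [(50,(.ofNat 1),1)] .nil .nil)) .nil)) (.node [] .nil (.node [] (.node [] .nil (.node [(58,(.negSucc 0),1)] .nil .nil)) .nil))) (.node [] .nil (.node [] .nil (.node [] (.node [] .nil (.node [(63,(.negSucc 0),1)] .nil .nil)) .nil)))) (.node [(43,(.ofNat 1),1)]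 (.node [] (.node [] (.node [] (.node [] (.node [] .nil (.node [(119,(.ofNat 1),1)] .nil .nil)) .nil) (.node [(15,(.ofNat 1),1)] .nil (.node [(74,(.negSucc 0),1)] .nil .nil))) .nil) (.node [] (.node [] .nil (.node [] .nil .nil)) (.node [] .nil (.node [] .nil (.node [(103,(.negSucc 0),1)] .nil .nil))))) (.node [] (.node [] (.node [] .nil (.node [(27,(.negSucc 0),1)] .nil .nil)) .nil) (.node [] (.node [] (.node [] .nil (.node [(49,(.negSucc 0),1)] .nil .nil)) .nil) (.node [(11,(.ofNat 1),1)] (.node [] .nil (.node [(69,(.negSucc 0),1)] .nil .nil)) (.node [] .nil (.node [(107,(.negSucc 0),1)] .nil .nil))))))))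
noncomputable def ex37 : Trie (List (ℕ × ℤ × ℕ)) := (.node [(44,(.negSucc 0),1)] (.node [] (.node [] (.node [] (.node [] (.node [] (.node [] (.node [] .nil (.node [(109,(.ofNat 1),1)] .nil .nil)) (.node [(40,(.negSucc 0),1)] .nil .nil)) (.node [(13,(.ofNat 1),1)] .nil (.node [(70,(.negSucc 0),1)] .nil .nil))) .nil) (.node [] .nil (.node [] (.node [] .nil (.node [(58,(.negSucc 0),1)] .nil .nil)) .nil))) (.node [(44,(.negSucc 0),1)] (.node [] (.node [] .nil (.node [(17,(.ofNat 1),1)] .nil .nil)) .nil) (.node [] (.node [] (.node [] .nil (.node [(47,(.ofNat 1),1)] .nil .nil)) (.node [] .nil .nil)) (.node [] (.node [] .nil (.node [(63,(.negSucc 0),1)] .nil .nil)) (.node [] .nil (.node [(105,(.ofNat 1),1)] .nil .nil)))))) (.node [] (.node [] (.node [] (.node [] (.node [] (.node [] .nil (.node [(114,(.negSucc 0),1)] .nil .nil)) (.node [(42,(.ofNat 1),1)] .nil .nil)) (.node [(15,(.negSucc 0),1)] .nil .nil)) .nil) (.node [] .nil (.node [] (.node [] .nil (.node [(61,(.ofNat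 1),1)] .nil .nil)) (.node [] .nil (.node [(103,(.negSucc 0),1)] .nil .nil))))) (.node [(44,(.negSucc 0),1)] (.node [] (.node [] .nil (.node [(22,(.negSucc 0),1)] .nil .nil)) (.node [] (.node [] .nil (.node [(56,(.ofNat 1),1)] .nil .nil)) .nil)) (.node [] (.node [] (.node [] .nil (.node [(49,(.negSucc 0),1)] .nil .nil)) .nil) (.node [(11,(.negSucc 0),1)] (.node [] .nil (.node [(68,(.negSucc 0),1)] .nil .nil)) (.node [] .nil (.node [(107,(.negSucc 0),1)] .nil .nil))))))) (.node [] (.node [] (.node [] (.node [] (.node [] .nil (.node [] .nil (.node [(73,(.negSucc 0),1)] .nil .nil))) (.node [] (.node [] .nil (.node [(51,(.ofNat 1),1)] .nil .nil)) .nil)) (.node [] .nil (.node [(9,(.ofNat 1),1)] .nil .nil))) (.node [(44,(.ofNat 1),1)] (.node [] (.node [] (.node [] .nil (.node [(43,(.ofNat 1),1)] .nil .nil)) .nil) (.node [] .nil (.node [] .nil (.node [(101,(.ofNat 1),1)] .nil .nil)))) .nil)) (.node [(44,(.ofNat 1),1)] (.node [] (.node [] (.node [] (.node [] (.node [] .nil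 (.node [(120,(.negSucc 0),1)] .nil .nil)) .nil) (.node [] .nil (.node [(75,(.ofNat 1),1)] .nil .nil))) (.node [(8,(.ofNat 1),1)] (.node [] .nil (.node [(53,(.negSucc 0),1)] .nil .nil)) .nil)) .nil) (.node [] (.node [] (.node [] (.node [] .nil (.node [(45,(.ofNat 1),1)] .nil .nil)) (.node [(28,(.negSucc 0),1)] .nil .nil)) .nil) (.node [] (.node [] .nil (.node [] .nil (.node [(100,(.ofNat 1),1)] .nil .nil))) (.node [] (.node [] .nil (.node [(1,(.negSucc 0),1),(2,(.negSucc 0),1),(3,(.negSucc 1),1),(4,(.negSucc 0),1),(5,(.negSucc 0),1),(44,(.negSucc 0),2)] .nil .nil)) .nil))))))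
noncomputable def ex38 : Trie (List (ℕ × ℤ × ℕ)) := (.node [(45,(.negSucc 0),1)] (.node [] (.node [] (.node [] (.node [] (.node [] (.node [] .nil (.node [(41,(.negSucc 0),1)] .nil .nil)) (.node [] .nil (.node [(72,(.negSucc 0),1)] .nil .nil))) .nil) (.node [] .nil (.node [(9,(.negSucc 0),1)] .nil .nil))) (.node [] (.node [] (.node [] (.node [] .nil (.node [(44,(.ofNat 1),1)] .nil .nil)) .nil) (.node [] .nil (.node [] .nil (.node [(101,(.ofNat 1),1)] .nil .nil)))) (.node [] (.node [] (.node [] .nil (.node [(48,(.ofNat 1),1)] .nil .nil)) .nil) .nil))) (.node [] (.node [] (.node [] (.node [] (.node [] (.node [] .nil (.node [(115,(.ofNat 1),1)] .nil .nil)) .nil) (.node [(16,(.negSucc 0),1)] .nil (.node [(75,(.ofNat 1),1)] .nil .nil))) (.node [(8,(.negSucc 0),1)] (.node [] .nil (.node [(53,(.negSucc 0),1)] .nil .nil)) .nil)) (.node [] .nil (.node [] (.node [] .nil (.node [(62,(.ofNat 1),1)] .nil .nil)) (.node [] .nil (.node [(104,(.ofNat 1),1)] .nil .nil))))) (.node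 [] (.node [] (.node [] .nil (.node [(23,(.negSucc 0),1)] .nil .nil)) (.node [] (.node [] .nil (.node [(57,(.ofNat 1),1)] .nil .nil)) .nil)) (.node [] (.node [] .nil (.node [] .nil (.node [(100,(.ofNat 1),1)] .nil .nil))) (.node [(12,(.negSucc 0),1)] (.node [] .nil (.node [(1,(.negSucc 0),1),(2,(.negSucc 0),1),(3,(.negSucc 1),1),(4,(.negSucc 0),1),(45,(.negSucc 0),2)] .nil .nil)) (.node [] .nil (.node [(108,(.ofNat 1),1)] .nil .nil))))))) (.node [] (.node [] (.node [] (.node [] (.node [] (.node [] .nil (.node [(42,(.negSucc 0),1)] .nil .nil)) (.node [] .nil (.node [(74,(.ofNat 1),1)] .nil .nil))) (.node [] (.node [] .nil (.node [(52,(.ofNat 1),1)] .nil .nil)) .nil)) .nil) (.node [(45,(.negSucc 0),1)] .nil (.node [] (.node [] (.node [] .nil (.node [(49,(.negSucc 0),1)] .nil .nil)) (.node [] .nil .nil)) .nil))) (.node [(45,(.ofNat 1),1)] (.node [] (.node [] (.node [] (.node [] (.node [] .nil (.node [(121,(.ofNat 1),1)] .nil .nil)) (.node [(43,(.ofNat 1),1)] .nil .nil))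 (.node [(17,(.negSucc 0),1)] .nil .nil)) .nil) (.node [] .nil (.node [] (.node [] .nil (.node [(63,(.negSucc 0),1)] .nil .nil)) (.node [] .nil (.node [(105,(.ofNat 1),1)] .nil .nil))))) (.node [] (.node [] (.node [] .nil (.node [(29,(.negSucc 0),1)] .nil .nil)) (.node [] (.node [] .nil (.node [(58,(.negSucc 0),1)] .nil .nil)) .nil)) (.node [] .nil (.node [(13,(.negSucc 0),1)] (.node [] .nil (.node [(71,(.negSucc 0),1)] .nil .nil)) (.node [] .nil (.node [(109,(.ofNat 1),1)] .nil .nil))))))))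
noncomputable def ex39 : Trie (List (ℕ × ℤ × ℕ)) := (.node [(46,(.negSucc 0),1)] (.node [] (.node [] (.node [] (.node [] (.node [] (.node [] (.node [] .nil (.node [(111,(.ofNat 1),1)] .nil .nil)) .nil) (.node [] .nil (.node [(76,(.negSucc 0),1)] .nil .nil))) (.node [] (.node [] .nil (.node [(50,(.ofNat 1),1)] .nil .nil)) .nil)) (.node [] (.node [] (.node [] .nil (.node [(48,(.ofNat 1),1)] .nil .nil)) .nil) (.node [] .nil (.node [] .nil (.node [(103,(.negSucc 0),1)] .nil .nil))))) (.node [] (.node [] (.node [] .nil (.node [(19,(.ofNat 1),1)] .nil .nil)) (.node [] (.node [] .nil (.node [(54,(.negSucc 0),1)] .nil .nil)) .nil)) (.node [] .nil (.node [(11,(.negSucc 0),1)] (.node [] .nil (.node [(69,(.negSucc 0),1)] .nil .nil)) .nil)))) (.node [(46,(.ofNat 1),1)] (.node [] (.node [] (.node [] .nil (.node [] .nil (.node [(77,(.negSucc 0),1)] .nil .nil))) .nil) (.node [] .nil (.node [(10,(.negSucc 0),1)] (.node [] .nil (.node [(64,(.negSucc 0),1)] .nil .nil)) .nil))) (.node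 [(46,(.ofNat 1),1)] (.node [] (.node [] (.node [] .nil (.node [(47,(.ofNat 1),1)] .nil .nil)) .nil) (.node [] .nil (.node [] .nil (.node [(102,(.negSucc 0),1)] .nil .nil)))) (.node [] (.node [] .nil (.node [] .nil .nil)) (.node [] .nil (.node [(41,(.ofNat 1),1)] .nil .nil)))))) (.node [(46,(.ofNat 1),1)] (.node [] (.node [] (.node [] (.node [] (.node [] (.node [] .nil (.node [(113,(.ofNat 1),1)] .nil .nil)) .nil) .nil) (.node [(8,(.ofNat 1),1)] .nil .nil)) (.node [] .nil (.node [] (.node [] .nil (.node [(59,(.negSucc 0),1)] .nil .nil)) (.node [] .nil (.node [(104,(.negSucc 0),1)] .nil .nil))))) (.node [] (.node [] (.node [] .nil (.node [(21,(.ofNat 1),1)] .nil .nil)) (.node [] (.node [] .nil (.node [(55,(.ofNat 1),1)] .nil .nil)) .nil)) (.node [] (.node [] .nil (.node [] .nil (.node [(100,(.ofNat 1),1)] .nil .nil))) (.node [(12,(.negSucc 0),1)] (.node [] .nil (.node [(1,(.negSucc 0),1),(2,(.negSucc 0),1),(3,(.negSucc 0),1),(4,(.negSucc 0),1),(5,(.negSucc 0),1),(6,(.negSucc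 0),1),(46,(.negSucc 0),2)] .nil .nil)) (.node [(40,(.ofNat 1),1)] .nil .nil))))) (.node [(46,(.negSucc 0),1)] (.node [] (.node [] (.node [] (.node [] (.node [] .nil (.node [(122,(.negSucc 0),1)] .nil .nil)) .nil) (.node [(18,(.ofNat 1),1)] .nil (.node [(78,(.negSucc 0),1)] .nil .nil))) .nil) (.node [] (.node [] (.node [] .nil (.node [(49,(.ofNat 1),1)] .nil .nil)) .nil) (.node [] (.node [] .nil (.node [(67,(.negSucc 0),1)] .nil .nil)) .nil))) (.node [] (.node [] (.node [] .nil (.node [(30,(.negSucc 0),1)] .nil .nil)) .nil) (.node [] .nil (.node [] .nil (.node [(43,(.ofNat 1),1)] .nil (.node [(110,(.ofNat 1),1)] .nil .nil))))))))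
noncomputable def ex40 : Trie (List (ℕ × ℤ × ℕ)) := (.node [(47,(.negSucc 0),1)] (.node [] (.node [] (.node [] (.node [] (.node [] (.node [] (.node [] .nil (.node [(112,(.negSucc 0),1)] .nil .nil)) .nil) .nil) (.node [(8,(.negSucc 0),1)] (.node [] .nil (.node [(51,(.ofNat 1),1)] .nil .nil)) .nil)) (.node [] .nil (.node [] (.node [] .nil (.node [(59,(.negSucc 0),1)] .nil .nil)) .nil))) (.node [] (.node [] (.node [] .nil (.node [(20,(.ofNat 1),1)] .nil .nil)) .nil) (.node [] (.node [] .nil (.node [] .nil (.node [(100,(.ofNat 1),1)] .nil .nil))) (.node [] (.node [] .nil (.node [(1,(.negSucc 0),1),(2,(.negSucc 0),1),(3,(.negSucc 0),1),(4,(.negSucc 0),1),(5,(.negSucc 0),1),(47,(.negSucc 0),2)] .nil .nil)) (.node [(40,(.negSucc 0),1)] .nil .nil))))) (.node [(47,(.ofNat 1),1)] (.node [] (.node [] (.node [] .nil (.node [(18,(.negSucc 0),1)] .nil .nil)) .nil) (.node [] (.node [] (.node [] .nil (.node [(49,(.ofNat 1),1)] .nil .nil)) .nil) (.node [] (.node [] .nil (.node [(65,(.negSucc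 0),1)] .nil .nil)) .nil))) (.node [(47,(.negSucc 0),1)] .nil (.node [] .nil (.node [] .nil (.node [(42,(.ofNat 1),1)] .nil (.node [(110,(.ofNat 1),1)] .nil .nil))))))) (.node [(47,(.ofNat 1),1)] (.node [] (.node [] (.node [] (.node [] (.node [] (.node [] .nil (.node [(114,(.negSucc 0),1)] .nil .nil)) .nil) (.node [] .nil (.node [(77,(.negSucc 0),1)] .nil .nil))) .nil) (.node [] .nil (.node [(10,(.ofNat 1),1)] .nil (.node [] .nil (.node [(105,(.ofNat 1),1)] .nil .nil))))) (.node [(47,(.ofNat 1),1)] (.node [] (.node [] (.node [] .nil (.node [(46,(.ofNat 1),1)] .nil .nil)) (.node [(22,(.ofNat 1),1)] .nil .nil)) (.node [] (.node [] .nil (.node [(56,(.ofNat 1),1)] .nil .nil)) (.node [] .nil (.node [(102,(.negSucc 0),1)] .nil .nil)))) (.node [] .nil (.node [(13,(.negSucc 0),1)] (.node [] .nil (.node [(70,(.negSucc 0),1)] .nil .nil)) .nil)))) (.node [(47,(.negSucc 0),1)] (.node [] (.node [] (.node [] (.node [] (.node [] .nil (.node [(123,(.ofNat 1),1)] .nil .nil)) .nil)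 (.node [] .nil (.node [(79,(.ofNat 1),1)] .nil .nil))) (.node [] (.node [] .nil (.node [(54,(.negSucc 0),1)] .nil .nil)) .nil)) (.node [] .nil (.node [(11,(.ofNat 1),1)] (.node [] .nil (.node [(68,(.negSucc 0),1)] .nil .nil)) .nil))) (.node [] (.node [] (.node [] (.node [] .nil (.node [(48,(.ofNat 1),1)] .nil .nil)) (.node [(31,(.negSucc 0),1)] .nil .nil)) (.node [] .nil (.node [] .nil (.node [(103,(.negSucc 0),1)] .nil .nil)))) (.node [] (.node [] .nil (.node [] .nil .nil)) (.node [] (.node [] .nil (.node [(76,(.negSucc 0),1)] .nil .nil)) (.node [(44,(.ofNat 1),1)] .nil .nil)))))))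
noncomputable def ex41 : Trie (List (ℕ × ℤ × ℕ)) := (.node [(48,(.negSucc 0),1)] (.node [] (.node [] (.node [] (.node [] .nil (.node [] (.node [] .nil (.node [(52,(.ofNat 1),1)] .nil .nil)) (.node [] .nil .nil))) (.node [] .nil (.node [(10,(.negSucc 0),1)] .nil (.node [] .nil (.node [(105,(.ofNat 1),1)] .nil .nil))))) (.node [(48,(.ofNat 1),1)] (.node [] (.node [] (.node [] .nil (.node [(47,(.ofNat 1),1)] .nil .nil)) .nil) (.node [] .nil (.node [] .nil (.node [(102,(.negSucc 0),1)] .nil .nil)))) (.node [] .nil (.node [(13,(.ofNat 1),1)] (.node [] .nil (.node [(71,(.negSucc 0),1)] .nil .nil)) (.node [(41,(.negSucc 0),1)] .nil .nil))))) (.node [(48,(.ofNat 1),1)] (.node [] (.node [] (.node [] .nil (.node [(19,(.negSucc 0),1)] .nil (.node [(79,(.ofNat 1),1)] .nil .nil))) (.node [] (.node [] .nil (.node [(54,(.negSucc 0),1)] .nil .nil)) .nil)) (.node [] .nil (.node [] (.node [] .nil (.node [(66,(.negSucc 0),1)] .nil .nil)) .nil))) (.node [] .nil (.node [] .nil (.node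 [] (.node [] .nil (.node [(76,(.negSucc 0),1)] .nil .nil)) (.node [] .nil (.node [(111,(.negSucc 0),1)] .nil .nil))))))) (.node [(48,(.ofNat 1),1)] (.node [] (.node [] (.node [] (.node [] (.node [] (.node [] .nil (.node [(115,(.ofNat 1),1)] .nil .nil)) .nil) (.node [] .nil (.node [(78,(.ofNat 1),1)] .nil .nil))) .nil) (.node [] (.node [] (.node [] .nil (.node [(49,(.ofNat 1),1)] .nil .nil)) .nil) .nil)) (.node [(48,(.negSucc 0),1)] (.node [] (.node [] .nil (.node [(23,(.ofNat 1),1)] .nil .nil)) (.node [] (.node [] .nil (.node [(57,(.ofNat 1),1)] .nil .nil)) .nil)) (.node [] .nil (.node [] (.node [] .nil (.node [(72,(.negSucc 0),1)] .nil .nil)) (.node [(42,(.negSucc 0),1)] .nil .nil))))) (.node [(48,(.negSucc 0),1)] (.node [] (.node [] (.node [] (.node [] (.node [] .nil (.node [(124,(.negSucc 0),1)] .nil .nil)) (.node [(46,(.ofNat 1),1)] .nil .nil)) (.node [(20,(.negSucc 0),1)] .nil .nil)) .nil) (.node [] (.node [] .nil (.node [] .nil (.node [(100,(.ofNat 1),1)]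 .nil .nil))) (.node [(12,(.ofNat 1),1)] (.node [] .nil (.node [(1,(.negSucc 0),1),(2,(.negSucc 0),1),(3,(.negSucc 0),1),(4,(.negSucc 0),1),(48,(.negSucc 0),2)] .nil .nil)) .nil))) (.node [] (.node [] (.node [] .nil (.node [(32,(.negSucc 0),1)] .nil .nil)) (.node [] (.node [] .nil (.node [(59,(.negSucc 0),1)] .nil .nil)) (.node [] .nil (.node [(104,(.ofNat 1),1)] .nil .nil)))) (.node [(8,(.ofNat 1),1)] .nil (.node [] .nil (.node [(45,(.ofNat 1),1)] .nil (.node [(112,(.negSucc 0),1)] .nil .nil))))))))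
noncomputable def ex42 : Trie (List (ℕ × ℤ × ℕ)) := (.node [(49,(.negSucc 0),1)] (.node [] (.node [] (.node [] (.node [] (.node [] (.node [] (.node [] .nil (.node [(115,(.ofNat 1),1)] .nil .nil)) (.node [(46,(.ofNat 1),1)] .nil .nil)) (.node [] .nil (.node [(79,(.ofNat 1),1)] .nil .nil))) (.node [] (.node [] .nil (.node [(53,(.ofNat 1),1)] .nil .nil)) .nil)) (.node [] .nil (.node [(11,(.negSucc 0),1)] .nil .nil))) (.node [(49,(.negSucc 0),1)] (.node [] (.node [] .nil (.node [(23,(.negSucc 0),1)] .nil .nil)) (.node [] .nil (.node [] .nil (.node [(103,(.ofNat 1),1)] .nil .nil)))) (.node [] .nil (.node [] (.node [] .nil (.node [(74,(.negSucc 0),1)] .nil .nil)) (.node [(43,(.negSucc 0),1)] .nil .nil))))) (.node [(49,(.ofNat 1),1)] (.node [] (.node [] (.node [] (.node [] .nil (.node [(48,(.ofNat 1),1)] .nil .nil)) (.node [(21,(.negSucc 0),1)] .nil .nil)) .nil) (.node [] (.node [] .nil (.node [] .nil (.node [(100,(.ofNat 1),1)] .nil .nil))) (.node [(13,(.negSucc 0),1)]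 (.node [] .nil (.node [(1,(.negSucc 0),1),(2,(.negSucc 0),1),(3,(.negSucc 0),1),(49,(.negSucc 0),2)] .nil .nil)) .nil))) (.node [] (.node [] .nil (.node [] (.node [] .nil (.node [(59,(.negSucc 0),1)] .nil .nil)) (.node [] .nil (.node [(105,(.ofNat 1),1)] .nil .nil)))) (.node [(8,(.negSucc 0),1)] .nil (.node [] (.node [] .nil (.node [(77,(.ofNat 1),1)] .nil .nil)) (.node [(45,(.negSucc 0),1)] .nil (.node [(113,(.ofNat 1),1)] .nil .nil))))))) (.node [(49,(.ofNat 1),1)] (.node [] (.node [] (.node [] (.node [] (.node [] .nil (.node [(47,(.ofNat 1),1)] .nil .nil)) .nil) (.node [] (.node [] .nil (.node [(54,(.negSucc 0),1)] .nil .nil)) (.node [] .nil .nil))) (.node [] .nil (.node [(12,(.negSucc 0),1)] .nil .nil))) (.node [] (.node [] .nil (.node [] (.node [] .nil (.node [(58,(.ofNat 1),1)] .nil .nil)) (.node [] .nil (.node [(104,(.ofNat 1),1)] .nil .nil)))) (.node [] .nil (.node [] (.node [] .nil (.node [(75,(.negSucc 0),1)] .nil .nil)) (.node [(44,(.negSucc 0),1)] .nil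 .nil))))) (.node [] (.node [] (.node [] (.node [] (.node [] (.node [] .nil (.node [(125,(.ofNat 1),1)] .nil .nil)) .nil) (.node [(22,(.negSucc 0),1)] .nil .nil)) .nil) (.node [] .nil (.node [] (.node [] .nil (.node [(73,(.negSucc 0),1)] .nil .nil)) .nil))) (.node [] (.node [] (.node [] .nil (.node [(33,(.negSucc 0),1)] .nil .nil)) .nil) (.node [] .nil (.node [] (.node [] .nil (.node [(78,(.ofNat 1),1)] .nil .nil)) (.node [] .nil (.node [(114,(.ofNat 1),1)] .nil .nil))))))))
noncomputable def ex43 : Trie (List (ℕ × ℤ × ℕ)) := (.node [] (.node [] (.node [] (.node [] (.node [] (.node [] (.node [] (.node [] .nil (.node [(117,(.negSucc 0),1)] .nil .nil)) .nil) (.node [] .nil (.node [(81,(.negSucc 0),1)] .nil .nil))) (.node [] .nil (.node [] .nil (.node [(102,(.negSucc 0),1)] .nil .nil)))) (.node [] (.node [] (.node [] .nil (.node [(52,(.ofNat 1),1)] .nil .nil)) .nil) (.node [] (.node [] .nil (.node [(69,(.negSucc 0),1)] .nil .nil)) (.node [(40,(.ofNat 1),1)] .nil .nil))))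 (.node [] (.node [] (.node [] .nil (.node [(25,(.ofNat 1),1)] .nil .nil)) (.node [(10,(.ofNat 1),1)] .nil .nil)) .nil)) (.node [(50,(.negSucc 0),1)] (.node [] (.node [] (.node [] (.node [] (.node [] .nil (.node [(122,(.negSucc 0),1)] .nil .nil)) .nil) (.node [] .nil (.node [(82,(.negSucc 0),1)] .nil .nil))) (.node [] .nil (.node [] .nil (.node [(103,(.negSucc 0),1)] .nil .nil)))) (.node [] .nil (.node [] .nil (.node [(43,(.ofNat 1),1)] .nil .nil)))) (.node [(50,(.ofNat 1),1)] (.node [] (.node [] (.node [] .nil (.node [(51,(.ofNat 1),1)] .nil .nil)) (.node [(30,(.ofNat 1),1)] .nil .nil)) (.node [(11,(.ofNat 1),1)] (.node [] .nil (.node [(64,(.negSucc 0),1)] .nil .nil)) .nil)) .nil))) (.node [(50,(.ofNat 1),1)] (.node [] (.node [] (.node [] (.node [] (.node [] (.node [] .nil (.node [(119,(.negSucc 0),1)] .nil .nil)) .nil) .nil) (.node [(9,(.ofNat 1),1)] .nil .nil)) (.node [] .nil (.node [] (.node [] .nil (.node [(1,(.negSucc 0),1),(3,(.negSucc 0),1),(4,(.negSucc 0),1),(5,(.negSucc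 0),1),(6,(.negSucc 0),1),(50,(.negSucc 0),2)] .nil .nil)) (.node [(41,(.ofNat 1),1)] .nil .nil)))) (.node [] (.node [] (.node [] .nil (.node [(27,(.ofNat 1),1)] .nil .nil)) (.node [] (.node [] .nil (.node [(60,(.negSucc 0),1)] .nil .nil)) .nil)) (.node [] (.node [] .nil (.node [] .nil (.node [(101,(.negSucc 0),1)] .nil .nil))) (.node [] (.node [] .nil (.node [(80,(.negSucc 0),1)] .nil .nil)) .nil)))) (.node [] (.node [] (.node [] (.node [] .nil (.node [(24,(.ofNat 1),1)] .nil (.node [(83,(.negSucc 0),1)] .nil .nil))) (.node [] .nil (.node [] .nil (.node [(104,(.negSucc 0),1)] .nil .nil)))) (.node [] (.node [] (.node [] .nil (.node [(53,(.ofNat 1),1)] .nil .nil)) .nil) (.node [] .nil (.node [(46,(.ofNat 1),1)] .nil .nil)))) (.node [] (.node [] .nil (.node [(12,(.ofNat 1),1)] (.node [] .nil (.node [(67,(.negSucc 0),1)] .nil .nil)) .nil)) (.node [] (.node [] (.node [] .nil (.node [(54,(.ofNat 1),1)] .nil .nil)) .nil) (.node [] .nil (.node [] .nil (.node [(116,(.negSucc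 0),1)] .nil .nil))))))))
noncomputable def ex44 : Trie (List (ℕ × ℤ × ℕ)) := (.node [] (.node [] (.node [] (.node [] (.node [] (.node [] (.node [] (.node [] .nil (.node [(118,(.ofNat 1),1)] .nil .nil)) .nil) .nil) (.node [(9,(.negSucc 0),1)] .nil .nil)) (.node [] .nil (.node [] (.node [] .nil (.node [(1,(.negSucc 0),1),(3,(.negSucc 0),1),(4,(.negSucc 0),1),(5,(.negSucc 0),1),(51,(.negSucc 0),2)] .nil .nil)) .nil))) (.node [] (.node [] (.node [] .nil (.node [(26,(.ofNat 1),1)] .nil .nil)) .nil) (.node [] (.node [] .nil (.node [] .nil (.node [(101,(.negSucc 0),1)] .nil .nil))) (.node [] (.node [] .nil (.node [(80,(.negSucc 0),1)] .nil .nil)) .nil)))) (.node [(51,(.negSucc 0),1)] (.node [] (.node [] (.node [] (.node [] (.node [] .nil (.node [(123,(.ofNat 1),1)] .nil .nil)) .nil) (.node [(24,(.negSucc 0),1)] .nil .nil)) .nil) (.node [] (.node [] (.node [] .nil (.node [(53,(.ofNat 1),1)] .nil .nil)) .nil) (.node [] .nil (.node [(44,(.ofNat 1),1)] .nil .nil)))) (.node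 [(51,(.negSucc 0),1)] (.node [] (.node [] .nil (.node [(31,(.ofNat 1),1)] .nil .nil)) (.node [] (.node [] .nil (.node [(65,(.negSucc 0),1)] .nil .nil)) .nil)) (.node [] (.node [] (.node [] .nil (.node [(54,(.ofNat 1),1)] .nil .nil)) .nil) (.node [] .nil (.node [] .nil (.node [(116,(.negSucc 0),1)] .nil .nil))))))) (.node [(51,(.ofNat 1),1)] (.node [] (.node [] (.node [] (.node [] (.node [] (.node [] .nil (.node [(120,(.ofNat 1),1)] .nil .nil)) .nil) (.node [] .nil (.node [(82,(.negSucc 0),1)] .nil .nil))) (.node [] .nil (.node [] .nil (.node [(103,(.negSucc 0),1)] .nil .nil)))) (.node [] .nil (.node [] (.node [] .nil (.node [(70,(.negSucc 0),1)] .nil .nil)) (.node [(42,(.ofNat 1),1)] .nil .nil)))) (.node [(51,(.ofNat 1),1)] (.node [] (.node [] (.node [] .nil (.node [(50,(.ofNat 1),1)] .nil .nil)) (.node [(28,(.ofNat 1),1)] .nil .nil)) (.node [(11,(.negSucc 0),1)] (.node [] .nil (.node [(61,(.negSucc 0),1)] .nil .nil)) .nil)) .nil)) (.node [] (.node [] (.node []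 (.node [] .nil (.node [] .nil (.node [(84,(.ofNat 1),1)] .nil .nil))) (.node [(10,(.negSucc 0),1)] .nil (.node [] .nil (.node [(105,(.ofNat 1),1)] .nil .nil)))) (.node [] .nil (.node [] .nil (.node [(47,(.ofNat 1),1)] .nil .nil)))) (.node [] (.node [] (.node [] (.node [] .nil (.node [(52,(.ofNat 1),1)] .nil .nil)) .nil) (.node [(13,(.ofNat 1),1)] (.node [] .nil (.node [(68,(.negSucc 0),1)] .nil .nil)) (.node [(40,(.negSucc 0),1)] .nil .nil))) (.node [] (.node [] .nil (.node [] .nil (.node [(102,(.negSucc 0),1)] .nil .nil))) (.node [] (.node [] .nil (.node [(81,(.negSucc 0),1)] .nil .nil)) .nil))))))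
noncomputable def ex45 : Trie (List (ℕ × ℤ × ℕ)) := (.node [] (.node [] (.node [] (.node [] .nil (.node [] .nil (.node [] (.node [] .nil (.node [(71,(.negSucc 0),1)] .nil .nil)) (.node [(42,(.negSucc 0),1)] .nil .nil)))) (.node [(52,(.ofNat 1),1)] (.node [] (.node [] (.node [] .nil (.node [(51,(.ofNat 1),1)] .nil .nil)) .nil) (.node [] .nil (.node [] .nil .nil))) .nil)) (.node [(52,(.negSucc 0),1)] (.node [] (.node [] (.node [] (.node [] (.node [] .nil (.node [(124,(.negSucc 0),1)] .nil .nil)) .nil) (.node [(25,(.negSucc 0),1)] .nil (.node [(84,(.ofNat 1),1)] .nil .nil))) (.node [(10,(.ofNat 1),1)] .nil (.node [] .nil (.node [(105,(.ofNat 1),1)] .nil .nil)))) (.node [] .nil (.node [] .nil (.node [(45,(.ofNat 1),1)] .nil .nil)))) (.node [] (.node [] (.node [] .nil (.node [(32,(.ofNat 1),1)] .nil .nil)) (.node [(13,(.negSucc 0),1)] (.node [] .nil (.node [(66,(.negSucc 0),1)] .nil .nil)) .nil)) (.node [] (.node [] .nil (.node [] .nil (.node [(102,(.negSucc 0),1)] .nil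 .nil))) (.node [] (.node [] .nil (.node [(81,(.negSucc 0),1)] .nil .nil)) (.node [] .nil (.node [(117,(.ofNat 1),1)] .nil .nil))))))) (.node [(52,(.ofNat 1),1)] (.node [] (.node [] (.node [] (.node [] (.node [] (.node [] .nil (.node [(121,(.negSucc 0),1)] .nil .nil)) .nil) (.node [] .nil (.node [(83,(.ofNat 1),1)] .nil .nil))) (.node [] .nil (.node [] .nil (.node [(104,(.ofNat 1),1)] .nil .nil)))) (.node [] (.node [] (.node [] .nil (.node [(53,(.ofNat 1),1)] .nil .nil)) .nil) (.node [] (.node [] .nil (.node [(72,(.negSucc 0),1)] .nil .nil)) .nil))) (.node [(52,(.negSucc 0),1)] (.node [] (.node [] .nil (.node [(29,(.ofNat 1),1)] .nil .nil)) (.node [(12,(.negSucc 0),1)] (.node [] .nil (.node [(62,(.negSucc 0),1)] .nil .nil)) .nil)) (.node [] (.node [] (.node [] .nil (.node [(54,(.ofNat 1),1)] .nil .nil)) .nil) .nil))) (.node [] (.node [] (.node [] (.node [] (.node [] .nil (.node [(50,(.ofNat 1),1)] .nil .nil)) (.node [(26,(.negSucc 0),1)] .nil .nil)) .nil) (.node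 [] (.node [] .nil (.node [] .nil (.node [(101,(.negSucc 0),1)] .nil .nil))) (.node [] (.node [] .nil (.node [(80,(.negSucc 0),1)] .nil .nil)) (.node [(48,(.ofNat 1),1)] .nil .nil)))) (.node [] (.node [] .nil (.node [] (.node [] .nil (.node [(1,(.negSucc 0),1),(3,(.negSucc 0),1),(4,(.negSucc 0),1),(52,(.negSucc 0),2)] .nil .nil)) (.node [(41,(.negSucc 0),1)] .nil .nil))) (.node [(9,(.ofNat 1),1)] .nil (.node [] .nil (.node [] .nil (.node [(118,(.ofNat 1),1)] .nil .nil))))))))
noncomputable def ex46 : Trie (List (ℕ × ℤ × ℕ)) := (.node [] (.node [] (.node [] (.node [] (.node [] (.node [] (.node [] (.node [] .nil (.node [(121,(.negSucc 0),1)] .nil .nil)) (.node [(50,(.ofNat 1),1)] .nil .nil)) (.node [] .nil (.node [(84,(.ofNat 1),1)] .nil .nil))) (.node [] .nil (.node [] .nil (.node [(105,(.ofNat 1),1)] .nil .nil)))) (.node [] .nil (.node [] (.node [] .nil (.node [(74,(.negSucc 0),1)] .nil .nil)) (.node [(44,(.negSucc 0),1)] .nil .nil)))) (.node [(53,(.negSucc 0),1)]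 (.node [] (.node [] .nil (.node [(29,(.negSucc 0),1)] .nil .nil)) (.node [(13,(.ofNat 1),1)] .nil .nil)) (.node [] (.node [] (.node [] .nil (.node [(54,(.ofNat 1),1)] .nil .nil)) .nil) .nil))) (.node [(53,(.negSucc 0),1)] (.node [] (.node [] (.node [] (.node [] (.node [] .nil (.node [(125,(.ofNat 1),1)] .nil .nil)) (.node [(52,(.ofNat 1),1)] .nil .nil)) (.node [(27,(.negSucc 0),1)] .nil .nil)) (.node [(11,(.ofNat 1),1)] .nil .nil)) (.node [] (.node [] .nil (.node [] .nil (.node [(101,(.negSucc 0),1)] .nil .nil))) (.node [] (.node [] .nil (.node [(80,(.negSucc 0),1)] .nil .nil)) .nil))) (.node [] (.node [] (.node [] .nil (.node [(33,(.ofNat 1),1)] .nil .nil)) (.node [] (.node [] .nil (.node [(1,(.negSucc 0),1),(3,(.negSucc 0),1),(53,(.negSucc 0),2)] .nil .nil)) .nil)) (.node [(9,(.negSucc 0),1)] (.node [] .nil (.node [] .nil (.node [(103,(.ofNat 1),1)] .nil .nil))) (.node [] (.node [] .nil (.node [(82,(.ofNat 1),1)] .nil .nil)) (.node [] .nil (.node [(119,(.negSucc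 0),1)] .nil .nil))))))) (.node [(53,(.ofNat 1),1)] (.node [] (.node [] (.node [] (.node [] (.node [] .nil (.node [(51,(.ofNat 1),1)] .nil .nil)) .nil) .nil) (.node [] .nil (.node [] (.node [] .nil (.node [(75,(.negSucc 0),1)] .nil .nil)) (.node [(45,(.negSucc 0),1)] .nil .nil)))) (.node [] (.node [] .nil (.node [] (.node [] .nil (.node [(63,(.negSucc 0),1)] .nil .nil)) (.node [] .nil .nil))) .nil)) (.node [(53,(.ofNat 1),1)] (.node [] (.node [] (.node [] .nil (.node [(28,(.negSucc 0),1)] .nil .nil)) (.node [(12,(.ofNat 1),1)] .nil .nil)) (.node [] .nil (.node [] .nil (.node [(49,(.ofNat 1),1)] .nil .nil)))) (.node [] (.node [] .nil (.node [] (.node [] .nil (.node [(73,(.negSucc 0),1)] .nil .nil)) (.node [(43,(.negSucc 0),1)] .nil .nil))) (.node [] (.node [] .nil (.node [] .nil (.node [(104,(.ofNat 1),1)] .nil .nil))) (.node [] (.node [] .nil (.node [(83,(.ofNat 1),1)] .nil .nil)) (.node [] .nil (.node [(120,(.negSucc 0),1)] .nil .nil))))))))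
noncomputable def ex47 : Trie (List (ℕ × ℤ × ℕ)) := (.node [] (.node [] (.node [] (.node [] (.node [] (.node [] (.node [] (.node [] .nil (.node [(124,(.ofNat 1),1)] .nil .nil)) .nil) .nil) (.node [(12,(.negSucc 0),1)] .nil .nil)) (.node [] .nil (.node [] (.node [] .nil (.node [(78,(.negSucc 0),1)] .nil .nil)) (.node [(47,(.negSucc 0),1)] .nil .nil)))) (.node [] (.node [] (.node [] .nil (.node [(32,(.negSucc 0),1)] .nil .nil)) .nil) (.node [] (.node [] .nil (.node [] .nil (.node [(104,(.ofNat 1),1)] .nil .nil))) (.node [] (.node [] .nil (.node [(83,(.ofNat 1),1)] .nil .nil)) (.node [(50,(.ofNat 1),1)] .nil .nil))))) (.node [] (.node [] (.node [] (.node [] .nil (.node [(30,(.negSucc 0),1)] .nil .nil)) .nil) (.node [] (.node [] .nil (.node [] .nil (.node [(102,(.ofNat 1),1)] .nil .nil))) (.node [] (.node [] .nil (.node [(81,(.ofNat 1),1)] .nil .nil)) (.node [(49,(.negSucc 0),1)] .nil .nil)))) (.node [] (.node [] .nil (.node [] (.node [] .nil (.node [(76,(.negSucc 0),1)]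 .nil .nil)) (.node [] .nil .nil))) (.node [(10,(.negSucc 0),1)] .nil (.node [] .nil (.node [(52,(.ofNat 1),1)] .nil (.node [(122,(.ofNat 1),1)] .nil .nil))))))) (.node [(54,(.ofNat 2),1)] (.node [] (.node [] (.node [] (.node [] (.node [] (.node [] .nil (.node [(125,(.ofNat 1),1)] .nil .nil)) .nil) .nil) (.node [(13,(.negSucc 0),1)] .nil .nil)) (.node [] .nil (.node [] (.node [] .nil (.node [(79,(.negSucc 0),1)] .nil .nil)) (.node [(48,(.negSucc 0),1)] .nil .nil)))) (.node [] (.node [] (.node [] .nil (.node [(33,(.negSucc 0),1)] .nil .nil)) (.node [] (.node [] .nil (.node [(1,(.negSucc 0),1),(54,(.negSucc 0),2)] .nil .nil)) .nil)) (.node [] (.node [] .nil (.node [] .nil (.node [(105,(.ofNat 1),1)] .nil .nil))) (.node [] (.node [] .nil (.node [(84,(.ofNat 1),1)] .nil .nil)) (.node [(51,(.ofNat 1),1)] .nil .nil))))) (.node [(54,(.negSucc 0),1)] (.node [] (.node [] (.node [] .nil (.node [(31,(.negSucc 0),1)] .nil .nil)) .nil) (.node [] (.node [] .nil (.node [] .nil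 (.node [(103,(.ofNat 1),1)] .nil .nil))) (.node [] (.node [] .nil (.node [(82,(.ofNat 1),1)] .nil .nil)) .nil))) (.node [] (.node [] .nil (.node [] (.node [] .nil (.node [(77,(.negSucc 0),1)] .nil .nil)) (.node [(46,(.negSucc 0),1)] .nil .nil))) (.node [(11,(.negSucc 0),1)] .nil (.node [] .nil (.node [(53,(.ofNat 1),1)] .nil (.node [(123,(.ofNat 1),1)] .nil .nil))))))))
noncomputable def ex48 : Trie (List (ℕ × ℤ × ℕ)) := (.node [(55,(.negSucc 0),1)] (.node [] (.node [] (.node [] (.node [] (.node [] .nil (.node [(19,(.negSucc 0),1)] .nil (.node [(86,(.negSucc 0),1)] .nil .nil))) (.node [] (.node [] .nil (.node [(60,(.negSucc 0),1)] .nil .nil)) .nil)) (.node [] (.node [] (.node [] .nil (.node [(57,(.ofNat 1),1)] .nil .nil)) .nil) (.node [] .nil (.node [] .nil (.node [(107,(.ofNat 1),1)] .nil .nil))))) (.node [] (.node [] .nil (.node [] (.node [] .nil (.node [(2,(.negSucc 0),1),(3,(.negSucc 0),1),(4,(.negSucc 0),1),(5,(.negSucc 0),1),(6,(.negSucc 0),1),(55,(.negSucc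 0),2)] .nil .nil)) (.node [(41,(.ofNat 1),1)] .nil .nil))) (.node [] .nil (.node [(15,(.negSucc 0),1)] .nil (.node [] .nil (.node [(111,(.ofNat 1),1)] .nil .nil)))))) (.node [(55,(.ofNat 1),1)] (.node [] (.node [] (.node [] .nil (.node [] .nil (.node [(87,(.negSucc 0),1)] .nil .nil))) (.node [] (.node [] .nil (.node [(67,(.negSucc 0),1)] .nil .nil)) .nil)) (.node [] .nil (.node [(14,(.negSucc 0),1)] .nil .nil))) (.node [(55,(.ofNat 1),1)] (.node [] (.node [] (.node [] .nil (.node [(56,(.ofNat 1),1)] .nil .nil)) .nil) (.node [] .nil (.node [(46,(.ofNat 1),1)] .nil (.node [(106,(.ofNat 1),1)] .nil .nil)))) .nil))) (.node [(55,(.negSucc 0),1)] (.node [] (.node [] (.node [] (.node [] .nil (.node [(21,(.negSucc 0),1)] .nil .nil)) (.node [] (.node [] .nil (.node [(64,(.negSucc 0),1)] .nil .nil)) .nil)) (.node [] (.node [] .nil (.node [] .nil (.node [(100,(.ofNat 1),1)] .nil .nil))) (.node [] .nil (.node [] .nil (.node [(108,(.ofNat 1),1)] .nil .nil))))) (.node [] (.node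 [] .nil (.node [] .nil (.node [(43,(.ofNat 1),1)] .nil .nil))) (.node [(8,(.negSucc 0),1)] .nil (.node [(16,(.negSucc 0),1)] (.node [] .nil (.node [(85,(.negSucc 0),1)] .nil .nil)) (.node [] .nil (.node [(113,(.ofNat 1),1)] .nil .nil)))))) (.node [] (.node [] (.node [] (.node [] (.node [] (.node [] .nil (.node [(126,(.ofNat 1),1)] .nil .nil)) .nil) (.node [] .nil (.node [(88,(.negSucc 0),1)] .nil .nil))) (.node [] (.node [] .nil (.node [(69,(.negSucc 0),1)] .nil .nil)) (.node [(40,(.ofNat 1),1)] .nil .nil))) (.node [] (.node [] (.node [] .nil (.node [(58,(.ofNat 1),1)] .nil .nil)) .nil) (.node [] .nil (.node [] .nil (.node [(110,(.ofNat 1),1)] .nil .nil))))) (.node [] (.node [] (.node [] .nil (.node [(34,(.negSucc 0),1)] .nil .nil)) (.node [] .nil (.node [] .nil .nil))) (.node [] (.node [] (.node [] .nil (.node [(59,(.ofNat 1),1)] .nil .nil)) .nil) (.node [(18,(.negSucc 0),1)] .nil .nil))))))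
noncomputable def ex49 : Trie (List (ℕ × ℤ × ℕ)) := (.node [(56,(.negSucc 0),1)] (.node [] (.node [] (.node [] (.node [] (.node [] .nil (.node [(20,(.negSucc 0),1)] .nil .nil)) (.node [] (.node [] .nil (.node [(61,(.negSucc 0),1)] .nil .nil)) .nil)) (.node [] (.node [] .nil (.node [] .nil (.node [(100,(.ofNat 1),1)] .nil .nil))) (.node [] .nil (.node [] .nil .nil)))) (.node [] (.node [] .nil (.node [] (.node [] .nil (.node [(70,(.negSucc 0),1)] .nil .nil)) (.node [(42,(.ofNat 1),1)] .nil .nil))) (.node [(8,(.ofNat 1),1)] .nil (.node [] (.node [] .nil (.node [(85,(.negSucc 0),1)] .nil .nil)) (.node [] .nil (.node [(112,(.negSucc 0),1)] .nil .nil)))))) (.node [(56,(.ofNat 1),1)] (.node [] (.node [] .nil (.node [] (.node [] .nil (.node [(68,(.negSucc 0),1)] .nil .nil)) (.node [(40,(.negSucc 0),1)] .nil .nil))) (.node [] (.node [] (.node [] .nil (.node [(58,(.ofNat 1),1)] .nil .nil)) .nil) (.node [] .nil (.node [] .nil (.node [(110,(.ofNat 1),1)] .nil .nil))))) (.node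 [(56,(.negSucc 0),1)] (.node [] .nil (.node [] .nil (.node [(47,(.ofNat 1),1)] .nil .nil))) (.node [] (.node [] (.node [] .nil (.node [(59,(.ofNat 1),1)] .nil .nil)) .nil) (.node [(18,(.ofNat 1),1)] .nil .nil))))) (.node [(56,(.negSucc 0),1)] (.node [] (.node [] (.node [] (.node [] .nil (.node [(22,(.negSucc 0),1)] .nil (.node [(87,(.negSucc 0),1)] .nil .nil))) (.node [] (.node [] .nil (.node [(65,(.negSucc 0),1)] .nil .nil)) .nil)) (.node [] .nil (.node [(14,(.ofNat 1),1)] .nil (.node [] .nil (.node [(109,(.negSucc 0),1)] .nil .nil))))) (.node [(56,(.ofNat 1),1)] (.node [] (.node [] (.node [] .nil (.node [(55,(.ofNat 1),1)] .nil .nil)) .nil) (.node [] .nil (.node [(44,(.ofNat 1),1)] .nil (.node [(106,(.ofNat 1),1)] .nil .nil)))) (.node [] .nil (.node [(17,(.negSucc 0),1)] .nil (.node [] .nil (.node [(114,(.negSucc 0),1)] .nil .nil)))))) (.node [] (.node [] (.node [] (.node [] (.node [] (.node [] .nil (.node [(127,(.negSucc 0),1)] .nil .nil)) .nil) (.node [] .nil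 (.node [(89,(.ofNat 1),1)] .nil .nil))) (.node [] (.node [] .nil (.node [(2,(.negSucc 0),1),(3,(.negSucc 0),1),(4,(.negSucc 0),1),(5,(.negSucc 0),1),(56,(.negSucc 0),2)] .nil .nil)) .nil)) (.node [] .nil (.node [(15,(.ofNat 1),1)] .nil .nil))) (.node [] (.node [] (.node [] (.node [] .nil (.node [(57,(.ofNat 1),1)] .nil .nil)) (.node [(35,(.negSucc 0),1)] .nil .nil)) (.node [] .nil (.node [] .nil (.node [(107,(.ofNat 1),1)] .nil .nil)))) (.node [] .nil (.node [] (.node [] .nil (.node [(86,(.negSucc 0),1)] .nil .nil)) .nil))))))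
noncomputable def ex50 : Trie (List (ℕ × ℤ × ℕ)) := (.node [(57,(.negSucc 0),1)] (.node [] (.node [] (.node [] (.node [] .nil (.node [] (.node [] .nil (.node [(62,(.negSucc 0),1)] .nil .nil)) .nil)) (.node [] .nil (.node [(14,(.negSucc 0),1)] .nil (.node [] .nil (.node [(109,(.negSucc 0),1)] .nil .nil))))) (.node [(57,(.ofNat 1),1)] (.node [] (.node [] (.node [] .nil (.node [(56,(.ofNat 1),1)] .nil .nil)) .nil) (.node [] (.node [] .nil (.node [(72,(.negSucc 0),1)] .nil .nil)) (.node [] .nil (.node [(106,(.ofNat 1),1)] .nil .nil)))) (.node [] .nil (.node [(17,(.ofNat 1),1)] .nil .nil)))) (.node [(57,(.ofNat 1),1)] (.node [] (.node [] (.node [] .nil (.node [] .nil (.node [(89,(.ofNat 1),1)] .nil .nil))) (.node [] (.node [] .nil (.node [(2,(.negSucc 0),1),(3,(.negSucc 0),1),(4,(.negSucc 0),1),(57,(.negSucc 0),2)] .nil .nil)) (.node [(41,(.negSucc 0),1)] .nil .nil))) (.node [] .nil (.node [] .nil (.node [] .nil (.node [(111,(.negSucc 0),1)] .nil .nil))))) (.node []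 (.node [] .nil (.node [] .nil (.node [(48,(.ofNat 1),1)] .nil .nil))) (.node [] .nil (.node [(19,(.ofNat 1),1)] (.node [] .nil (.node [(86,(.negSucc 0),1)] .nil .nil)) .nil))))) (.node [(57,(.negSucc 0),1)] (.node [] (.node [] (.node [] (.node [] .nil (.node [(23,(.negSucc 0),1)] .nil (.node [(88,(.ofNat 1),1)] .nil .nil))) (.node [] (.node [] .nil (.node [(66,(.negSucc 0),1)] .nil .nil)) .nil)) (.node [] (.node [] (.node [] .nil (.node [(58,(.ofNat 1),1)] .nil .nil)) .nil) (.node [] .nil (.node [] .nil .nil)))) (.node [(57,(.negSucc 0),1)] (.node [] .nil (.node [] .nil (.node [(45,(.ofNat 1),1)] .nil .nil))) (.node [] (.node [] (.node [] .nil (.node [(59,(.ofNat 1),1)] .nil .nil)) .nil) (.node [] .nil (.node [] .nil (.node [(115,(.ofNat 1),1)] .nil .nil)))))) (.node [] (.node [] (.node [] (.node [] (.node [] (.node [] .nil (.node [(128,(.ofNat 1),1)] .nil .nil)) (.node [(55,(.ofNat 1),1)] .nil .nil)) .nil) (.node [] (.node [] .nil (.node [(71,(.negSucc 0),1)] .nil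 .nil)) (.node [(42,(.negSucc 0),1)] .nil .nil))) (.node [(8,(.negSucc 0),1)] .nil (.node [(16,(.ofNat 1),1)] (.node [] .nil (.node [(85,(.negSucc 0),1)] .nil .nil)) (.node [] .nil (.node [(112,(.negSucc 0),1)] .nil .nil))))) (.node [] (.node [] (.node [] .nil (.node [(36,(.negSucc 0),1)] .nil (.node [(100,(.ofNat 1),1)] .nil .nil))) (.node [] .nil (.node [] .nil (.node [(108,(.negSucc 0),1)] .nil .nil)))) (.node [] .nil (.node [(20,(.ofNat 1),1)] .nil .nil))))))
noncomputable def ex51 : Trie (List (ℕ × ℤ × ℕ)) := (.node [(58,(.negSucc 0),1)] (.node [] (.node [] (.node [] (.node [] (.node [] (.node [] .nil (.node [(55,(.ofNat 1),1)] .nil .nil)) (.node [(23,(.ofNat 1),1)] .nil (.node [(89,(.ofNat 1),1)] .nil .nil))) (.node [] (.node [] .nil (.node [(63,(.negSucc 0),1)] .nil .nil)) .nil)) (.node [] .nil (.node [(15,(.negSucc 0),1)] .nil .nil))) (.node [(58,(.negSucc 0),1)] (.node [] .nil (.node [] (.node [] .nil (.node [(75,(.negSucc 0),1)] .nil .nil)) (.node [(45,(.negSucc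 0),1)] .nil (.node [(107,(.negSucc 0),1)] .nil .nil)))) (.node [] (.node [] (.node [] .nil (.node [(59,(.ofNat 1),1)] .nil .nil)) .nil) (.node [] .nil (.node [] .nil (.node [(115,(.ofNat 1),1)] .nil .nil)))))) (.node [(58,(.ofNat 1),1)] (.node [] (.node [] (.node [] (.node [] .nil (.node [(57,(.ofNat 1),1)] .nil .nil)) .nil) (.node [] (.node [] .nil (.node [(73,(.negSucc 0),1)] .nil .nil)) (.node [(43,(.negSucc 0),1)] .nil .nil))) (.node [(8,(.ofNat 1),1)] .nil (.node [(17,(.negSucc 0),1)] (.node [] .nil (.node [(85,(.negSucc 0),1)] .nil .nil)) (.node [] .nil (.node [(113,(.ofNat 1),1)] .nil .nil))))) (.node [] (.node [] (.node [] .nil (.node [] .nil (.node [(100,(.ofNat 1),1)] .nil .nil))) (.node [] .nil (.node [(49,(.ofNat 1),1)] .nil (.node [(109,(.negSucc 0),1)] .nil .nil)))) (.node [] .nil (.node [(21,(.ofNat 1),1)] (.node [] .nil (.node [(87,(.ofNat 1),1)] .nil .nil)) .nil))))) (.node [(58,(.negSucc 0),1)] (.node [] (.node [] (.node [] (.node [] (.node []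 .nil (.node [(56,(.ofNat 1),1)] .nil .nil)) .nil) (.node [] (.node [] .nil (.node [(2,(.negSucc 0),1),(3,(.negSucc 0),1),(58,(.negSucc 0),2)] .nil .nil)) .nil)) (.node [] .nil (.node [(16,(.negSucc 0),1)] .nil .nil))) (.node [] (.node [] .nil (.node [] .nil (.node [] .nil (.node [(108,(.negSucc 0),1)] .nil .nil)))) .nil)) (.node [(58,(.ofNat 1),1)] (.node [] (.node [] (.node [] (.node [] (.node [] .nil (.node [(129,(.negSucc 0),1)] .nil .nil)) .nil) .nil) (.node [] (.node [] .nil (.node [(74,(.negSucc 0),1)] .nil .nil)) (.node [(44,(.negSucc 0),1)] .nil .nil))) (.node [] .nil (.node [] .nil (.node [] .nil (.node [(114,(.ofNat 1),1)] .nil .nil))))) (.node [] (.node [] (.node [] .nil (.node [(37,(.negSucc 0),1)] .nil .nil)) .nil) (.node [] .nil (.node [(22,(.ofNat 1),1)] (.node [] .nil (.node [(88,(.ofNat 1),1)] .nil .nil)) .nil))))))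
noncomputable def ex52 : Trie (List (ℕ × ℤ × ℕ)) := (.node [(59,(.negSucc 0),1)] (.node [] (.node [] (.node [] (.node [] .nil (.node [] (.node [] .nil (.node [(2,(.negSucc 0),1),(59,(.negSucc 0),2)] .nil .nil)) .nil)) (.node [] .nil (.node [(18,(.negSucc 0),1)] .nil (.node [] .nil (.node [(114,(.ofNat 1),1)] .nil .nil))))) (.node [] (.node [] .nil (.node [] (.node [] .nil (.node [(79,(.negSucc 0),1)] .nil .nil)) (.node [(48,(.negSucc 0),1)] .nil (.node [(110,(.ofNat 1),1)] .nil .nil)))) (.node [] .nil (.node [(22,(.negSucc 0),1)] (.node [] .nil (.node [(88,(.ofNat 1),1)] .nil .nil)) (.node [(55,(.ofNat 1),1)] .nil .nil))))) (.node [(59,(.ofNat 2),1)] (.node [] (.node [] .nil (.node [] (.node [] .nil (.node [(77,(.negSucc 0),1)] .nil .nil)) (.node [(46,(.negSucc 0),1)] .nil .nil))) (.node [] .nil (.node [(20,(.negSucc 0),1)] (.node [] .nil (.node [(86,(.ofNat 1),1)] .nil .nil)) .nil))) (.node [] (.node [] .nil (.node [] .nil (.node [] .nil (.node [(112,(.ofNat 1),1)]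 .nil .nil)))) (.node [] .nil (.node [] .nil (.node [(57,(.ofNat 1),1)] .nil .nil)))))) (.node [] (.node [] (.node [] (.node [] .nil (.node [] (.node [] .nil (.node [(76,(.negSucc 0),1)] .nil .nil)) .nil)) (.node [(8,(.negSucc 0),1)] .nil (.node [(19,(.negSucc 0),1)] .nil (.node [] .nil (.node [(115,(.ofNat 1),1)] .nil .nil))))) (.node [] (.node [] (.node [] .nil (.node [] .nil (.node [(100,(.ofNat 1),1)] .nil .nil))) (.node [] .nil (.node [(49,(.negSucc 0),1)] .nil (.node [(111,(.ofNat 1),1)] .nil .nil)))) (.node [] .nil (.node [(23,(.negSucc 0),1)] (.node [] .nil (.node [(89,(.ofNat 1),1)] .nil .nil)) (.node [(56,(.ofNat 1),1)] .nil .nil))))) (.node [(59,(.negSucc 0),1)] (.node [] (.node [] (.node [] (.node [] (.node [] .nil (.node [(130,(.ofNat 1),1)] .nil .nil)) .nil) .nil) (.node [] (.node [] .nil (.node [(78,(.negSucc 0),1)] .nil .nil)) (.node [(47,(.negSucc 0),1)] .nil .nil))) (.node [] .nil (.node [(21,(.negSucc 0),1)] (.node [] .nil (.node [(87,(.ofNat 1),1)]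 .nil .nil)) (.node [] .nil .nil)))) (.node [] (.node [] (.node [] .nil (.node [(38,(.negSucc 0),1)] .nil .nil)) (.node [] .nil (.node [] .nil (.node [(113,(.ofNat 1),1)] .nil .nil)))) (.node [] .nil (.node [] .nil (.node [(58,(.ofNat 1),1)] .nil .nil)))))))
noncomputable def ex53 : Trie (List (ℕ × ℤ × ℕ)) := (.node [] (.node [] (.node [] (.node [] (.node [] (.node [] .nil (.node [(25,(.ofNat 1),1)] .nil (.node [(90,(.negSucc 0),1)] .nil .nil))) (.node [] .nil (.node [(41,(.ofNat 1),1)] .nil (.node [(106,(.negSucc 0),1)] .nil .nil)))) (.node [] (.node [] (.node [] .nil (.node [(62,(.ofNat 1),1)] .nil .nil)) .nil) .nil)) (.node [] (.node [] .nil (.node [(14,(.negSucc 0),1)] (.node [] .nil (.node [(80,(.ofNat 1),1)] .nil .nil)) .nil)) (.node [] (.node [] (.node [] .nil (.node [(64,(.negSucc 0),1)] .nil .nil)) .nil) (.node [] .nil (.node [] .nil (.node [(117,(.ofNat 1),1)] .nil .nil)))))) (.node [(60,(.negSucc 0),1)] (.node [] (.node [] (.node [] (.node [] (.node []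 .nil (.node [(126,(.negSucc 0),1)] .nil .nil)) .nil) (.node [] .nil (.node [(91,(.negSucc 0),1)] .nil .nil))) (.node [] .nil (.node [] .nil (.node [(107,(.negSucc 0),1)] .nil .nil)))) .nil) (.node [(60,(.ofNat 1),1)] (.node [] (.node [] (.node [] .nil (.node [(61,(.ofNat 1),1)] .nil .nil)) (.node [(34,(.negSucc 0),1)] .nil .nil)) (.node [(15,(.negSucc 0),1)] .nil (.node [(50,(.negSucc 0),1)] .nil .nil))) (.node [] (.node [] (.node [] .nil (.node [(69,(.negSucc 0),1)] .nil .nil)) .nil) .nil)))) (.node [(60,(.negSucc 0),1)] (.node [] (.node [] (.node [] (.node [] .nil (.node [(27,(.ofNat 1),1)] .nil .nil)) (.node [] .nil (.node [(43,(.ofNat 1),1)] .nil .nil))) (.node [] (.node [] .nil (.node [] .nil (.node [(101,(.ofNat 1),1)] .nil .nil))) (.node [] (.node [] .nil (.node [(85,(.ofNat 1),1)] .nil .nil)) .nil))) (.node [] .nil (.node [(9,(.ofNat 1),1)] (.node [] (.node [] .nil (.node [(67,(.negSucc 0),1)] .nil .nil)) .nil) (.node [] .nil (.node [] .nil (.node [(119,(.ofNat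 1),1)] .nil .nil)))))) (.node [(60,(.ofNat 1),1)] (.node [] (.node [] (.node [] .nil (.node [] .nil (.node [(92,(.negSucc 0),1)] .nil .nil))) (.node [] .nil (.node [] .nil (.node [(108,(.negSucc 0),1)] .nil .nil)))) (.node [] (.node [] (.node [] .nil (.node [(63,(.ofNat 1),1)] .nil .nil)) .nil) (.node [] .nil (.node [(55,(.negSucc 0),1)] .nil (.node [(116,(.ofNat 1),1)] .nil .nil))))) (.node [] (.node [] .nil (.node [(16,(.negSucc 0),1)] .nil .nil)) (.node [] (.node [] (.node [] .nil (.node [(3,(.negSucc 0),1),(4,(.negSucc 0),1),(5,(.negSucc 0),1),(6,(.negSucc 0),1),(60,(.negSucc 0),2)] .nil .nil)) (.node [(40,(.ofNat 1),1)] .nil .nil)) (.node [(24,(.ofNat 1),1)] .nil .nil))))))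
noncomputable def ex54 : Trie (List (ℕ × ℤ × ℕ)) := (.node [] (.node [] (.node [] (.node [] (.node [] (.node [] .nil (.node [(26,(.ofNat 1),1)] .nil .nil)) (.node [] .nil (.node [(42,(.ofNat 1),1)] .nil .nil))) (.node [] (.node [] .nil (.node [] .nil (.node [(101,(.ofNat 1),1)] .nil .nil))) (.node [] (.node [] .nil (.node [(85,(.ofNat 1),1)] .nil .nil)) .nil))) (.node [] .nil (.node [(9,(.negSucc 0),1)] (.node [] (.node [] .nil (.node [(65,(.negSucc 0),1)] .nil .nil)) .nil) (.node [] .nil (.node [] .nil (.node [(118,(.negSucc 0),1)] .nil .nil)))))) (.node [(61,(.negSucc 0),1)] (.node [] (.node [] (.node [] (.node [] (.node [] .nil (.node [(127,(.ofNat 1),1)] .nil .nil)) .nil) .nil) .nil) (.node [] (.node [] (.node [] .nil (.node [(63,(.ofNat 1),1)] .nil .nil)) .nil) (.node [] .nil (.node [] .nil (.node [(116,(.ofNat 1),1)] .nil .nil))))) (.node [(61,(.negSucc 0),1)] (.node [] (.node [] .nil (.node [(35,(.negSucc 0),1)] .nil .nil)) (.node [] .nil (.node [(51,(.negSucc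 0),1)] .nil .nil))) (.node [] (.node [] (.node [] .nil (.node [(3,(.negSucc 0),1),(4,(.negSucc 0),1),(5,(.negSucc 0),1),(61,(.negSucc 0),2)] .nil .nil)) (.node [(40,(.negSucc 0),1)] .nil .nil)) (.node [(24,(.negSucc 0),1)] .nil .nil))))) (.node [(61,(.negSucc 0),1)] (.node [] (.node [] (.node [] (.node [] .nil (.node [(28,(.ofNat 1),1)] .nil (.node [(91,(.negSucc 0),1)] .nil .nil))) (.node [] .nil (.node [(44,(.ofNat 1),1)] .nil (.node [(107,(.negSucc 0),1)] .nil .nil)))) .nil) (.node [(61,(.ofNat 1),1)] (.node [] (.node [] (.node [] .nil (.node [(60,(.ofNat 1),1)] .nil .nil)) .nil) (.node [(15,(.ofNat 1),1)] .nil .nil)) (.node [] (.node [] (.node [] .nil (.node [(68,(.negSucc 0),1)] .nil .nil)) .nil) (.node [] .nil (.node [] .nil (.node [(120,(.negSucc 0),1)] .nil .nil)))))) (.node [(61,(.ofNat 1),1)] (.node [] (.node [] (.node [] .nil (.node [] .nil (.node [(93,(.ofNat 1),1)] .nil .nil))) (.node [(14,(.ofNat 1),1)] (.node [] .nil (.node [(80,(.ofNat 1),1)] .nil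 .nil)) (.node [] .nil (.node [(109,(.ofNat 1),1)] .nil .nil)))) (.node [] .nil (.node [] .nil (.node [(56,(.negSucc 0),1)] .nil .nil)))) (.node [] (.node [] (.node [] (.node [] .nil (.node [(62,(.ofNat 1),1)] .nil .nil)) .nil) (.node [(17,(.negSucc 0),1)] .nil .nil)) (.node [] (.node [] (.node [] .nil (.node [(70,(.negSucc 0),1)] .nil .nil)) (.node [] .nil (.node [(106,(.negSucc 0),1)] .nil .nil))) (.node [] (.node [] .nil (.node [(90,(.negSucc 0),1)] .nil .nil)) .nil))))))
noncomputable def ex55 : Trie (List (ℕ × ℤ × ℕ)) := (.node [] (.node [] (.node [] .nil (.node [(62,(.ofNat 1),1)] (.node [] (.node [] (.node [] .nil (.node [(61,(.ofNat 1),1)] .nil .nil)) .nil) .nil) (.node [] (.node [] (.node [] .nil (.node [(66,(.negSucc 0),1)] .nil .nil)) .nil) .nil))) (.node [(62,(.negSucc 0),1)] (.node [] (.node [] (.node [] (.node [] (.node [] .nil (.node [(128,(.negSucc 0),1)] .nil .nil)) .nil) (.node [] .nil (.node [(93,(.ofNat 1),1)] .nil .nil))) (.node [(14,(.negSucc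 0),1)] (.node [] .nil (.node [(80,(.ofNat 1),1)] .nil .nil)) (.node [] .nil (.node [(109,(.ofNat 1),1)] .nil .nil)))) (.node [] .nil (.node [] .nil (.node [] .nil (.node [(117,(.negSucc 0),1)] .nil .nil))))) (.node [] (.node [] (.node [] .nil (.node [(36,(.negSucc 0),1)] .nil .nil)) (.node [(17,(.ofNat 1),1)] .nil (.node [(52,(.negSucc 0),1)] .nil .nil))) (.node [] (.node [] (.node [] .nil (.node [(71,(.negSucc 0),1)] .nil .nil)) (.node [(41,(.negSucc 0),1)] .nil (.node [(106,(.negSucc 0),1)] .nil .nil))) (.node [(25,(.negSucc 0),1)] (.node [] .nil (.node [(90,(.negSucc 0),1)] .nil .nil)) (.node [] .nil .nil)))))) (.node [(62,(.negSucc 0),1)] (.node [] (.node [] (.node [] (.node [] .nil (.node [(29,(.ofNat 1),1)] .nil (.node [(92,(.ofNat 1),1)] .nil .nil))) (.node [] .nil (.node [(45,(.ofNat 1),1)] .nil (.node [(108,(.ofNat 1),1)] .nil .nil)))) (.node [] (.node [] (.node [] .nil (.node [(63,(.ofNat 1),1)] .nil .nil)) .nil) .nil)) (.node [(62,(.negSucc 0),1)] (.node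 [] .nil (.node [(16,(.ofNat 1),1)] .nil .nil)) (.node [] (.node [] (.node [] .nil (.node [(3,(.negSucc 0),1),(4,(.negSucc 0),1),(62,(.negSucc 0),2)] .nil .nil)) .nil) (.node [] .nil (.node [] .nil (.node [(121,(.ofNat 1),1)] .nil .nil)))))) (.node [(62,(.ofNat 1),1)] (.node [] (.node [] (.node [] (.node [] .nil (.node [(60,(.ofNat 1),1)] .nil .nil)) .nil) .nil) (.node [(9,(.ofNat 1),1)] .nil (.node [] .nil (.node [(57,(.negSucc 0),1)] .nil (.node [(118,(.negSucc 0),1)] .nil .nil))))) (.node [] (.node [] (.node [] .nil (.node [] .nil (.node [(101,(.ofNat 1),1)] .nil .nil))) (.node [] (.node [] .nil (.node [(85,(.ofNat 1),1)] .nil .nil)) .nil)) (.node [] (.node [] (.node [] .nil (.node [(72,(.negSucc 0),1)] .nil .nil)) (.node [(42,(.negSucc 0),1)] .nil .nil)) (.node [(26,(.negSucc 0),1)] .nil .nil))))))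
noncomputable def ex56 : Trie (List (ℕ × ℤ × ℕ)) := (.node [] (.node [] (.node [] (.node [] (.node [] (.node [] (.node [] .nil (.node [(60,(.ofNat 1),1)] .nil .nil)) (.node [(29,(.negSucc 0),1)] .nil (.node [(93,(.ofNat 1),1)] .nil .nil))) (.node [] .nil (.node [(45,(.negSucc 0),1)] .nil (.node [(109,(.ofNat 1),1)] .nil .nil)))) .nil) (.node [(63,(.negSucc 0),1)] (.node [] .nil (.node [(17,(.negSucc 0),1)] .nil .nil)) (.node [] (.node [] (.node [] .nil (.node [(3,(.negSucc 0),1),(63,(.negSucc 0),2)] .nil .nil)) .nil) (.node [] .nil (.node [] .nil (.node [(121,(.ofNat 1),1)] .nil .nil)))))) (.node [(63,(.negSucc 0),1)] (.node [] (.node [] (.node [] (.node [] (.node [] .nil (.node [(129,(.ofNat 1),1)] .nil .nil)) (.node [(62,(.ofNat 1),1)] .nil .nil)) .nil) (.node [(15,(.negSucc 0),1)] .nil .nil)) (.node [(9,(.negSucc 0),1)] .nil (.node [] .nil (.node [] .nil (.node [(119,(.ofNat 1),1)] .nil .nil))))) (.node [] (.node [] (.node [] .nil (.node [(37,(.negSucc 0),1)]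 .nil (.node [(101,(.ofNat 1),1)] .nil .nil))) (.node [] (.node [] .nil (.node [(85,(.ofNat 1),1)] .nil .nil)) (.node [(53,(.negSucc 0),1)] .nil .nil))) (.node [] (.node [] (.node [] .nil (.node [(74,(.negSucc 0),1)] .nil .nil)) (.node [(43,(.negSucc 0),1)] .nil (.node [(107,(.ofNat 1),1)] .nil .nil))) (.node [(27,(.negSucc 0),1)] (.node [] .nil (.node [(91,(.ofNat 1),1)] .nil .nil)) .nil))))) (.node [(63,(.negSucc 0),1)] (.node [] (.node [] (.node [] (.node [] (.node [] .nil (.node [(61,(.ofNat 1),1)] .nil .nil)) .nil) (.node [] (.node [] .nil (.node [(80,(.ofNat 1),1)] .nil .nil)) .nil)) .nil) (.node [] .nil (.node [] (.node [] (.node [] .nil (.node [(73,(.negSucc 0),1)] .nil .nil)) .nil) .nil))) (.node [(63,(.ofNat 2),1)] (.node [] (.node [] .nil (.node [(16,(.negSucc 0),1)] .nil .nil)) (.node [] .nil (.node [] .nil (.node [(58,(.negSucc 0),1)] .nil (.node [(120,(.ofNat 1),1)] .nil .nil))))) (.node [] .nil (.node [] (.node [] (.node [] .nil (.node [(75,(.negSucc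 0),1)] .nil .nil)) (.node [(44,(.negSucc 0),1)] .nil (.node [(108,(.ofNat 1),1)] .nil .nil))) (.node [(28,(.negSucc 0),1)] (.node [] .nil (.node [(92,(.ofNat 1),1)] .nil .nil)) (.node [] .nil .nil)))))))
noncomputable def ex57 : Trie (List (ℕ × ℤ × ℕ)) := (.node [] (.node [] (.node [] (.node [] (.node [] (.node [] (.node [] .nil (.node [] .nil .nil)) .nil) .nil) (.node [] (.node [] (.node [] .nil (.node [(66,(.ofNat 1),1)] .nil .nil)) .nil) (.node [] .nil (.node [] .nil (.node [(116,(.negSucc 0),1)] .nil .nil))))) (.node [(64,(.ofNat 1),1)] (.node [] .nil (.node [] (.node [] .nil (.node [(81,(.ofNat 1),1)] .nil .nil)) .nil)) (.node [] (.node [] .nil (.node [(40,(.ofNat 1),1)] .nil .nil)) (.node [(24,(.ofNat 1),1)] .nil .nil)))) (.node [] (.node [] (.node [] (.node [] .nil (.node [] .nil (.node [(94,(.negSucc 0),1)] .nil .nil))) (.node [] .nil (.node [] .nil (.node [(110,(.negSucc 0),1)] .nil .nil)))) (.node [] (.node [] (.node [] .nil (.node [(69,(.negSucc 0),1)]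 .nil .nil)) .nil) (.node [] .nil (.node [(55,(.negSucc 0),1)] .nil .nil)))) (.node [(64,(.ofNat 1),1)] (.node [] (.node [] (.node [] .nil (.node [(65,(.ofNat 1),1)] .nil .nil)) .nil) (.node [(18,(.ofNat 1),1)] .nil .nil)) .nil))) (.node [] (.node [] (.node [] (.node [] (.node [] (.node [] (.node [] .nil (.node [(126,(.ofNat 1),1)] .nil .nil)) .nil) (.node [(30,(.negSucc 0),1)] .nil .nil)) (.node [(14,(.negSucc 0),1)] .nil (.node [(46,(.negSucc 0),1)] .nil .nil))) (.node [] (.node [] (.node [] .nil (.node [(67,(.negSucc 0),1)] .nil .nil)) (.node [] .nil (.node [(102,(.ofNat 1),1)] .nil .nil))) (.node [] (.node [] .nil (.node [(86,(.ofNat 1),1)] .nil .nil)) (.node [] .nil (.node [(117,(.negSucc 0),1)] .nil .nil))))) (.node [] (.node [] (.node [] .nil (.node [(34,(.negSucc 0),1)] .nil .nil)) (.node [] .nil (.node [(50,(.negSucc 0),1)] .nil .nil))) (.node [(10,(.negSucc 0),1)] (.node [] .nil (.node [(41,(.ofNat 1),1)] .nil (.node [(106,(.ofNat 1),1)] .nil .nil))) (.node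 [(25,(.ofNat 1),1)] (.node [] .nil (.node [(90,(.ofNat 1),1)] .nil .nil)) (.node [] .nil (.node [(122,(.ofNat 1),1)] .nil .nil)))))) (.node [(64,(.negSucc 0),1)] (.node [] (.node [] (.node [] .nil (.node [] .nil (.node [(95,(.negSucc 0),1)] .nil .nil))) (.node [] .nil (.node [] .nil (.node [(111,(.negSucc 0),1)] .nil .nil)))) (.node [] (.node [] (.node [] .nil (.node [(4,(.negSucc 0),1),(5,(.negSucc 0),1),(6,(.negSucc 0),1),(64,(.negSucc 0),2)] .nil .nil)) .nil) .nil)) (.node [] (.node [] .nil (.node [(19,(.ofNat 1),1)] .nil .nil)) (.node [] (.node [] (.node [] .nil (.node [(76,(.ofNat 1),1)] .nil .nil)) .nil) (.node [] .nil (.node [(60,(.negSucc 0),1)] .nil .nil)))))))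
noncomputable def ex58 : Trie (List (ℕ × ℤ × ℕ)) := (.node [] (.node [] (.node [] (.node [] (.node [] .nil (.node [(14,(.ofNat 1),1)] .nil .nil)) (.node [] (.node [] .nil (.node [] .nil (.node [(102,(.ofNat 1),1)] .nil .nil))) (.node [] (.node [] .nil (.node [(86,(.ofNat 1),1)] .nil .nil)) .nil))) (.node [(65,(.ofNat 1),1)] .nil (.node [(10,(.ofNat 1),1)] (.node [] .nil (.node [] .nil (.node [(106,(.ofNat 1),1)] .nil .nil))) (.node [] (.node [] .nil (.node [(90,(.ofNat 1),1)] .nil .nil)) .nil)))) (.node [] (.node [] .nil (.node [] (.node [] (.node [] .nil (.node [(4,(.negSucc 0),1),(5,(.negSucc 0),1),(65,(.negSucc 0),2)] .nil .nil)) .nil) (.node [] .nil (.node [(56,(.negSucc 0),1)] .nil .nil)))) (.node [(65,(.negSucc 0),1)] .nil (.node [] (.node [] (.node [] .nil (.node [(76,(.ofNat 1),1)] .nil .nil)) .nil) .nil)))) (.node [] (.node [] (.node [] (.node [] (.node [] (.node [] (.node [] .nil (.node [(127,(.negSucc 0),1)] .nil .nil)) (.node [] .nil .nil)) (.node [(31,(.negSucc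 0),1)] .nil (.node [(94,(.negSucc 0),1)] .nil .nil))) (.node [] .nil (.node [(47,(.negSucc 0),1)] .nil (.node [(110,(.negSucc 0),1)] .nil .nil)))) (.node [] (.node [] (.node [] .nil (.node [(68,(.negSucc 0),1)] .nil .nil)) .nil) (.node [] .nil (.node [] .nil (.node [(118,(.ofNat 1),1)] .nil .nil))))) (.node [(65,(.ofNat 1),1)] (.node [] (.node [] (.node [] .nil (.node [(64,(.ofNat 1),1)] .nil .nil)) (.node [(35,(.negSucc 0),1)] .nil .nil)) (.node [(18,(.negSucc 0),1)] .nil (.node [(51,(.negSucc 0),1)] .nil .nil))) (.node [] (.node [] .nil (.node [(42,(.ofNat 1),1)] .nil .nil)) (.node [(26,(.ofNat 1),1)] .nil (.node [] .nil (.node [(123,(.negSucc 0),1)] .nil .nil)))))) (.node [(65,(.negSucc 0),1)] (.node [] (.node [] (.node [] .nil (.node [] .nil (.node [(96,(.ofNat 1),1)] .nil .nil))) (.node [] (.node [] .nil (.node [(81,(.ofNat 1),1)] .nil .nil)) (.node [] .nil (.node [(112,(.ofNat 1),1)] .nil .nil)))) (.node [] (.node [] (.node [] .nil (.node [(70,(.negSucc 0),1)]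 .nil .nil)) (.node [(40,(.negSucc 0),1)] .nil .nil)) (.node [(24,(.negSucc 0),1)] .nil .nil))) (.node [] (.node [] (.node [] (.node [] .nil (.node [(66,(.ofNat 1),1)] .nil .nil)) .nil) (.node [(20,(.ofNat 1),1)] .nil (.node [] .nil (.node [(116,(.negSucc 0),1)] .nil .nil)))) (.node [] .nil (.node [] .nil (.node [(61,(.negSucc 0),1)] .nil .nil)))))))
noncomputable def ex59 : Trie (List (ℕ × ℤ × ℕ)) := (.node [] (.node [] (.node [] (.node [] .nil (.node [] .nil (.node [] .nil (.node [] .nil (.node [(118,(.ofNat 1),1)] .nil .nil))))) (.node [(66,(.ofNat 2),1)] (.node [] (.node [] (.node [] .nil (.node [(65,(.ofNat 1),1)] .nil .nil)) .nil) .nil) (.node [] (.node [] .nil (.node [(42,(.negSucc 0),1)] .nil .nil)) (.node [(26,(.negSucc 0),1)] .nil .nil)))) (.node [] (.node [] (.node [] (.node [] (.node [] .nil (.node [] .nil .nil)) (.node [] .nil (.node [(96,(.ofNat 1),1)] .nil .nil))) (.node [] (.node [] .nil (.node [(81,(.ofNat 1),1)] .nil .nil)) (.node [] .nil (.node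 [(112,(.ofNat 1),1)] .nil .nil)))) (.node [] (.node [] (.node [] .nil (.node [(71,(.negSucc 0),1)] .nil .nil)) .nil) (.node [] .nil (.node [(57,(.negSucc 0),1)] .nil .nil)))) (.node [] (.node [] .nil (.node [(20,(.negSucc 0),1)] .nil .nil)) .nil))) (.node [] (.node [] (.node [] (.node [] (.node [] (.node [] (.node [] .nil (.node [(128,(.ofNat 1),1)] .nil .nil)) .nil) (.node [(32,(.negSucc 0),1)] .nil (.node [(95,(.ofNat 1),1)] .nil .nil))) (.node [] .nil (.node [(48,(.negSucc 0),1)] .nil (.node [(111,(.ofNat 1),1)] .nil .nil)))) (.node [] (.node [] (.node [] .nil (.node [(4,(.negSucc 0),1),(66,(.negSucc 0),2)] .nil .nil)) .nil) .nil)) (.node [(66,(.negSucc 0),1)] (.node [] (.node [] .nil (.node [(36,(.negSucc 0),1)] .nil .nil)) (.node [(19,(.negSucc 0),1)] .nil (.node [(52,(.negSucc 0),1)] .nil .nil))) (.node [] (.node [] (.node [] .nil (.node [(76,(.ofNat 1),1)] .nil .nil)) .nil) (.node [] .nil (.node [] .nil (.node [(124,(.ofNat 1),1)] .nil .nil)))))) (.node [(66,(.negSucc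 0),1)] (.node [] (.node [] (.node [] (.node [] .nil (.node [(64,(.ofNat 1),1)] .nil .nil)) .nil) .nil) (.node [(10,(.negSucc 0),1)] (.node [] (.node [] .nil (.node [(72,(.negSucc 0),1)] .nil .nil)) (.node [(41,(.negSucc 0),1)] .nil (.node [(106,(.ofNat 1),1)] .nil .nil))) (.node [(25,(.negSucc 0),1)] (.node [] .nil (.node [(90,(.ofNat 1),1)] .nil .nil)) .nil))) (.node [] (.node [] (.node [] .nil (.node [] .nil (.node [(102,(.ofNat 1),1)] .nil .nil))) (.node [] (.node [] .nil (.node [(86,(.ofNat 1),1)] .nil .nil)) (.node [] .nil (.node [(117,(.ofNat 1),1)] .nil .nil)))) (.node [(14,(.negSucc 0),1)] .nil (.node [] .nil (.node [(62,(.negSucc 0),1)] .nil .nil)))))))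
noncomputable def ex60 : Trie (List (ℕ × ℤ × ℕ)) := (.node [] (.node [] (.node [] (.node [] (.node [] (.node [] (.node [] (.node [] .nil (.node [(126,(.negSucc 0),1)] .nil .nil)) .nil) (.node [(30,(.negSucc 0),1)] .nil (.node [(94,(.ofNat 1),1)] .nil .nil))) (.node [] .nil (.node [(46,(.negSucc 0),1)] .nil (.node [(110,(.ofNat 1),1)] .nil .nil)))) (.node [] (.node [] (.node [] .nil (.node [(5,(.negSucc 0),1),(6,(.negSucc 0),1),(67,(.negSucc 0),2)] .nil .nil)) .nil) .nil)) (.node [(67,(.negSucc 0),1)] (.node [] (.node [] .nil (.node [(34,(.negSucc 0),1)] .nil .nil)) (.node [(18,(.ofNat 1),1)] (.node [] .nil (.node [(82,(.ofNat 1),1)] .nil .nil)) (.node [(50,(.negSucc 0),1)] .nil .nil))) (.node [] .nil (.node [] .nil (.node [] .nil (.node [(122,(.negSucc 0),1)] .nil .nil)))))) (.node [] (.node [] (.node [] (.node [] (.node [] .nil (.node [(64,(.negSucc 0),1)] .nil .nil)) .nil) .nil) (.node [] (.node [] .nil (.node [(40,(.ofNat 1),1)] .nil .nil)) (.node [(24,(.ofNat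 1),1)] .nil .nil))) (.node [(67,(.ofNat 1),1)] (.node [] (.node [] (.node [] .nil (.node [(68,(.ofNat 1),1)] .nil .nil)) .nil) (.node [] .nil (.node [] .nil (.node [(116,(.ofNat 1),1)] .nil .nil)))) (.node [] .nil (.node [] .nil (.node [(60,(.negSucc 0),1)] .nil .nil)))))) (.node [] (.node [] (.node [] (.node [] .nil (.node [(15,(.ofNat 1),1)] .nil .nil)) (.node [] (.node [] .nil (.node [] .nil (.node [(103,(.ofNat 1),1)] .nil .nil))) (.node [] (.node [] .nil (.node [(87,(.ofNat 1),1)] .nil .nil)) (.node [(55,(.negSucc 0),1)] .nil (.node [(119,(.negSucc 0),1)] .nil .nil))))) (.node [(67,(.ofNat 1),1)] .nil (.node [(11,(.ofNat 1),1)] (.node [] .nil (.node [(43,(.negSucc 0),1)] .nil (.node [(107,(.ofNat 1),1)] .nil .nil))) (.node [(27,(.negSucc 0),1)] (.node [] .nil (.node [(91,(.ofNat 1),1)] .nil .nil)) .nil)))) (.node [] (.node [] (.node [] (.node [] (.node [] .nil (.node [] .nil .nil)) (.node [] .nil (.node [(97,(.negSucc 0),1)] .nil .nil))) (.node [] .nil (.node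 [] .nil (.node [(113,(.negSucc 0),1)] .nil .nil)))) (.node [] (.node [] (.node [] .nil (.node [(73,(.ofNat 1),1)] .nil .nil)) .nil) .nil)) (.node [] (.node [] (.node [] (.node [] .nil (.node [(69,(.negSucc 0),1)] .nil .nil)) .nil) (.node [(21,(.negSucc 0),1)] .nil .nil)) (.node [] (.node [] (.node [] .nil (.node [(77,(.ofNat 1),1)] .nil .nil)) .nil) .nil)))))
noncomputable def ex61 : Trie (List (ℕ × ℤ × ℕ)) := (.node [] (.node [] (.node [] (.node [] (.node [] (.node [] (.node [] (.node [] .nil (.node [(127,(.ofNat 1),1)] .nil .nil)) .nil) (.node [(31,(.negSucc 0),1)] .nil .nil)) (.node [(15,(.negSucc 0),1)] .nil (.node [(47,(.negSucc 0),1)] .nil .nil))) (.node [] (.node [] (.node [] .nil (.node [(70,(.negSucc 0),1)] .nil .nil)) (.node [] .nil (.node [(103,(.ofNat 1),1)] .nil .nil))) (.node [] (.node [] .nil (.node [(87,(.ofNat 1),1)] .nil .nil)) .nil))) (.node [(68,(.negSucc 0),1)] (.node [] (.node [] (.node [] .nil (.node [] .nil .nil)) (.node [(35,(.negSucc 0),1)]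 .nil .nil)) (.node [] .nil (.node [(51,(.negSucc 0),1)] .nil .nil))) (.node [(11,(.negSucc 0),1)] (.node [] .nil (.node [] .nil (.node [(107,(.ofNat 1),1)] .nil .nil))) (.node [] (.node [] .nil (.node [(91,(.ofNat 1),1)] .nil .nil)) (.node [] .nil (.node [(123,(.ofNat 1),1)] .nil .nil)))))) (.node [] (.node [] (.node [] (.node [] (.node [] .nil (.node [(65,(.negSucc 0),1)] .nil .nil)) .nil) .nil) (.node [] (.node [] (.node [] .nil (.node [(73,(.ofNat 1),1)] .nil .nil)) .nil) .nil)) (.node [(68,(.negSucc 0),1)] .nil (.node [] (.node [] (.node [] .nil (.node [(77,(.ofNat 1),1)] .nil .nil)) .nil) (.node [] .nil (.node [(61,(.negSucc 0),1)] .nil .nil)))))) (.node [] (.node [] (.node [] .nil (.node [] (.node [] .nil (.node [(40,(.negSucc 0),1)] .nil .nil)) (.node [(24,(.negSucc 0),1)] .nil (.node [(56,(.negSucc 0),1)] .nil (.node [(120,(.ofNat 1),1)] .nil .nil))))) (.node [(68,(.ofNat 2),1)] (.node [] (.node [] (.node [] .nil (.node [(67,(.ofNat 1),1)] .nil .nil)) .nil)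 (.node [] .nil (.node [] .nil (.node [(116,(.ofNat 1),1)] .nil .nil)))) (.node [] (.node [] .nil (.node [(44,(.negSucc 0),1)] .nil .nil)) (.node [(28,(.negSucc 0),1)] .nil .nil)))) (.node [] (.node [] (.node [] (.node [] .nil (.node [] .nil (.node [(98,(.ofNat 1),1)] .nil .nil))) (.node [(18,(.negSucc 0),1)] (.node [] .nil (.node [(82,(.ofNat 1),1)] .nil .nil)) (.node [] .nil (.node [(114,(.ofNat 1),1)] .nil .nil)))) .nil) (.node [] (.node [] (.node [] (.node [] .nil (.node [(5,(.negSucc 0),1),(68,(.negSucc 0),2)] .nil .nil)) .nil) (.node [(22,(.negSucc 0),1)] .nil .nil)) (.node [] (.node [] .nil (.node [] .nil (.node [(110,(.ofNat 1),1)] .nil .nil))) (.node [] (.node [] .nil (.node [(94,(.ofNat 1),1)] .nil .nil)) .nil))))))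
noncomputable def ex62 : Trie (List (ℕ × ℤ × ℕ)) := (.node [] (.node [] (.node [] (.node [] (.node [] (.node [] .nil (.node [] .nil (.node [(95,(.ofNat 1),1)] .nil .nil))) (.node [] .nil (.node [] .nil (.node [(111,(.ofNat 1),1)] .nil .nil)))) (.node [] (.node [] (.node [] .nil (.node [(71,(.ofNat 1),1)] .nil .nil)) .nil) (.node [] .nil (.node [(55,(.negSucc 0),1)] .nil (.node [(119,(.ofNat 1),1)] .nil .nil))))) (.node [] (.node [] (.node [] (.node [] .nil (.node [(67,(.negSucc 0),1)] .nil .nil)) .nil) (.node [(19,(.negSucc 0),1)] (.node [] .nil (.node [(83,(.ofNat 1),1)] .nil .nil)) .nil)) (.node [] (.node [] .nil (.node [(43,(.negSucc 0),1)] .nil .nil)) (.node [(27,(.negSucc 0),1)] .nil .nil)))) (.node [] (.node [] (.node [] (.node [] .nil (.node [] .nil (.node [(97,(.ofNat 1),1)] .nil .nil))) (.node [] .nil (.node [] .nil (.node [(113,(.ofNat 1),1)] .nil .nil)))) (.node [] (.node [] .nil (.node [(41,(.negSucc 0),1)] .nil .nil)) (.node [(25,(.negSucc 0),1)] .nil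 .nil))) (.node [(69,(.ofNat 2),1)] (.node [] (.node [] (.node [] .nil (.node [(6,(.negSucc 0),1),(69,(.negSucc 0),2)] .nil .nil)) .nil) (.node [(21,(.negSucc 0),1)] .nil (.node [] .nil (.node [(117,(.ofNat 1),1)] .nil .nil)))) .nil))) (.node [] (.node [] (.node [] (.node [] (.node [] (.node [] .nil (.node [(64,(.negSucc 0),1)] .nil .nil)) .nil) (.node [(16,(.negSucc 0),1)] .nil .nil)) (.node [] (.node [] .nil (.node [] .nil (.node [(104,(.ofNat 1),1)] .nil .nil))) (.node [] (.node [] .nil (.node [(88,(.ofNat 1),1)] .nil .nil)) .nil))) (.node [(69,(.negSucc 0),1)] (.node [] (.node [] (.node [] .nil (.node [] .nil .nil)) .nil) .nil) (.node [(12,(.negSucc 0),1)] (.node [] .nil (.node [] .nil (.node [(108,(.ofNat 1),1)] .nil .nil))) (.node [] (.node [] .nil (.node [(92,(.ofNat 1),1)] .nil .nil)) (.node [(60,(.negSucc 0),1)] .nil .nil))))) (.node [] (.node [] (.node [] (.node [] .nil (.node [(34,(.negSucc 0),1)] .nil .nil)) (.node [] .nil (.node [(50,(.negSucc 0),1)]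 .nil .nil))) (.node [] (.node [] (.node [] .nil (.node [(74,(.ofNat 1),1)] .nil .nil)) .nil) (.node [] .nil (.node [] .nil (.node [(122,(.ofNat 1),1)] .nil .nil))))) (.node [] .nil (.node [] (.node [] (.node [] .nil (.node [(78,(.ofNat 1),1)] .nil .nil)) (.node [(46,(.negSucc 0),1)] .nil .nil)) (.node [(30,(.negSucc 0),1)] .nil (.node [] .nil (.node [(126,(.ofNat 1),1)] .nil .nil))))))))
noncomputable def ex63 : Trie (List (ℕ × ℤ × ℕ)) := (.node [] (.node [] (.node [] (.node [] (.node [] (.node [] (.node [] .nil (.node [(65,(.negSucc 0),1)] .nil .nil)) .nil) (.node [(17,(.negSucc 0),1)] .nil .nil)) (.node [] (.node [] .nil (.node [] .nil (.node [(105,(.ofNat 1),1)] .nil .nil))) (.node [] (.node [] .nil (.node [(89,(.ofNat 1),1)] .nil .nil)) .nil))) (.node [] .nil (.node [(13,(.negSucc 0),1)] (.node [] .nil (.node [] .nil (.node [(109,(.ofNat 1),1)] .nil .nil))) (.node [] (.node [] .nil (.node [(93,(.ofNat 1),1)] .nil .nil)) (.node [(61,(.negSucc 0),1)] .nil .nil)))))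 (.node [] (.node [] (.node [] (.node [] .nil (.node [(35,(.negSucc 0),1)] .nil .nil)) (.node [] .nil (.node [(51,(.negSucc 0),1)] .nil .nil))) (.node [] (.node [] (.node [] .nil (.node [(75,(.ofNat 1),1)] .nil .nil)) .nil) (.node [] .nil (.node [] .nil (.node [(123,(.ofNat 1),1)] .nil .nil))))) (.node [(70,(.negSucc 1),1)] (.node [] (.node [] (.node [] .nil (.node [] .nil .nil)) .nil) .nil) (.node [] (.node [] (.node [] .nil (.node [(79,(.ofNat 1),1)] .nil .nil)) (.node [(47,(.negSucc 0),1)] .nil .nil)) (.node [(31,(.negSucc 0),1)] .nil (.node [] .nil (.node [(127,(.ofNat 1),1)] .nil .nil))))))) (.node [] (.node [] (.node [] (.node [] (.node [] .nil (.node [] .nil (.node [(98,(.ofNat 1),1)] .nil .nil))) (.node [] .nil (.node [] .nil (.node [(114,(.ofNat 1),1)] .nil .nil)))) (.node [] (.node [] .nil (.node [(42,(.negSucc 0),1)] .nil .nil)) (.node [(26,(.negSucc 0),1)] .nil .nil))) (.node [(70,(.ofNat 1),1)] (.node [] (.node [] (.node [] .nil (.node [(6,(.ofNat 1),1),(70,(.negSucc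 0),2)] .nil .nil)) .nil) (.node [(22,(.negSucc 0),1)] .nil (.node [] .nil (.node [(118,(.ofNat 1),1)] .nil .nil)))) .nil)) (.node [] (.node [] (.node [] (.node [] (.node [] .nil (.node [(68,(.negSucc 0),1)] .nil .nil)) .nil) (.node [(20,(.negSucc 0),1)] (.node [] .nil (.node [(84,(.ofNat 1),1)] .nil .nil)) .nil)) (.node [] (.node [] .nil (.node [(44,(.negSucc 0),1)] .nil .nil)) (.node [(28,(.negSucc 0),1)] .nil .nil))) (.node [] (.node [] (.node [] (.node [] .nil (.node [(72,(.ofNat 1),1)] .nil .nil)) .nil) (.node [] .nil (.node [(56,(.negSucc 0),1)] .nil (.node [(120,(.ofNat 1),1)] .nil .nil)))) (.node [] (.node [] .nil (.node [] .nil (.node [(112,(.ofNat 1),1)] .nil .nil))) (.node [] (.node [] .nil (.node [(96,(.ofNat 1),1)] .nil .nil)) .nil))))))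
noncomputable def ex64 : Trie (List (ℕ × ℤ × ℕ)) := (.node [] (.node [] (.node [] (.node [] .nil (.node [] (.node [] .nil (.node [(41,(.negSucc 0),1)] .nil .nil)) (.node [(25,(.negSucc 0),1)] .nil (.node [(57,(.negSucc 0),1)] .nil (.node [(121,(.ofNat 1),1)] .nil .nil))))) (.node [(71,(.ofNat 1),1)] (.node [] (.node [] (.node [] .nil (.node [(5,(.ofNat 1),1),(71,(.negSucc 0),2)] .nil .nil)) .nil) (.node [] .nil (.node [] .nil (.node [(117,(.ofNat 1),1)] .nil .nil)))) (.node [] (.node [] .nil (.node [(45,(.negSucc 0),1)] .nil .nil)) (.node [(29,(.negSucc 0),1)] .nil .nil)))) (.node [] (.node [] (.node [] (.node [] .nil (.node [] .nil (.node [(99,(.ofNat 1),1)] .nil .nil))) (.node [(19,(.negSucc 0),1)] (.node [] .nil (.node [(83,(.ofNat 1),1)] .nil .nil)) (.node [] .nil (.node [(115,(.ofNat 1),1)] .nil .nil)))) .nil) (.node [(71,(.ofNat 1),1)] (.node [] (.node [] (.node [] .nil (.node [(72,(.negSucc 0),1)] .nil .nil)) .nil) (.node [(23,(.negSucc 0),1)] .nil .nil))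 (.node [] (.node [] .nil (.node [] .nil (.node [(111,(.ofNat 1),1)] .nil .nil))) (.node [] (.node [] .nil (.node [(95,(.ofNat 1),1)] .nil .nil)) .nil))))) (.node [] (.node [] (.node [] (.node [] (.node [] (.node [] .nil (.node [(66,(.negSucc 0),1)] .nil .nil)) .nil) .nil) (.node [] (.node [] (.node [] .nil (.node [(74,(.ofNat 1),1)] .nil .nil)) .nil) .nil)) (.node [(71,(.negSucc 1),1)] .nil (.node [] (.node [] (.node [] .nil (.node [(78,(.ofNat 1),1)] .nil .nil)) .nil) (.node [] .nil (.node [(62,(.negSucc 0),1)] .nil .nil))))) (.node [] (.node [] (.node [] (.node [] (.node [] .nil (.node [(69,(.ofNat 1),1)] .nil .nil)) (.node [(36,(.negSucc 0),1)] .nil .nil)) (.node [] .nil (.node [(52,(.negSucc 0),1)] .nil .nil))) (.node [(12,(.negSucc 0),1)] (.node [] .nil (.node [] .nil (.node [(108,(.ofNat 1),1)] .nil .nil))) (.node [] (.node [] .nil (.node [(92,(.ofNat 1),1)] .nil .nil)) (.node [] .nil (.node [(124,(.ofNat 1),1)] .nil .nil))))) (.node [] (.node [] (.node []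 (.node [] .nil (.node [] .nil .nil)) (.node [] .nil (.node [(104,(.ofNat 1),1)] .nil .nil))) (.node [] (.node [] .nil (.node [(88,(.ofNat 1),1)] .nil .nil)) .nil)) (.node [(16,(.negSucc 0),1)] (.node [] .nil (.node [(48,(.negSucc 0),1)] .nil .nil)) (.node [(32,(.negSucc 0),1)] .nil (.node [] .nil (.node [(128,(.ofNat 1),1)] .nil .nil))))))))
noncomputable def ex65 : Trie (List (ℕ × ℤ × ℕ)) := (.node [] (.node [] (.node [] (.node [] (.node [] (.node [] (.node [] .nil (.node [(66,(.negSucc 0),1)] .nil .nil)) .nil) .nil) (.node [] (.node [] (.node [] .nil (.node [] .nil .nil)) (.node [(42,(.ofNat 1),1)] .nil .nil)) (.node [(26,(.ofNat 1),1)] .nil .nil))) (.node [(72,(.ofNat 1),1)] (.node [] (.node [] (.node [] .nil (.node [(70,(.ofNat 1),1)] .nil .nil)) .nil) (.node [] .nil (.node [] .nil (.node [(118,(.ofNat 1),1)] .nil .nil)))) (.node [] .nil (.node [] .nil (.node [(62,(.negSucc 0),1)] .nil .nil))))) (.node [] (.node [] (.node [] (.node [] .nil (.node [(36,(.negSucc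 0),1)] .nil .nil)) (.node [(20,(.ofNat 1),1)] (.node [] .nil (.node [(84,(.ofNat 1),1)] .nil .nil)) (.node [(52,(.negSucc 0),1)] .nil .nil))) (.node [] .nil (.node [] .nil (.node [] .nil (.node [(124,(.negSucc 0),1)] .nil .nil))))) (.node [(72,(.negSucc 0),1)] .nil (.node [] (.node [] .nil (.node [(48,(.negSucc 0),1)] .nil (.node [(112,(.ofNat 1),1)] .nil .nil))) (.node [(32,(.negSucc 0),1)] (.node [] .nil (.node [(96,(.ofNat 1),1)] .nil .nil)) (.node [] .nil (.node [(128,(.negSucc 0),1)] .nil .nil))))))) (.node [] (.node [] (.node [] (.node [] (.node [] .nil (.node [] .nil (.node [(99,(.negSucc 0),1)] .nil .nil))) (.node [] .nil (.node [] .nil (.node [(115,(.negSucc 0),1)] .nil .nil)))) (.node [] (.node [] (.node [] .nil (.node [(75,(.ofNat 1),1)] .nil .nil)) .nil) .nil)) (.node [(72,(.negSucc 0),1)] (.node [] (.node [] (.node [] .nil (.node [(71,(.negSucc 0),1)] .nil .nil)) .nil) (.node [(23,(.negSucc 0),1)] .nil .nil)) (.node [] (.node [] (.node [] .nil (.node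 [(79,(.ofNat 1),1)] .nil .nil)) .nil) .nil))) (.node [] (.node [] (.node [] (.node [] (.node [] .nil (.node [(5,(.ofNat 1),1),(6,(.ofNat 1),1),(72,(.negSucc 0),2)] .nil .nil)) .nil) .nil) (.node [(13,(.ofNat 1),1)] (.node [] .nil (.node [(45,(.negSucc 0),1)] .nil (.node [(109,(.ofNat 1),1)] .nil .nil))) (.node [(29,(.negSucc 0),1)] (.node [] .nil (.node [(93,(.ofNat 1),1)] .nil .nil)) .nil))) (.node [] (.node [] (.node [] .nil (.node [] .nil (.node [(105,(.ofNat 1),1)] .nil .nil))) (.node [] (.node [] .nil (.node [(89,(.ofNat 1),1)] .nil .nil)) (.node [(57,(.negSucc 0),1)] .nil (.node [(121,(.negSucc 0),1)] .nil .nil)))) (.node [(17,(.ofNat 1),1)] .nil .nil)))))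
noncomputable def ex66 : Trie (List (ℕ × ℤ × ℕ)) := (.node [] (.node [] (.node [] (.node [] (.node [] (.node [] (.node [] (.node [] .nil (.node [(129,(.ofNat 1),1)] .nil .nil)) (.node [(67,(.ofNat 1),1)] .nil .nil)) (.node [(33,(.negSucc 0),1)] .nil (.node [(98,(.ofNat 1),1)] .nil .nil))) (.node [] .nil (.node [(49,(.negSucc 0),1)] .nil (.node [(114,(.ofNat 1),1)] .nil .nil)))) (.node [] (.node [] (.node [] .nil (.node [(75,(.negSucc 0),1)] .nil .nil)) .nil) .nil)) (.node [(73,(.negSucc 1),1)] (.node [] (.node [] .nil (.node [(37,(.negSucc 0),1)] .nil .nil)) (.node [(22,(.negSucc 0),1)] .nil (.node [(53,(.negSucc 0),1)] .nil .nil))) (.node [] (.node [] (.node [] .nil (.node [(77,(.ofNat 1),1)] .nil .nil)) .nil) (.node [] .nil (.node [] .nil (.node [(125,(.ofNat 1),1)] .nil .nil)))))) (.node [] (.node [] (.node [] (.node [] (.node [] .nil (.node [(4,(.ofNat 1),1),(73,(.negSucc 0),2)] .nil .nil)) .nil) .nil) (.node [(11,(.negSucc 0),1)] (.node [] .nil (.node [(44,(.negSucc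 0),1)] .nil (.node [(107,(.ofNat 1),1)] .nil .nil))) (.node [(28,(.negSucc 0),1)] (.node [] .nil (.node [(91,(.ofNat 1),1)] .nil .nil)) .nil))) (.node [] (.node [] (.node [] .nil (.node [] .nil (.node [(103,(.ofNat 1),1)] .nil .nil))) (.node [] (.node [] .nil (.node [(87,(.ofNat 1),1)] .nil .nil)) (.node [] .nil (.node [(120,(.ofNat 1),1)] .nil .nil)))) (.node [(15,(.negSucc 0),1)] .nil (.node [] .nil (.node [(63,(.negSucc 0),1)] .nil .nil)))))) (.node [] (.node [] (.node [] (.node [] (.node [] (.node [] .nil (.node [(68,(.ofNat 1),1)] .nil .nil)) .nil) (.node [] (.node [] .nil (.node [(82,(.ofNat 1),1)] .nil .nil)) .nil)) (.node [] (.node [] (.node [] .nil (.node [] .nil .nil)) (.node [(43,(.negSucc 0),1)] .nil .nil)) (.node [(27,(.negSucc 0),1)] .nil (.node [(58,(.negSucc 0),1)] .nil .nil)))) (.node [(73,(.ofNat 1),1)] (.node [] .nil (.node [] .nil (.node [] .nil (.node [(119,(.ofNat 1),1)] .nil .nil)))) .nil)) (.node [(73,(.ofNat 1),1)] (.node [] (.node [] .nil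 (.node [(21,(.negSucc 0),1)] .nil .nil)) .nil) (.node [] (.node [] (.node [] (.node [] .nil (.node [(74,(.negSucc 0),1)] .nil .nil)) .nil) .nil) (.node [] (.node [] .nil (.node [] .nil (.node [(113,(.ofNat 1),1)] .nil .nil))) (.node [] (.node [] .nil (.node [(97,(.ofNat 1),1)] .nil .nil)) .nil))))))
noncomputable def ex67 : Trie (List (ℕ × ℤ × ℕ)) := (.node [] (.node [] (.node [] (.node [] (.node [] (.node [] (.node [] .nil (.node [(69,(.ofNat 1),1)] .nil .nil)) (.node [] .nil (.node [(99,(.ofNat 1),1)] .nil .nil))) (.node [] .nil (.node [] .nil (.node [(115,(.ofNat 1),1)] .nil .nil)))) (.node [] (.node [] .nil (.node [(43,(.negSucc 0),1)] .nil .nil)) (.node [(27,(.negSucc 0),1)] .nil (.node [(58,(.negSucc 0),1)] .nil .nil)))) (.node [(74,(.negSucc 0),1)] (.node [] (.node [] (.node [] .nil (.node [(73,(.negSucc 0),1)] .nil .nil)) .nil) (.node [(23,(.ofNat 1),1)] .nil (.node [] .nil (.node [(119,(.negSucc 0),1)] .nil .nil)))) (.node [] (.node [] (.node [] .nil (.node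 [(78,(.ofNat 1),1)] .nil .nil)) .nil) .nil))) (.node [] (.node [] (.node [] (.node [] (.node [] .nil (.node [(71,(.ofNat 1),1)] .nil .nil)) .nil) (.node [(21,(.negSucc 0),1)] .nil .nil)) (.node [(12,(.ofNat 1),1)] (.node [] (.node [] .nil (.node [] .nil .nil)) (.node [(45,(.ofNat 1),1)] .nil (.node [(108,(.ofNat 1),1)] .nil .nil))) (.node [(29,(.ofNat 1),1)] (.node [] .nil (.node [(92,(.ofNat 1),1)] .nil .nil)) .nil))) (.node [(74,(.ofNat 1),1)] (.node [] (.node [] (.node [] .nil (.node [(75,(.negSucc 0),1)] .nil .nil)) (.node [] .nil (.node [(104,(.ofNat 1),1)] .nil .nil))) (.node [] (.node [] .nil (.node [(88,(.ofNat 1),1)] .nil .nil)) (.node [] .nil (.node [(121,(.ofNat 1),1)] .nil .nil)))) (.node [(16,(.ofNat 1),1)] (.node [] .nil (.node [] .nil (.node [(113,(.negSucc 0),1)] .nil .nil))) (.node [] (.node [] .nil (.node [(97,(.negSucc 0),1)] .nil .nil)) .nil))))) (.node [] (.node [] (.node [] (.node [] (.node [] (.node [] .nil (.node [(4,(.ofNat 1),1),(5,(.ofNat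 1),1),(74,(.negSucc 0),2)] .nil .nil)) .nil) (.node [] (.node [] .nil (.node [(83,(.ofNat 1),1)] .nil .nil)) .nil)) .nil) (.node [(74,(.negSucc 0),1)] .nil (.node [] .nil (.node [] .nil (.node [(63,(.negSucc 0),1)] .nil .nil))))) (.node [(74,(.ofNat 1),1)] (.node [] (.node [] (.node [] .nil (.node [(37,(.negSucc 0),1)] .nil .nil)) (.node [] .nil (.node [(53,(.negSucc 0),1)] .nil .nil))) (.node [] .nil (.node [] .nil (.node [] .nil (.node [(125,(.negSucc 0),1)] .nil .nil))))) (.node [] .nil (.node [] (.node [] .nil (.node [(49,(.negSucc 0),1)] .nil .nil)) (.node [(33,(.negSucc 0),1)] .nil (.node [] .nil (.node [(129,(.negSucc 0),1)] .nil .nil))))))))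
noncomputable def ex68 : Trie (List (ℕ × ℤ × ℕ)) := (.node [] (.node [] (.node [] (.node [] (.node [] (.node [] (.node [] .nil (.node [(4,(.ofNat 1),1),(5,(.ofNat 1),1),(6,(.ofNat 1),1),(75,(.negSucc 0),2)] .nil .nil)) .nil) .nil) (.node [] (.node [] .nil (.node [(44,(.ofNat 1),1)] .nil .nil)) (.node [(28,(.ofNat 1),1)] .nil .nil))) (.node [(75,(.negSucc 0),1)] (.node [] .nil (.node [] .nil (.node [] .nil (.node [(120,(.negSucc 0),1)] .nil .nil)))) (.node [] (.node [] (.node [] .nil (.node [(79,(.ofNat 1),1)] .nil .nil)) .nil) (.node [] .nil (.node [(63,(.negSucc 0),1)] .nil .nil))))) (.node [] (.node [] (.node [] (.node [] (.node [] .nil (.node [(72,(.ofNat 1),1)] .nil .nil)) (.node [(37,(.negSucc 0),1)] .nil .nil)) (.node [(22,(.ofNat 1),1)] .nil (.node [(53,(.negSucc 0),1)] .nil .nil))) (.node [(13,(.negSucc 0),1)] (.node [] .nil (.node [] .nil (.node [(109,(.ofNat 1),1)] .nil .nil))) (.node [] (.node [] .nil (.node [(93,(.ofNat 1),1)] .nil .nil)) (.node [] .nil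 (.node [(125,(.ofNat 1),1)] .nil .nil))))) (.node [(75,(.negSucc 0),1)] (.node [] (.node [] .nil (.node [] .nil (.node [(105,(.ofNat 1),1)] .nil .nil))) (.node [] (.node [] .nil (.node [(89,(.ofNat 1),1)] .nil .nil)) .nil)) (.node [(17,(.negSucc 0),1)] (.node [] .nil (.node [(49,(.negSucc 0),1)] .nil (.node [(114,(.negSucc 0),1)] .nil .nil))) (.node [(33,(.negSucc 0),1)] (.node [] .nil (.node [(98,(.negSucc 0),1)] .nil .nil)) (.node [] .nil (.node [(129,(.ofNat 1),1)] .nil .nil))))))) (.node [] (.node [] (.node [] (.node [] (.node [] (.node [] .nil (.node [(70,(.ofNat 1),1)] .nil .nil)) .nil) (.node [] (.node [] .nil (.node [(84,(.ofNat 1),1)] .nil .nil)) .nil)) (.node [] (.node [] .nil (.node [(45,(.ofNat 1),1)] .nil .nil)) (.node [(29,(.ofNat 1),1)] .nil .nil))) (.node [] (.node [] (.node [] (.node [] .nil (.node [(74,(.negSucc 0),1)] .nil .nil)) .nil) (.node [] .nil (.node [] .nil (.node [(121,(.negSucc 0),1)] .nil .nil)))) .nil)) (.node [(75,(.ofNat 1),1)] (.node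 [] (.node [] (.node [] (.node [] .nil (.node [(73,(.negSucc 0),1)] .nil .nil)) .nil) (.node [(23,(.ofNat 1),1)] .nil .nil)) (.node [] (.node [] (.node [] .nil (.node [] .nil .nil)) .nil) .nil)) (.node [] (.node [] .nil (.node [] .nil (.node [(58,(.negSucc 0),1)] .nil .nil))) (.node [] (.node [] .nil (.node [] .nil (.node [(115,(.negSucc 0),1)] .nil .nil))) (.node [] (.node [] .nil (.node [(99,(.negSucc 0),1)] .nil .nil)) .nil))))))
noncomputable def ex69 : Trie (List (ℕ × ℤ × ℕ)) := (.node [] (.node [] (.node [] (.node [] (.node [] .nil (.node [(19,(.negSucc 0),1)] (.node [] .nil (.node [(81,(.ofNat 1),1)] .nil .nil)) .nil)) (.node [] .nil (.node [] .nil (.node [] .nil (.node [(123,(.ofNat 1),1)] .nil .nil))))) (.node [(76,(.ofNat 1),1)] .nil (.node [] (.node [] (.node [] .nil (.node [] .nil .nil)) (.node [(47,(.negSucc 0),1)] .nil (.node [(111,(.ofNat 1),1)] .nil .nil))) (.node [(31,(.negSucc 0),1)] (.node [] .nil (.node [(95,(.ofNat 1),1)] .nil .nil)) (.node [(64,(.ofNat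 1),1)] .nil .nil))))) (.node [(76,(.ofNat 1),1)] (.node [] .nil (.node [] (.node [] (.node [] .nil (.node [(78,(.negSucc 0),1)] .nil .nil)) .nil) (.node [] .nil (.node [(59,(.negSucc 0),1)] .nil .nil)))) (.node [] .nil (.node [] .nil (.node [] .nil (.node [(66,(.ofNat 1),1)] .nil .nil)))))) (.node [(76,(.ofNat 1),1)] (.node [] (.node [] (.node [] (.node [] (.node [] (.node [] .nil (.node [(130,(.ofNat 1),1)] .nil .nil)) .nil) .nil) (.node [(20,(.negSucc 0),1)] .nil .nil)) (.node [(10,(.negSucc 0),1)] (.node [] (.node [] .nil (.node [(77,(.negSucc 0),1)] .nil .nil)) .nil) (.node [] .nil (.node [] .nil (.node [(124,(.ofNat 1),1)] .nil .nil))))) (.node [] (.node [] (.node [] .nil (.node [(38,(.negSucc 0),1)] .nil (.node [(102,(.ofNat 1),1)] .nil .nil))) (.node [] (.node [] .nil (.node [(86,(.ofNat 1),1)] .nil .nil)) (.node [(54,(.negSucc 0),1)] .nil .nil))) (.node [] (.node [] .nil (.node [(48,(.negSucc 0),1)] .nil (.node [(112,(.ofNat 1),1)] .nil .nil))) (.node [(32,(.negSucc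 0),1)] (.node [] .nil (.node [(96,(.ofNat 1),1)] .nil .nil)) (.node [(65,(.ofNat 1),1)] .nil .nil))))) (.node [(76,(.negSucc 1),1)] (.node [] .nil (.node [] (.node [] (.node [] .nil (.node [(79,(.negSucc 0),1)] .nil .nil)) (.node [(46,(.negSucc 0),1)] .nil (.node [(110,(.ofNat 1),1)] .nil .nil))) (.node [(30,(.negSucc 0),1)] (.node [] .nil (.node [(94,(.ofNat 1),1)] .nil .nil)) .nil))) (.node [] (.node [] .nil (.node [] .nil (.node [] .nil (.node [(122,(.ofNat 1),1)] .nil .nil)))) (.node [(18,(.negSucc 0),1)] .nil (.node [] .nil (.node [(3,(.ofNat 1),1),(76,(.negSucc 0),2)] .nil .nil)))))))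
noncomputable def ex70 : Trie (List (ℕ × ℤ × ℕ)) := (.node [] (.node [] (.node [] (.node [] (.node [] (.node [] (.node [] (.node [] .nil (.node [(130,(.negSucc 0),1)] .nil .nil)) .nil) .nil) (.node [(21,(.ofNat 1),1)] (.node [] .nil (.node [(82,(.ofNat 1),1)] .nil .nil)) .nil)) (.node [] (.node [] (.node [] .nil (.node [(79,(.negSucc 0),1)] .nil .nil)) .nil) .nil)) (.node [(77,(.negSucc 0),1)] (.node [] (.node [] .nil (.node [(38,(.negSucc 0),1)] .nil .nil)) (.node [] .nil (.node [(54,(.negSucc 0),1)] .nil .nil))) (.node [] (.node [] .nil (.node [] .nil (.node [(113,(.ofNat 1),1)] .nil .nil))) (.node [] (.node [] .nil (.node [(97,(.ofNat 1),1)] .nil .nil)) (.node [(67,(.ofNat 1),1)] .nil .nil))))) (.node [(77,(.ofNat 1),1)] (.node [] (.node [] (.node [] (.node [] .nil (.node [(76,(.negSucc 0),1)] .nil .nil)) .nil) .nil) (.node [] (.node [] .nil (.node [(47,(.negSucc 0),1)] .nil (.node [(110,(.negSucc 0),1)] .nil .nil))) (.node [(31,(.negSucc 0),1)] (.node [] .nil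 (.node [(94,(.negSucc 0),1)] .nil .nil)) .nil))) (.node [] (.node [] .nil (.node [] .nil (.node [] .nil (.node [(123,(.negSucc 0),1)] .nil .nil)))) (.node [(18,(.negSucc 0),1)] .nil (.node [] .nil (.node [(3,(.ofNat 1),1),(4,(.ofNat 1),1),(77,(.negSucc 0),2)] .nil .nil)))))) (.node [(77,(.ofNat 1),1)] (.node [] (.node [] (.node [] .nil (.node [(22,(.ofNat 1),1)] .nil .nil)) (.node [(11,(.ofNat 1),1)] (.node [] .nil (.node [(46,(.negSucc 0),1)] .nil .nil)) (.node [(30,(.negSucc 0),1)] .nil (.node [(59,(.negSucc 0),1)] .nil (.node [(125,(.ofNat 1),1)] .nil .nil))))) (.node [(77,(.ofNat 1),1)] (.node [] (.node [] .nil (.node [] .nil (.node [(103,(.ofNat 1),1)] .nil .nil))) (.node [] (.node [] .nil (.node [(87,(.ofNat 1),1)] .nil .nil)) (.node [] .nil (.node [(122,(.negSucc 0),1)] .nil .nil)))) (.node [] (.node [] (.node [] .nil (.node [] .nil .nil)) (.node [(49,(.ofNat 1),1)] .nil (.node [(114,(.ofNat 1),1)] .nil .nil))) (.node [(33,(.ofNat 1),1)] (.node [] .nil (.node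 [(98,(.ofNat 1),1)] .nil .nil)) (.node [(68,(.ofNat 1),1)] .nil .nil))))) (.node [(77,(.negSucc 0),1)] .nil (.node [] (.node [] (.node [] (.node [] .nil (.node [(78,(.negSucc 0),1)] .nil .nil)) .nil) .nil) (.node [] .nil (.node [] .nil (.node [(73,(.ofNat 1),1)] .nil .nil)))))))
noncomputable def ex71 : Trie (List (ℕ × ℤ × ℕ)) := (.node [] (.node [] (.node [] (.node [] (.node [] .nil (.node [] (.node [] .nil (.node [(83,(.ofNat 1),1)] .nil .nil)) .nil)) (.node [] (.node [] .nil (.node [(46,(.negSucc 0),1)] .nil .nil)) (.node [(30,(.negSucc 0),1)] .nil (.node [(59,(.negSucc 0),1)] .nil (.node [(125,(.negSucc 0),1)] .nil .nil))))) (.node [] (.node [] (.node [] (.node [] .nil (.node [(77,(.negSucc 0),1)] .nil .nil)) .nil) (.node [] .nil (.node [] .nil (.node [(122,(.ofNat 1),1)] .nil .nil)))) (.node [] (.node [] .nil (.node [(49,(.ofNat 1),1)] .nil .nil)) (.node [(33,(.ofNat 1),1)] .nil (.node [(69,(.ofNat 1),1)] .nil .nil))))) (.node [(78,(.ofNat 1),1)] (.node []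 .nil (.node [] (.node [] .nil (.node [(48,(.ofNat 1),1)] .nil (.node [(111,(.negSucc 0),1)] .nil .nil))) (.node [(32,(.ofNat 1),1)] (.node [] .nil (.node [(95,(.negSucc 0),1)] .nil .nil)) .nil))) (.node [(78,(.ofNat 1),1)] (.node [] (.node [] (.node [] .nil (.node [(79,(.negSucc 0),1)] .nil .nil)) .nil) (.node [] .nil (.node [] .nil (.node [(124,(.negSucc 0),1)] .nil .nil)))) (.node [(19,(.ofNat 1),1)] (.node [] (.node [] .nil (.node [] .nil .nil)) .nil) (.node [] .nil (.node [(71,(.ofNat 1),1)] .nil .nil)))))) (.node [(78,(.ofNat 1),1)] (.node [] (.node [] (.node [] (.node [] (.node [] .nil (.node [(76,(.negSucc 0),1)] .nil .nil)) .nil) (.node [(23,(.negSucc 0),1)] .nil .nil)) (.node [(12,(.negSucc 0),1)] .nil .nil)) (.node [(78,(.negSucc 0),1)] (.node [] (.node [] .nil (.node [] .nil (.node [(104,(.ofNat 1),1)] .nil .nil))) (.node [] (.node [] .nil (.node [(88,(.ofNat 1),1)] .nil .nil)) .nil)) (.node [] (.node [] .nil (.node [] .nil (.node [(115,(.ofNat 1),1)]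 .nil .nil))) (.node [] (.node [] .nil (.node [(99,(.ofNat 1),1)] .nil .nil)) (.node [(3,(.ofNat 1),1),(4,(.ofNat 1),1),(5,(.ofNat 1),1),(78,(.negSucc 0),2)] .nil .nil))))) (.node [(78,(.negSucc 0),1)] (.node [] (.node [] (.node [] .nil (.node [(38,(.negSucc 0),1)] .nil .nil)) (.node [] .nil (.node [(54,(.negSucc 0),1)] .nil .nil))) (.node [] (.node [] .nil (.node [] .nil (.node [(113,(.negSucc 0),1)] .nil .nil))) (.node [] (.node [] .nil (.node [(97,(.negSucc 0),1)] .nil .nil)) .nil))) (.node [] .nil (.node [(21,(.ofNat 1),1)] .nil (.node [] .nil (.node [(74,(.ofNat 1),1)] .nil (.node [(130,(.ofNat 1),1)] .nil .nil))))))))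
noncomputable def ex72 : Trie (List (ℕ × ℤ × ℕ)) := (.node [] (.node [] (.node [] (.node [] (.node [] (.node [] (.node [] .nil (.node [(76,(.negSucc 0),1)] .nil .nil)) .nil) (.node [(23,(.negSucc 0),1)] (.node [] .nil (.node [(84,(.ofNat 1),1)] .nil .nil)) .nil)) (.node [] (.node [] .nil (.node [(47,(.ofNat 1),1)] .nil .nil)) (.node [(31,(.ofNat 1),1)] .nil .nil))) (.node [] (.node [] .nil (.node [] .nil (.node [] .nil (.node [(123,(.ofNat 1),1)] .nil .nil)))) (.node [] (.node [] .nil (.node [] .nil (.node [(115,(.negSucc 0),1)] .nil .nil))) (.node [] (.node [] .nil (.node [(99,(.negSucc 0),1)] .nil .nil)) (.node [(3,(.ofNat 1),1),(4,(.ofNat 1),1),(5,(.ofNat 1),1),(6,(.ofNat 1),1),(79,(.negSucc 0),2)] .nil .nil))))) (.node [(79,(.ofNat 1),1)] (.node [] (.node [] (.node [] .nil (.node [(38,(.negSucc 0),1)] .nil .nil)) (.node [] .nil (.node [(54,(.negSucc 0),1)] .nil .nil))) (.node [] (.node [] .nil (.node [] .nil (.node [(112,(.negSucc 0),1)] .nil .nil))) (.node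 [] (.node [] .nil (.node [(96,(.negSucc 0),1)] .nil .nil)) .nil))) (.node [(79,(.negSucc 0),1)] .nil (.node [(20,(.negSucc 0),1)] .nil (.node [] .nil (.node [(72,(.ofNat 1),1)] .nil (.node [(130,(.negSucc 0),1)] .nil .nil))))))) (.node [(79,(.ofNat 1),1)] (.node [] (.node [] .nil (.node [(13,(.ofNat 1),1)] (.node [] .nil (.node [(48,(.ofNat 1),1)] .nil .nil)) (.node [(32,(.ofNat 1),1)] .nil .nil))) (.node [] (.node [] (.node [] (.node [] .nil (.node [(78,(.negSucc 0),1)] .nil .nil)) (.node [] .nil (.node [(105,(.ofNat 1),1)] .nil .nil))) (.node [] (.node [] .nil (.node [(89,(.ofNat 1),1)] .nil .nil)) (.node [] .nil (.node [(124,(.ofNat 1),1)] .nil .nil)))) (.node [] .nil (.node [] .nil (.node [(70,(.ofNat 1),1)] .nil .nil))))) (.node [(79,(.negSucc 0),1)] (.node [] (.node [] (.node [] (.node [] .nil (.node [(77,(.negSucc 0),1)] .nil .nil)) .nil) .nil) (.node [] (.node [] .nil (.node [(49,(.ofNat 1),1)] .nil (.node [(114,(.negSucc 0),1)] .nil .nil))) (.node [(33,(.ofNat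 1),1)] (.node [] .nil (.node [(98,(.negSucc 0),1)] .nil .nil)) .nil))) (.node [] (.node [] .nil (.node [] .nil (.node [(59,(.negSucc 0),1)] .nil (.node [(125,(.ofNat 1),1)] .nil .nil)))) (.node [(22,(.negSucc 0),1)] (.node [] (.node [] .nil (.node [] .nil .nil)) .nil) (.node [] .nil (.node [(75,(.ofNat 1),1)] .nil .nil)))))))
noncomputable def ex73 : Trie (List (ℕ × ℤ × ℕ)) := (.node [(80,(.ofNat 1),1)] (.node [] (.node [] (.node [] (.node [] .nil (.node [] (.node [] .nil (.node [] .nil .nil)) (.node [(52,(.negSucc 0),1)] .nil (.node [(118,(.ofNat 1),1)] .nil .nil)))) (.node [(9,(.negSucc 0),1)] .nil (.node [] (.node [] .nil (.node [(92,(.ofNat 1),1)] .nil .nil)) (.node [(61,(.ofNat 1),1)] .nil .nil)))) (.node [] (.node [] (.node [] .nil (.node [] .nil (.node [(101,(.ofNat 1),1)] .nil .nil))) (.node [(26,(.negSucc 0),1)] .nil .nil)) (.node [] (.node [] (.node [] .nil (.node [(81,(.negSucc 0),1)] .nil .nil)) .nil) .nil))) (.node [(80,(.negSucc 1),1)] (.node [] (.node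 [] (.node [] (.node [] (.node [] .nil (.node [(131,(.ofNat 1),1)] .nil .nil)) .nil) .nil) (.node [(24,(.negSucc 0),1)] .nil (.node [] .nil (.node [(120,(.ofNat 1),1)] .nil .nil)))) (.node [] .nil (.node [] .nil (.node [(63,(.ofNat 1),1)] .nil .nil)))) (.node [] (.node [] (.node [] .nil (.node [(39,(.negSucc 0),1)] .nil .nil)) (.node [(28,(.negSucc 0),1)] (.node [] .nil (.node [(90,(.ofNat 1),1)] .nil .nil)) .nil)) (.node [] (.node [] (.node [] .nil (.node [(83,(.negSucc 0),1)] .nil .nil)) (.node [(50,(.negSucc 0),1)] .nil (.node [(116,(.ofNat 1),1)] .nil .nil))) .nil)))) (.node [] (.node [] (.node [] (.node [] .nil (.node [] .nil (.node [(53,(.negSucc 0),1)] .nil (.node [(119,(.ofNat 1),1)] .nil .nil)))) (.node [] .nil (.node [] (.node [] .nil (.node [(93,(.ofNat 1),1)] .nil .nil)) (.node [(62,(.ofNat 1),1)] .nil .nil)))) (.node [] (.node [] .nil (.node [(27,(.negSucc 0),1)] .nil .nil)) (.node [] (.node [] (.node [] .nil (.node [(82,(.negSucc 0),1)] .nil .nil))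 .nil) .nil))) (.node [(80,(.ofNat 1),1)] (.node [] (.node [] .nil (.node [(25,(.negSucc 0),1)] .nil (.node [] .nil (.node [(121,(.ofNat 1),1)] .nil .nil)))) (.node [] .nil (.node [] .nil (.node [(2,(.ofNat 1),1),(80,(.negSucc 0),2)] .nil .nil)))) (.node [] (.node [] .nil (.node [(29,(.negSucc 0),1)] (.node [] .nil (.node [(91,(.ofNat 1),1)] .nil .nil)) (.node [(60,(.ofNat 1),1)] .nil .nil))) (.node [] (.node [] (.node [] .nil (.node [(84,(.negSucc 0),1)] .nil .nil)) (.node [(51,(.negSucc 0),1)] .nil (.node [(117,(.ofNat 1),1)] .nil .nil))) .nil)))))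
noncomputable def ex74 : Trie (List (ℕ × ℤ × ℕ)) := (.node [(81,(.ofNat 1),1)] (.node [] (.node [] (.node [] (.node [] .nil (.node [(25,(.negSucc 0),1)] .nil .nil)) (.node [(10,(.ofNat 1),1)] .nil (.node [] (.node [] .nil (.node [(95,(.ofNat 1),1)] .nil .nil)) (.node [(65,(.ofNat 1),1)] .nil .nil)))) (.node [(81,(.ofNat 1),1)] (.node [] (.node [] .nil (.node [] .nil (.node [(102,(.ofNat 1),1)] .nil .nil))) .nil) (.node [] (.node [] .nil (.node [(51,(.negSucc 0),1)] .nil (.node [(117,(.negSucc 0),1)] .nil .nil))) .nil))) (.node [(81,(.negSucc 0),1)] (.node [] (.node [] .nil (.node [] .nil (.node [] .nil (.node [(123,(.ofNat 1),1)] .nil .nil)))) (.node [] (.node [] (.node [] .nil (.node [(83,(.negSucc 0),1)] .nil .nil)) .nil) (.node [] .nil (.node [(2,(.ofNat 1),1),(3,(.ofNat 1),1),(81,(.negSucc 0),2)] .nil .nil)))) (.node [] (.node [] .nil (.node [(31,(.ofNat 1),1)] .nil .nil)) .nil))) (.node [(81,(.ofNat 1),1)] (.node [] (.node [] (.node [] (.node [] (.node [] (.node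 [] .nil (.node [(131,(.negSucc 0),1)] .nil .nil)) .nil) .nil) (.node [(26,(.negSucc 0),1)] (.node [] .nil (.node [] .nil .nil)) (.node [(54,(.ofNat 1),1)] .nil (.node [(122,(.ofNat 1),1)] .nil .nil)))) (.node [] (.node [] (.node [] .nil (.node [(82,(.negSucc 0),1)] .nil .nil)) .nil) (.node [] (.node [] .nil (.node [(96,(.ofNat 1),1)] .nil .nil)) (.node [(66,(.ofNat 1),1)] .nil .nil)))) (.node [] (.node [] (.node [] .nil (.node [(39,(.negSucc 0),1)] .nil .nil)) (.node [(30,(.ofNat 1),1)] (.node [] .nil (.node [(90,(.negSucc 0),1)] .nil .nil)) .nil)) (.node [] (.node [] .nil (.node [(52,(.negSucc 0),1)] .nil (.node [(118,(.negSucc 0),1)] .nil .nil))) .nil))) (.node [(81,(.negSucc 0),1)] (.node [] (.node [] .nil (.node [] .nil (.node [] .nil (.node [(124,(.ofNat 1),1)] .nil .nil)))) (.node [] (.node [] (.node [] .nil (.node [(84,(.negSucc 0),1)] .nil .nil)) (.node [(50,(.negSucc 0),1)] .nil (.node [(116,(.negSucc 0),1)] .nil .nil))) (.node [] .nil (.node [(76,(.ofNat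 1),1)] .nil .nil)))) (.node [] (.node [] .nil (.node [(32,(.ofNat 1),1)] (.node [] .nil (.node [(94,(.ofNat 1),1)] .nil .nil)) (.node [(64,(.ofNat 1),1)] .nil .nil))) (.node [(24,(.negSucc 0),1)] .nil (.node [] .nil (.node [(80,(.negSucc 0),1)] .nil .nil)))))))
noncomputable def ex75 : Trie (List (ℕ × ℤ × ℕ)) := (.node [(82,(.ofNat 1),1)] (.node [] (.node [] (.node [] (.node [] (.node [] (.node [] (.node [] .nil (.node [(131,(.ofNat 1),1)] .nil .nil)) .nil) .nil) (.node [(27,(.ofNat 1),1)] .nil (.node [(54,(.ofNat 1),1)] .nil (.node [(123,(.negSucc 0),1)] .nil .nil)))) (.node [(11,(.negSucc 0),1)] (.node [] (.node [] .nil (.node [(84,(.negSucc 0),1)] .nil .nil)) .nil) (.node [] (.node [] .nil (.node [(97,(.ofNat 1),1)] .nil .nil)) (.node [(68,(.ofNat 1),1)] .nil .nil)))) (.node [(82,(.negSucc 0),1)] (.node [] (.node [] .nil (.node [(39,(.negSucc 0),1)] .nil (.node [(103,(.ofNat 1),1)] .nil .nil))) (.node [(31,(.ofNat 1),1)] .nil .nil)) (.node [] (.node [] .nil (.node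 [] .nil (.node [(119,(.negSucc 0),1)] .nil .nil))) .nil))) (.node [(82,(.negSucc 0),1)] (.node [] (.node [] (.node [] (.node [] .nil (.node [(81,(.negSucc 0),1)] .nil .nil)) .nil) (.node [] (.node [] .nil (.node [] .nil .nil)) .nil)) (.node [] (.node [] .nil (.node [(51,(.negSucc 0),1)] .nil (.node [(116,(.ofNat 1),1)] .nil .nil))) (.node [] .nil (.node [(73,(.ofNat 1),1)] .nil .nil)))) (.node [] (.node [] .nil (.node [] (.node [] .nil (.node [(94,(.negSucc 0),1)] .nil .nil)) .nil)) (.node [(24,(.negSucc 0),1)] .nil (.node [] .nil (.node [(80,(.negSucc 0),1)] .nil .nil)))))) (.node [(82,(.ofNat 1),1)] (.node [] (.node [] (.node [] .nil (.node [(28,(.ofNat 1),1)] .nil .nil)) (.node [] (.node [] .nil (.node [(50,(.negSucc 0),1)] .nil .nil)) (.node [] (.node [] .nil (.node [(98,(.ofNat 1),1)] .nil .nil)) (.node [(2,(.ofNat 1),1),(3,(.ofNat 1),1),(4,(.ofNat 1),1),(82,(.negSucc 0),2)] .nil .nil)))) (.node [(82,(.ofNat 1),1)] (.node [] .nil (.node [] (.node [] .nil (.node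 [(91,(.negSucc 0),1)] .nil .nil)) .nil)) (.node [] (.node [] .nil (.node [(53,(.ofNat 1),1)] .nil (.node [(120,(.negSucc 0),1)] .nil .nil))) .nil))) (.node [] (.node [] (.node [] .nil (.node [(30,(.ofNat 1),1)] .nil (.node [] .nil (.node [(125,(.ofNat 1),1)] .nil .nil)))) (.node [] .nil (.node [] .nil (.node [(77,(.ofNat 1),1)] .nil .nil)))) (.node [] (.node [] (.node [] (.node [] .nil (.node [(83,(.negSucc 0),1)] .nil .nil)) .nil) (.node [(33,(.negSucc 0),1)] .nil (.node [(67,(.ofNat 1),1)] .nil .nil))) (.node [] (.node [] .nil (.node [] .nil (.node [(122,(.negSucc 0),1)] .nil .nil))) .nil)))))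
noncomputable def ex76 : Trie (List (ℕ × ℤ × ℕ)) := (.node [(83,(.ofNat 1),1)] (.node [] (.node [] (.node [] (.node [] .nil (.node [] .nil (.node [] .nil (.node [(124,(.negSucc 0),1)] .nil .nil)))) (.node [(12,(.ofNat 1),1)] (.node [] .nil (.node [(50,(.negSucc 0),1)] .nil .nil)) (.node [] .nil (.node [(2,(.ofNat 1),1),(3,(.ofNat 1),1),(4,(.ofNat 1),1),(5,(.ofNat 1),1),(83,(.negSucc 0),2)] .nil .nil)))) (.node [] (.node [] (.node [] (.node [] .nil (.node [(82,(.negSucc 0),1)] .nil .nil)) (.node [] .nil (.node [(104,(.ofNat 1),1)] .nil .nil))) (.node [(32,(.negSucc 0),1)] .nil .nil)) (.node [] (.node [] .nil (.node [(53,(.ofNat 1),1)] .nil .nil)) .nil))) (.node [(83,(.negSucc 0),1)] (.node [] (.node [] .nil (.node [(30,(.ofNat 1),1)] .nil (.node [] .nil (.node [(125,(.negSucc 0),1)] .nil .nil)))) (.node [] (.node [] .nil (.node [(52,(.ofNat 1),1)] .nil (.node [(117,(.ofNat 1),1)] .nil .nil))) (.node [] .nil (.node [(74,(.ofNat 1),1)] .nil .nil)))) (.node [(83,(.ofNat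 1),1)] (.node [] (.node [] (.node [] .nil (.node [(84,(.negSucc 0),1)] .nil .nil)) .nil) (.node [(33,(.negSucc 0),1)] (.node [] .nil (.node [(95,(.negSucc 0),1)] .nil .nil)) .nil)) (.node [(25,(.ofNat 1),1)] (.node [] .nil (.node [] .nil (.node [(122,(.ofNat 1),1)] .nil .nil))) .nil)))) (.node [(83,(.ofNat 1),1)] (.node [] (.node [] (.node [] (.node [] (.node [] .nil (.node [(81,(.negSucc 0),1)] .nil .nil)) .nil) (.node [(29,(.negSucc 0),1)] .nil .nil)) (.node [] .nil (.node [] (.node [] .nil (.node [(99,(.ofNat 1),1)] .nil .nil)) (.node [(71,(.ofNat 1),1)] .nil .nil)))) (.node [(83,(.negSucc 0),1)] (.node [] .nil (.node [] (.node [] .nil (.node [(92,(.negSucc 0),1)] .nil .nil)) .nil)) (.node [] (.node [] .nil (.node [] .nil (.node [(121,(.negSucc 0),1)] .nil .nil))) (.node [] .nil (.node [(80,(.negSucc 0),1)] .nil .nil))))) (.node [] (.node [] (.node [] (.node [] .nil (.node [(39,(.negSucc 0),1)] .nil .nil)) (.node [] (.node [] .nil (.node [] .nil .nil)) .nil))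 (.node [] (.node [] .nil (.node [] .nil (.node [(119,(.ofNat 1),1)] .nil .nil))) (.node [] .nil (.node [(78,(.ofNat 1),1)] .nil .nil)))) (.node [] (.node [] .nil (.node [] (.node [] .nil (.node [(97,(.negSucc 0),1)] .nil .nil)) (.node [(69,(.ofNat 1),1)] .nil .nil))) (.node [(27,(.ofNat 1),1)] (.node [] .nil (.node [(54,(.ofNat 1),1)] .nil .nil)) (.node [] .nil (.node [] .nil (.node [(131,(.negSucc 0),1)] .nil .nil))))))))
noncomputable def ex77 : Trie (List (ℕ × ℤ × ℕ)) := (.node [(84,(.ofNat 1),1)] (.node [] (.node [] (.node [] (.node [] (.node [] (.node [] .nil (.node [(81,(.negSucc 0),1)] .nil .nil)) .nil) (.node [(29,(.negSucc 0),1)] .nil .nil)) (.node [(13,(.negSucc 0),1)] (.node [] .nil (.node [(51,(.ofNat 1),1)] .nil .nil)) (.node [] (.node [] .nil (.node [(99,(.negSucc 0),1)] .nil .nil)) (.node [(70,(.ofNat 1),1)] .nil .nil)))) (.node [] (.node [] (.node [] .nil (.node [] .nil (.node [(105,(.ofNat 1),1)] .nil .nil))) (.node [] (.node [] .nil (.node [] .nil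 .nil)) .nil)) (.node [] (.node [] .nil (.node [] .nil (.node [(121,(.ofNat 1),1)] .nil .nil))) (.node [] .nil (.node [(80,(.negSucc 0),1)] .nil .nil))))) (.node [(84,(.negSucc 0),1)] (.node [] (.node [] (.node [] .nil (.node [(39,(.negSucc 0),1)] .nil .nil)) (.node [(31,(.negSucc 0),1)] .nil .nil)) (.node [] (.node [] .nil (.node [] .nil (.node [(118,(.ofNat 1),1)] .nil .nil))) (.node [] .nil (.node [(75,(.ofNat 1),1)] .nil .nil)))) (.node [(84,(.negSucc 0),1)] (.node [] .nil (.node [] (.node [] .nil (.node [(96,(.negSucc 0),1)] .nil .nil)) .nil)) (.node [(26,(.negSucc 0),1)] (.node [] .nil (.node [(54,(.ofNat 1),1)] .nil (.node [(123,(.ofNat 1),1)] .nil .nil))) (.node [] .nil (.node [] .nil (.node [(131,(.ofNat 1),1)] .nil .nil))))))) (.node [(84,(.ofNat 1),1)] (.node [] (.node [] (.node [] .nil (.node [] .nil (.node [] .nil (.node [(125,(.ofNat 1),1)] .nil .nil)))) (.node [] (.node [] .nil (.node [(52,(.ofNat 1),1)] .nil .nil)) (.node [] .nil (.node [(72,(.ofNat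 1),1)] .nil .nil)))) (.node [] (.node [] (.node [] (.node [] .nil (.node [(83,(.negSucc 0),1)] .nil .nil)) .nil) (.node [(33,(.negSucc 0),1)] (.node [] .nil (.node [(93,(.negSucc 0),1)] .nil .nil)) .nil)) .nil)) (.node [] (.node [] (.node [] (.node [] (.node [] .nil (.node [(82,(.negSucc 0),1)] .nil .nil)) .nil) (.node [(32,(.negSucc 0),1)] .nil .nil)) (.node [] (.node [] .nil (.node [(53,(.ofNat 1),1)] .nil (.node [(120,(.ofNat 1),1)] .nil .nil))) (.node [] .nil (.node [(79,(.ofNat 1),1)] .nil .nil)))) (.node [] (.node [] .nil (.node [] (.node [] .nil (.node [(98,(.negSucc 0),1)] .nil .nil)) (.node [(2,(.ofNat 1),1),(3,(.ofNat 1),1),(4,(.ofNat 1),1),(5,(.ofNat 1),1),(6,(.ofNat 1),1),(84,(.negSucc 0),2)] .nil .nil))) (.node [(28,(.negSucc 0),1)] (.node [] .nil (.node [] .nil (.node [(124,(.ofNat 1),1)] .nil .nil))) .nil)))))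
noncomputable def ex78 : Trie (List (ℕ × ℤ × ℕ)) := (.node [] (.node [] (.node [] (.node [] (.node [] (.node [] .nil (.node [(36,(.negSucc 0),1)] .nil .nil)) (.node [] .nil (.node [(57,(.negSucc 0),1)] .nil .nil))) (.node [] (.node [] .nil (.node [] .nil (.node [(108,(.ofNat 1),1)] .nil .nil))) .nil)) (.node [] (.node [] .nil (.node [] (.node [] .nil (.node [(93,(.ofNat 1),1)] .nil .nil)) (.node [(62,(.ofNat 1),1)] .nil .nil))) (.node [(16,(.negSucc 0),1)] (.node [] (.node [] .nil (.node [(86,(.negSucc 0),1)] .nil .nil)) .nil) (.node [] .nil (.node [] .nil (.node [(128,(.ofNat 1),1)] .nil .nil)))))) (.node [] (.node [] (.node [] .nil (.node [] (.node [] .nil (.node [(91,(.ofNat 1),1)] .nil .nil)) (.node [(60,(.ofNat 1),1)] .nil .nil))) (.node [(14,(.negSucc 0),1)] .nil (.node [] .nil (.node [] .nil (.node [(126,(.ofNat 1),1)] .nil .nil))))) (.node [] (.node [] (.node [] .nil (.node [] .nil (.node [(106,(.ofNat 1),1)] .nil .nil))) (.node [] .nil (.node [(1,(.ofNat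 1),1),(85,(.negSucc 0),2)] .nil .nil))) (.node [] (.node [] (.node [] .nil (.node [(88,(.negSucc 0),1)] .nil .nil)) (.node [(55,(.negSucc 0),1)] .nil .nil)) (.node [(34,(.negSucc 0),1)] .nil .nil))))) (.node [(85,(.negSucc 1),1)] (.node [] (.node [] (.node [] (.node [] .nil (.node [(37,(.negSucc 0),1)] .nil .nil)) (.node [] (.node [] .nil (.node [(90,(.ofNat 1),1)] .nil .nil)) (.node [(58,(.negSucc 0),1)] .nil .nil))) (.node [] (.node [] .nil (.node [] .nil (.node [(109,(.ofNat 1),1)] .nil .nil))) .nil)) (.node [] (.node [] .nil (.node [] (.node [] .nil (.node [] .nil .nil)) (.node [(63,(.ofNat 1),1)] .nil .nil))) (.node [(17,(.negSucc 0),1)] (.node [] (.node [] .nil (.node [(87,(.negSucc 0),1)] .nil .nil)) .nil) (.node [] .nil (.node [] .nil (.node [(129,(.ofNat 1),1)] .nil .nil)))))) (.node [(85,(.ofNat 1),1)] (.node [] (.node [] .nil (.node [] (.node [] .nil (.node [(92,(.ofNat 1),1)] .nil .nil)) (.node [(61,(.ofNat 1),1)] .nil .nil))) (.node [(15,(.negSucc 0),1)]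 .nil (.node [] .nil (.node [] .nil (.node [(127,(.ofNat 1),1)] .nil .nil))))) (.node [] (.node [] (.node [] .nil (.node [] .nil (.node [(107,(.ofNat 1),1)] .nil .nil))) .nil) (.node [] (.node [] (.node [] .nil (.node [(89,(.negSucc 0),1)] .nil .nil)) (.node [(56,(.negSucc 0),1)] .nil .nil)) (.node [(35,(.negSucc 0),1)] .nil .nil))))))
noncomputable def ex79 : Trie (List (ℕ × ℤ × ℕ)) := (.node [] (.node [] (.node [] (.node [] (.node [] .nil (.node [] (.node [] .nil (.node [(90,(.negSucc 0),1)] .nil .nil)) .nil)) (.node [] (.node [] .nil (.node [] .nil (.node [(111,(.ofNat 1),1)] .nil .nil))) (.node [] .nil (.node [] .nil (.node [(127,(.negSucc 0),1)] .nil .nil))))) (.node [(86,(.ofNat 1),1)] (.node [] .nil (.node [] (.node [] .nil (.node [(96,(.ofNat 1),1)] .nil .nil)) (.node [(66,(.ofNat 1),1)] .nil .nil))) (.node [(19,(.ofNat 1),1)] (.node [] .nil (.node [(56,(.negSucc 0),1)] .nil .nil)) (.node [(35,(.negSucc 0),1)] .nil .nil)))) (.node [(86,(.ofNat 1),1)] (.node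 [] (.node [] .nil (.node [] (.node [] .nil (.node [(94,(.ofNat 1),1)] .nil .nil)) (.node [(64,(.ofNat 1),1)] .nil .nil))) (.node [] (.node [] (.node [] .nil (.node [(88,(.negSucc 0),1)] .nil .nil)) .nil) .nil)) (.node [] (.node [] .nil (.node [] (.node [] .nil (.node [] .nil .nil)) (.node [(76,(.ofNat 1),1)] .nil .nil))) .nil))) (.node [(86,(.negSucc 0),1)] (.node [] (.node [] (.node [] (.node [] .nil (.node [(38,(.ofNat 1),1)] .nil .nil)) (.node [] .nil (.node [(59,(.ofNat 1),1)] .nil .nil))) (.node [(14,(.negSucc 0),1)] (.node [] (.node [] .nil (.node [(87,(.negSucc 0),1)] .nil .nil)) (.node [] .nil (.node [(112,(.ofNat 1),1)] .nil .nil))) (.node [] .nil (.node [] .nil (.node [(128,(.negSucc 0),1)] .nil .nil))))) (.node [] (.node [] (.node [] .nil (.node [] .nil (.node [(106,(.negSucc 0),1)] .nil .nil))) (.node [] .nil (.node [(1,(.ofNat 1),1),(3,(.ofNat 1),1),(86,(.negSucc 0),2)] .nil .nil))) (.node [(20,(.ofNat 1),1)] (.node [] .nil (.node [(57,(.negSucc 0),1)]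 .nil .nil)) (.node [(36,(.negSucc 0),1)] .nil (.node [] .nil (.node [(130,(.ofNat 1),1)] .nil .nil)))))) (.node [(86,(.negSucc 0),1)] (.node [] (.node [] .nil (.node [] (.node [] .nil (.node [(95,(.ofNat 1),1)] .nil .nil)) (.node [(65,(.ofNat 1),1)] .nil .nil))) (.node [(18,(.ofNat 1),1)] (.node [] (.node [] .nil (.node [(89,(.negSucc 0),1)] .nil .nil)) (.node [(55,(.negSucc 0),1)] .nil .nil)) (.node [(34,(.negSucc 0),1)] .nil .nil))) (.node [] (.node [] (.node [] .nil (.node [] .nil (.node [(110,(.ofNat 1),1)] .nil .nil))) (.node [] .nil (.node [] .nil (.node [(126,(.negSucc 0),1)] .nil .nil)))) (.node [] .nil (.node [] .nil (.node [(85,(.negSucc 0),1)] .nil .nil)))))))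
noncomputable def ex80 : Trie (List (ℕ × ℤ × ℕ)) := (.node [] (.node [] (.node [] (.node [] (.node [] (.node [] .nil (.node [(38,(.ofNat 1),1)] .nil .nil)) (.node [] (.node [] .nil (.node [(91,(.negSucc 0),1)] .nil .nil)) (.node [(59,(.ofNat 1),1)] .nil .nil))) (.node [] (.node [] (.node [] .nil (.node [(89,(.negSucc 0),1)] .nil .nil)) (.node [] .nil (.node [(113,(.ofNat 1),1)] .nil .nil))) .nil)) (.node [(87,(.negSucc 0),1)] (.node [] .nil (.node [] (.node [] .nil (.node [(98,(.ofNat 1),1)] .nil .nil)) (.node [(1,(.ofNat 1),1),(3,(.ofNat 1),1),(4,(.ofNat 1),1),(87,(.negSucc 0),2)] .nil .nil))) (.node [(21,(.negSucc 0),1)] .nil (.node [] .nil (.node [] .nil (.node [(130,(.negSucc 0),1)] .nil .nil)))))) (.node [(87,(.ofNat 1),1)] (.node [] (.node [] (.node [] (.node [] .nil (.node [(86,(.negSucc 0),1)] .nil .nil)) .nil) (.node [] .nil (.node [(67,(.ofNat 1),1)] .nil .nil))) (.node [(18,(.ofNat 1),1)] (.node [] .nil (.node [(56,(.negSucc 0),1)] .nil .nil)) (.node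 [(35,(.negSucc 0),1)] .nil .nil))) (.node [] (.node [] (.node [] .nil (.node [] .nil (.node [(110,(.negSucc 0),1)] .nil .nil))) (.node [] .nil (.node [(77,(.ofNat 1),1)] .nil (.node [(127,(.ofNat 1),1)] .nil .nil)))) (.node [] .nil (.node [] .nil (.node [(85,(.negSucc 0),1)] .nil .nil)))))) (.node [(87,(.negSucc 0),1)] (.node [] (.node [] (.node [] .nil (.node [] (.node [] .nil (.node [(94,(.negSucc 0),1)] .nil .nil)) .nil)) (.node [(15,(.ofNat 1),1)] (.node [] .nil (.node [(55,(.negSucc 0),1)] .nil (.node [(114,(.ofNat 1),1)] .nil .nil))) (.node [(34,(.negSucc 0),1)] .nil (.node [] .nil (.node [(129,(.negSucc 0),1)] .nil .nil))))) (.node [(87,(.ofNat 1),1)] (.node [] (.node [] .nil (.node [] .nil (.node [(107,(.negSucc 0),1)] .nil .nil))) (.node [] .nil (.node [(73,(.ofNat 1),1)] .nil (.node [(126,(.ofNat 1),1)] .nil .nil)))) (.node [(22,(.negSucc 0),1)] (.node [] .nil (.node [(58,(.ofNat 1),1)] .nil .nil)) (.node [(37,(.ofNat 1),1)] .nil .nil)))) (.node [] (.node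 [] (.node [] .nil (.node [] (.node [] .nil (.node [(97,(.ofNat 1),1)] .nil .nil)) (.node [(68,(.ofNat 1),1)] .nil .nil))) .nil) (.node [] (.node [] (.node [] (.node [] .nil (.node [(88,(.negSucc 0),1)] .nil .nil)) .nil) (.node [] (.node [] .nil (.node [] .nil .nil)) .nil)) .nil))))
noncomputable def ex81 : Trie (List (ℕ × ℤ × ℕ)) := (.node [] (.node [] (.node [] (.node [] (.node [] .nil (.node [] (.node [] .nil (.node [(92,(.negSucc 0),1)] .nil .nil)) .nil)) (.node [] (.node [] .nil (.node [(55,(.negSucc 0),1)] .nil .nil)) (.node [(34,(.negSucc 0),1)] (.node [] .nil (.node [] .nil .nil)) (.node [] .nil (.node [(129,(.ofNat 1),1)] .nil .nil))))) (.node [] (.node [] (.node [] (.node [] .nil (.node [(87,(.negSucc 0),1)] .nil .nil)) .nil) (.node [] (.node [] .nil (.node [(99,(.ofNat 1),1)] .nil .nil)) (.node [(71,(.ofNat 1),1)] .nil (.node [(126,(.negSucc 0),1)] .nil .nil)))) (.node [] (.node [] .nil (.node [(58,(.ofNat 1),1)] .nil .nil)) (.node [(37,(.ofNat 1),1)]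 .nil .nil)))) (.node [(88,(.ofNat 1),1)] (.node [] (.node [] .nil (.node [] (.node [] .nil (.node [(97,(.negSucc 0),1)] .nil .nil)) (.node [(69,(.ofNat 1),1)] .nil .nil))) (.node [(19,(.negSucc 0),1)] (.node [] .nil (.node [(57,(.ofNat 1),1)] .nil .nil)) (.node [(36,(.ofNat 1),1)] .nil .nil))) (.node [(88,(.ofNat 1),1)] (.node [] (.node [] (.node [] .nil (.node [(89,(.negSucc 0),1)] .nil .nil)) (.node [] .nil (.node [(111,(.negSucc 0),1)] .nil .nil))) (.node [] .nil (.node [(78,(.ofNat 1),1)] .nil (.node [(128,(.ofNat 1),1)] .nil .nil)))) .nil))) (.node [(88,(.negSucc 0),1)] (.node [] (.node [] (.node [] (.node [] (.node [] .nil (.node [(86,(.negSucc 0),1)] .nil .nil)) .nil) (.node [] (.node [] .nil (.node [(95,(.negSucc 0),1)] .nil .nil)) .nil)) (.node [(16,(.negSucc 0),1)] (.node [] .nil (.node [] .nil (.node [(115,(.ofNat 1),1)] .nil .nil))) .nil)) (.node [(88,(.negSucc 0),1)] (.node [] (.node [] .nil (.node [] .nil (.node [(108,(.negSucc 0),1)] .nil .nil)))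 (.node [] .nil (.node [(74,(.ofNat 1),1)] .nil .nil))) (.node [(23,(.ofNat 1),1)] .nil (.node [] .nil (.node [(85,(.negSucc 0),1)] .nil .nil))))) (.node [] (.node [] (.node [] .nil (.node [] .nil (.node [(1,(.ofNat 1),1),(3,(.ofNat 1),1),(4,(.ofNat 1),1),(5,(.ofNat 1),1),(88,(.negSucc 0),2)] .nil .nil))) (.node [(21,(.negSucc 0),1)] .nil (.node [] .nil (.node [] .nil (.node [(130,(.ofNat 1),1)] .nil .nil))))) (.node [] (.node [] (.node [] .nil (.node [] .nil (.node [(113,(.negSucc 0),1)] .nil .nil))) .nil) (.node [] (.node [] .nil (.node [(59,(.ofNat 1),1)] .nil .nil)) (.node [(38,(.ofNat 1),1)] .nil .nil))))))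
noncomputable def ex82 : Trie (List (ℕ × ℤ × ℕ)) := (.node [] (.node [] (.node [] (.node [] (.node [] (.node [] (.node [] .nil (.node [(86,(.negSucc 0),1)] .nil .nil)) .nil) (.node [] (.node [] .nil (.node [(93,(.negSucc 0),1)] .nil .nil)) .nil)) (.node [] (.node [] .nil (.node [(56,(.ofNat 1),1)] .nil (.node [(115,(.negSucc 0),1)] .nil .nil))) (.node [(35,(.ofNat 1),1)] .nil .nil))) (.node [] (.node [] .nil (.node [] .nil (.node [(72,(.ofNat 1),1)] .nil (.node [(127,(.negSucc 0),1)] .nil .nil)))) (.node [(23,(.ofNat 1),1)] .nil (.node [] .nil (.node [(85,(.negSucc 0),1)] .nil .nil))))) (.node [(89,(.ofNat 1),1)] (.node [] (.node [] .nil (.node [] (.node [] .nil (.node [(98,(.negSucc 0),1)] .nil .nil)) (.node [(1,(.ofNat 1),1),(3,(.ofNat 1),1),(4,(.ofNat 1),1),(5,(.ofNat 1),1),(6,(.ofNat 1),1),(89,(.negSucc 0),2)] .nil .nil))) (.node [(20,(.ofNat 1),1)] .nil (.node [] .nil (.node [] .nil (.node [(130,(.negSucc 0),1)] .nil .nil))))) (.node [(89,(.negSucc 0),1)] (.node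 [] (.node [] .nil (.node [] .nil (.node [(112,(.negSucc 0),1)] .nil .nil))) (.node [] .nil (.node [(79,(.ofNat 1),1)] .nil .nil))) (.node [] (.node [] .nil (.node [(59,(.ofNat 1),1)] .nil .nil)) (.node [(38,(.ofNat 1),1)] .nil .nil))))) (.node [(89,(.negSucc 0),1)] (.node [] (.node [] (.node [] .nil (.node [] (.node [] .nil (.node [(96,(.negSucc 0),1)] .nil .nil)) .nil)) (.node [(17,(.ofNat 1),1)] (.node [] .nil (.node [(57,(.ofNat 1),1)] .nil .nil)) (.node [(36,(.ofNat 1),1)] (.node [] .nil (.node [] .nil .nil)) .nil))) (.node [] (.node [] (.node [] (.node [] .nil (.node [(88,(.negSucc 0),1)] .nil .nil)) (.node [] .nil (.node [(109,(.negSucc 0),1)] .nil .nil))) (.node [] .nil (.node [(75,(.ofNat 1),1)] .nil (.node [(128,(.negSucc 0),1)] .nil .nil)))) .nil)) (.node [] (.node [] (.node [] (.node [] (.node [] .nil (.node [(87,(.negSucc 0),1)] .nil .nil)) .nil) (.node [] (.node [] .nil (.node [(99,(.negSucc 0),1)] .nil .nil)) (.node [(70,(.ofNat 1),1)] .nil .nil)))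 (.node [(22,(.ofNat 1),1)] (.node [] .nil (.node [(58,(.ofNat 1),1)] .nil .nil)) (.node [(37,(.ofNat 1),1)] .nil .nil))) (.node [] (.node [] (.node [] .nil (.node [] .nil (.node [(114,(.negSucc 0),1)] .nil .nil))) (.node [] .nil (.node [] .nil (.node [(129,(.negSucc 0),1)] .nil .nil)))) .nil))))
noncomputable def ex83 : Trie (List (ℕ × ℤ × ℕ)) := (.node [(90,(.ofNat 1),1)] (.node [] (.node [] (.node [] (.node [] .nil (.node [] .nil (.node [(66,(.ofNat 1),1)] .nil .nil))) (.node [(14,(.negSucc 0),1)] (.node [] .nil (.node [] .nil (.node [(117,(.ofNat 1),1)] .nil .nil))) .nil)) (.node [(90,(.ofNat 1),1)] (.node [] (.node [] .nil (.node [] .nil (.node [(106,(.ofNat 1),1)] .nil .nil))) .nil) (.node [(25,(.negSucc 0),1)] (.node [] .nil (.node [(61,(.negSucc 0),1)] .nil .nil)) .nil))) (.node [(90,(.negSucc 0),1)] (.node [] (.node [] .nil (.node [] .nil (.node [] .nil (.node [(127,(.ofNat 1),1)] .nil .nil)))) (.node [] (.node [] (.node [] .nil (.node [(92,(.negSucc 0),1)]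 .nil .nil)) .nil) (.node [] (.node [] .nil (.node [] .nil .nil)) (.node [(85,(.ofNat 1),1)] .nil .nil)))) (.node [] (.node [] .nil (.node [(35,(.negSucc 0),1)] .nil (.node [(81,(.negSucc 0),1)] .nil .nil))) (.node [] (.node [] (.node [] .nil (.node [(95,(.ofNat 1),1)] .nil .nil)) (.node [(64,(.ofNat 1),1)] .nil .nil)) .nil)))) (.node [(90,(.negSucc 0),1)] (.node [] (.node [] (.node [] (.node [] .nil (.node [(39,(.negSucc 0),1)] .nil .nil)) (.node [] .nil (.node [(1,(.ofNat 1),1),(2,(.ofNat 1),1),(3,(.ofNat 1),1),(90,(.negSucc 0),2)] .nil (.node [(126,(.ofNat 1),1)] .nil .nil)))) (.node [] (.node [] (.node [] .nil (.node [(91,(.negSucc 0),1)] .nil .nil)) (.node [] .nil (.node [(118,(.ofNat 1),1)] .nil .nil))) .nil)) (.node [] (.node [] .nil (.node [(34,(.negSucc 0),1)] .nil (.node [(80,(.ofNat 1),1)] .nil .nil))) (.node [(26,(.negSucc 0),1)] (.node [] (.node [] .nil (.node [(94,(.ofNat 1),1)] .nil .nil)) (.node [(62,(.negSucc 0),1)] .nil .nil)) (.node [] .nil (.node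 [] .nil (.node [(131,(.ofNat 1),1)] .nil .nil)))))) (.node [] (.node [] (.node [] .nil (.node [] .nil (.node [] .nil (.node [(128,(.ofNat 1),1)] .nil .nil)))) (.node [(24,(.negSucc 0),1)] (.node [] (.node [] .nil (.node [(93,(.negSucc 0),1)] .nil .nil)) (.node [(60,(.negSucc 0),1)] .nil .nil)) (.node [] .nil (.node [(86,(.negSucc 0),1)] .nil .nil)))) (.node [] (.node [] (.node [] .nil (.node [] .nil (.node [(116,(.ofNat 1),1)] .nil .nil))) (.node [(36,(.negSucc 0),1)] .nil .nil)) (.node [] (.node [] (.node [] .nil (.node [(96,(.ofNat 1),1)] .nil .nil)) (.node [(65,(.ofNat 1),1)] .nil .nil)) .nil)))))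
noncomputable def ex84 : Trie (List (ℕ × ℤ × ℕ)) := (.node [(91,(.ofNat 1),1)] (.node [] (.node [] (.node [] (.node [] (.node [] .nil (.node [(39,(.negSucc 0),1)] .nil .nil)) (.node [] .nil (.node [(1,(.ofNat 1),1),(2,(.ofNat 1),1),(3,(.ofNat 1),1),(4,(.ofNat 1),1),(91,(.negSucc 0),2)] .nil (.node [(127,(.negSucc 0),1)] .nil .nil)))) (.node [(15,(.ofNat 1),1)] (.node [] (.node [] .nil (.node [(93,(.negSucc 0),1)] .nil .nil)) (.node [] .nil (.node [(119,(.ofNat 1),1)] .nil .nil))) .nil)) (.node [(91,(.negSucc 0),1)] (.node [] (.node [] .nil (.node [] .nil (.node [(107,(.ofNat 1),1)] .nil .nil))) (.node [(35,(.negSucc 0),1)] .nil (.node [(80,(.ofNat 1),1)] .nil .nil))) (.node [(27,(.ofNat 1),1)] (.node [] (.node [] .nil (.node [(94,(.negSucc 0),1)] .nil .nil)) .nil) (.node [] .nil (.node [] .nil (.node [(131,(.negSucc 0),1)] .nil .nil)))))) (.node [(91,(.negSucc 0),1)] (.node [] (.node [] (.node [] (.node [] .nil (.node [(90,(.negSucc 0),1)] .nil .nil)) .nil) .nil)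 (.node [(24,(.negSucc 0),1)] (.node [] .nil (.node [(61,(.negSucc 0),1)] .nil .nil)) .nil)) (.node [] (.node [] (.node [] .nil (.node [] .nil (.node [(116,(.negSucc 0),1)] .nil .nil))) (.node [] .nil (.node [(82,(.negSucc 0),1)] .nil .nil))) (.node [] (.node [] (.node [] .nil (.node [(97,(.ofNat 1),1)] .nil .nil)) (.node [(67,(.ofNat 1),1)] .nil .nil)) .nil)))) (.node [(91,(.negSucc 0),1)] (.node [] (.node [] (.node [] .nil (.node [] .nil (.node [(73,(.ofNat 1),1)] .nil .nil))) (.node [] (.node [] .nil (.node [(60,(.negSucc 0),1)] .nil (.node [(120,(.ofNat 1),1)] .nil .nil))) (.node [] .nil (.node [(85,(.ofNat 1),1)] .nil .nil)))) (.node [(91,(.ofNat 1),1)] .nil (.node [(28,(.ofNat 1),1)] (.node [] .nil (.node [(63,(.ofNat 1),1)] .nil .nil)) .nil))) (.node [(91,(.ofNat 1),1)] (.node [] (.node [] .nil (.node [(34,(.negSucc 0),1)] .nil (.node [] .nil (.node [(129,(.ofNat 1),1)] .nil .nil)))) (.node [] .nil (.node [] (.node [] .nil (.node [] .nil .nil)) (.node [(87,(.negSucc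 0),1)] .nil .nil)))) (.node [] (.node [] (.node [] (.node [] .nil (.node [(92,(.negSucc 0),1)] .nil .nil)) .nil) (.node [(37,(.ofNat 1),1)] .nil .nil)) (.node [] (.node [] (.node [] .nil (.node [(98,(.ofNat 1),1)] .nil .nil)) (.node [(68,(.ofNat 1),1)] .nil (.node [(126,(.negSucc 0),1)] .nil .nil))) .nil)))))
noncomputable def ex85 : Trie (List (ℕ × ℤ × ℕ)) := (.node [(92,(.ofNat 1),1)] (.node [] (.node [] (.node [] (.node [] .nil (.node [] .nil (.node [(71,(.ofNat 1),1)] .nil (.node [(128,(.negSucc 0),1)] .nil .nil)))) (.node [(16,(.negSucc 0),1)] (.node [] .nil (.node [(60,(.negSucc 0),1)] .nil .nil)) (.node [] .nil (.node [(85,(.ofNat 1),1)] .nil .nil)))) (.node [] (.node [] (.node [] (.node [] .nil (.node [(91,(.negSucc 0),1)] .nil .nil)) (.node [] .nil (.node [(108,(.ofNat 1),1)] .nil .nil))) (.node [(36,(.ofNat 1),1)] .nil .nil)) (.node [] (.node [] (.node [] .nil (.node [(95,(.negSucc 0),1)] .nil .nil)) (.node [(63,(.ofNat 1),1)] .nil .nil)) (.node [] (.node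 [] .nil (.node [] .nil .nil)) .nil)))) (.node [(92,(.negSucc 0),1)] (.node [] (.node [] .nil (.node [(34,(.negSucc 0),1)] .nil (.node [] .nil (.node [(129,(.negSucc 0),1)] .nil .nil)))) (.node [(25,(.ofNat 1),1)] (.node [] .nil (.node [(62,(.ofNat 1),1)] .nil .nil)) .nil)) (.node [(92,(.ofNat 1),1)] (.node [] (.node [] (.node [] .nil (.node [(93,(.negSucc 0),1)] .nil .nil)) (.node [] .nil (.node [(117,(.negSucc 0),1)] .nil .nil))) (.node [(37,(.ofNat 1),1)] .nil (.node [(83,(.negSucc 0),1)] .nil .nil))) (.node [] (.node [] .nil (.node [(69,(.ofNat 1),1)] .nil (.node [(126,(.ofNat 1),1)] .nil .nil))) .nil)))) (.node [(92,(.negSucc 0),1)] (.node [] (.node [] (.node [] (.node [] (.node [] .nil (.node [(90,(.negSucc 0),1)] .nil .nil)) .nil) (.node [] .nil (.node [(74,(.ofNat 1),1)] .nil .nil))) (.node [] (.node [] .nil (.node [] .nil (.node [(121,(.ofNat 1),1)] .nil .nil))) .nil)) (.node [(92,(.negSucc 0),1)] .nil (.node [(29,(.negSucc 0),1)] (.node [] (.node [] .nil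 (.node [(97,(.negSucc 0),1)] .nil .nil)) .nil) .nil))) (.node [(92,(.ofNat 1),1)] (.node [] (.node [] .nil (.node [] .nil (.node [(80,(.ofNat 1),1)] .nil .nil))) (.node [(27,(.ofNat 1),1)] .nil (.node [] .nil (.node [(88,(.negSucc 0),1)] .nil (.node [(131,(.ofNat 1),1)] .nil .nil))))) (.node [] (.node [] (.node [] .nil (.node [] .nil (.node [(119,(.negSucc 0),1)] .nil .nil))) .nil) (.node [] (.node [] (.node [] .nil (.node [(99,(.ofNat 1),1)] .nil .nil)) (.node [(1,(.ofNat 1),1),(2,(.ofNat 1),1),(3,(.ofNat 1),1),(4,(.ofNat 1),1),(5,(.ofNat 1),1),(92,(.negSucc 0),2)] .nil .nil)) (.node [(39,(.negSucc 0),1)] .nil .nil))))))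
noncomputable def ex86 : Trie (List (ℕ × ℤ × ℕ)) := (.node [(93,(.ofNat 1),1)] (.node [] (.node [] (.node [] (.node [] (.node [] (.node [] .nil (.node [(90,(.negSucc 0),1)] .nil .nil)) .nil) (.node [] .nil (.node [(72,(.ofNat 1),1)] .nil .nil))) (.node [(17,(.ofNat 1),1)] (.node [] .nil (.node [(61,(.ofNat 1),1)] .nil (.node [(121,(.negSucc 0),1)] .nil .nil))) .nil)) (.node [] (.node [] (.node [] .nil (.node [] .nil (.node [(109,(.ofNat 1),1)] .nil .nil))) .nil) (.node [(29,(.negSucc 0),1)] (.node [] (.node [] .nil (.node [(96,(.negSucc 0),1)] .nil .nil)) .nil) .nil))) (.node [(93,(.negSucc 0),1)] (.node [] (.node [] .nil (.node [(35,(.ofNat 1),1)] .nil (.node [(80,(.ofNat 1),1)] .nil .nil))) (.node [(26,(.negSucc 0),1)] .nil (.node [] .nil (.node [] .nil (.node [(131,(.negSucc 0),1)] .nil .nil))))) (.node [(93,(.negSucc 0),1)] (.node [] (.node [] .nil (.node [] .nil (.node [(118,(.negSucc 0),1)] .nil .nil))) (.node [] .nil (.node [(84,(.negSucc 0),1)] .nil .nil)))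 (.node [] (.node [] (.node [] .nil (.node [(99,(.negSucc 0),1)] .nil .nil)) (.node [(1,(.ofNat 1),1),(2,(.ofNat 1),1),(3,(.ofNat 1),1),(4,(.ofNat 1),1),(5,(.ofNat 1),1),(6,(.ofNat 1),1),(93,(.negSucc 0),2)] .nil (.node [(127,(.ofNat 1),1)] .nil .nil))) (.node [(39,(.negSucc 0),1)] .nil .nil))))) (.node [(93,(.negSucc 0),1)] (.node [] (.node [] (.node [] .nil (.node [] .nil (.node [(75,(.ofNat 1),1)] .nil (.node [(129,(.ofNat 1),1)] .nil .nil)))) (.node [] (.node [] .nil (.node [(62,(.ofNat 1),1)] .nil .nil)) .nil)) (.node [] (.node [] (.node [] (.node [] .nil (.node [(92,(.negSucc 0),1)] .nil .nil)) .nil) (.node [(37,(.ofNat 1),1)] .nil .nil)) (.node [] (.node [] (.node [] .nil (.node [(98,(.negSucc 0),1)] .nil .nil)) .nil) (.node [] (.node [] .nil (.node [] .nil .nil)) .nil)))) (.node [(93,(.ofNat 1),1)] (.node [] (.node [] (.node [] (.node [] .nil (.node [(91,(.negSucc 0),1)] .nil .nil)) .nil) (.node [(36,(.ofNat 1),1)] .nil .nil)) (.node [(28,(.negSucc 0),1)]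 (.node [] .nil (.node [(63,(.ofNat 1),1)] .nil .nil)) (.node [] .nil (.node [(89,(.negSucc 0),1)] .nil .nil)))) (.node [] (.node [] (.node [] .nil (.node [] .nil (.node [(120,(.negSucc 0),1)] .nil .nil))) (.node [] .nil (.node [(85,(.ofNat 1),1)] .nil .nil))) (.node [] (.node [] .nil (.node [(70,(.ofNat 1),1)] .nil (.node [(128,(.ofNat 1),1)] .nil .nil))) .nil)))))
noncomputable def ex87 : Trie (List (ℕ × ℤ × ℕ)) := (.node [(94,(.ofNat 1),1)] (.node [] (.node [] (.node [] (.node [] .nil (.node [(34,(.negSucc 0),1)] .nil (.node [(76,(.ofNat 1),1)] .nil .nil))) (.node [(18,(.negSucc 0),1)] (.node [] (.node [] .nil (.node [(96,(.negSucc 0),1)] .nil .nil)) (.node [] .nil (.node [(122,(.ofNat 1),1)] .nil .nil))) .nil)) (.node [] (.node [] (.node [] .nil (.node [] .nil (.node [(110,(.ofNat 1),1)] .nil .nil))) (.node [] .nil (.node [(81,(.ofNat 1),1)] .nil .nil))) (.node [(30,(.negSucc 0),1)] (.node [] .nil (.node [(68,(.ofNat 1),1)] .nil (.node [(126,(.ofNat 1),1)] .nil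 .nil))) .nil))) (.node [] (.node [] .nil (.node [] (.node [] (.node [] .nil (.node [(97,(.ofNat 1),1)] .nil .nil)) (.node [(65,(.negSucc 0),1)] .nil .nil)) (.node [] .nil (.node [(87,(.negSucc 0),1)] .nil .nil)))) (.node [] .nil (.node [] .nil (.node [] (.node [] .nil (.node [] .nil .nil)) (.node [(90,(.ofNat 1),1)] .nil .nil)))))) (.node [] (.node [] (.node [] (.node [] .nil (.node [(35,(.negSucc 0),1)] .nil (.node [(77,(.negSucc 0),1)] .nil .nil))) (.node [(24,(.negSucc 0),1)] (.node [] .nil (.node [(64,(.negSucc 0),1)] .nil (.node [(123,(.ofNat 1),1)] .nil .nil))) (.node [] .nil (.node [(86,(.ofNat 1),1)] .nil (.node [(131,(.ofNat 1),1)] .nil .nil))))) (.node [(94,(.ofNat 1),1)] (.node [] (.node [] .nil (.node [] .nil (.node [(116,(.ofNat 1),1)] .nil .nil))) (.node [] .nil (.node [(82,(.negSucc 0),1)] .nil .nil))) (.node [(31,(.negSucc 0),1)] (.node [] .nil (.node [(1,(.ofNat 1),1),(2,(.ofNat 1),1),(3,(.ofNat 2),1),(4,(.ofNat 1),1),(94,(.negSucc 0),2)] .nil (.node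 [(127,(.ofNat 1),1)] .nil .nil))) (.node [(39,(.negSucc 0),1)] .nil .nil)))) (.node [(94,(.negSucc 0),1)] (.node [] (.node [] .nil (.node [] .nil (.node [] .nil (.node [(130,(.ofNat 1),1)] .nil .nil)))) (.node [] (.node [] (.node [] .nil (.node [(98,(.ofNat 1),1)] .nil .nil)) (.node [(67,(.ofNat 1),1)] .nil .nil)) .nil)) (.node [] (.node [] (.node [] (.node [] .nil (.node [(95,(.negSucc 0),1)] .nil .nil)) .nil) (.node [(38,(.negSucc 0),1)] .nil .nil)) (.node [] .nil (.node [] .nil (.node [(91,(.negSucc 0),1)] .nil .nil)))))))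
noncomputable def ex88 : Trie (List (ℕ × ℤ × ℕ)) := (.node [(95,(.ofNat 1),1)] (.node [] (.node [] (.node [] .nil (.node [(19,(.ofNat 1),1)] (.node [] .nil (.node [(64,(.negSucc 0),1)] .nil .nil)) (.node [] .nil (.node [(86,(.ofNat 1),1)] .nil (.node [(131,(.negSucc 0),1)] .nil .nil))))) (.node [(95,(.ofNat 1),1)] (.node [] (.node [] (.node [] .nil (.node [(94,(.negSucc 0),1)] .nil .nil)) (.node [] .nil (.node [(111,(.ofNat 1),1)] .nil .nil))) .nil) (.node [] (.node [] .nil (.node [(1,(.ofNat 1),1),(2,(.ofNat 1),1),(3,(.ofNat 2),1),(4,(.ofNat 1),1),(5,(.ofNat 1),1),(95,(.negSucc 0),2)] .nil .nil)) (.node [(39,(.negSucc 0),1)] .nil .nil)))) (.node [] (.node [] (.node [] .nil (.node [] .nil (.node [] .nil (.node [(130,(.negSucc 0),1)] .nil .nil)))) (.node [] (.node [] .nil (.node [(66,(.ofNat 1),1)] .nil .nil)) (.node [] .nil (.node [(88,(.negSucc 0),1)] .nil .nil)))) (.node [(95,(.ofNat 1),1)] (.node [] (.node [] (.node [] .nil (.node [(96,(.negSucc 0),1)] .nil .nil))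 .nil) (.node [(38,(.negSucc 0),1)] .nil .nil)) .nil))) (.node [] (.node [] (.node [] (.node [] .nil (.node [(36,(.ofNat 1),1)] .nil (.node [(78,(.negSucc 0),1)] .nil .nil))) (.node [(25,(.ofNat 1),1)] (.node [] (.node [] .nil (.node [(97,(.negSucc 0),1)] .nil .nil)) (.node [] .nil (.node [(124,(.ofNat 1),1)] .nil .nil))) .nil)) (.node [(95,(.negSucc 0),1)] (.node [] (.node [] .nil (.node [] .nil (.node [(117,(.ofNat 1),1)] .nil .nil))) (.node [] .nil (.node [(83,(.negSucc 0),1)] .nil .nil))) (.node [(32,(.ofNat 1),1)] (.node [] .nil (.node [(71,(.ofNat 1),1)] .nil (.node [(128,(.ofNat 1),1)] .nil .nil))) (.node [] .nil (.node [(90,(.ofNat 1),1)] .nil .nil))))) (.node [(95,(.negSucc 0),1)] (.node [] (.node [] .nil (.node [] .nil (.node [(81,(.ofNat 1),1)] .nil .nil))) (.node [(30,(.negSucc 0),1)] (.node [] (.node [] .nil (.node [(99,(.ofNat 1),1)] .nil .nil)) (.node [(69,(.ofNat 1),1)] .nil (.node [(126,(.negSucc 0),1)] .nil .nil))) .nil)) (.node [] (.node [] (.node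 [] .nil (.node [] .nil (.node [(122,(.negSucc 0),1)] .nil .nil))) .nil) (.node [(34,(.negSucc 0),1)] (.node [] .nil (.node [(76,(.ofNat 1),1)] .nil .nil)) (.node [] (.node [] .nil (.node [] .nil .nil)) (.node [(92,(.negSucc 0),1)] .nil .nil)))))))
noncomputable def ex89 : Trie (List (ℕ × ℤ × ℕ)) := (.node [(96,(.ofNat 1),1)] (.node [] (.node [] (.node [] (.node [] (.node [] .nil (.node [] .nil (.node [] .nil .nil))) (.node [(36,(.ofNat 1),1)] .nil .nil)) (.node [(20,(.negSucc 0),1)] (.node [] .nil (.node [(65,(.ofNat 1),1)] .nil (.node [(124,(.negSucc 0),1)] .nil .nil))) .nil)) (.node [(96,(.ofNat 1),1)] (.node [] (.node [] .nil (.node [] .nil (.node [(112,(.ofNat 1),1)] .nil .nil))) .nil) (.node [(32,(.ofNat 1),1)] (.node [] .nil (.node [(70,(.ofNat 1),1)] .nil (.node [(128,(.negSucc 0),1)] .nil .nil))) (.node [] .nil (.node [(90,(.ofNat 1),1)] .nil .nil))))) (.node [] (.node [] (.node [] .nil (.node [] .nil (.node [(81,(.ofNat 1),1)] .nil .nil))) (.node [] (.node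 [] (.node [] .nil (.node [(99,(.negSucc 0),1)] .nil .nil)) .nil) (.node [] .nil (.node [(89,(.negSucc 0),1)] .nil .nil)))) (.node [(96,(.negSucc 0),1)] .nil (.node [] (.node [] .nil (.node [(76,(.ofNat 1),1)] .nil .nil)) .nil)))) (.node [] (.node [] (.node [] (.node [] .nil (.node [] .nil (.node [(79,(.negSucc 0),1)] .nil (.node [(130,(.ofNat 1),1)] .nil .nil)))) (.node [(26,(.negSucc 0),1)] (.node [] (.node [] .nil (.node [(98,(.negSucc 0),1)] .nil .nil)) (.node [(66,(.ofNat 1),1)] .nil .nil)) .nil)) (.node [] (.node [] (.node [] (.node [] .nil (.node [(95,(.negSucc 0),1)] .nil .nil)) (.node [] .nil (.node [(118,(.ofNat 1),1)] .nil .nil))) (.node [(38,(.negSucc 0),1)] .nil (.node [(84,(.negSucc 0),1)] .nil .nil))) (.node [] (.node [] .nil (.node [(72,(.ofNat 1),1)] .nil .nil)) .nil))) (.node [(96,(.negSucc 0),1)] (.node [] (.node [] (.node [] (.node [] .nil (.node [(94,(.negSucc 0),1)] .nil .nil)) .nil) .nil) (.node [(31,(.ofNat 1),1)] (.node [] .nil (.node [(1,(.ofNat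 1),1),(2,(.ofNat 1),1),(3,(.ofNat 2),1),(4,(.ofNat 1),1),(5,(.ofNat 1),1),(6,(.ofNat 1),1),(96,(.negSucc 0),2)] .nil (.node [(127,(.negSucc 0),1)] .nil .nil))) (.node [(39,(.negSucc 0),1)] .nil .nil))) (.node [] (.node [] (.node [] .nil (.node [] .nil (.node [(123,(.negSucc 0),1)] .nil .nil))) (.node [] .nil (.node [(86,(.ofNat 1),1)] .nil (.node [(131,(.ofNat 1),1)] .nil .nil)))) (.node [(35,(.ofNat 1),1)] .nil (.node [] .nil (.node [(93,(.negSucc 0),1)] .nil .nil)))))))
noncomputable def ex90 : Trie (List (ℕ × ℤ × ℕ)) := (.node [(97,(.ofNat 1),1)] (.node [] (.node [] (.node [] (.node [] .nil (.node [] .nil (.node [(78,(.negSucc 0),1)] .nil (.node [(130,(.ofNat 1),1)] .nil .nil)))) (.node [(21,(.negSucc 0),1)] (.node [] (.node [] .nil (.node [(99,(.ofNat 1),1)] .nil .nil)) (.node [(67,(.negSucc 0),1)] .nil .nil)) (.node [] .nil (.node [(87,(.ofNat 1),1)] .nil .nil)))) (.node [(97,(.negSucc 0),1)] (.node [] (.node [] .nil (.node [] .nil (.node [(113,(.ofNat 1),1)]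 .nil .nil))) (.node [(38,(.negSucc 0),1)] .nil (.node [(83,(.negSucc 0),1)] .nil .nil))) (.node [] (.node [] .nil (.node [(73,(.ofNat 1),1)] .nil .nil)) .nil))) (.node [] (.node [] (.node [] (.node [] (.node [] .nil (.node [(95,(.negSucc 0),1)] .nil .nil)) .nil) .nil) (.node [(30,(.negSucc 0),1)] (.node [] .nil (.node [(1,(.ofNat 1),1),(2,(.ofNat 1),1),(3,(.ofNat 2),1),(4,(.ofNat 2),1),(5,(.ofNat 1),1),(97,(.negSucc 0),2)] .nil (.node [(126,(.ofNat 1),1)] .nil .nil))) (.node [(39,(.negSucc 0),1)] .nil .nil))) (.node [(97,(.ofNat 1),1)] (.node [] (.node [] (.node [] .nil (.node [(98,(.negSucc 0),1)] .nil .nil)) (.node [] .nil (.node [(122,(.ofNat 1),1)] .nil .nil))) (.node [] .nil (.node [] .nil (.node [(131,(.ofNat 1),1)] .nil .nil)))) (.node [(34,(.negSucc 0),1)] .nil (.node [] .nil (.node [(92,(.negSucc 0),1)] .nil .nil)))))) (.node [] (.node [] (.node [] (.node [] (.node [] (.node [] .nil (.node [(94,(.ofNat 1),1)] .nil .nil)) (.node [] .nil (.node [] .nil .nil)))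 (.node [(37,(.negSucc 0),1)] .nil .nil)) (.node [(27,(.negSucc 0),1)] (.node [] .nil (.node [(69,(.ofNat 1),1)] .nil (.node [(125,(.ofNat 1),1)] .nil .nil))) (.node [] .nil (.node [(88,(.negSucc 0),1)] .nil .nil)))) (.node [] (.node [] (.node [] .nil (.node [] .nil (.node [(119,(.ofNat 1),1)] .nil .nil))) .nil) (.node [(33,(.negSucc 0),1)] (.node [] .nil (.node [(74,(.negSucc 0),1)] .nil (.node [(129,(.ofNat 1),1)] .nil .nil))) (.node [] .nil (.node [(91,(.ofNat 1),1)] .nil .nil))))) (.node [] (.node [] (.node [] .nil (.node [] .nil (.node [(82,(.ofNat 1),1)] .nil .nil))) .nil) (.node [] .nil (.node [] (.node [] .nil (.node [(77,(.ofNat 1),1)] .nil .nil)) .nil)))))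
noncomputable def ex91 : Trie (List (ℕ × ℤ × ℕ)) := (.node [(98,(.ofNat 1),1)] (.node [] (.node [] (.node [] (.node [] (.node [] (.node [] .nil (.node [(94,(.ofNat 1),1)] .nil .nil)) .nil) (.node [(37,(.negSucc 0),1)] .nil (.node [(79,(.negSucc 0),1)] .nil .nil))) (.node [(22,(.ofNat 1),1)] (.node [] .nil (.node [(68,(.ofNat 1),1)] .nil (.node [(125,(.negSucc 0),1)] .nil .nil))) .nil)) (.node [(98,(.negSucc 0),1)] (.node [] (.node [] .nil (.node [] .nil (.node [(114,(.ofNat 1),1)] .nil .nil))) (.node [] .nil (.node [(84,(.negSucc 0),1)] .nil .nil))) (.node [(33,(.negSucc 0),1)] (.node [] .nil (.node [] .nil (.node [(129,(.negSucc 0),1)] .nil .nil))) (.node [] .nil (.node [(91,(.ofNat 1),1)] .nil .nil))))) (.node [] (.node [] (.node [] (.node [] (.node [] .nil (.node [(96,(.negSucc 0),1)] .nil .nil)) (.node [] .nil (.node [] .nil .nil))) (.node [] .nil (.node [(82,(.ofNat 1),1)] .nil .nil))) (.node [(31,(.ofNat 1),1)] (.node [] .nil (.node [(70,(.ofNat 1),1)] .nil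 (.node [(127,(.ofNat 1),1)] .nil .nil))) .nil)) (.node [(98,(.negSucc 0),1)] (.node [] (.node [] .nil (.node [] .nil (.node [(123,(.ofNat 1),1)] .nil .nil))) .nil) (.node [(35,(.ofNat 1),1)] (.node [] .nil (.node [(77,(.ofNat 1),1)] .nil .nil)) (.node [] .nil (.node [(93,(.negSucc 0),1)] .nil .nil)))))) (.node [] (.node [] (.node [] .nil (.node [(28,(.ofNat 1),1)] (.node [] .nil (.node [(1,(.ofNat 1),1),(2,(.ofNat 1),1),(3,(.ofNat 2),1),(4,(.ofNat 2),1),(5,(.ofNat 1),1),(6,(.ofNat 1),1),(98,(.negSucc 0),2)] .nil .nil)) (.node [(39,(.negSucc 0),1)] .nil (.node [(89,(.negSucc 0),1)] .nil .nil)))) (.node [(98,(.ofNat 1),1)] (.node [] (.node [] (.node [] .nil (.node [(97,(.negSucc 0),1)] .nil .nil)) (.node [] .nil (.node [(120,(.ofNat 1),1)] .nil .nil))) (.node [] .nil (.node [] .nil (.node [(131,(.negSucc 0),1)] .nil .nil)))) (.node [] (.node [] .nil (.node [(75,(.negSucc 0),1)] .nil .nil)) .nil))) (.node [] (.node [] (.node [] .nil (.node [(38,(.negSucc 0),1)] .nil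 .nil)) (.node [] (.node [] .nil (.node [(73,(.ofNat 1),1)] .nil .nil)) .nil)) (.node [] (.node [] (.node [] (.node [] .nil (.node [(99,(.negSucc 0),1)] .nil .nil)) .nil) (.node [] .nil (.node [(87,(.ofNat 1),1)] .nil .nil))) (.node [] (.node [] .nil (.node [] .nil (.node [(130,(.negSucc 0),1)] .nil .nil))) .nil)))))
noncomputable def ex92 : Trie (List (ℕ × ℤ × ℕ)) := (.node [(99,(.ofNat 1),1)] (.node [] (.node [] (.node [] (.node [] (.node [] (.node [] .nil (.node [(95,(.ofNat 1),1)] .nil .nil)) .nil) .nil) (.node [(23,(.negSucc 0),1)] (.node [] .nil (.node [(1,(.ofNat 1),1),(2,(.ofNat 1),1),(3,(.ofNat 2),1),(4,(.ofNat 2),1),(5,(.ofNat 2),1),(6,(.ofNat 1),1),(99,(.negSucc 0),2)] .nil .nil)) (.node [(39,(.negSucc 0),1)] .nil (.node [(89,(.negSucc 0),1)] .nil .nil)))) (.node [] (.node [] (.node [] (.node [] .nil (.node [(98,(.negSucc 0),1)] .nil .nil)) (.node [] .nil (.node [(115,(.ofNat 1),1)] .nil .nil))) (.node [] .nil (.node [] .nil (.node [(131,(.ofNat 1),1)]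 .nil .nil)))) (.node [] (.node [] .nil (.node [(75,(.negSucc 0),1)] .nil .nil)) (.node [] .nil (.node [(92,(.ofNat 1),1)] .nil .nil))))) (.node [] (.node [] (.node [] .nil (.node [(38,(.negSucc 0),1)] .nil (.node [(83,(.ofNat 1),1)] .nil .nil))) (.node [(32,(.negSucc 0),1)] (.node [] .nil (.node [(72,(.negSucc 0),1)] .nil (.node [(128,(.ofNat 1),1)] .nil .nil))) .nil)) (.node [] (.node [] (.node [] .nil (.node [] .nil (.node [(124,(.ofNat 1),1)] .nil .nil))) .nil) (.node [(36,(.negSucc 0),1)] (.node [] .nil (.node [(78,(.ofNat 1),1)] .nil (.node [(130,(.ofNat 1),1)] .nil .nil))) .nil)))) (.node [] (.node [] (.node [] (.node [] (.node [] (.node [] .nil (.node [(96,(.negSucc 0),1)] .nil .nil)) .nil) .nil) (.node [(29,(.negSucc 0),1)] (.node [] .nil (.node [(71,(.ofNat 1),1)] .nil .nil)) .nil)) (.node [(99,(.negSucc 0),1)] (.node [] (.node [] .nil (.node [] .nil (.node [(121,(.ofNat 1),1)] .nil .nil))) .nil) (.node [] .nil (.node [] .nil (.node [(93,(.negSucc 0),1)]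 .nil .nil))))) (.node [] (.node [] (.node [] (.node [] (.node [] .nil (.node [(97,(.ofNat 1),1)] .nil .nil)) (.node [] .nil (.node [] .nil .nil))) (.node [] .nil (.node [(84,(.negSucc 0),1)] .nil .nil))) (.node [(33,(.negSucc 0),1)] (.node [] .nil (.node [(74,(.ofNat 1),1)] .nil (.node [(129,(.ofNat 1),1)] .nil .nil))) .nil)) (.node [] (.node [] (.node [] .nil (.node [] .nil (.node [(125,(.ofNat 1),1)] .nil .nil))) (.node [] .nil (.node [(88,(.ofNat 1),1)] .nil .nil))) (.node [(37,(.negSucc 0),1)] (.node [] .nil (.node [(79,(.negSucc 0),1)] .nil .nil)) .nil)))))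
noncomputable def ex93 : Trie (List (ℕ × ℤ × ℕ)) := (.node [(100,(.negSucc 1),1)] (.node [] (.node [] (.node [] (.node [] (.node [] .nil (.node [(48,(.ofNat 1),1)] .nil (.node [(112,(.negSucc 0),1)] .nil .nil))) (.node [] (.node [] .nil (.node [(101,(.negSucc 0),1)] .nil .nil)) .nil)) (.node [] .nil (.node [(40,(.ofNat 1),1)] .nil .nil))) (.node [] (.node [] (.node [] .nil (.node [(57,(.ofNat 1),1)] .nil (.node [] .nil .nil))) (.node [] (.node [] .nil (.node [(105,(.negSucc 0),1)] .nil .nil)) .nil)) (.node [] .nil (.node [(44,(.ofNat 1),1)] (.node [] .nil (.node [(108,(.negSucc 0),1)] .nil .nil)) .nil)))) (.node [(100,(.ofNat 1),1)] (.node [] (.node [] (.node [] .nil (.node [(55,(.ofNat 1),1)] .nil (.node [(114,(.negSucc 0),1)] .nil .nil))) (.node [] (.node [] .nil (.node [(103,(.negSucc 0),1)] .nil .nil)) .nil)) (.node [] .nil (.node [(42,(.ofNat 1),1)] (.node [] .nil (.node [(106,(.negSucc 0),1)] .nil .nil)) .nil))) (.node [] (.node [] (.node [] .nil (.node [(59,(.ofNat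 1),1)] .nil .nil)) .nil) (.node [] .nil (.node [(46,(.ofNat 1),1)] (.node [] .nil (.node [(110,(.negSucc 0),1)] .nil .nil)) .nil))))) (.node [] (.node [] (.node [] (.node [] (.node [] .nil (.node [(49,(.ofNat 1),1)] .nil (.node [(113,(.negSucc 0),1)] .nil .nil))) (.node [] (.node [] .nil (.node [(102,(.negSucc 0),1)] .nil .nil)) .nil)) (.node [] .nil (.node [(41,(.ofNat 1),1)] .nil .nil))) (.node [] (.node [] (.node [] .nil (.node [(58,(.ofNat 1),1)] .nil .nil)) .nil) (.node [] .nil (.node [(45,(.ofNat 1),1)] (.node [] .nil (.node [(109,(.negSucc 0),1)] .nil .nil)) .nil)))) (.node [] (.node [] (.node [] (.node [] (.node [] (.node [] .nil (.node [(132,(.ofNat 1),1)] .nil .nil)) .nil) (.node [(56,(.ofNat 1),1)] .nil (.node [(115,(.negSucc 0),1)] .nil .nil))) (.node [] (.node [] .nil (.node [(104,(.negSucc 0),1)] .nil .nil)) .nil)) (.node [] .nil (.node [(43,(.ofNat 1),1)] (.node [] .nil (.node [(107,(.negSucc 0),1)] .nil .nil)) .nil))) (.node [(8,(.negSucc 0),1)]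 (.node [] (.node [] .nil (.node [(0,(.ofNat 1),1),(100,(.negSucc 0),2)] .nil .nil)) .nil) (.node [] .nil (.node [(47,(.ofNat 1),1)] (.node [] .nil (.node [(111,(.negSucc 0),1)] .nil .nil)) .nil))))))
noncomputable def ex94 : Trie (List (ℕ × ℤ × ℕ)) := (.node [(101,(.negSucc 0),1)] (.node [] (.node [] (.node [] (.node [] (.node [] .nil (.node [(52,(.negSucc 0),1)] .nil (.node [(118,(.negSucc 0),1)] .nil .nil))) .nil) (.node [] .nil (.node [] (.node [] .nil (.node [(108,(.ofNat 1),1)] .nil .nil)) .nil))) (.node [] (.node [] (.node [] .nil (.node [(62,(.ofNat 1),1)] .nil .nil)) (.node [(42,(.ofNat 1),1)] .nil .nil)) (.node [] (.node [] (.node [] .nil (.node [(102,(.negSucc 0),1)] .nil .nil)) .nil) .nil))) (.node [(101,(.negSucc 0),1)] (.node [] (.node [] (.node [] (.node [] (.node [] .nil (.node [(132,(.negSucc 0),1)] .nil .nil)) .nil) (.node [(60,(.ofNat 1),1)] .nil (.node [(120,(.negSucc 0),1)] .nil .nil))) (.node [(40,(.ofNat 1),1)] .nil .nil)) .nil) (.node [] (.node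 [] (.node [] .nil (.node [(0,(.ofNat 1),1),(2,(.ofNat 1),1),(101,(.negSucc 0),2)] .nil .nil)) (.node [(44,(.ofNat 1),1)] (.node [] .nil (.node [(106,(.ofNat 1),1)] .nil .nil)) .nil)) (.node [] (.node [] (.node [] .nil (.node [(104,(.negSucc 0),1)] .nil .nil)) .nil) (.node [(50,(.negSucc 0),1)] (.node [] .nil (.node [(116,(.negSucc 0),1)] .nil .nil)) .nil))))) (.node [] (.node [] (.node [] (.node [] (.node [] .nil (.node [(53,(.negSucc 0),1)] .nil (.node [(119,(.negSucc 0),1)] .nil .nil))) .nil) (.node [] .nil (.node [] (.node [] .nil (.node [(109,(.ofNat 1),1)] .nil .nil)) .nil))) (.node [] (.node [] (.node [] .nil (.node [(63,(.ofNat 1),1)] .nil (.node [] .nil .nil))) (.node [(43,(.ofNat 1),1)] .nil .nil)) (.node [] (.node [] (.node [] .nil (.node [(103,(.negSucc 0),1)] .nil .nil)) .nil) .nil))) (.node [(101,(.ofNat 1),1)] (.node [] (.node [] (.node [] .nil (.node [(61,(.ofNat 1),1)] .nil (.node [(121,(.negSucc 0),1)] .nil .nil))) (.node [(41,(.ofNat 1),1)] .nil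 .nil)) (.node [] .nil (.node [] .nil (.node [(100,(.negSucc 0),1)] .nil .nil)))) (.node [(9,(.ofNat 1),1)] (.node [] (.node [] .nil (.node [(80,(.ofNat 1),1)] .nil .nil)) (.node [(45,(.ofNat 1),1)] (.node [] .nil (.node [(107,(.ofNat 1),1)] .nil .nil)) .nil)) (.node [] (.node [] (.node [] .nil (.node [(105,(.negSucc 0),1)] .nil .nil)) .nil) (.node [(51,(.negSucc 0),1)] (.node [] .nil (.node [(117,(.negSucc 0),1)] .nil .nil)) .nil))))))
noncomputable def ex95 : Trie (List (ℕ × ℤ × ℕ)) := (.node [(102,(.negSucc 0),1)] (.node [] (.node [] (.node [] (.node [] .nil (.node [(41,(.ofNat 1),1)] .nil .nil)) (.node [] .nil (.node [] (.node [] .nil (.node [(111,(.ofNat 1),1)] .nil .nil)) .nil))) (.node [(102,(.ofNat 1),1)] (.node [] (.node [] .nil (.node [(66,(.ofNat 1),1)] .nil .nil)) .nil) (.node [] .nil (.node [(51,(.negSucc 0),1)] (.node [] .nil (.node [(117,(.ofNat 1),1)] .nil .nil)) .nil)))) (.node [] (.node [] (.node [] (.node [] .nil (.node [(64,(.ofNat 1),1)] .nil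 (.node [(123,(.negSucc 0),1)] .nil .nil))) .nil) (.node [] (.node [] (.node [] .nil (.node [(104,(.negSucc 0),1)] .nil .nil)) .nil) (.node [] .nil (.node [(100,(.negSucc 0),1)] .nil .nil)))) (.node [] (.node [] (.node [] .nil (.node [(76,(.ofNat 1),1)] .nil (.node [] .nil .nil))) (.node [(47,(.negSucc 0),1)] .nil .nil)) .nil))) (.node [(102,(.ofNat 1),1)] (.node [] (.node [] (.node [] (.node [] (.node [] (.node [] .nil (.node [(132,(.ofNat 1),1)] .nil .nil)) .nil) (.node [(54,(.ofNat 1),1)] .nil (.node [(122,(.negSucc 0),1)] .nil .nil))) (.node [(42,(.ofNat 1),1)] .nil .nil)) (.node [] (.node [] (.node [] .nil (.node [(103,(.negSucc 0),1)] .nil .nil)) .nil) (.node [] (.node [] .nil (.node [(112,(.ofNat 1),1)] .nil .nil)) .nil))) (.node [] (.node [] (.node [] .nil (.node [(0,(.ofNat 1),1),(2,(.ofNat 1),1),(3,(.ofNat 1),1),(102,(.negSucc 0),2)] .nil .nil)) (.node [(46,(.negSucc 0),1)] (.node [] .nil (.node [(106,(.negSucc 0),1)] .nil .nil)) .nil)) (.node [] .nil (.node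 [(52,(.negSucc 0),1)] (.node [] .nil (.node [(118,(.ofNat 1),1)] .nil .nil)) .nil)))) (.node [(102,(.negSucc 0),1)] (.node [] (.node [] (.node [] .nil (.node [(65,(.ofNat 1),1)] .nil (.node [(124,(.negSucc 0),1)] .nil .nil))) .nil) (.node [] (.node [] (.node [] .nil (.node [(105,(.negSucc 0),1)] .nil .nil)) .nil) (.node [(50,(.negSucc 0),1)] (.node [] .nil (.node [(116,(.ofNat 1),1)] .nil .nil)) .nil))) (.node [(10,(.negSucc 0),1)] (.node [] (.node [] .nil (.node [(81,(.ofNat 1),1)] .nil .nil)) (.node [(48,(.negSucc 0),1)] (.node [] .nil (.node [(110,(.ofNat 1),1)] .nil .nil)) .nil)) (.node [(40,(.ofNat 1),1)] .nil (.node [] .nil (.node [(101,(.negSucc 0),1)] .nil .nil)))))))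
noncomputable def ex96 : Trie (List (ℕ × ℤ × ℕ)) := (.node [(103,(.negSucc 0),1)] (.node [] (.node [] (.node [] (.node [] (.node [] (.node [] (.node [] .nil (.node [(132,(.negSucc 0),1)] .nil .nil)) .nil) (.node [(54,(.ofNat 1),1)] .nil (.node [(123,(.ofNat 1),1)] .nil .nil))) (.node [(43,(.negSucc 0),1)] .nil .nil)) (.node [] (.node [] (.node [] .nil (.node [(105,(.negSucc 0),1)] .nil .nil)) .nil) (.node [] (.node [] .nil (.node [(113,(.ofNat 1),1)] .nil .nil)) .nil))) (.node [(103,(.negSucc 0),1)] (.node [] (.node [] .nil (.node [(0,(.ofNat 1),1),(2,(.ofNat 1),1),(3,(.ofNat 1),1),(4,(.ofNat 1),1),(103,(.negSucc 0),2)] .nil .nil)) (.node [(47,(.negSucc 0),1)] .nil .nil)) (.node [] .nil (.node [] (.node [] .nil (.node [(119,(.ofNat 1),1)] .nil .nil)) .nil)))) (.node [] (.node [] (.node [] (.node [] (.node [] .nil (.node [(102,(.negSucc 0),1)] .nil .nil)) (.node [(67,(.ofNat 1),1)] .nil .nil)) .nil) (.node [] .nil (.node [(51,(.negSucc 0),1)] (.node [] .nil (.node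 [(116,(.negSucc 0),1)] .nil .nil)) .nil))) (.node [] (.node [] (.node [] .nil (.node [(77,(.ofNat 1),1)] .nil .nil)) (.node [] (.node [] .nil (.node [(110,(.negSucc 0),1)] .nil .nil)) .nil)) (.node [(40,(.ofNat 1),1)] .nil (.node [] .nil (.node [(101,(.negSucc 0),1)] .nil .nil)))))) (.node [(103,(.ofNat 1),1)] (.node [] (.node [] (.node [] .nil (.node [(44,(.negSucc 0),1)] .nil .nil)) (.node [] .nil (.node [(50,(.negSucc 0),1)] (.node [] .nil (.node [(114,(.ofNat 1),1)] .nil .nil)) (.node [(100,(.negSucc 0),1)] .nil .nil)))) (.node [(103,(.ofNat 1),1)] (.node [] (.node [] .nil (.node [(73,(.ofNat 1),1)] .nil .nil)) (.node [] (.node [] .nil (.node [(107,(.negSucc 0),1)] .nil .nil)) .nil)) (.node [] .nil (.node [(53,(.ofNat 1),1)] (.node [] .nil (.node [(120,(.ofNat 1),1)] .nil .nil)) .nil)))) (.node [] (.node [] (.node [] (.node [] .nil (.node [(68,(.ofNat 1),1)] .nil (.node [(125,(.negSucc 0),1)] .nil .nil))) (.node [(46,(.negSucc 0),1)] .nil .nil)) .nil) (.node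 [(11,(.ofNat 1),1)] (.node [] (.node [] (.node [] .nil (.node [(104,(.negSucc 0),1)] .nil .nil)) (.node [(82,(.ofNat 1),1)] .nil (.node [] .nil .nil))) (.node [(49,(.ofNat 1),1)] .nil .nil)) (.node [] .nil (.node [] (.node [] .nil (.node [(122,(.ofNat 1),1)] .nil .nil)) .nil))))))
noncomputable def ex97 : Trie (List (ℕ × ℤ × ℕ)) := (.node [(104,(.negSucc 0),1)] (.node [] (.node [] (.node [] (.node [] (.node [] .nil (.node [] .nil (.node [(124,(.ofNat 1),1)] .nil .nil))) .nil) (.node [] (.node [] .nil (.node [] .nil (.node [] .nil .nil))) (.node [(50,(.negSucc 0),1)] .nil (.node [(100,(.negSucc 0),1)] .nil .nil)))) (.node [] (.node [] (.node [] (.node [] .nil (.node [(103,(.negSucc 0),1)] .nil .nil)) (.node [(71,(.ofNat 1),1)] .nil .nil)) (.node [(48,(.ofNat 1),1)] .nil .nil)) (.node [] .nil (.node [(53,(.ofNat 1),1)] .nil .nil)))) (.node [] (.node [] (.node [] (.node [] .nil (.node [(69,(.ofNat 1),1)] .nil (.node [(125,(.ofNat 1),1)] .nil .nil))) (.node [(46,(.negSucc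 0),1)] .nil .nil)) (.node [] .nil (.node [(52,(.ofNat 1),1)] (.node [] .nil (.node [(117,(.negSucc 0),1)] .nil .nil)) .nil))) (.node [(104,(.ofNat 1),1)] (.node [] (.node [] (.node [] .nil (.node [(105,(.negSucc 0),1)] .nil .nil)) (.node [(78,(.ofNat 1),1)] .nil .nil)) (.node [(49,(.ofNat 1),1)] (.node [] .nil (.node [(111,(.negSucc 0),1)] .nil .nil)) .nil)) (.node [(41,(.negSucc 0),1)] .nil (.node [] (.node [] .nil (.node [(122,(.negSucc 0),1)] .nil .nil)) .nil))))) (.node [(104,(.ofNat 1),1)] (.node [] (.node [] (.node [] (.node [] (.node [] .nil (.node [(102,(.negSucc 0),1)] .nil .nil)) .nil) (.node [(45,(.ofNat 1),1)] .nil .nil)) (.node [] .nil (.node [] (.node [] .nil (.node [(115,(.ofNat 1),1)] .nil .nil)) .nil))) (.node [(104,(.negSucc 0),1)] (.node [] (.node [] .nil (.node [(74,(.ofNat 1),1)] .nil .nil)) (.node [] (.node [] .nil (.node [(108,(.negSucc 0),1)] .nil .nil)) .nil)) (.node [] .nil (.node [] (.node [] .nil (.node [(121,(.ofNat 1),1)] .nil .nil))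 (.node [(101,(.negSucc 0),1)] .nil .nil))))) (.node [] (.node [] (.node [] (.node [] .nil (.node [(0,(.ofNat 1),1),(2,(.ofNat 1),1),(3,(.ofNat 1),1),(4,(.ofNat 1),1),(5,(.ofNat 1),1),(104,(.negSucc 0),2)] .nil .nil)) .nil) (.node [] .nil (.node [] (.node [] .nil (.node [(119,(.negSucc 0),1)] .nil .nil)) .nil))) (.node [(12,(.negSucc 0),1)] (.node [] (.node [] .nil (.node [(83,(.ofNat 1),1)] .nil .nil)) (.node [] (.node [] .nil (.node [(113,(.negSucc 0),1)] .nil .nil)) .nil)) (.node [(43,(.negSucc 0),1)] .nil (.node [(54,(.ofNat 1),1)] .nil (.node [] .nil (.node [(132,(.ofNat 1),1)] .nil .nil))))))))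
noncomputable def ex98 : Trie (List (ℕ × ℤ × ℕ)) := (.node [(105,(.negSucc 0),1)] (.node [] (.node [] (.node [] (.node [] (.node [] (.node [] .nil (.node [(102,(.negSucc 0),1)] .nil .nil)) .nil) (.node [(45,(.ofNat 1),1)] .nil .nil)) (.node [] .nil (.node [(51,(.ofNat 1),1)] (.node [] .nil (.node [(115,(.negSucc 0),1)] .nil .nil)) .nil))) (.node [] (.node [] (.node [] .nil (.node [(72,(.ofNat 1),1)] .nil .nil)) .nil) (.node [] .nil (.node [] (.node [] .nil (.node [(121,(.negSucc 0),1)] .nil .nil)) (.node [(101,(.negSucc 0),1)] .nil .nil))))) (.node [] (.node [] (.node [] (.node [] .nil (.node [(0,(.ofNat 1),1),(2,(.ofNat 1),1),(3,(.ofNat 1),1),(4,(.ofNat 1),1),(5,(.ofNat 1),1),(6,(.ofNat 1),1),(105,(.negSucc 0),2)] .nil .nil)) (.node [(47,(.ofNat 1),1)] .nil .nil)) (.node [] .nil (.node [] (.node [] .nil (.node [(118,(.negSucc 0),1)] .nil .nil)) .nil))) (.node [(105,(.negSucc 0),1)] (.node [] (.node [] .nil (.node [(79,(.ofNat 1),1)] .nil .nil)) (.node [] (.node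 [] .nil (.node [(112,(.negSucc 0),1)] .nil .nil)) .nil)) (.node [(42,(.ofNat 1),1)] .nil (.node [(54,(.ofNat 1),1)] (.node [] .nil (.node [(123,(.negSucc 0),1)] .nil .nil)) (.node [] .nil (.node [(132,(.negSucc 0),1)] .nil .nil))))))) (.node [(105,(.ofNat 1),1)] (.node [] (.node [] (.node [] (.node [] .nil (.node [] .nil (.node [(125,(.negSucc 0),1)] .nil .nil))) .nil) (.node [] (.node [] .nil (.node [] .nil (.node [] .nil .nil))) (.node [(52,(.ofNat 1),1)] .nil .nil))) (.node [] (.node [] (.node [] (.node [] .nil (.node [(104,(.negSucc 0),1)] .nil .nil)) (.node [(75,(.ofNat 1),1)] .nil .nil)) (.node [(49,(.ofNat 1),1)] (.node [] .nil (.node [(109,(.negSucc 0),1)] .nil .nil)) .nil)) .nil)) (.node [] (.node [] (.node [] (.node [] (.node [] .nil (.node [(103,(.negSucc 0),1)] .nil .nil)) (.node [(70,(.ofNat 1),1)] .nil .nil)) (.node [(48,(.ofNat 1),1)] .nil .nil)) (.node [] .nil (.node [(53,(.ofNat 1),1)] (.node [] .nil (.node [(120,(.negSucc 0),1)] .nil .nil)) .nil)))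 (.node [(13,(.ofNat 1),1)] (.node [] (.node [] .nil (.node [(84,(.ofNat 1),1)] .nil .nil)) (.node [] (.node [] .nil (.node [(114,(.negSucc 0),1)] .nil .nil)) (.node [(100,(.negSucc 0),1)] .nil .nil))) (.node [(44,(.ofNat 1),1)] .nil (.node [] (.node [] .nil (.node [(124,(.negSucc 0),1)] .nil .nil)) .nil))))))
noncomputable def ex99 : Trie (List (ℕ × ℤ × ℕ)) := (.node [(106,(.negSucc 0),1)] (.node [] (.node [] (.node [] (.node [] (.node [] .nil (.node [(66,(.ofNat 1),1)] .nil .nil)) .nil) .nil) (.node [(106,(.ofNat 1),1)] (.node [] .nil (.node [] (.node [] .nil (.node [(118,(.negSucc 0),1)] .nil .nil)) .nil)) (.node [(41,(.ofNat 1),1)] .nil (.node [(61,(.negSucc 0),1)] .nil .nil)))) (.node [] (.node [] (.node [] (.node [] .nil (.node [] .nil (.node [(127,(.negSucc 0),1)] .nil .nil))) (.node [] (.node [] .nil (.node [(116,(.negSucc 0),1)] .nil .nil)) .nil)) (.node [] (.node [] (.node [] .nil (.node [(108,(.negSucc 0),1)] .nil .nil)) (.node [] .nil (.node [] .nil .nil)))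 .nil)) (.node [] (.node [] (.node [] .nil (.node [(86,(.negSucc 0),1)] .nil .nil)) (.node [(56,(.ofNat 1),1)] .nil (.node [(102,(.negSucc 0),1)] .nil .nil))) (.node [] (.node [] (.node [] .nil (.node [(111,(.ofNat 1),1)] .nil .nil)) .nil) (.node [(64,(.ofNat 1),1)] .nil .nil))))) (.node [(106,(.negSucc 0),1)] (.node [] (.node [] (.node [] (.node [] .nil (.node [(0,(.ofNat 1),1),(1,(.ofNat 1),1),(2,(.ofNat 1),1),(3,(.ofNat 1),1),(106,(.negSucc 0),2)] .nil (.node [(126,(.negSucc 0),1)] .nil .nil))) (.node [] .nil (.node [(100,(.negSucc 0),1)] .nil .nil))) (.node [] (.node [] (.node [] .nil (.node [(107,(.negSucc 0),1)] .nil .nil)) .nil) .nil)) (.node [] (.node [] (.node [] .nil (.node [(85,(.ofNat 1),1)] .nil .nil)) (.node [(55,(.ofNat 1),1)] .nil (.node [(101,(.ofNat 1),1)] .nil .nil))) (.node [(42,(.ofNat 1),1)] (.node [] (.node [] .nil (.node [(110,(.ofNat 1),1)] .nil .nil)) .nil) (.node [(62,(.negSucc 0),1)] .nil (.node [] .nil (.node [(132,(.negSucc 0),1)] .nil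 .nil)))))) (.node [] (.node [] (.node [] (.node [] .nil (.node [] .nil (.node [(128,(.negSucc 0),1)] .nil .nil))) (.node [] (.node [] .nil (.node [(117,(.negSucc 0),1)] .nil .nil)) .nil)) (.node [(40,(.ofNat 1),1)] (.node [] (.node [] .nil (.node [(109,(.negSucc 0),1)] .nil .nil)) .nil) (.node [(60,(.negSucc 0),1)] .nil .nil))) (.node [(14,(.ofNat 1),1)] (.node [] (.node [] .nil (.node [(90,(.ofNat 1),1)] .nil .nil)) (.node [(57,(.ofNat 1),1)] .nil .nil)) (.node [] (.node [] (.node [] .nil (.node [(112,(.ofNat 1),1)] .nil .nil)) .nil) (.node [(65,(.ofNat 1),1)] .nil .nil))))))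
noncomputable def ex100 : Trie (List (ℕ × ℤ × ℕ)) := (.node [(107,(.negSucc 0),1)] (.node [] (.node [] (.node [] (.node [] (.node [] .nil (.node [(0,(.ofNat 1),1),(1,(.ofNat 1),1),(2,(.ofNat 1),1),(3,(.ofNat 1),1),(4,(.ofNat 1),1),(107,(.negSucc 0),2)] .nil (.node [(127,(.ofNat 1),1)] .nil .nil))) (.node [] .nil (.node [(100,(.negSucc 0),1)] .nil .nil))) (.node [] (.node [] (.node [] .nil (.node [(109,(.negSucc 0),1)] .nil .nil)) .nil) .nil)) (.node [(107,(.negSucc 0),1)] (.node [] (.node [] .nil (.node [(85,(.ofNat 1),1)] .nil .nil)) (.node [(56,(.ofNat 1),1)] (.node [] .nil (.node [(120,(.negSucc 0),1)] .nil .nil)) (.node [(101,(.ofNat 1),1)] .nil .nil))) (.node [(43,(.negSucc 0),1)] (.node [] (.node [] .nil (.node [(110,(.negSucc 0),1)] .nil .nil)) .nil) (.node [] .nil (.node [] .nil (.node [(132,(.ofNat 1),1)] .nil .nil)))))) (.node [] (.node [] (.node [] (.node [] (.node [] .nil (.node [(106,(.negSucc 0),1)] .nil .nil)) .nil) .nil) (.node [(40,(.ofNat 1),1)]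 .nil (.node [(61,(.negSucc 0),1)] .nil .nil))) (.node [] (.node [] (.node [] .nil (.node [(87,(.negSucc 0),1)] .nil .nil)) (.node [] .nil (.node [(103,(.negSucc 0),1)] .nil .nil))) (.node [] (.node [] (.node [] .nil (.node [(113,(.ofNat 1),1)] .nil .nil)) .nil) (.node [(67,(.ofNat 1),1)] .nil .nil))))) (.node [(107,(.negSucc 0),1)] (.node [] (.node [] (.node [] (.node [] .nil (.node [(73,(.ofNat 1),1)] .nil .nil)) (.node [] (.node [] .nil (.node [(116,(.ofNat 1),1)] .nil .nil)) .nil)) (.node [] .nil (.node [(60,(.negSucc 0),1)] .nil .nil))) (.node [(107,(.ofNat 1),1)] .nil (.node [(44,(.negSucc 0),1)] .nil (.node [(63,(.ofNat 1),1)] .nil .nil)))) (.node [(107,(.ofNat 1),1)] (.node [] (.node [] (.node [] .nil (.node [] .nil (.node [(129,(.negSucc 0),1)] .nil .nil))) (.node [(55,(.ofNat 1),1)] (.node [] .nil (.node [(119,(.negSucc 0),1)] .nil .nil)) .nil)) (.node [] (.node [] .nil (.node [] .nil (.node [] .nil .nil))) .nil)) (.node [(15,(.negSucc 0),1)] (.node []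 (.node [] (.node [] .nil (.node [(108,(.negSucc 0),1)] .nil .nil)) (.node [(91,(.ofNat 1),1)] .nil .nil)) (.node [(58,(.negSucc 0),1)] .nil .nil)) (.node [] (.node [] (.node [] .nil (.node [(114,(.ofNat 1),1)] .nil .nil)) .nil) (.node [(68,(.ofNat 1),1)] (.node [] .nil (.node [(126,(.ofNat 1),1)] .nil .nil)) .nil))))))
noncomputable def ex101 : Trie (List (ℕ × ℤ × ℕ)) := (.node [(108,(.negSucc 0),1)] (.node [] (.node [] (.node [] (.node [] (.node [] .nil (.node [(71,(.ofNat 1),1)] .nil (.node [(128,(.ofNat 1),1)] .nil .nil))) .nil) (.node [] .nil (.node [(60,(.negSucc 0),1)] .nil .nil))) (.node [] (.node [] (.node [] (.node [] .nil (.node [(107,(.negSucc 0),1)] .nil .nil)) .nil) (.node [(57,(.negSucc 0),1)] (.node [] .nil (.node [(121,(.negSucc 0),1)] .nil .nil)) .nil)) (.node [] (.node [] (.node [] .nil (.node [(111,(.negSucc 0),1)] .nil .nil)) (.node [] .nil (.node [] .nil .nil))) (.node [(63,(.ofNat 1),1)] .nil .nil)))) (.node [] (.node [] (.node [] (.node []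 .nil (.node [] .nil (.node [(129,(.ofNat 1),1)] .nil .nil))) (.node [(55,(.ofNat 1),1)] (.node [] .nil (.node [(119,(.ofNat 1),1)] .nil .nil)) .nil)) (.node [(41,(.negSucc 0),1)] .nil (.node [(62,(.ofNat 1),1)] .nil .nil))) (.node [(108,(.ofNat 1),1)] (.node [] (.node [] (.node [] .nil (.node [(109,(.negSucc 0),1)] .nil .nil)) (.node [(88,(.negSucc 0),1)] .nil .nil)) (.node [(58,(.negSucc 0),1)] .nil (.node [(104,(.negSucc 0),1)] .nil .nil))) (.node [] .nil (.node [(69,(.ofNat 1),1)] (.node [] .nil (.node [(126,(.negSucc 0),1)] .nil .nil)) .nil))))) (.node [(108,(.negSucc 0),1)] (.node [] (.node [] (.node [] (.node [] (.node [] .nil (.node [(106,(.negSucc 0),1)] .nil .nil)) (.node [(74,(.ofNat 1),1)] .nil .nil)) (.node [] (.node [] .nil (.node [(117,(.ofNat 1),1)] .nil .nil)) .nil)) .nil) (.node [(108,(.negSucc 0),1)] .nil (.node [(45,(.ofNat 1),1)] (.node [] (.node [] .nil (.node [(113,(.negSucc 0),1)] .nil .nil)) .nil) .nil))) (.node [(108,(.ofNat 1),1)] (.node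 [] (.node [] (.node [] .nil (.node [(85,(.ofNat 1),1)] .nil .nil)) (.node [] .nil (.node [(101,(.ofNat 1),1)] .nil .nil))) (.node [(43,(.negSucc 0),1)] .nil (.node [] .nil (.node [] .nil (.node [(132,(.negSucc 0),1)] .nil .nil))))) (.node [(16,(.ofNat 1),1)] (.node [] (.node [] .nil (.node [(92,(.ofNat 1),1)] .nil .nil)) .nil) (.node [] (.node [] (.node [] .nil (.node [(115,(.ofNat 1),1)] .nil .nil)) (.node [(100,(.negSucc 0),1)] .nil .nil)) (.node [(0,(.ofNat 1),1),(1,(.ofNat 1),1),(2,(.ofNat 1),1),(3,(.ofNat 1),1),(4,(.ofNat 1),1),(5,(.ofNat 1),1),(108,(.negSucc 0),2)] .nil .nil))))))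
noncomputable def ex102 : Trie (List (ℕ × ℤ × ℕ)) := (.node [(109,(.negSucc 0),1)] (.node [] (.node [] (.node [] (.node [] (.node [] (.node [] .nil (.node [(106,(.negSucc 0),1)] .nil .nil)) (.node [(72,(.ofNat 1),1)] .nil .nil)) .nil) (.node [] .nil (.node [(61,(.ofNat 1),1)] .nil .nil))) (.node [] .nil (.node [(45,(.ofNat 1),1)] (.node [] (.node [] .nil (.node [(112,(.negSucc 0),1)] .nil .nil)) .nil) .nil))) (.node [] (.node [] (.node [] (.node [] .nil (.node [(85,(.ofNat 1),1)] .nil .nil)) (.node [(56,(.negSucc 0),1)] (.node [] .nil (.node [(120,(.ofNat 1),1)] .nil .nil)) (.node [(101,(.ofNat 1),1)] .nil .nil))) (.node [(42,(.ofNat 1),1)] .nil (.node [] .nil (.node [] .nil (.node [(132,(.ofNat 1),1)] .nil .nil))))) (.node [(109,(.negSucc 0),1)] (.node [] (.node [] .nil (.node [(89,(.negSucc 0),1)] .nil .nil)) (.node [] .nil (.node [(105,(.negSucc 0),1)] .nil .nil))) (.node [] (.node [] (.node [] .nil (.node [(115,(.negSucc 0),1)] .nil .nil)) (.node [(100,(.negSucc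 0),1)] .nil .nil)) (.node [(0,(.ofNat 1),1),(1,(.ofNat 1),1),(2,(.ofNat 1),1),(3,(.ofNat 1),1),(4,(.ofNat 1),1),(5,(.ofNat 1),1),(6,(.ofNat 1),1),(109,(.negSucc 0),2)] (.node [] .nil (.node [(127,(.negSucc 0),1)] .nil .nil)) .nil))))) (.node [(109,(.negSucc 0),1)] (.node [] (.node [] (.node [] (.node [] .nil (.node [(75,(.ofNat 1),1)] .nil (.node [(129,(.negSucc 0),1)] .nil .nil))) (.node [] (.node [] .nil (.node [(118,(.ofNat 1),1)] .nil .nil)) .nil)) (.node [] .nil (.node [(62,(.ofNat 1),1)] .nil .nil))) (.node [] (.node [] (.node [] (.node [] .nil (.node [(108,(.negSucc 0),1)] .nil .nil)) .nil) (.node [(58,(.negSucc 0),1)] .nil .nil)) (.node [] (.node [] (.node [] .nil (.node [(114,(.negSucc 0),1)] .nil .nil)) (.node [] .nil (.node [] .nil .nil))) .nil))) (.node [(109,(.ofNat 1),1)] (.node [] (.node [] (.node [] (.node [] .nil (.node [(107,(.negSucc 0),1)] .nil .nil)) .nil) (.node [(57,(.negSucc 0),1)] (.node [] .nil (.node [(121,(.ofNat 1),1)] .nil .nil)) .nil))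 (.node [(44,(.ofNat 1),1)] .nil (.node [(63,(.ofNat 1),1)] .nil .nil))) (.node [(17,(.negSucc 0),1)] (.node [] (.node [] .nil (.node [(93,(.ofNat 1),1)] .nil .nil)) .nil) (.node [] .nil (.node [(70,(.ofNat 1),1)] (.node [] .nil (.node [(128,(.negSucc 0),1)] .nil .nil)) .nil))))))
noncomputable def ex103 : Trie (List (ℕ × ℤ × ℕ)) := (.node [(110,(.negSucc 0),1)] (.node [] (.node [] (.node [] (.node [] (.node [] .nil (.node [(76,(.ofNat 1),1)] .nil .nil)) (.node [(55,(.ofNat 1),1)] (.node [] .nil (.node [(116,(.negSucc 0),1)] .nil .nil)) .nil)) (.node [] (.node [] (.node [] .nil (.node [(112,(.negSucc 0),1)] .nil .nil)) .nil) .nil)) (.node [] (.node [] (.node [] .nil (.node [(86,(.ofNat 1),1)] .nil .nil)) (.node [] (.node [] .nil (.node [(123,(.negSucc 0),1)] .nil .nil)) (.node [(102,(.ofNat 1),1)] .nil .nil))) (.node [(46,(.ofNat 1),1)] .nil (.node [(68,(.ofNat 1),1)] (.node [] .nil (.node [(126,(.negSucc 0),1)] .nil .nil)) .nil)))) (.node [(110,(.ofNat 1),1)] (.node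 [] .nil (.node [] (.node [] (.node [] .nil (.node [(113,(.ofNat 1),1)] .nil .nil)) .nil) (.node [(65,(.negSucc 0),1)] .nil .nil))) (.node [] .nil (.node [] (.node [] .nil (.node [] .nil (.node [] .nil .nil))) (.node [] .nil (.node [(106,(.ofNat 1),1)] .nil .nil)))))) (.node [] (.node [] (.node [] (.node [] (.node [] .nil (.node [(77,(.negSucc 0),1)] .nil .nil)) (.node [(56,(.ofNat 1),1)] .nil .nil)) (.node [(40,(.ofNat 1),1)] .nil (.node [(64,(.negSucc 0),1)] .nil (.node [] .nil (.node [(132,(.negSucc 0),1)] .nil .nil))))) (.node [(110,(.ofNat 1),1)] (.node [] (.node [] .nil (.node [(87,(.negSucc 0),1)] .nil .nil)) (.node [] .nil (.node [(103,(.negSucc 0),1)] .nil .nil))) (.node [(47,(.ofNat 1),1)] (.node [] .nil (.node [(100,(.negSucc 0),1)] .nil .nil)) (.node [(0,(.ofNat 1),1),(1,(.ofNat 1),1),(2,(.ofNat 1),1),(3,(.ofNat 2),1),(4,(.ofNat 1),1),(110,(.negSucc 0),2)] (.node [] .nil (.node [(127,(.negSucc 0),1)] .nil .nil)) .nil)))) (.node [(110,(.negSucc 0),1)]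 (.node [] (.node [] (.node [] .nil (.node [] .nil (.node [(130,(.negSucc 0),1)] .nil .nil))) (.node [] (.node [] .nil (.node [(122,(.negSucc 0),1)] .nil .nil)) .nil)) (.node [] (.node [] (.node [] .nil (.node [(114,(.ofNat 1),1)] .nil .nil)) .nil) (.node [(67,(.ofNat 1),1)] .nil .nil))) (.node [(18,(.ofNat 1),1)] (.node [] (.node [] (.node [] .nil (.node [(111,(.negSucc 0),1)] .nil .nil)) (.node [(94,(.ofNat 1),1)] .nil .nil)) (.node [(59,(.ofNat 1),1)] .nil .nil)) (.node [] .nil (.node [] .nil (.node [(107,(.negSucc 0),1)] .nil .nil)))))))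
noncomputable def ex104 : Trie (List (ℕ × ℤ × ℕ)) := (.node [(111,(.negSucc 0),1)] (.node [] (.node [] (.node [] (.node [] .nil (.node [] (.node [] .nil (.node [(117,(.negSucc 0),1)] .nil .nil)) .nil)) (.node [] .nil (.node [(64,(.negSucc 0),1)] .nil (.node [] .nil (.node [(132,(.ofNat 1),1)] .nil .nil))))) (.node [(111,(.ofNat 1),1)] (.node [] (.node [] (.node [] .nil (.node [(110,(.negSucc 0),1)] .nil .nil)) .nil) (.node [] (.node [] .nil (.node [(124,(.negSucc 0),1)] .nil .nil)) .nil)) (.node [] (.node [] .nil (.node [(100,(.negSucc 0),1)] .nil .nil)) (.node [(0,(.ofNat 1),1),(1,(.ofNat 1),1),(2,(.ofNat 1),1),(3,(.ofNat 2),1),(4,(.ofNat 1),1),(5,(.ofNat 1),1),(111,(.negSucc 0),2)] .nil .nil)))) (.node [(111,(.ofNat 1),1)] (.node [] (.node [] (.node [] .nil (.node [] .nil (.node [(130,(.ofNat 1),1)] .nil .nil))) (.node [] (.node [] .nil (.node [(122,(.ofNat 1),1)] .nil .nil)) .nil)) (.node [] .nil (.node [(66,(.ofNat 1),1)] .nil .nil))) (.node [(111,(.ofNat 1),1)]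 (.node [] (.node [] (.node [] .nil (.node [(112,(.negSucc 0),1)] .nil .nil)) .nil) (.node [(59,(.ofNat 1),1)] .nil .nil)) .nil))) (.node [] (.node [] (.node [] (.node [] (.node [] .nil (.node [(78,(.negSucc 0),1)] .nil .nil)) (.node [(57,(.negSucc 0),1)] .nil .nil)) (.node [(41,(.negSucc 0),1)] (.node [] (.node [] .nil (.node [(113,(.negSucc 0),1)] .nil .nil)) .nil) .nil)) (.node [(111,(.negSucc 0),1)] (.node [] (.node [] .nil (.node [(88,(.negSucc 0),1)] .nil .nil)) (.node [] .nil (.node [(104,(.negSucc 0),1)] .nil .nil))) (.node [(48,(.negSucc 0),1)] .nil (.node [(71,(.ofNat 1),1)] (.node [] .nil (.node [(128,(.negSucc 0),1)] .nil .nil)) (.node [(106,(.ofNat 1),1)] .nil .nil))))) (.node [(111,(.negSucc 0),1)] (.node [] (.node [] (.node [] .nil (.node [(86,(.ofNat 1),1)] .nil .nil)) (.node [] .nil (.node [(102,(.ofNat 1),1)] .nil .nil))) (.node [(46,(.ofNat 1),1)] (.node [] (.node [] .nil (.node [(115,(.ofNat 1),1)] .nil .nil)) .nil) (.node [(69,(.ofNat 1),1)]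 (.node [] .nil (.node [(126,(.ofNat 1),1)] .nil .nil)) .nil))) (.node [(19,(.negSucc 0),1)] (.node [] (.node [] .nil (.node [(95,(.ofNat 1),1)] .nil .nil)) .nil) (.node [(55,(.ofNat 1),1)] (.node [] .nil (.node [] .nil (.node [] .nil .nil))) (.node [(76,(.ofNat 1),1)] .nil (.node [(108,(.negSucc 0),1)] .nil .nil)))))))
noncomputable def ex105 : Trie (List (ℕ × ℤ × ℕ)) := (.node [(112,(.negSucc 0),1)] (.node [] (.node [] (.node [] (.node [] .nil (.node [(57,(.negSucc 0),1)] (.node [] .nil (.node [(118,(.negSucc 0),1)] .nil .nil)) (.node [] .nil (.node [] .nil .nil)))) (.node [] .nil (.node [(65,(.ofNat 1),1)] .nil .nil))) (.node [(112,(.ofNat 1),1)] .nil (.node [(48,(.negSucc 0),1)] .nil (.node [(70,(.ofNat 1),1)] (.node [] .nil (.node [(128,(.ofNat 1),1)] .nil .nil)) (.node [(106,(.ofNat 1),1)] .nil .nil))))) (.node [(112,(.ofNat 1),1)] (.node [] (.node [] (.node [] .nil (.node [(86,(.ofNat 1),1)] .nil .nil)) (.node [] (.node [] .nil (.node [(123,(.ofNat 1),1)]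 .nil .nil)) (.node [(102,(.ofNat 1),1)] .nil .nil))) (.node [] (.node [] (.node [] .nil (.node [(115,(.negSucc 0),1)] .nil .nil)) .nil) .nil)) (.node [(112,(.negSucc 0),1)] .nil (.node [] .nil (.node [(76,(.ofNat 1),1)] .nil .nil))))) (.node [] (.node [] (.node [] (.node [] (.node [] .nil (.node [(79,(.negSucc 0),1)] .nil (.node [(130,(.negSucc 0),1)] .nil .nil))) .nil) (.node [(42,(.ofNat 1),1)] (.node [] (.node [] .nil (.node [(114,(.negSucc 0),1)] .nil .nil)) .nil) (.node [(66,(.ofNat 1),1)] .nil .nil))) (.node [] (.node [] (.node [] (.node [] .nil (.node [(111,(.negSucc 0),1)] .nil .nil)) (.node [(89,(.negSucc 0),1)] .nil .nil)) (.node [(59,(.ofNat 1),1)] .nil (.node [(105,(.negSucc 0),1)] .nil .nil))) (.node [] .nil (.node [(72,(.ofNat 1),1)] .nil .nil)))) (.node [(112,(.negSucc 0),1)] (.node [] (.node [] (.node [] (.node [] .nil (.node [(110,(.negSucc 0),1)] .nil .nil)) .nil) (.node [] (.node [] .nil (.node [(124,(.ofNat 1),1)] .nil .nil)) .nil)) (.node [(47,(.negSucc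 0),1)] (.node [] .nil (.node [(100,(.negSucc 0),1)] .nil .nil)) (.node [(0,(.ofNat 1),1),(1,(.ofNat 1),1),(2,(.ofNat 1),1),(3,(.ofNat 2),1),(4,(.ofNat 1),1),(5,(.ofNat 1),1),(6,(.ofNat 1),1),(112,(.negSucc 0),2)] (.node [] .nil (.node [(127,(.ofNat 1),1)] .nil .nil)) .nil))) (.node [(20,(.ofNat 1),1)] (.node [] (.node [] .nil (.node [(96,(.ofNat 1),1)] .nil .nil)) (.node [] .nil (.node [] .nil (.node [(132,(.negSucc 0),1)] .nil .nil)))) (.node [(56,(.negSucc 0),1)] .nil (.node [] .nil (.node [(109,(.negSucc 0),1)] .nil .nil)))))))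
noncomputable def ex106 : Trie (List (ℕ × ℤ × ℕ)) := (.node [(113,(.negSucc 0),1)] (.node [] (.node [] (.node [] (.node [] (.node [] .nil (.node [(78,(.negSucc 0),1)] .nil (.node [(130,(.negSucc 0),1)] .nil .nil))) (.node [] (.node [] .nil (.node [(119,(.negSucc 0),1)] .nil .nil)) .nil)) (.node [] (.node [] (.node [] .nil (.node [(115,(.ofNat 1),1)] .nil .nil)) .nil) (.node [(67,(.negSucc 0),1)] .nil .nil))) (.node [(113,(.negSucc 0),1)] (.node [] (.node [] .nil (.node [(88,(.negSucc 0),1)] .nil .nil)) (.node [(59,(.ofNat 1),1)] (.node [] .nil (.node [(125,(.negSucc 0),1)] .nil .nil)) (.node [(104,(.negSucc 0),1)] .nil .nil))) (.node [] .nil (.node [(73,(.ofNat 1),1)] .nil .nil)))) (.node [(113,(.ofNat 1),1)] (.node [] (.node [] (.node [] (.node [] .nil (.node [(111,(.negSucc 0),1)] .nil .nil)) .nil) .nil) (.node [(46,(.ofNat 1),1)] (.node [] .nil (.node [(100,(.negSucc 0),1)] .nil .nil)) (.node [(0,(.ofNat 1),1),(1,(.ofNat 1),1),(2,(.ofNat 1),1),(3,(.ofNat 2),1),(4,(.ofNat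 2),1),(5,(.ofNat 1),1),(113,(.negSucc 0),2)] (.node [] .nil (.node [(126,(.negSucc 0),1)] .nil .nil)) .nil))) (.node [(113,(.ofNat 1),1)] (.node [] (.node [] (.node [] .nil (.node [(114,(.negSucc 0),1)] .nil .nil)) .nil) (.node [] .nil (.node [] .nil (.node [(132,(.negSucc 0),1)] .nil .nil)))) (.node [(55,(.ofNat 1),1)] .nil (.node [] .nil (.node [(108,(.negSucc 0),1)] .nil .nil)))))) (.node [] (.node [] (.node [] (.node [] (.node [] (.node [] .nil (.node [(110,(.ofNat 1),1)] .nil .nil)) .nil) (.node [(58,(.ofNat 1),1)] (.node [] .nil (.node [(122,(.negSucc 0),1)] .nil .nil)) (.node [] .nil (.node [] .nil .nil)))) (.node [(43,(.ofNat 1),1)] .nil (.node [(69,(.ofNat 1),1)] .nil .nil))) (.node [] .nil (.node [(49,(.ofNat 1),1)] .nil (.node [(74,(.negSucc 0),1)] (.node [] .nil (.node [(129,(.negSucc 0),1)] .nil .nil)) (.node [(107,(.ofNat 1),1)] .nil .nil))))) (.node [] (.node [] (.node [] (.node [] .nil (.node [(87,(.ofNat 1),1)] .nil .nil)) (.node [] .nil (.node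 [(103,(.ofNat 1),1)] .nil .nil))) .nil) (.node [(21,(.ofNat 1),1)] (.node [] (.node [] .nil (.node [(97,(.ofNat 1),1)] .nil .nil)) .nil) (.node [] .nil (.node [(77,(.ofNat 1),1)] .nil .nil))))))
noncomputable def ex107 : Trie (List (ℕ × ℤ × ℕ)) := (.node [(114,(.negSucc 0),1)] (.node [] (.node [] (.node [] (.node [] (.node [] (.node [] .nil (.node [(110,(.ofNat 1),1)] .nil .nil)) (.node [(79,(.negSucc 0),1)] .nil .nil)) (.node [(58,(.ofNat 1),1)] (.node [] .nil (.node [(120,(.negSucc 0),1)] .nil .nil)) .nil)) (.node [] .nil (.node [(68,(.ofNat 1),1)] .nil .nil))) (.node [(114,(.negSucc 0),1)] (.node [] (.node [] .nil (.node [(89,(.negSucc 0),1)] .nil .nil)) (.node [] .nil (.node [(105,(.negSucc 0),1)] .nil .nil))) (.node [(49,(.ofNat 1),1)] .nil (.node [] (.node [] .nil (.node [(129,(.ofNat 1),1)] .nil .nil)) (.node [(107,(.ofNat 1),1)] .nil .nil))))) (.node [(114,(.ofNat 1),1)] (.node [] (.node [] (.node [] (.node [] .nil (.node [(112,(.negSucc 0),1)] .nil .nil))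 (.node [(87,(.ofNat 1),1)] .nil .nil)) (.node [] .nil (.node [(103,(.ofNat 1),1)] .nil (.node [] .nil .nil)))) (.node [(47,(.negSucc 0),1)] .nil (.node [(70,(.ofNat 1),1)] (.node [] .nil (.node [(127,(.negSucc 0),1)] .nil .nil)) .nil))) (.node [(114,(.negSucc 0),1)] .nil (.node [(56,(.negSucc 0),1)] .nil (.node [(77,(.ofNat 1),1)] .nil (.node [(109,(.negSucc 0),1)] .nil .nil)))))) (.node [] (.node [] (.node [] (.node [] .nil (.node [] (.node [] .nil (.node [(123,(.negSucc 0),1)] .nil .nil)) .nil)) (.node [(44,(.negSucc 0),1)] (.node [] .nil (.node [(100,(.negSucc 0),1)] .nil .nil)) (.node [(0,(.ofNat 1),1),(1,(.ofNat 1),1),(2,(.ofNat 1),1),(3,(.ofNat 2),1),(4,(.ofNat 2),1),(5,(.ofNat 1),1),(6,(.ofNat 1),1),(114,(.negSucc 0),2)] .nil .nil))) (.node [(114,(.ofNat 1),1)] (.node [] (.node [] (.node [] .nil (.node [(113,(.negSucc 0),1)] .nil .nil)) .nil) (.node [] .nil (.node [] .nil (.node [(132,(.ofNat 1),1)] .nil .nil)))) (.node [] .nil (.node [(75,(.negSucc 0),1)]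 .nil .nil)))) (.node [] (.node [] (.node [] .nil (.node [(59,(.ofNat 1),1)] (.node [] .nil (.node [(125,(.ofNat 1),1)] .nil .nil)) .nil)) (.node [] .nil (.node [(73,(.ofNat 1),1)] .nil .nil))) (.node [(22,(.negSucc 0),1)] (.node [] (.node [] (.node [] .nil (.node [(115,(.negSucc 0),1)] .nil .nil)) (.node [(98,(.ofNat 1),1)] .nil .nil)) .nil) (.node [] .nil (.node [] (.node [] .nil (.node [(130,(.ofNat 1),1)] .nil .nil)) .nil))))))
noncomputable def ex108 : Trie (List (ℕ × ℤ × ℕ)) := (.node [(115,(.negSucc 0),1)] (.node [] (.node [] (.node [] (.node [] (.node [] (.node [] .nil (.node [(111,(.ofNat 1),1)] .nil .nil)) .nil) (.node [] (.node [] .nil (.node [(121,(.negSucc 0),1)] .nil .nil)) .nil)) (.node [] (.node [] .nil (.node [(100,(.negSucc 0),1)] .nil .nil)) (.node [(0,(.ofNat 1),1),(1,(.ofNat 1),1),(2,(.ofNat 1),1),(3,(.ofNat 2),1),(4,(.ofNat 2),1),(5,(.ofNat 2),1),(6,(.ofNat 1),1),(115,(.negSucc 0),2)] .nil .nil))) (.node [] (.node [] (.node [] (.node [] .nil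 (.node [(114,(.negSucc 0),1)] .nil .nil)) .nil) (.node [] .nil (.node [] .nil (.node [(132,(.negSucc 0),1)] .nil .nil)))) (.node [] .nil (.node [(75,(.negSucc 0),1)] .nil (.node [(108,(.ofNat 1),1)] .nil .nil))))) (.node [(115,(.ofNat 1),1)] (.node [] (.node [] (.node [] .nil (.node [(88,(.ofNat 1),1)] .nil .nil)) (.node [(59,(.ofNat 1),1)] (.node [] .nil (.node [(125,(.negSucc 0),1)] .nil .nil)) (.node [(104,(.ofNat 1),1)] .nil .nil))) (.node [(48,(.ofNat 1),1)] .nil (.node [(72,(.negSucc 0),1)] (.node [] .nil (.node [(128,(.negSucc 0),1)] .nil .nil)) .nil))) (.node [] .nil (.node [(57,(.ofNat 1),1)] .nil (.node [(78,(.ofNat 1),1)] (.node [] .nil (.node [(130,(.negSucc 0),1)] .nil .nil)) .nil))))) (.node [] (.node [] (.node [] (.node [] (.node [] (.node [] .nil (.node [(112,(.negSucc 0),1)] .nil .nil)) .nil) (.node [] (.node [] .nil (.node [(124,(.negSucc 0),1)] .nil .nil)) .nil)) (.node [(45,(.ofNat 1),1)] .nil (.node [(71,(.ofNat 1),1)] .nil .nil))) (.node [(115,(.negSucc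 0),1)] .nil (.node [] .nil (.node [] .nil (.node [(109,(.negSucc 0),1)] .nil .nil))))) (.node [] (.node [] (.node [] (.node [] (.node [] .nil (.node [(113,(.ofNat 1),1)] .nil .nil)) (.node [(89,(.negSucc 0),1)] .nil .nil)) (.node [] .nil (.node [(105,(.negSucc 0),1)] .nil (.node [] .nil .nil)))) (.node [(49,(.ofNat 1),1)] .nil (.node [(74,(.ofNat 1),1)] (.node [] .nil (.node [(129,(.negSucc 0),1)] .nil .nil)) .nil))) (.node [(23,(.ofNat 1),1)] (.node [] (.node [] .nil (.node [(99,(.ofNat 1),1)] .nil .nil)) .nil) (.node [(58,(.ofNat 1),1)] .nil (.node [(79,(.negSucc 0),1)] .nil .nil))))))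
noncomputable def ex109 : Trie (List (ℕ × ℤ × ℕ)) := (.node [] (.node [] (.node [] (.node [] (.node [] (.node [] .nil (.node [(81,(.negSucc 0),1)] .nil .nil)) (.node [(60,(.ofNat 1),1)] .nil (.node [(102,(.ofNat 1),1)] .nil .nil))) (.node [(40,(.ofNat 1),1)] (.node [] (.node [] .nil (.node [(118,(.negSucc 0),1)] .nil .nil)) .nil) (.node [] (.node [] .nil (.node [(126,(.ofNat 1),1)] .nil .nil)) .nil))) (.node [] (.node [] (.node [] .nil (.node [(90,(.ofNat 1),1)] .nil .nil)) (.node [(65,(.negSucc 0),1)] .nil (.node [] .nil (.node [] .nil .nil)))) (.node [(50,(.negSucc 0),1)] .nil .nil))) (.node [(116,(.negSucc 0),1)] (.node [] .nil (.node [] (.node [] (.node [] .nil (.node [(119,(.ofNat 1),1)] .nil .nil)) .nil) (.node [] .nil (.node [(107,(.ofNat 1),1)] .nil .nil)))) (.node [] (.node [] (.node [] .nil (.node [(94,(.ofNat 1),1)] .nil .nil)) (.node [(68,(.ofNat 1),1)] .nil .nil)) (.node [] (.node [] (.node [] .nil (.node [(122,(.negSucc 0),1)] .nil .nil)) .nil) .nil))))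 (.node [] (.node [] (.node [] (.node [] (.node [] .nil (.node [(82,(.ofNat 1),1)] .nil .nil)) (.node [(61,(.ofNat 1),1)] .nil (.node [(103,(.negSucc 0),1)] .nil .nil))) (.node [] .nil (.node [] (.node [] .nil (.node [(127,(.ofNat 1),1)] .nil .nil)) (.node [(106,(.negSucc 0),1)] .nil .nil)))) (.node [(116,(.ofNat 1),1)] (.node [] (.node [] .nil (.node [(91,(.negSucc 0),1)] .nil .nil)) (.node [(67,(.ofNat 1),1)] .nil .nil)) (.node [(51,(.negSucc 0),1)] (.node [] .nil (.node [(101,(.negSucc 0),1)] .nil .nil)) (.node [(80,(.ofNat 1),1)] .nil .nil)))) (.node [] (.node [] (.node [] (.node [] .nil (.node [] .nil (.node [(131,(.negSucc 0),1)] .nil .nil))) (.node [(64,(.negSucc 0),1)] .nil (.node [] .nil (.node [(132,(.ofNat 1),1)] .nil .nil)))) (.node [] (.node [] (.node [] .nil (.node [(120,(.ofNat 1),1)] .nil .nil)) .nil) (.node [] .nil (.node [(110,(.negSucc 0),1)] .nil .nil)))) (.node [(24,(.negSucc 0),1)] (.node [] (.node [] (.node [] .nil (.node [(117,(.negSucc 0),1)]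 .nil .nil)) .nil) (.node [(0,(.ofNat 1),1),(1,(.ofNat 1),1),(2,(.ofNat 2),1),(3,(.ofNat 2),1),(4,(.ofNat 1),1),(116,(.negSucc 0),2)] .nil .nil)) (.node [] (.node [] (.node [] .nil (.node [(123,(.negSucc 0),1)] .nil .nil)) .nil) .nil)))))
noncomputable def ex110 : Trie (List (ℕ × ℤ × ℕ)) := (.node [] (.node [] (.node [] (.node [] .nil (.node [(41,(.negSucc 0),1)] .nil (.node [] .nil (.node [(106,(.negSucc 0),1)] .nil .nil)))) (.node [(117,(.ofNat 1),1)] (.node [] (.node [] (.node [] .nil (.node [(116,(.negSucc 0),1)] .nil .nil)) .nil) (.node [(66,(.ofNat 1),1)] .nil .nil)) (.node [] (.node [] .nil (.node [(101,(.negSucc 0),1)] .nil .nil)) (.node [(80,(.ofNat 1),1)] .nil .nil)))) (.node [(117,(.negSucc 0),1)] (.node [] (.node [] (.node [] .nil (.node [] .nil (.node [(131,(.ofNat 1),1)] .nil .nil))) (.node [(64,(.negSucc 0),1)] .nil (.node [] .nil (.node [(132,(.negSucc 0),1)] .nil .nil)))) (.node [] .nil (.node [] .nil (.node [(108,(.ofNat 1),1)] .nil .nil)))) (.node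 [(117,(.ofNat 1),1)] (.node [] (.node [] (.node [] .nil (.node [(118,(.negSucc 0),1)] .nil .nil)) (.node [(95,(.ofNat 1),1)] .nil .nil)) (.node [(0,(.ofNat 1),1),(1,(.ofNat 1),1),(2,(.ofNat 2),1),(3,(.ofNat 2),1),(4,(.ofNat 1),1),(5,(.ofNat 1),1),(117,(.negSucc 0),2)] .nil .nil)) .nil))) (.node [] (.node [] (.node [] (.node [] (.node [] .nil (.node [(83,(.ofNat 1),1)] .nil .nil)) (.node [(62,(.negSucc 0),1)] .nil (.node [(104,(.negSucc 0),1)] .nil .nil))) (.node [] (.node [] (.node [] .nil (.node [(119,(.negSucc 0),1)] .nil .nil)) .nil) (.node [] (.node [] .nil (.node [(128,(.ofNat 1),1)] .nil .nil)) .nil))) (.node [(117,(.negSucc 0),1)] (.node [] (.node [] .nil (.node [(92,(.negSucc 0),1)] .nil .nil)) (.node [(69,(.ofNat 1),1)] .nil (.node [] .nil (.node [] .nil .nil)))) (.node [(52,(.ofNat 1),1)] (.node [] (.node [] .nil (.node [(122,(.ofNat 1),1)] .nil .nil)) .nil) .nil))) (.node [] (.node [] (.node [] (.node [] .nil (.node [(90,(.ofNat 1),1)] .nil .nil)) .nil)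 (.node [(50,(.negSucc 0),1)] (.node [] (.node [] .nil (.node [(121,(.ofNat 1),1)] .nil .nil)) .nil) (.node [] .nil (.node [(111,(.negSucc 0),1)] .nil .nil)))) (.node [(25,(.ofNat 1),1)] (.node [] .nil (.node [(71,(.ofNat 1),1)] (.node [] .nil (.node [(126,(.negSucc 0),1)] .nil .nil)) .nil)) (.node [(60,(.ofNat 1),1)] (.node [] (.node [] .nil (.node [(124,(.negSucc 0),1)] .nil .nil)) (.node [(102,(.ofNat 1),1)] .nil .nil)) (.node [(81,(.negSucc 0),1)] .nil .nil))))))
noncomputable def ex111 : Trie (List (ℕ × ℤ × ℕ)) := (.node [] (.node [] (.node [] (.node [] (.node [] .nil (.node [(62,(.negSucc 0),1)] .nil .nil)) (.node [(42,(.ofNat 1),1)] .nil (.node [] (.node [] .nil (.node [(128,(.negSucc 0),1)] .nil .nil)) .nil))) (.node [(118,(.ofNat 1),1)] .nil (.node [(52,(.ofNat 1),1)] .nil .nil))) (.node [(118,(.negSucc 0),1)] (.node [] (.node [] (.node [] .nil (.node [(90,(.ofNat 1),1)] .nil .nil)) (.node [(65,(.ofNat 1),1)] .nil .nil)) (.node [] (.node [] (.node [] .nil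 (.node [(121,(.negSucc 0),1)] .nil .nil)) .nil) (.node [] .nil (.node [(109,(.ofNat 1),1)] .nil .nil)))) (.node [(118,(.negSucc 0),1)] (.node [] (.node [] .nil (.node [(96,(.ofNat 1),1)] .nil .nil)) (.node [(70,(.ofNat 1),1)] .nil (.node [] .nil (.node [] .nil .nil)))) (.node [] (.node [] (.node [] .nil (.node [(124,(.ofNat 1),1)] .nil .nil)) (.node [(102,(.ofNat 1),1)] .nil .nil)) (.node [(81,(.negSucc 0),1)] .nil .nil))))) (.node [] (.node [] (.node [] (.node [] (.node [] .nil (.node [(84,(.ofNat 1),1)] .nil (.node [(131,(.negSucc 0),1)] .nil .nil))) (.node [] .nil (.node [(105,(.negSucc 0),1)] .nil (.node [(132,(.ofNat 1),1)] .nil .nil)))) (.node [] (.node [] (.node [] .nil (.node [(120,(.negSucc 0),1)] .nil .nil)) .nil) .nil)) (.node [] (.node [] (.node [] (.node [] .nil (.node [(117,(.negSucc 0),1)] .nil .nil)) (.node [(93,(.negSucc 0),1)] .nil .nil)) (.node [(0,(.ofNat 1),1),(1,(.ofNat 1),1),(2,(.ofNat 2),1),(3,(.ofNat 2),1),(4,(.ofNat 1),1),(5,(.ofNat 1),1),(6,(.ofNat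 1),1),(118,(.negSucc 0),2)] .nil .nil)) (.node [] (.node [] (.node [] .nil (.node [(123,(.ofNat 1),1)] .nil .nil)) .nil) .nil))) (.node [] (.node [] (.node [] (.node [] (.node [] .nil (.node [(116,(.negSucc 0),1)] .nil .nil)) .nil) (.node [(66,(.ofNat 1),1)] .nil .nil)) (.node [(51,(.ofNat 1),1)] (.node [] .nil (.node [(101,(.negSucc 0),1)] .nil .nil)) (.node [(80,(.ofNat 1),1)] .nil (.node [(112,(.negSucc 0),1)] .nil .nil)))) (.node [(26,(.negSucc 0),1)] (.node [] .nil (.node [(72,(.ofNat 1),1)] (.node [] .nil (.node [(127,(.negSucc 0),1)] .nil .nil)) (.node [(106,(.negSucc 0),1)] .nil .nil))) (.node [(61,(.negSucc 0),1)] .nil .nil)))))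
noncomputable def ex112 : Trie (List (ℕ × ℤ × ℕ)) := (.node [] (.node [] (.node [] (.node [] (.node [] (.node [] .nil (.node [(83,(.ofNat 1),1)] .nil (.node [(131,(.negSucc 0),1)] .nil .nil))) (.node [] .nil (.node [(104,(.negSucc 0),1)] .nil (.node [(132,(.ofNat 1),1)] .nil .nil)))) (.node [(43,(.ofNat 1),1)] (.node [] (.node [] .nil (.node [(121,(.ofNat 1),1)] .nil .nil)) .nil) (.node [] .nil (.node [(107,(.negSucc 0),1)] .nil .nil)))) (.node [(119,(.negSucc 0),1)] (.node [] (.node [] .nil (.node [(92,(.negSucc 0),1)] .nil .nil)) (.node [(0,(.ofNat 1),1),(1,(.ofNat 1),1),(2,(.ofNat 2),1),(3,(.ofNat 2),1),(4,(.ofNat 2),1),(5,(.ofNat 1),1),(119,(.negSucc 0),2)] .nil .nil)) (.node [] (.node [] (.node [] .nil (.node [(122,(.negSucc 0),1)] .nil .nil)) .nil) .nil))) (.node [(119,(.negSucc 0),1)] (.node [] (.node [] (.node [] (.node [] .nil (.node [(117,(.negSucc 0),1)] .nil .nil)) .nil) (.node [(67,(.negSucc 0),1)] .nil .nil)) (.node [(50,(.negSucc 0),1)] (.node []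 .nil (.node [(101,(.negSucc 0),1)] .nil .nil)) (.node [(80,(.ofNat 1),1)] .nil .nil))) (.node [(119,(.ofNat 1),1)] (.node [] (.node [] (.node [] .nil (.node [(120,(.negSucc 0),1)] .nil .nil)) (.node [(97,(.ofNat 1),1)] .nil .nil)) (.node [(73,(.ofNat 1),1)] (.node [] .nil (.node [(126,(.ofNat 1),1)] .nil .nil)) .nil)) (.node [(60,(.ofNat 1),1)] .nil .nil)))) (.node [] (.node [] (.node [] (.node [] (.node [] (.node [] .nil (.node [(116,(.ofNat 1),1)] .nil .nil)) .nil) (.node [(63,(.ofNat 1),1)] .nil .nil)) (.node [] .nil (.node [] (.node [] .nil (.node [(129,(.ofNat 1),1)] .nil .nil)) (.node [(108,(.ofNat 1),1)] .nil .nil)))) (.node [] .nil (.node [(53,(.negSucc 0),1)] .nil .nil))) (.node [(119,(.ofNat 1),1)] (.node [] (.node [] (.node [] .nil (.node [(91,(.ofNat 1),1)] .nil .nil)) (.node [(69,(.ofNat 1),1)] .nil .nil)) (.node [] .nil (.node [] .nil (.node [(113,(.negSucc 0),1)] .nil .nil)))) (.node [(27,(.negSucc 0),1)] (.node [] .nil (.node [(74,(.negSucc 0),1)]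 .nil (.node [] .nil (.node [] .nil .nil)))) (.node [] (.node [] (.node [] .nil (.node [(125,(.negSucc 0),1)] .nil .nil)) (.node [(103,(.ofNat 1),1)] .nil .nil)) (.node [(82,(.negSucc 0),1)] .nil .nil))))))
noncomputable def ex113 : Trie (List (ℕ × ℤ × ℕ)) := (.node [] (.node [] (.node [] (.node [] (.node [] (.node [] (.node [] .nil (.node [(116,(.ofNat 1),1)] .nil .nil)) (.node [(84,(.ofNat 1),1)] .nil .nil)) (.node [(63,(.ofNat 1),1)] .nil (.node [(105,(.negSucc 0),1)] .nil .nil))) (.node [(44,(.negSucc 0),1)] .nil (.node [] (.node [] .nil (.node [(129,(.negSucc 0),1)] .nil .nil)) (.node [] .nil (.node [] .nil .nil))))) (.node [(120,(.negSucc 0),1)] (.node [] (.node [] .nil (.node [(93,(.negSucc 0),1)] .nil .nil)) (.node [(70,(.ofNat 1),1)] .nil .nil)) (.node [(53,(.negSucc 0),1)] (.node [] (.node [] .nil (.node [(123,(.negSucc 0),1)] .nil .nil)) .nil) .nil))) (.node [(120,(.negSucc 0),1)] (.node [] (.node [] (.node [] (.node [] .nil (.node [(118,(.negSucc 0),1)]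 .nil .nil)) (.node [(91,(.ofNat 1),1)] .nil .nil)) (.node [(68,(.ofNat 1),1)] .nil .nil)) (.node [(51,(.ofNat 1),1)] .nil .nil)) (.node [(120,(.negSucc 0),1)] (.node [] (.node [] .nil (.node [(98,(.ofNat 1),1)] .nil .nil)) (.node [] (.node [] .nil (.node [(127,(.ofNat 1),1)] .nil .nil)) .nil)) (.node [(61,(.negSucc 0),1)] (.node [] (.node [] .nil (.node [(125,(.ofNat 1),1)] .nil .nil)) (.node [(103,(.ofNat 1),1)] .nil .nil)) (.node [(82,(.negSucc 0),1)] .nil .nil))))) (.node [] (.node [] (.node [] .nil (.node [] (.node [] .nil (.node [(101,(.negSucc 0),1)] .nil .nil)) (.node [(80,(.ofNat 1),1)] .nil (.node [(109,(.ofNat 1),1)] .nil .nil)))) (.node [(120,(.ofNat 1),1)] (.node [] (.node [] (.node [] .nil (.node [(119,(.negSucc 0),1)] .nil .nil)) .nil) (.node [(73,(.ofNat 1),1)] .nil .nil)) .nil)) (.node [(120,(.ofNat 1),1)] (.node [] (.node [] .nil (.node [(0,(.ofNat 1),1),(1,(.ofNat 1),1),(2,(.ofNat 2),1),(3,(.ofNat 2),1),(4,(.ofNat 2),1),(5,(.ofNat 1),1),(6,(.ofNat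 1),1),(120,(.negSucc 0),2)] .nil .nil)) (.node [] .nil (.node [] .nil (.node [(114,(.negSucc 0),1)] .nil .nil)))) (.node [(28,(.ofNat 1),1)] (.node [] (.node [] (.node [] .nil (.node [(121,(.negSucc 0),1)] .nil .nil)) .nil) (.node [(75,(.negSucc 0),1)] .nil (.node [(107,(.negSucc 0),1)] .nil .nil))) (.node [] (.node [] .nil (.node [] .nil (.node [(132,(.negSucc 0),1)] .nil .nil))) (.node [] (.node [] .nil (.node [(131,(.ofNat 1),1)] .nil .nil)) .nil))))))
noncomputable def ex114 : Trie (List (ℕ × ℤ × ℕ)) := (.node [] (.node [] (.node [] (.node [] (.node [] (.node [] (.node [] .nil (.node [(117,(.ofNat 1),1)] .nil .nil)) .nil) .nil) (.node [(45,(.ofNat 1),1)] (.node [] .nil (.node [(101,(.negSucc 0),1)] .nil .nil)) (.node [(80,(.ofNat 1),1)] .nil (.node [(109,(.ofNat 1),1)] .nil .nil)))) (.node [] (.node [] (.node [] (.node [] .nil (.node [(120,(.negSucc 0),1)] .nil .nil)) .nil) (.node [(72,(.negSucc 0),1)] .nil .nil)) (.node [] (.node [] (.node [] .nil (.node [(124,(.negSucc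 0),1)] .nil .nil)) .nil) .nil))) (.node [(121,(.negSucc 0),1)] (.node [] (.node [] (.node [] .nil (.node [(92,(.ofNat 1),1)] .nil .nil)) (.node [(0,(.ofNat 1),1),(1,(.ofNat 1),1),(2,(.ofNat 2),1),(3,(.ofNat 2),1),(4,(.ofNat 2),1),(5,(.ofNat 2),1),(6,(.ofNat 1),1),(121,(.negSucc 0),2)] .nil .nil)) (.node [(52,(.negSucc 0),1)] .nil .nil)) (.node [] (.node [] (.node [] .nil (.node [(99,(.ofNat 1),1)] .nil .nil)) (.node [(75,(.negSucc 0),1)] (.node [] .nil (.node [(128,(.ofNat 1),1)] .nil .nil)) .nil)) (.node [(62,(.ofNat 1),1)] (.node [] .nil (.node [(104,(.ofNat 1),1)] .nil (.node [(132,(.ofNat 1),1)] .nil .nil))) (.node [(83,(.negSucc 0),1)] (.node [] .nil (.node [(131,(.negSucc 0),1)] .nil .nil)) .nil))))) (.node [] (.node [] (.node [] (.node [] (.node [] (.node [] .nil (.node [(118,(.negSucc 0),1)] .nil .nil)) .nil) .nil) (.node [] .nil (.node [] .nil (.node [] .nil (.node [] .nil .nil))))) (.node [(121,(.negSucc 0),1)] (.node [] .nil (.node [(74,(.ofNat 1),1)]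 .nil .nil)) (.node [] (.node [] (.node [] .nil (.node [(125,(.negSucc 0),1)] .nil .nil)) .nil) .nil))) (.node [(121,(.ofNat 1),1)] (.node [] (.node [] (.node [] (.node [] .nil (.node [(119,(.ofNat 1),1)] .nil .nil)) (.node [(93,(.negSucc 0),1)] .nil .nil)) (.node [(71,(.ofNat 1),1)] .nil .nil)) (.node [(53,(.negSucc 0),1)] .nil (.node [] .nil (.node [(115,(.negSucc 0),1)] .nil .nil)))) (.node [(29,(.negSucc 0),1)] (.node [] .nil (.node [] (.node [] .nil (.node [(129,(.ofNat 1),1)] .nil .nil)) (.node [(108,(.negSucc 0),1)] .nil .nil))) (.node [(63,(.ofNat 1),1)] (.node [] .nil (.node [(105,(.negSucc 0),1)] .nil .nil)) (.node [(84,(.ofNat 1),1)] .nil .nil))))))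
noncomputable def ex115 : Trie (List (ℕ × ℤ × ℕ)) := (.node [] (.node [] (.node [] (.node [] (.node [] .nil (.node [(69,(.ofNat 1),1)] .nil .nil)) (.node [(46,(.negSucc 0),1)] (.node [] (.node [] .nil (.node [(124,(.ofNat 1),1)] .nil .nil)) .nil) (.node [] .nil (.node [(110,(.negSucc 0),1)] .nil .nil)))) (.node [] (.node [] (.node [] .nil (.node [(95,(.negSucc 0),1)] .nil .nil)) (.node [(76,(.ofNat 1),1)] .nil .nil)) (.node [] (.node [] .nil (.node [(103,(.ofNat 1),1)] .nil .nil)) (.node [(82,(.negSucc 0),1)] .nil .nil)))) (.node [] (.node [] .nil (.node [] (.node [] .nil (.node [(102,(.negSucc 0),1)] .nil .nil)) (.node [(81,(.ofNat 1),1)] .nil (.node [(113,(.negSucc 0),1)] .nil (.node [] .nil .nil))))) (.node [(122,(.ofNat 1),1)] (.node [] (.node [] (.node [] .nil (.node [(123,(.negSucc 0),1)] .nil .nil)) .nil) (.node [(77,(.negSucc 0),1)] .nil .nil)) (.node [(64,(.ofNat 1),1)] .nil (.node [] .nil (.node [(117,(.ofNat 1),1)] .nil .nil)))))) (.node [(122,(.ofNat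 1),1)] (.node [] (.node [] (.node [] .nil (.node [(0,(.ofNat 1),1),(1,(.ofNat 1),1),(2,(.ofNat 2),1),(3,(.ofNat 3),1),(4,(.ofNat 2),1),(5,(.ofNat 1),1),(122,(.negSucc 0),2)] .nil .nil)) (.node [(50,(.negSucc 0),1)] .nil (.node [] (.node [] .nil (.node [(130,(.ofNat 1),1)] .nil .nil)) (.node [(111,(.ofNat 1),1)] .nil .nil)))) (.node [] (.node [] (.node [] .nil (.node [(97,(.ofNat 1),1)] .nil .nil)) (.node [] (.node [] .nil (.node [(126,(.negSucc 0),1)] .nil .nil)) .nil)) (.node [(54,(.ofNat 1),1)] (.node [] .nil (.node [(104,(.negSucc 0),1)] .nil (.node [(132,(.negSucc 0),1)] .nil .nil))) (.node [(83,(.ofNat 1),1)] (.node [] .nil (.node [(131,(.ofNat 1),1)] .nil .nil)) (.node [(116,(.negSucc 0),1)] .nil .nil))))) (.node [(122,(.negSucc 0),1)] (.node [] (.node [] (.node [] .nil (.node [(94,(.ofNat 1),1)] .nil .nil)) .nil) (.node [] (.node [] (.node [] .nil (.node [(125,(.negSucc 0),1)] .nil .nil)) .nil) .nil)) (.node [(30,(.ofNat 1),1)] (.node [] .nil (.node [(78,(.ofNat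 1),1)] .nil .nil)) (.node [(67,(.negSucc 0),1)] .nil (.node [] .nil (.node [(119,(.negSucc 0),1)] .nil .nil)))))))
noncomputable def ex116 : Trie (List (ℕ × ℤ × ℕ)) := (.node [] (.node [] (.node [] (.node [] (.node [] .nil (.node [(0,(.ofNat 1),1),(1,(.ofNat 1),1),(2,(.ofNat 2),1),(3,(.ofNat 3),1),(4,(.ofNat 2),1),(5,(.ofNat 1),1),(6,(.ofNat 1),1),(123,(.negSucc 0),2)] .nil .nil)) (.node [(47,(.ofNat 1),1)] .nil (.node [] (.node [] .nil (.node [(130,(.negSucc 0),1)] .nil .nil)) .nil))) (.node [] (.node [] (.node [] .nil (.node [(96,(.negSucc 0),1)] .nil .nil)) .nil) (.node [(54,(.ofNat 1),1)] (.node [] .nil (.node [] .nil (.node [(132,(.ofNat 1),1)] .nil .nil))) (.node [] (.node [] .nil (.node [(131,(.negSucc 0),1)] .nil .nil)) (.node [(116,(.negSucc 0),1)] .nil .nil))))) (.node [] (.node [] (.node [] (.node [] .nil (.node [(94,(.ofNat 1),1)] .nil .nil)) .nil) (.node [] (.node [] (.node [] .nil (.node [(125,(.ofNat 1),1)] .nil .nil)) .nil) (.node [] .nil (.node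 [(114,(.negSucc 0),1)] .nil .nil)))) (.node [(123,(.negSucc 0),1)] .nil (.node [(65,(.negSucc 0),1)] .nil (.node [] .nil (.node [(118,(.ofNat 1),1)] .nil .nil)))))) (.node [(123,(.ofNat 1),1)] (.node [] (.node [] (.node [] .nil (.node [(70,(.ofNat 1),1)] .nil .nil)) (.node [(51,(.ofNat 1),1)] (.node [] .nil (.node [(102,(.negSucc 0),1)] .nil .nil)) (.node [(81,(.ofNat 1),1)] .nil (.node [(112,(.ofNat 1),1)] .nil .nil)))) (.node [(123,(.ofNat 1),1)] (.node [] (.node [] (.node [] .nil (.node [(122,(.negSucc 0),1)] .nil .nil)) (.node [(98,(.ofNat 1),1)] .nil .nil)) (.node [(77,(.negSucc 0),1)] (.node [] .nil (.node [(127,(.negSucc 0),1)] .nil .nil)) .nil)) (.node [] (.node [] .nil (.node [(105,(.negSucc 0),1)] .nil .nil)) (.node [(84,(.ofNat 1),1)] .nil .nil)))) (.node [(123,(.negSucc 0),1)] (.node [] (.node [] .nil (.node [(76,(.ofNat 1),1)] .nil .nil)) (.node [] (.node [] .nil (.node [(103,(.ofNat 1),1)] .nil .nil)) (.node [(82,(.negSucc 0),1)] .nil (.node [] .nil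 (.node [] .nil .nil))))) (.node [(31,(.negSucc 0),1)] (.node [] (.node [] (.node [] .nil (.node [(124,(.negSucc 0),1)] .nil .nil)) .nil) (.node [(79,(.ofNat 1),1)] .nil (.node [(110,(.negSucc 0),1)] .nil .nil))) (.node [(68,(.ofNat 1),1)] .nil (.node [] .nil (.node [(120,(.negSucc 0),1)] .nil .nil)))))))
noncomputable def ex117 : Trie (List (ℕ × ℤ × ℕ)) := (.node [] (.node [] (.node [] (.node [] (.node [] .nil (.node [(71,(.ofNat 1),1)] .nil .nil)) (.node [(48,(.negSucc 0),1)] (.node [] .nil (.node [(102,(.negSucc 0),1)] .nil .nil)) (.node [(81,(.ofNat 1),1)] .nil (.node [(112,(.ofNat 1),1)] .nil .nil)))) (.node [(124,(.ofNat 1),1)] (.node [] (.node [] (.node [] .nil (.node [(123,(.negSucc 0),1)] .nil .nil)) .nil) .nil) (.node [] (.node [] .nil (.node [(105,(.negSucc 0),1)] .nil .nil)) (.node [(84,(.ofNat 1),1)] .nil (.node [(117,(.negSucc 0),1)] .nil (.node [] .nil .nil)))))) (.node [] (.node [] (.node [] (.node [] .nil (.node [(95,(.ofNat 1),1)] .nil .nil)) (.node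 [(76,(.ofNat 1),1)] .nil .nil)) (.node [] .nil (.node [] .nil (.node [(115,(.negSucc 0),1)] .nil .nil)))) (.node [] (.node [] .nil (.node [(79,(.ofNat 1),1)] .nil .nil)) (.node [(66,(.ofNat 1),1)] .nil .nil)))) (.node [(124,(.ofNat 1),1)] (.node [] (.node [] (.node [] .nil (.node [(72,(.negSucc 0),1)] .nil .nil)) (.node [(52,(.negSucc 0),1)] (.node [] (.node [] .nil (.node [(125,(.negSucc 0),1)] .nil .nil)) .nil) .nil)) (.node [(124,(.negSucc 0),1)] (.node [] (.node [] .nil (.node [(99,(.ofNat 1),1)] .nil .nil)) (.node [(78,(.negSucc 0),1)] (.node [] .nil (.node [(128,(.negSucc 0),1)] .nil .nil)) .nil)) (.node [] .nil (.node [] .nil (.node [(118,(.ofNat 1),1)] .nil .nil))))) (.node [(124,(.negSucc 0),1)] (.node [] (.node [] (.node [] (.node [] .nil (.node [(122,(.ofNat 1),1)] .nil .nil)) (.node [(96,(.negSucc 0),1)] .nil .nil)) .nil) (.node [(54,(.ofNat 1),1)] (.node [] .nil (.node [(104,(.ofNat 1),1)] .nil (.node [(132,(.negSucc 0),1)] .nil .nil))) (.node [(83,(.negSucc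 0),1)] (.node [] .nil (.node [(131,(.ofNat 1),1)] .nil .nil)) .nil))) (.node [(32,(.ofNat 1),1)] (.node [] .nil (.node [] (.node [] .nil (.node [(130,(.ofNat 1),1)] .nil .nil)) (.node [(111,(.negSucc 0),1)] .nil .nil))) (.node [(0,(.ofNat 1),1),(1,(.ofNat 1),1),(2,(.ofNat 2),1),(3,(.ofNat 3),1),(4,(.ofNat 2),1),(5,(.ofNat 2),1),(6,(.ofNat 1),1),(124,(.negSucc 0),2)] .nil (.node [] .nil (.node [(121,(.negSucc 0),1)] .nil .nil)))))))
noncomputable def ex118 : Trie (List (ℕ × ℤ × ℕ)) := (.node [] (.node [] (.node [] (.node [] (.node [] (.node [] (.node [] .nil (.node [(122,(.negSucc 0),1)] .nil .nil)) .nil) (.node [(74,(.negSucc 0),1)] .nil .nil)) (.node [(49,(.ofNat 1),1)] (.node [] .nil (.node [(103,(.negSucc 0),1)] .nil .nil)) (.node [(82,(.ofNat 1),1)] .nil (.node [(114,(.ofNat 1),1)] .nil .nil)))) (.node [(125,(.negSucc 0),1)] (.node [] (.node [] .nil (.node [(99,(.ofNat 1),1)] .nil .nil)) (.node [(79,(.ofNat 1),1)] .nil .nil)) (.node [] .nil (.node [] .nil (.node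 [(119,(.negSucc 0),1)] .nil .nil))))) (.node [] (.node [] (.node [] (.node [] (.node [] .nil (.node [(124,(.negSucc 0),1)] .nil .nil)) (.node [(97,(.ofNat 1),1)] .nil .nil)) (.node [(77,(.ofNat 1),1)] .nil .nil)) (.node [(54,(.ofNat 1),1)] (.node [] .nil (.node [(105,(.negSucc 0),1)] .nil (.node [(132,(.ofNat 1),1)] .nil .nil))) (.node [(84,(.ofNat 1),1)] (.node [] .nil (.node [(131,(.negSucc 0),1)] .nil .nil)) .nil))) (.node [] (.node [] .nil (.node [] (.node [] .nil (.node [(130,(.negSucc 0),1)] .nil .nil)) .nil)) (.node [(0,(.ofNat 1),1),(1,(.ofNat 1),1),(2,(.ofNat 2),1),(3,(.ofNat 3),1),(4,(.ofNat 3),1),(5,(.ofNat 2),1),(6,(.ofNat 1),1),(125,(.negSucc 0),2)] .nil (.node [] .nil (.node [(121,(.negSucc 0),1)] .nil .nil)))))) (.node [(125,(.ofNat 1),1)] (.node [] (.node [] (.node [] (.node [] (.node [] .nil (.node [(123,(.ofNat 1),1)] .nil .nil)) .nil) (.node [(75,(.ofNat 1),1)] .nil .nil)) (.node [(53,(.ofNat 1),1)] (.node [] .nil (.node [(104,(.ofNat 1),1)] .nil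 .nil)) (.node [(83,(.negSucc 0),1)] .nil (.node [(115,(.negSucc 0),1)] .nil .nil)))) (.node [] (.node [] .nil (.node [] (.node [] .nil (.node [(129,(.negSucc 0),1)] .nil .nil)) .nil)) (.node [] .nil (.node [] .nil (.node [(120,(.ofNat 1),1)] .nil (.node [] .nil .nil)))))) (.node [] (.node [] (.node [] (.node [] .nil (.node [(98,(.negSucc 0),1)] .nil .nil)) (.node [(78,(.negSucc 0),1)] .nil .nil)) .nil) (.node [(33,(.negSucc 0),1)] (.node [] .nil (.node [] .nil (.node [(113,(.negSucc 0),1)] .nil .nil))) (.node [(73,(.ofNat 1),1)] .nil .nil)))))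
noncomputable def ex119 : Trie (List (ℕ × ℤ × ℕ)) := (.node [] (.node [] (.node [] (.node [] (.node [] (.node [] .nil (.node [(95,(.negSucc 0),1)] .nil .nil)) (.node [] .nil (.node [(111,(.ofNat 1),1)] .nil .nil))) (.node [(55,(.ofNat 1),1)] (.node [] (.node [] .nil (.node [(128,(.ofNat 1),1)] .nil .nil)) .nil) .nil)) (.node [] (.node [] .nil (.node [(86,(.negSucc 0),1)] (.node [] .nil (.node [(131,(.negSucc 0),1)] .nil .nil)) (.node [(117,(.negSucc 0),1)] .nil .nil))) (.node [(69,(.ofNat 1),1)] (.node [] .nil (.node [(107,(.ofNat 1),1)] .nil .nil)) (.node [(91,(.negSucc 0),1)] .nil .nil)))) (.node [] (.node [] .nil (.node [(64,(.ofNat 1),1)] (.node [] .nil (.node [(106,(.negSucc 0),1)] .nil .nil)) (.node [(90,(.ofNat 1),1)] .nil .nil))) (.node [(126,(.ofNat 1),1)] (.node [] (.node [] (.node [] .nil (.node [(127,(.negSucc 0),1)] .nil .nil)) .nil) (.node [(87,(.ofNat 1),1)] .nil (.node [(122,(.negSucc 0),1)] .nil .nil))) (.node [] .nil (.node [] .nil (.node [] .nil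 (.node [] .nil .nil))))))) (.node [(126,(.negSucc 0),1)] (.node [] (.node [] (.node [] (.node [] .nil (.node [(97,(.ofNat 1),1)] .nil .nil)) (.node [(85,(.ofNat 1),1)] .nil (.node [(113,(.negSucc 0),1)] .nil .nil))) (.node [(60,(.negSucc 0),1)] (.node [] .nil (.node [] .nil (.node [(132,(.ofNat 1),1)] .nil .nil))) .nil)) (.node [] (.node [] .nil (.node [] .nil (.node [(119,(.ofNat 1),1)] .nil .nil))) (.node [(0,(.ofNat 1),1),(1,(.ofNat 2),1),(2,(.ofNat 2),1),(3,(.ofNat 3),1),(4,(.ofNat 2),1),(5,(.ofNat 1),1),(126,(.negSucc 0),2)] (.node [] .nil (.node [(108,(.negSucc 0),1)] .nil .nil)) (.node [(92,(.ofNat 1),1)] .nil .nil)))) (.node [] (.node [] (.node [] .nil (.node [] .nil (.node [(116,(.ofNat 1),1)] .nil .nil))) (.node [(67,(.negSucc 0),1)] (.node [] (.node [] .nil (.node [(129,(.negSucc 0),1)] .nil .nil)) .nil) .nil)) (.node [(34,(.negSucc 0),1)] (.node [] .nil (.node [(88,(.negSucc 0),1)] .nil .nil)) (.node [] (.node [] (.node [] .nil (.node [(130,(.ofNat 1),1)]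 .nil .nil)) (.node [(110,(.negSucc 0),1)] .nil .nil)) (.node [(94,(.ofNat 1),1)] .nil .nil))))))
noncomputable def ex120 : Trie (List (ℕ × ℤ × ℕ)) := (.node [] (.node [] (.node [] (.node [] (.node [] (.node [] .nil (.node [(96,(.negSucc 0),1)] .nil .nil)) (.node [(85,(.ofNat 1),1)] .nil (.node [(112,(.ofNat 1),1)] .nil .nil))) (.node [(56,(.negSucc 0),1)] (.node [] .nil (.node [] .nil (.node [(132,(.negSucc 0),1)] .nil .nil))) .nil)) (.node [] (.node [] .nil (.node [] .nil (.node [(118,(.negSucc 0),1)] .nil .nil))) (.node [(0,(.ofNat 1),1),(1,(.ofNat 2),1),(2,(.ofNat 2),1),(3,(.ofNat 3),1),(4,(.ofNat 2),1),(5,(.ofNat 1),1),(6,(.ofNat 1),1),(127,(.negSucc 0),2)] .nil .nil))) (.node [] (.node [] (.node [] .nil (.node [] .nil (.node [(116,(.ofNat 1),1)] .nil .nil))) (.node [(65,(.negSucc 0),1)] (.node [] (.node [] .nil (.node [(129,(.ofNat 1),1)] .nil .nil)) .nil) .nil)) (.node [(127,(.negSucc 0),1)] (.node [] .nil (.node [] .nil (.node [(123,(.negSucc 0),1)] .nil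 .nil))) (.node [] (.node [] (.node [] .nil (.node [(130,(.negSucc 0),1)] .nil .nil)) (.node [(110,(.negSucc 0),1)] .nil .nil)) (.node [(94,(.ofNat 1),1)] .nil .nil))))) (.node [(127,(.negSucc 0),1)] (.node [] (.node [] (.node [] (.node [] .nil (.node [(98,(.ofNat 1),1)] .nil .nil)) (.node [] .nil (.node [(114,(.negSucc 0),1)] .nil .nil))) (.node [(61,(.ofNat 1),1)] (.node [] .nil (.node [(106,(.negSucc 0),1)] .nil .nil)) (.node [(90,(.ofNat 1),1)] .nil .nil))) (.node [(127,(.ofNat 1),1)] (.node [] (.node [] (.node [] .nil (.node [(126,(.negSucc 0),1)] .nil .nil)) .nil) (.node [(87,(.ofNat 1),1)] .nil (.node [(120,(.ofNat 1),1)] .nil .nil))) (.node [(70,(.ofNat 1),1)] (.node [] .nil (.node [(109,(.negSucc 0),1)] .nil .nil)) (.node [(93,(.ofNat 1),1)] .nil .nil)))) (.node [] (.node [] (.node [] .nil (.node [(86,(.negSucc 0),1)] (.node [] .nil (.node [(131,(.ofNat 1),1)] .nil .nil)) .nil)) (.node [(68,(.ofNat 1),1)] (.node [] .nil (.node [(107,(.ofNat 1),1)] .nil .nil))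 (.node [(91,(.negSucc 0),1)] .nil .nil))) (.node [(35,(.ofNat 1),1)] (.node [] (.node [] (.node [] .nil (.node [(128,(.negSucc 0),1)] .nil .nil)) .nil) (.node [(89,(.negSucc 0),1)] .nil .nil)) (.node [] .nil (.node [] .nil (.node [] .nil (.node [] .nil .nil))))))))
noncomputable def ex121 : Trie (List (ℕ × ℤ × ℕ)) := (.node [] (.node [] (.node [] (.node [] (.node [] (.node [] (.node [] (.node [] .nil (.node [] .nil .nil)) .nil) .nil) .nil) (.node [(57,(.ofNat 1),1)] (.node [] .nil (.node [(106,(.negSucc 0),1)] .nil .nil)) (.node [(90,(.ofNat 1),1)] .nil .nil))) (.node [(128,(.ofNat 1),1)] (.node [] (.node [] (.node [] .nil (.node [(127,(.negSucc 0),1)] .nil .nil)) .nil) .nil) (.node [(71,(.ofNat 1),1)] (.node [] .nil (.node [(109,(.negSucc 0),1)] .nil .nil)) (.node [(93,(.ofNat 1),1)] .nil .nil)))) (.node [] (.node [] (.node [] .nil (.node [(86,(.negSucc 0),1)] (.node [] .nil (.node [(131,(.negSucc 0),1)] .nil .nil)) (.node [(117,(.ofNat 1),1)] .nil .nil))) (.node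 [(66,(.ofNat 1),1)] .nil .nil)) (.node [] (.node [] .nil (.node [(89,(.negSucc 0),1)] .nil (.node [(124,(.negSucc 0),1)] .nil .nil))) (.node [] (.node [] .nil (.node [(111,(.negSucc 0),1)] .nil .nil)) (.node [(95,(.ofNat 1),1)] .nil .nil))))) (.node [(128,(.negSucc 0),1)] (.node [] (.node [] (.node [] (.node [] .nil (.node [(99,(.ofNat 1),1)] .nil .nil)) (.node [] .nil (.node [(115,(.negSucc 0),1)] .nil .nil))) (.node [(62,(.negSucc 0),1)] (.node [] (.node [] .nil (.node [(129,(.negSucc 0),1)] .nil .nil)) .nil) .nil)) (.node [(128,(.negSucc 0),1)] (.node [] .nil (.node [(88,(.ofNat 1),1)] .nil (.node [(121,(.ofNat 1),1)] .nil .nil))) (.node [(72,(.negSucc 0),1)] (.node [] (.node [] .nil (.node [(130,(.ofNat 1),1)] .nil .nil)) .nil) .nil))) (.node [] (.node [] (.node [] (.node [] (.node [] .nil (.node [(126,(.ofNat 1),1)] .nil .nil)) .nil) (.node [] .nil (.node [(118,(.negSucc 0),1)] .nil .nil))) (.node [(0,(.ofNat 1),1),(1,(.ofNat 2),1),(2,(.ofNat 2),1),(3,(.ofNat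 3),1),(4,(.ofNat 2),1),(5,(.ofNat 2),1),(6,(.ofNat 1),1),(128,(.negSucc 0),2)] (.node [] .nil (.node [(108,(.ofNat 1),1)] .nil .nil)) (.node [(92,(.negSucc 0),1)] .nil .nil))) (.node [(36,(.negSucc 0),1)] (.node [] (.node [] .nil (.node [] .nil (.node [(132,(.ofNat 1),1)] .nil .nil))) .nil) (.node [(85,(.ofNat 1),1)] (.node [] .nil (.node [(112,(.ofNat 1),1)] .nil .nil)) (.node [(96,(.negSucc 0),1)] .nil .nil))))))
noncomputable def ex122 : Trie (List (ℕ × ℤ × ℕ)) := (.node [] (.node [] (.node [] (.node [] (.node [] (.node [] (.node [] .nil (.node [(126,(.negSucc 0),1)] .nil .nil)) (.node [(99,(.ofNat 1),1)] .nil .nil)) (.node [] .nil (.node [(115,(.negSucc 0),1)] .nil .nil))) (.node [(58,(.negSucc 0),1)] (.node [] .nil (.node [(107,(.negSucc 0),1)] .nil .nil)) (.node [(91,(.ofNat 1),1)] .nil .nil))) (.node [(129,(.negSucc 0),1)] (.node [] .nil (.node [(89,(.negSucc 0),1)] .nil (.node [(121,(.ofNat 1),1)] .nil .nil))) (.node [(74,(.negSucc 0),1)] (.node [] (.node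 [] .nil (.node [(130,(.negSucc 0),1)] .nil .nil)) .nil) .nil))) (.node [] (.node [] (.node [] (.node [] (.node [] .nil (.node [(128,(.negSucc 0),1)] .nil .nil)) .nil) (.node [(87,(.negSucc 0),1)] .nil (.node [(119,(.ofNat 1),1)] .nil .nil))) (.node [(0,(.ofNat 1),1),(1,(.ofNat 2),1),(2,(.ofNat 2),1),(3,(.ofNat 3),1),(4,(.ofNat 3),1),(5,(.ofNat 2),1),(6,(.ofNat 1),1),(129,(.negSucc 0),2)] (.node [] .nil (.node [(109,(.negSucc 0),1)] .nil .nil)) (.node [(93,(.ofNat 1),1)] .nil .nil))) (.node [] (.node [] (.node [] .nil (.node [] .nil (.node [(132,(.negSucc 0),1)] .nil .nil))) (.node [] .nil (.node [(125,(.negSucc 0),1)] .nil .nil))) (.node [(85,(.ofNat 1),1)] (.node [] .nil (.node [(113,(.negSucc 0),1)] .nil .nil)) (.node [(97,(.ofNat 1),1)] .nil .nil))))) (.node [(129,(.negSucc 0),1)] (.node [] (.node [] (.node [] (.node [] (.node [] (.node [] .nil (.node [] .nil .nil)) (.node [(127,(.ofNat 1),1)] .nil .nil)) .nil) (.node [] (.node [] .nil (.node [(131,(.ofNat 1),1)]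 .nil .nil)) .nil)) (.node [(63,(.ofNat 1),1)] (.node [] .nil (.node [(108,(.ofNat 1),1)] .nil .nil)) (.node [(92,(.negSucc 0),1)] .nil .nil))) (.node [] .nil (.node [(75,(.ofNat 1),1)] .nil .nil))) (.node [(129,(.ofNat 1),1)] (.node [] (.node [] .nil (.node [(88,(.ofNat 1),1)] .nil (.node [(120,(.negSucc 0),1)] .nil .nil))) (.node [(73,(.ofNat 1),1)] .nil .nil)) (.node [(37,(.ofNat 1),1)] .nil (.node [] (.node [] .nil (.node [(114,(.ofNat 1),1)] .nil .nil)) (.node [(98,(.negSucc 0),1)] .nil .nil))))))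
noncomputable def ex123 : Trie (List (ℕ × ℤ × ℕ)) := (.node [] (.node [] (.node [] (.node [] (.node [] .nil (.node [(88,(.ofNat 1),1)] (.node [] .nil (.node [(131,(.negSucc 0),1)] .nil .nil)) .nil)) (.node [(59,(.ofNat 1),1)] (.node [] .nil (.node [(110,(.negSucc 0),1)] .nil .nil)) (.node [(94,(.ofNat 1),1)] .nil .nil))) (.node [] (.node [] .nil (.node [] .nil (.node [(124,(.ofNat 1),1)] .nil .nil))) (.node [(78,(.ofNat 1),1)] (.node [] .nil (.node [(114,(.ofNat 1),1)] .nil .nil)) (.node [(98,(.negSucc 0),1)] .nil (.node [(126,(.ofNat 1),1)] .nil .nil))))) (.node [(130,(.ofNat 1),1)] (.node [] (.node [] (.node [] (.node [] (.node [] .nil (.node [] .nil .nil)) .nil) .nil) (.node [] .nil (.node [(122,(.ofNat 1),1)] .nil .nil))) (.node [(76,(.ofNat 1),1)] (.node [] .nil (.node [(112,(.negSucc 0),1)] .nil .nil)) (.node [(96,(.ofNat 1),1)] .nil .nil))) (.node [] .nil (.node [(86,(.ofNat 1),1)] .nil (.node [] .nil (.node [(128,(.ofNat 1),1)] .nil .nil)))))) (.node []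 (.node [] (.node [] (.node [] .nil (.node [(89,(.negSucc 0),1)] .nil .nil)) (.node [(0,(.ofNat 1),1),(1,(.ofNat 2),1),(2,(.ofNat 2),1),(3,(.ofNat 4),1),(4,(.ofNat 3),1),(5,(.ofNat 2),1),(6,(.ofNat 1),1),(130,(.negSucc 0),2)] (.node [] .nil (.node [(111,(.ofNat 1),1)] .nil .nil)) (.node [(95,(.negSucc 0),1)] .nil .nil))) (.node [] (.node [] (.node [] .nil (.node [] .nil (.node [(132,(.ofNat 1),1)] .nil .nil))) (.node [] .nil (.node [(125,(.negSucc 0),1)] .nil .nil))) (.node [(79,(.negSucc 0),1)] (.node [] .nil (.node [(115,(.negSucc 0),1)] .nil .nil)) (.node [(99,(.ofNat 1),1)] .nil (.node [(127,(.negSucc 0),1)] .nil .nil))))) (.node [(130,(.negSucc 0),1)] (.node [] (.node [] .nil (.node [] .nil (.node [(123,(.negSucc 0),1)] .nil .nil))) (.node [(77,(.negSucc 0),1)] (.node [] .nil (.node [(113,(.negSucc 0),1)] .nil .nil)) (.node [(97,(.ofNat 1),1)] .nil .nil))) (.node [(38,(.negSucc 0),1)] .nil (.node [(87,(.negSucc 0),1)] .nil (.node [] .nil (.node [(129,(.negSucc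 0),1)] .nil .nil)))))))
noncomputable def ex124 : Trie (List (ℕ × ℤ × ℕ)) := (.node [(131,(.ofNat 1),1)] (.node [] (.node [] (.node [] (.node [] .nil (.node [(92,(.ofNat 1),1)] .nil (.node [(124,(.ofNat 1),1)] .nil .nil))) (.node [(0,(.ofNat 1),1),(1,(.ofNat 2),1),(2,(.ofNat 3),1),(3,(.ofNat 4),1),(4,(.ofNat 3),1),(5,(.ofNat 2),1),(6,(.ofNat 1),1),(131,(.negSucc 0),2)] (.node [] .nil (.node [(116,(.negSucc 0),1)] .nil .nil)) (.node [] .nil (.node [(127,(.ofNat 1),1)] .nil .nil)))) (.node [] (.node [] (.node [] .nil (.node [] .nil (.node [(132,(.negSucc 0),1)] .nil .nil))) (.node [(96,(.ofNat 1),1)] .nil .nil)) (.node [(83,(.negSucc 0),1)] (.node [] .nil (.node [(120,(.ofNat 1),1)] .nil .nil)) .nil))) (.node [(131,(.negSucc 0),1)] (.node [] (.node [] .nil (.node [(94,(.ofNat 1),1)] .nil .nil)) (.node [(81,(.negSucc 0),1)] (.node [] .nil (.node [(118,(.negSucc 0),1)] .nil .nil)) (.node [] .nil (.node [(129,(.ofNat 1),1)] .nil .nil)))) (.node [] (.node [] .nil (.node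 [(98,(.negSucc 0),1)] .nil .nil)) (.node [(90,(.ofNat 1),1)] (.node [] .nil (.node [(122,(.ofNat 1),1)] .nil .nil)) .nil)))) (.node [] (.node [] (.node [] (.node [] .nil (.node [(93,(.negSucc 0),1)] .nil (.node [(125,(.negSucc 0),1)] .nil .nil))) (.node [(80,(.ofNat 1),1)] (.node [] .nil (.node [(117,(.ofNat 1),1)] .nil .nil)) (.node [] .nil (.node [(128,(.negSucc 0),1)] .nil .nil)))) (.node [] (.node [] .nil (.node [(97,(.ofNat 1),1)] .nil .nil)) (.node [(84,(.ofNat 1),1)] (.node [] .nil (.node [(121,(.negSucc 0),1)] .nil .nil)) .nil))) (.node [] (.node [] (.node [] (.node [] (.node [] (.node [] .nil (.node [] .nil .nil)) .nil) .nil) (.node [(95,(.negSucc 0),1)] .nil .nil)) (.node [(82,(.ofNat 1),1)] (.node [] .nil (.node [(119,(.negSucc 0),1)] .nil .nil)) (.node [] .nil (.node [(130,(.negSucc 0),1)] .nil .nil)))) (.node [(39,(.ofNat 1),1)] (.node [] .nil (.node [(99,(.ofNat 1),1)] .nil (.node [(126,(.negSucc 0),1)] .nil .nil))) (.node [(91,(.negSucc 0),1)] (.node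 [] .nil (.node [(123,(.negSucc 0),1)] .nil .nil)) .nil)))))
noncomputable def ex125 : Trie (List (ℕ × ℤ × ℕ)) := (.node [(132,(.negSucc 0),1)] (.node [] (.node [] (.node [] (.node [] (.node [] .nil (.node [(124,(.negSucc 0),1)] .nil .nil)) (.node [(108,(.negSucc 0),1)] .nil .nil)) (.node [(100,(.ofNat 1),1)] .nil (.node [(116,(.ofNat 1),1)] .nil .nil))) (.node [] (.node [] (.node [] (.node [] (.node [] .nil (.node [] .nil .nil)) .nil) (.node [(128,(.ofNat 1),1)] .nil .nil)) (.node [(112,(.negSucc 0),1)] .nil .nil)) (.node [(104,(.ofNat 1),1)] .nil (.node [(120,(.negSucc 0),1)] .nil .nil)))) (.node [] (.node [] (.node [] (.node [] .nil (.node [(126,(.ofNat 1),1)] .nil .nil)) (.node [(110,(.negSucc 0),1)] .nil .nil)) (.node [(102,(.ofNat 1),1)] .nil (.node [(118,(.ofNat 1),1)] .nil .nil))) (.node [] (.node [] (.node [] .nil (.node [(130,(.ofNat 1),1)] .nil .nil)) (.node [(114,(.ofNat 1),1)] .nil .nil)) (.node [(106,(.negSucc 0),1)] .nil (.node [(122,(.negSucc 0),1)]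 .nil .nil))))) (.node [] (.node [] (.node [] (.node [] (.node [] .nil (.node [(125,(.ofNat 1),1)] .nil .nil)) (.node [(109,(.ofNat 1),1)] .nil .nil)) (.node [(101,(.negSucc 0),1)] .nil (.node [(117,(.negSucc 0),1)] .nil .nil))) (.node [] (.node [] (.node [] .nil (.node [(129,(.negSucc 0),1)] .nil .nil)) (.node [(113,(.negSucc 0),1)] .nil .nil)) (.node [(105,(.negSucc 0),1)] .nil (.node [(121,(.ofNat 1),1)] .nil .nil)))) (.node [] (.node [] (.node [] (.node [] .nil (.node [(127,(.negSucc 0),1)] .nil .nil)) (.node [(111,(.ofNat 1),1)] .nil .nil)) (.node [(103,(.negSucc 0),1)] .nil (.node [(119,(.ofNat 1),1)] .nil .nil))) (.node [(0,(.ofNat 2),1),(1,(.ofNat 2),1),(2,(.ofNat 3),1),(3,(.ofNat 4),1),(4,(.ofNat 3),1),(5,(.ofNat 2),1),(6,(.ofNat 1),1),(132,(.negSucc 0),2)] (.node [] (.node [] .nil (.node [(131,(.negSucc 0),1)] .nil .nil)) (.node [(115,(.negSucc 0),1)] .nil .nil)) (.node [(107,(.ofNat 1),1)] .nil (.node [(123,(.ofNat 1),1)] .nil .nil))))))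
noncomputable def ex : Trie (Trie (List (ℕ × ℤ × ℕ))) := (.node ex0 (.node .nil (.node .nil (.node .nil (.node .nil (.node .nil (.node .nil .nil (.node ex64 .nil .nil)) (.node ex32 .nil (.node ex96 .nil .nil))) (.node ex16 (.node .nil .nil (.node ex80 .nil .nil)) (.node ex48 .nil (.node ex112 .nil .nil)))) (.node ex8 (.node .nil (.node .nil .nil (.node ex72 .nil .nil)) (.node ex40 .nil (.node ex104 .nil .nil))) (.node ex24 (.node .nil .nil (.node ex88 .nil .nil)) (.node ex56 .nil (.node ex120 .nil .nil))))) (.node ex4 (.node .nil (.node .nil (.node .nil .nil (.node ex68 .nil .nil)) (.node ex36 .nil (.node ex100 .nil .nil))) (.node ex20 (.node .nil .nil (.node ex84 .nil .nil)) (.node ex52 .nil (.node ex116 .nil .nil)))) (.node ex12 (.node .nil (.node .nil .nil (.node ex76 .nil .nil)) (.node ex44 .nil (.node ex108 .nil .nil))) (.node ex28 (.node .nil .nil (.node ex92 .nil .nil)) (.node ex60 .nil (.node ex124 .nil .nil)))))) (.node ex2 (.node .nil (.node .nil (.node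 .nil (.node .nil .nil (.node ex66 .nil .nil)) (.node ex34 .nil (.node ex98 .nil .nil))) (.node ex18 (.node .nil .nil (.node ex82 .nil .nil)) (.node ex50 .nil (.node ex114 .nil .nil)))) (.node ex10 (.node .nil (.node .nil .nil (.node ex74 .nil .nil)) (.node ex42 .nil (.node ex106 .nil .nil))) (.node ex26 (.node .nil .nil (.node ex90 .nil .nil)) (.node ex58 .nil (.node ex122 .nil .nil))))) (.node ex6 (.node .nil (.node .nil (.node .nil .nil (.node ex70 .nil .nil)) (.node ex38 .nil (.node ex102 .nil .nil))) (.node ex22 (.node .nil .nil (.node ex86 .nil .nil)) (.node ex54 .nil (.node ex118 .nil .nil)))) (.node ex14 (.node .nil (.node .nil .nil (.node ex78 .nil .nil)) (.node ex46 .nil (.node ex110 .nil .nil))) (.node ex30 (.node .nil .nil (.node ex94 .nil .nil)) (.node ex62 .nil .nil)))))) (.node ex1 (.node .nil (.node .nil (.node .nil (.node .nil (.node .nil .nil (.node ex65 .nil .nil)) (.node ex33 .nil (.node ex97 .nil .nil))) (.node ex17 (.node .nil .nil (.node ex81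 .nil .nil)) (.node ex49 .nil (.node ex113 .nil .nil)))) (.node ex9 (.node .nil (.node .nil .nil (.node ex73 .nil .nil)) (.node ex41 .nil (.node ex105 .nil .nil))) (.node ex25 (.node .nil .nil (.node ex89 .nil .nil)) (.node ex57 .nil (.node ex121 .nil .nil))))) (.node ex5 (.node .nil (.node .nil (.node .nil .nil (.node ex69 .nil .nil)) (.node ex37 .nil (.node ex101 .nil .nil))) (.node ex21 (.node .nil .nil (.node ex85 .nil .nil)) (.node ex53 .nil (.node ex117 .nil .nil)))) (.node ex13 (.node .nil (.node .nil .nil (.node ex77 .nil .nil)) (.node ex45 .nil (.node ex109 .nil .nil))) (.node ex29 (.node .nil .nil (.node ex93 .nil .nil)) (.node ex61 .nil (.node ex125 .nil .nil)))))) (.node ex3 (.node .nil (.node .nil (.node .nil (.node .nil .nil (.node ex67 .nil .nil)) (.node ex35 .nil (.node ex99 .nil .nil))) (.node ex19 (.node .nil .nil (.node ex83 .nil .nil)) (.node ex51 .nil (.node ex115 .nil .nil)))) (.node ex11 (.node .nil (.node .nil .nil (.node ex75 .nil .nil))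 (.node ex43 .nil (.node ex107 .nil .nil))) (.node ex27 (.node .nil .nil (.node ex91 .nil .nil)) (.node ex59 .nil (.node ex123 .nil .nil))))) (.node ex7 (.node .nil (.node .nil (.node .nil .nil (.node ex71 .nil .nil)) (.node ex39 .nil (.node ex103 .nil .nil))) (.node ex23 (.node .nil .nil (.node ex87 .nil .nil)) (.node ex55 .nil (.node ex119 .nil .nil)))) (.node ex15 (.node .nil (.node .nil .nil (.node ex79 .nil .nil)) (.node ex47 .nil (.node ex111 .nil .nil))) (.node ex31 (.node .nil .nil (.node ex95 .nil .nil)) (.node ex63 .nil .nil)))))))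
noncomputable def nt6 : Trie (List (ℕ × ℤ)) := (.node [(0,(.ofNat 1))] (.node [] (.node [] (.node [] (.node [] (.node [] (.node [] (.node [] .nil (.node [(128,(.ofNat 1))] .nil .nil)) (.node [(65,(.negSucc 0))] .nil .nil)) (.node [(32,(.ofNat 1))] .nil (.node [(95,(.negSucc 0))] .nil .nil))) (.node [(17,(.negSucc 0))] (.node [] .nil (.node [(80,(.ofNat 1))] .nil .nil)) (.node [(48,(.ofNat 1))] .nil (.node [(111,(.negSucc 0))] .nil .nil)))) (.node [(8,(.ofNat 1))] (.node [] (.node [] .nil (.node [(71,(.negSucc 0))] .nil .nil)) (.node [(40,(.ofNat 1))] .nil (.node [(105,(.ofNat 1))] .nil .nil))) (.node [(24,(.ofNat 1))] (.node [] .nil (.node [(89,(.ofNat 1))] .nil .nil)) (.node [(55,(.ofNat 1))] .nil (.node [(119,(.negSucc 0))] .nil .nil))))) (.node [(4,(.ofNat 1))] (.node [] (.node [] (.node [] (.node [] .nil (.node [(132,(.ofNat 1))] .nil .nil)) (.node [(67,(.ofNat 1))] .nil .nil)) (.node [(36,(.ofNat 1))] .nil (.node [(100,(.ofNat 1))] .nil .nil))) (.node [(19,(.ofNat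 1))] (.node [] .nil (.node [(83,(.negSucc 0))] .nil .nil)) (.node [(52,(.ofNat 1))] .nil (.node [(116,(.ofNat 1))] .nil .nil)))) (.node [(13,(.negSucc 0))] (.node [] (.node [] .nil (.node [(76,(.ofNat 1))] .nil .nil)) (.node [(43,(.ofNat 1))] .nil (.node [(109,(.ofNat 1))] .nil .nil))) (.node [(27,(.ofNat 1))] (.node [] .nil (.node [(93,(.ofNat 1))] .nil .nil)) (.node [(61,(.negSucc 0))] .nil (.node [(124,(.ofNat 1))] .nil .nil)))))) (.node [(2,(.ofNat 1))] (.node [] (.node [] (.node [] (.node [] (.node [] .nil (.node [(130,(.ofNat 1))] .nil .nil)) (.node [(66,(.ofNat 1))] .nil .nil)) (.node [(35,(.negSucc 0))] .nil (.node [(97,(.negSucc 0))] .nil .nil))) (.node [(18,(.ofNat 1))] (.node [] .nil (.node [(82,(.ofNat 1))] .nil .nil)) (.node [(51,(.negSucc 0))] .nil (.node [(113,(.negSucc 0))] .nil .nil)))) (.node [(10,(.ofNat 1))] (.node [] (.node [] .nil (.node [(75,(.ofNat 1))] .nil .nil)) (.node [(41,(.ofNat 1))] .nil (.node [(106,(.ofNat 1))] .nil .nil))) (.node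 [(25,(.ofNat 1))] (.node [] .nil (.node [(90,(.ofNat 1))] .nil .nil)) (.node [(58,(.ofNat 1))] .nil (.node [(123,(.ofNat 1))] .nil .nil))))) (.node [(6,(.negSucc 0))] (.node [] (.node [] (.node [] .nil (.node [(69,(.negSucc 0))] .nil .nil)) (.node [(38,(.ofNat 1))] .nil (.node [(102,(.ofNat 1))] .nil .nil))) (.node [(21,(.ofNat 1))] (.node [] .nil (.node [(86,(.ofNat 1))] .nil .nil)) (.node [(54,(.ofNat 1))] .nil (.node [(117,(.negSucc 0))] .nil .nil)))) (.node [(14,(.ofNat 1))] (.node [] (.node [] .nil (.node [(79,(.ofNat 1))] .nil .nil)) (.node [(47,(.negSucc 0))] .nil (.node [(110,(.ofNat 1))] .nil .nil))) (.node [(31,(.negSucc 0))] (.node [] .nil (.node [(94,(.ofNat 1))] .nil .nil)) (.node [(62,(.ofNat 1))] .nil (.node [(127,(.ofNat 1))] .nil .nil))))))) (.node [(1,(.ofNat 1))] (.node [] (.node [] (.node [] (.node [] (.node [] (.node [] .nil (.node [(129,(.ofNat 1))] .nil .nil)) (.node [(64,(.ofNat 1))] .nil .nil)) (.node [(33,(.ofNat 1))] .nil (.node [(98,(.ofNat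 1))] .nil .nil))) (.node [(16,(.ofNat 1))] (.node [] .nil (.node [(81,(.ofNat 1))] .nil .nil)) (.node [(49,(.ofNat 1))] .nil (.node [(114,(.ofNat 1))] .nil .nil)))) (.node [(9,(.ofNat 1))] (.node [] (.node [] .nil (.node [(73,(.ofNat 1))] .nil .nil)) (.node [(42,(.negSucc 0))] .nil (.node [(104,(.negSucc 0))] .nil .nil))) (.node [(26,(.negSucc 0))] (.node [] .nil (.node [(88,(.negSucc 0))] .nil .nil)) (.node [(57,(.ofNat 1))] .nil (.node [(121,(.ofNat 1))] .nil .nil))))) (.node [(5,(.ofNat 1)),(6,(.ofNat 1))] (.node [] (.node [] (.node [] .nil (.node [(70,(.negSucc 0))] .nil .nil)) (.node [(37,(.ofNat 1))] .nil (.node [(101,(.ofNat 1))] .nil .nil))) (.node [(22,(.negSucc 0))] (.node [] .nil (.node [(85,(.ofNat 1))] .nil .nil)) (.node [(53,(.ofNat 1))] .nil (.node [(118,(.ofNat 1))] .nil .nil)))) (.node [(12,(.ofNat 1))] (.node [] (.node [] .nil (.node [(77,(.ofNat 1))] .nil .nil)) (.node [(45,(.ofNat 1))] .nil (.node [(108,(.negSucc 0))] .nil .nil))) (.node [(29,(.ofNat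 1))] (.node [] .nil (.node [(92,(.negSucc 0))] .nil .nil)) (.node [(60,(.ofNat 1))] .nil (.node [(125,(.ofNat 1))] .nil .nil)))))) (.node [(3,(.ofNat 1))] (.node [] (.node [] (.node [] (.node [] (.node [] .nil (.node [(131,(.ofNat 1))] .nil .nil)) (.node [(68,(.negSucc 0))] .nil .nil)) (.node [(34,(.ofNat 1))] .nil (.node [(99,(.ofNat 1))] .nil .nil))) (.node [(20,(.negSucc 0))] (.node [] .nil (.node [(84,(.ofNat 1))] .nil .nil)) (.node [(50,(.ofNat 1))] .nil (.node [(115,(.ofNat 1))] .nil .nil)))) (.node [(11,(.ofNat 1))] (.node [] (.node [] .nil (.node [(74,(.negSucc 0))] .nil .nil)) (.node [(44,(.negSucc 0))] .nil (.node [(107,(.ofNat 1))] .nil .nil))) (.node [(28,(.negSucc 0))] (.node [] .nil (.node [(91,(.ofNat 1))] .nil .nil)) (.node [(59,(.ofNat 1))] .nil (.node [(122,(.negSucc 0))] .nil .nil))))) (.node [(7,(.ofNat 1))] (.node [] (.node [] (.node [] .nil (.node [(72,(.ofNat 1))] .nil .nil)) (.node [(39,(.ofNat 1))] .nil (.node [(103,(.ofNat 1))] .nil .nil)))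 (.node [(23,(.ofNat 1))] (.node [] .nil (.node [(87,(.ofNat 1))] .nil .nil)) (.node [(56,(.negSucc 0))] .nil (.node [(120,(.ofNat 1))] .nil .nil)))) (.node [(15,(.ofNat 1))] (.node [] (.node [] .nil (.node [(78,(.negSucc 0))] .nil .nil)) (.node [(46,(.ofNat 1))] .nil (.node [(112,(.ofNat 1))] .nil .nil))) (.node [(30,(.ofNat 1))] (.node [] .nil (.node [(96,(.ofNat 1))] .nil .nil)) (.node [(63,(.ofNat 1))] .nil (.node [(126,(.negSucc 0))] .nil .nil))))))))
noncomputable def nt5 : Trie (List (ℕ × ℤ)) := (.node [(0,(.ofNat 1))] (.node [] (.node [] (.node [] (.node [] (.node [] (.node [] (.node [] .nil (.node [(127,(.negSucc 0))] .nil .nil)) (.node [(64,(.ofNat 1))] .nil .nil)) (.node [(31,(.ofNat 1))] .nil (.node [(96,(.ofNat 1))] .nil .nil))) (.node [(15,(.ofNat 1))] (.node [] .nil (.node [(80,(.ofNat 1))] .nil .nil)) (.node [(47,(.ofNat 1))] .nil (.node [(112,(.ofNat 1))] .nil .nil)))) (.node [(8,(.ofNat 1))] (.node [] (.node [] .nil (.node [(70,(.ofNat 1))] .nil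 .nil)) (.node [(41,(.negSucc 0))] .nil (.node [(103,(.negSucc 0))] .nil .nil))) (.node [(25,(.negSucc 0))] (.node [] .nil (.node [(87,(.negSucc 0))] .nil .nil)) (.node [(57,(.negSucc 0))] .nil (.node [(121,(.ofNat 1))] .nil .nil))))) (.node [(4,(.ofNat 1)),(5,(.ofNat 1))] (.node [] (.node [] (.node [] (.node [] .nil (.node [(132,(.ofNat 1))] .nil .nil)) (.node [(71,(.negSucc 0))] .nil .nil)) (.node [(35,(.ofNat 1))] .nil (.node [(100,(.ofNat 1))] .nil .nil))) (.node [(20,(.ofNat 1))] (.node [] .nil (.node [(84,(.ofNat 1))] .nil .nil)) (.node [(51,(.ofNat 1))] .nil (.node [(117,(.ofNat 1))] .nil .nil)))) (.node [(11,(.ofNat 1))] (.node [] (.node [] .nil (.node [(76,(.ofNat 1))] .nil .nil)) (.node [(45,(.negSucc 0))] .nil (.node [(107,(.negSucc 0))] .nil .nil))) (.node [(29,(.negSucc 0))] (.node [] .nil (.node [(91,(.negSucc 0))] .nil .nil)) (.node [(60,(.ofNat 1))] .nil (.node [(123,(.negSucc 0))] .nil .nil)))))) (.node [(2,(.ofNat 1))] (.node [] (.node [] (.node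 [] (.node [] (.node [] .nil (.node [(130,(.ofNat 1))] .nil .nil)) (.node [(65,(.ofNat 1))] .nil .nil)) (.node [(34,(.ofNat 1))] .nil (.node [(99,(.ofNat 1))] .nil .nil))) (.node [(19,(.negSucc 0))] (.node [] .nil (.node [(83,(.ofNat 1))] .nil .nil)) (.node [(50,(.ofNat 1))] .nil (.node [(115,(.ofNat 1))] .nil .nil)))) (.node [(10,(.ofNat 1))] (.node [] (.node [] .nil (.node [(73,(.negSucc 0))] .nil .nil)) (.node [(42,(.ofNat 1))] .nil (.node [(106,(.ofNat 1))] .nil .nil))) (.node [(26,(.ofNat 1))] (.node [] .nil (.node [(90,(.ofNat 1))] .nil .nil)) (.node [(58,(.ofNat 1))] .nil (.node [(122,(.ofNat 1))] .nil .nil))))) (.node [(5,(.ofNat 1)),(6,(.ofNat 1))] (.node [] (.node [] (.node [] .nil (.node [(72,(.negSucc 0))] .nil .nil)) (.node [(38,(.ofNat 1))] .nil (.node [(102,(.ofNat 1))] .nil .nil))) (.node [(23,(.negSucc 0))] (.node [] .nil (.node [(86,(.ofNat 1))] .nil .nil)) (.node [(54,(.ofNat 1))] .nil (.node [(118,(.ofNat 1))] .nil .nil)))) (.node [(14,(.ofNat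 1))] (.node [] (.node [] .nil (.node [(77,(.negSucc 0))] .nil .nil)) (.node [(46,(.ofNat 1))] .nil (.node [(111,(.ofNat 1))] .nil .nil))) (.node [(30,(.ofNat 1))] (.node [] .nil (.node [(95,(.ofNat 1))] .nil .nil)) (.node [(61,(.ofNat 1))] .nil (.node [(126,(.ofNat 1))] .nil .nil))))))) (.node [(1,(.ofNat 1))] (.node [] (.node [] (.node [] (.node [] (.node [] (.node [] .nil (.node [(129,(.ofNat 1))] .nil .nil)) (.node [(66,(.negSucc 0))] .nil .nil)) (.node [(33,(.ofNat 1))] .nil (.node [(97,(.ofNat 1))] .nil .nil))) (.node [(17,(.ofNat 1))] (.node [] .nil (.node [(81,(.ofNat 1))] .nil .nil)) (.node [(49,(.ofNat 1))] .nil (.node [(113,(.ofNat 1))] .nil .nil)))) (.node [(9,(.ofNat 1))] (.node [] (.node [] .nil (.node [(74,(.ofNat 1))] .nil .nil)) (.node [(40,(.ofNat 1))] .nil (.node [(105,(.ofNat 1))] .nil .nil))) (.node [(24,(.ofNat 1))] (.node [] .nil (.node [(89,(.ofNat 1))] .nil .nil)) (.node [(56,(.ofNat 1))] .nil (.node [(120,(.negSucc 0))] .nil .nil))))) (.node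 [(5,(.negSucc 0))] (.node [] (.node [] (.node [] .nil (.node [(67,(.negSucc 0))] .nil .nil)) (.node [(37,(.ofNat 1))] .nil (.node [(101,(.ofNat 1))] .nil .nil))) (.node [(21,(.ofNat 1))] (.node [] .nil (.node [(85,(.ofNat 1))] .nil .nil)) (.node [(53,(.ofNat 1))] .nil (.node [(116,(.negSucc 0))] .nil .nil)))) (.node [(13,(.ofNat 1))] (.node [] (.node [] .nil (.node [(78,(.ofNat 1))] .nil .nil)) (.node [(44,(.ofNat 1))] .nil (.node [(109,(.ofNat 1))] .nil .nil))) (.node [(28,(.ofNat 1))] (.node [] .nil (.node [(93,(.ofNat 1))] .nil .nil)) (.node [(62,(.negSucc 0))] .nil (.node [(125,(.ofNat 1))] .nil .nil)))))) (.node [(3,(.ofNat 1))] (.node [] (.node [] (.node [] (.node [] (.node [] .nil (.node [(131,(.ofNat 1))] .nil .nil)) (.node [(69,(.ofNat 1))] .nil .nil)) (.node [(36,(.negSucc 0))] .nil (.node [(98,(.negSucc 0))] .nil .nil))) (.node [(18,(.ofNat 1))] (.node [] .nil (.node [(82,(.negSucc 0))] .nil .nil)) (.node [(52,(.negSucc 0))] .nil (.node [(114,(.negSucc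 0))] .nil .nil)))) (.node [(12,(.negSucc 0))] (.node [] (.node [] .nil (.node [(75,(.ofNat 1))] .nil .nil)) (.node [(43,(.ofNat 1))] .nil (.node [(108,(.ofNat 1))] .nil .nil))) (.node [(27,(.ofNat 1))] (.node [] .nil (.node [(92,(.ofNat 1))] .nil .nil)) (.node [(59,(.ofNat 1))] .nil (.node [(124,(.ofNat 1))] .nil .nil))))) (.node [(7,(.ofNat 1))] (.node [] (.node [] (.node [] .nil (.node [(68,(.negSucc 0))] .nil .nil)) (.node [(39,(.ofNat 1))] .nil (.node [(104,(.ofNat 1))] .nil .nil))) (.node [(22,(.ofNat 1))] (.node [] .nil (.node [(88,(.ofNat 1))] .nil .nil)) (.node [(55,(.ofNat 1))] .nil (.node [(119,(.ofNat 1))] .nil .nil)))) (.node [(16,(.negSucc 0))] (.node [] (.node [] .nil (.node [(79,(.ofNat 1))] .nil .nil)) (.node [(48,(.negSucc 0))] .nil (.node [(110,(.negSucc 0))] .nil .nil))) (.node [(32,(.negSucc 0))] (.node [] .nil (.node [(94,(.negSucc 0))] .nil .nil)) (.node [(63,(.ofNat 1))] .nil (.node [(128,(.ofNat 1))] .nil .nil))))))))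
noncomputable def nt4 : Trie (List (ℕ × ℤ)) := (.node [(0,(.ofNat 1))] (.node [] (.node [] (.node [] (.node [] (.node [] (.node [] (.node [] .nil (.node [(129,(.ofNat 1))] .nil .nil)) (.node [(67,(.ofNat 1))] .nil .nil)) (.node [(33,(.negSucc 0))] .nil (.node [(98,(.ofNat 1))] .nil .nil))) (.node [(16,(.ofNat 1))] (.node [] .nil (.node [(80,(.ofNat 1))] .nil .nil)) (.node [(49,(.negSucc 0))] .nil (.node [(114,(.ofNat 1))] .nil .nil)))) (.node [(8,(.ofNat 1))] (.node [] (.node [] .nil (.node [(75,(.negSucc 0))] .nil .nil)) (.node [(40,(.ofNat 1))] .nil (.node [(104,(.ofNat 1))] .nil .nil))) (.node [(24,(.ofNat 1))] (.node [] .nil (.node [(88,(.ofNat 1))] .nil .nil)) (.node [(56,(.ofNat 1))] .nil (.node [(118,(.negSucc 0))] .nil .nil))))) (.node [(4,(.negSucc 0))] (.node [] (.node [] (.node [] (.node [] .nil (.node [(132,(.ofNat 1))] .nil .nil)) (.node [(65,(.negSucc 0))] .nil .nil)) (.node [(37,(.negSucc 0))] .nil (.node [(100,(.ofNat 1))] .nil .nil))) (.node [(22,(.negSucc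 0))] (.node [] .nil (.node [(84,(.ofNat 1))] .nil .nil)) (.node [(53,(.negSucc 0))] .nil (.node [(116,(.ofNat 1))] .nil .nil)))) (.node [(12,(.ofNat 1))] (.node [] (.node [] .nil (.node [(77,(.ofNat 1))] .nil .nil)) (.node [(42,(.ofNat 1))] .nil (.node [(108,(.ofNat 1))] .nil .nil))) (.node [(26,(.ofNat 1))] (.node [] .nil (.node [(92,(.ofNat 1))] .nil .nil)) (.node [(60,(.ofNat 1))] .nil (.node [(125,(.ofNat 1))] .nil .nil)))))) (.node [(2,(.ofNat 1))] (.node [] (.node [] (.node [] (.node [] (.node [] .nil (.node [(130,(.ofNat 1))] .nil .nil)) (.node [(73,(.negSucc 0))] .nil .nil)) (.node [(34,(.ofNat 1))] .nil (.node [(96,(.negSucc 0))] .nil .nil))) (.node [(18,(.ofNat 1))] (.node [] .nil (.node [(81,(.negSucc 0))] .nil .nil)) (.node [(50,(.ofNat 1))] .nil (.node [(112,(.negSucc 0))] .nil .nil)))) (.node [(11,(.negSucc 0))] (.node [] (.node [] .nil (.node [(71,(.ofNat 1))] .nil .nil)) (.node [(44,(.negSucc 0))] .nil (.node [(107,(.ofNat 1))] .nil .nil))) (.node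 [(28,(.negSucc 0))] (.node [] .nil (.node [(91,(.ofNat 1))] .nil .nil)) (.node [(57,(.ofNat 1))] .nil (.node [(122,(.ofNat 1))] .nil .nil))))) (.node [(6,(.ofNat 1))] (.node [] (.node [] (.node [] .nil (.node [(70,(.ofNat 1))] .nil .nil)) (.node [(38,(.ofNat 1))] .nil (.node [(103,(.ofNat 1))] .nil .nil))) (.node [(20,(.ofNat 1))] (.node [] .nil (.node [(87,(.ofNat 1))] .nil .nil)) (.node [(54,(.ofNat 1))] .nil (.node [(120,(.ofNat 1))] .nil .nil)))) (.node [(15,(.negSucc 0))] (.node [] (.node [] .nil (.node [(78,(.ofNat 1))] .nil .nil)) (.node [(46,(.ofNat 1))] .nil (.node [(110,(.ofNat 1))] .nil .nil))) (.node [(30,(.ofNat 1))] (.node [] .nil (.node [(94,(.ofNat 1))] .nil .nil)) (.node [(63,(.negSucc 0))] .nil (.node [(126,(.ofNat 1))] .nil .nil))))))) (.node [(1,(.ofNat 1))] (.node [] (.node [] (.node [] (.node [] (.node [] (.node [] .nil (.node [(128,(.negSucc 0))] .nil .nil)) (.node [(68,(.ofNat 1))] .nil .nil)) (.node [(32,(.ofNat 1))] .nil (.node [(95,(.negSucc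 0))] .nil .nil))) (.node [(17,(.ofNat 1))] (.node [] .nil (.node [(82,(.ofNat 1))] .nil .nil)) (.node [(48,(.ofNat 1))] .nil (.node [(111,(.negSucc 0))] .nil .nil)))) (.node [(9,(.ofNat 1))] (.node [] (.node [] .nil (.node [(66,(.negSucc 0))] .nil .nil)) (.node [(43,(.negSucc 0))] .nil (.node [(105,(.ofNat 1))] .nil .nil))) (.node [(27,(.negSucc 0))] (.node [] .nil (.node [(89,(.ofNat 1))] .nil .nil)) (.node [(58,(.negSucc 0))] .nil (.node [(121,(.ofNat 1))] .nil .nil))))) (.node [(4,(.ofNat 1)),(5,(.ofNat 1))] (.node [] (.node [] (.node [] .nil (.node [(69,(.ofNat 1))] .nil .nil)) (.node [(36,(.ofNat 1))] .nil (.node [(101,(.ofNat 1))] .nil .nil))) (.node [(19,(.ofNat 1))] (.node [] .nil (.node [(85,(.ofNat 1))] .nil .nil)) (.node [(52,(.ofNat 1))] .nil (.node [(119,(.ofNat 1))] .nil .nil)))) (.node [(13,(.ofNat 1))] (.node [] (.node [] .nil (.node [(76,(.negSucc 0))] .nil .nil)) (.node [(45,(.ofNat 1))] .nil (.node [(109,(.ofNat 1))] .nil .nil))) (.node [(29,(.ofNat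 1))] (.node [] .nil (.node [(93,(.ofNat 1))] .nil .nil)) (.node [(61,(.ofNat 1))] .nil (.node [(124,(.negSucc 0))] .nil .nil)))))) (.node [(3,(.ofNat 1)),(4,(.ofNat 1))] (.node [] (.node [] (.node [] (.node [] (.node [] .nil (.node [(131,(.ofNat 1))] .nil .nil)) (.node [(64,(.negSucc 0))] .nil .nil)) (.node [(35,(.ofNat 1))] .nil (.node [(99,(.ofNat 1))] .nil .nil))) (.node [(21,(.negSucc 0))] (.node [] .nil (.node [(83,(.ofNat 1))] .nil .nil)) (.node [(51,(.ofNat 1))] .nil (.node [(115,(.ofNat 1))] .nil .nil)))) (.node [(10,(.ofNat 1))] (.node [] (.node [] .nil (.node [(72,(.ofNat 1))] .nil .nil)) (.node [(41,(.ofNat 1))] .nil (.node [(106,(.negSucc 0))] .nil .nil))) (.node [(25,(.ofNat 1))] (.node [] .nil (.node [(90,(.negSucc 0))] .nil .nil)) (.node [(59,(.ofNat 1))] .nil (.node [(123,(.ofNat 1))] .nil .nil))))) (.node [(7,(.ofNat 1))] (.node [] (.node [] (.node [] .nil (.node [(74,(.negSucc 0))] .nil .nil)) (.node [(39,(.ofNat 1))] .nil (.node [(102,(.negSucc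 0))] .nil .nil))) (.node [(23,(.ofNat 1))] (.node [] .nil (.node [(86,(.negSucc 0))] .nil .nil)) (.node [(55,(.ofNat 1))] .nil (.node [(117,(.negSucc 0))] .nil .nil)))) (.node [(14,(.ofNat 1))] (.node [] (.node [] .nil (.node [(79,(.ofNat 1))] .nil .nil)) (.node [(47,(.ofNat 1))] .nil (.node [(113,(.ofNat 1))] .nil .nil))) (.node [(31,(.ofNat 1))] (.node [] .nil (.node [(97,(.ofNat 1))] .nil .nil)) (.node [(62,(.ofNat 1))] .nil (.node [(127,(.ofNat 1))] .nil .nil))))))))
noncomputable def nt3 : Trie (List (ℕ × ℤ)) := (.node [(0,(.ofNat 1))] (.node [] (.node [] (.node [] (.node [] (.node [] (.node [] (.node [] .nil (.node [(128,(.ofNat 1))] .nil .nil)) (.node [(60,(.negSucc 0))] .nil .nil)) (.node [(29,(.ofNat 1))] .nil (.node [(93,(.negSucc 0))] .nil .nil))) (.node [(19,(.negSucc 0))] (.node [] .nil (.node [(81,(.ofNat 1))] .nil .nil)) (.node [(45,(.ofNat 1))] .nil (.node [(109,(.negSucc 0))] .nil .nil)))) (.node [(8,(.ofNat 1))] (.node [] (.node [] .nil (.node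 [(72,(.ofNat 1))] .nil .nil)) (.node [(40,(.ofNat 1))] .nil (.node [(104,(.ofNat 1))] .nil .nil))) (.node [(24,(.ofNat 1))] (.node [] .nil (.node [(88,(.ofNat 1))] .nil .nil)) (.node [(56,(.ofNat 1))] .nil (.node [(123,(.ofNat 1))] .nil .nil))))) (.node [(3,(.ofNat 1)),(4,(.ofNat 1))] (.node [] (.node [] (.node [] (.node [] .nil (.node [(132,(.ofNat 1))] .nil .nil)) (.node [(68,(.ofNat 1))] .nil .nil)) (.node [(36,(.ofNat 1))] .nil (.node [(100,(.ofNat 1))] .nil .nil))) (.node [(17,(.ofNat 1))] (.node [] .nil (.node [(84,(.ofNat 1))] .nil .nil)) (.node [(52,(.ofNat 1))] .nil (.node [(116,(.ofNat 1))] .nil .nil)))) (.node [(12,(.ofNat 1))] (.node [] (.node [] .nil (.node [(63,(.negSucc 0))] .nil .nil)) (.node [(47,(.negSucc 0))] .nil (.node [(111,(.ofNat 1))] .nil .nil))) (.node [(31,(.negSucc 0))] (.node [] .nil (.node [(95,(.ofNat 1))] .nil .nil)) (.node [(64,(.ofNat 1))] .nil (.node [(121,(.negSucc 0))] .nil .nil)))))) (.node [(2,(.ofNat 1)),(3,(.ofNat 1))] (.node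 [] (.node [] (.node [] (.node [] (.node [] .nil (.node [(129,(.negSucc 0))] .nil .nil)) (.node [(62,(.negSucc 0))] .nil .nil)) (.node [(34,(.ofNat 1))] .nil (.node [(98,(.ofNat 1))] .nil .nil))) (.node [(15,(.ofNat 1))] (.node [] .nil (.node [(82,(.ofNat 1))] .nil .nil)) (.node [(50,(.ofNat 1))] .nil (.node [(114,(.ofNat 1))] .nil .nil)))) (.node [(9,(.ofNat 1))] (.node [] (.node [] .nil (.node [(78,(.negSucc 0))] .nil .nil)) (.node [(42,(.ofNat 1))] .nil (.node [(106,(.ofNat 1))] .nil .nil))) (.node [(26,(.ofNat 1))] (.node [] .nil (.node [(90,(.ofNat 1))] .nil .nil)) (.node [(59,(.negSucc 0))] .nil (.node [(119,(.negSucc 0))] .nil .nil))))) (.node [(6,(.ofNat 1))] (.node [] (.node [] (.node [] .nil (.node [(70,(.ofNat 1))] .nil .nil)) (.node [(37,(.ofNat 1))] .nil (.node [(101,(.negSucc 0))] .nil .nil))) (.node [(22,(.ofNat 1))] (.node [] .nil (.node [(85,(.negSucc 0))] .nil .nil)) (.node [(53,(.ofNat 1))] .nil (.node [(118,(.ofNat 1))] .nil .nil)))) (.node [(14,(.ofNat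 1))] (.node [] (.node [] .nil (.node [(74,(.ofNat 1))] .nil .nil)) (.node [(43,(.ofNat 1))] .nil (.node [(107,(.negSucc 0))] .nil .nil))) (.node [(27,(.ofNat 1))] (.node [] .nil (.node [(91,(.negSucc 0))] .nil .nil)) (.node [(66,(.ofNat 1))] .nil (.node [(126,(.ofNat 1))] .nil .nil))))))) (.node [(1,(.ofNat 1)),(3,(.ofNat 1))] (.node [] (.node [] (.node [] (.node [] (.node [] (.node [] .nil (.node [(130,(.ofNat 1))] .nil .nil)) (.node [(61,(.negSucc 0))] .nil .nil)) (.node [(33,(.ofNat 1))] .nil (.node [(97,(.ofNat 1))] .nil .nil))) (.node [(20,(.negSucc 0))] (.node [] .nil (.node [(80,(.negSucc 0))] .nil .nil)) (.node [(49,(.ofNat 1))] .nil (.node [(113,(.ofNat 1))] .nil .nil)))) (.node [(10,(.negSucc 0))] (.node [] (.node [] .nil (.node [(77,(.negSucc 0))] .nil .nil)) (.node [(41,(.ofNat 1))] .nil (.node [(105,(.ofNat 1))] .nil .nil))) (.node [(25,(.ofNat 1))] (.node [] .nil (.node [(89,(.ofNat 1))] .nil .nil)) (.node [(57,(.ofNat 1))] .nil (.node [(124,(.ofNat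 1))] .nil .nil))))) (.node [(5,(.ofNat 1))] (.node [] (.node [] (.node [] .nil (.node [(69,(.ofNat 1))] .nil .nil)) (.node [(38,(.negSucc 0))] .nil (.node [(102,(.ofNat 1))] .nil .nil))) (.node [(21,(.ofNat 1))] (.node [] .nil (.node [(86,(.ofNat 1))] .nil .nil)) (.node [(54,(.negSucc 0))] .nil (.node [(117,(.ofNat 1))] .nil .nil)))) (.node [(13,(.ofNat 1))] (.node [] (.node [] .nil (.node [(73,(.ofNat 1))] .nil .nil)) (.node [(48,(.negSucc 0))] .nil (.node [(112,(.ofNat 1))] .nil .nil))) (.node [(32,(.negSucc 0))] (.node [] .nil (.node [(96,(.ofNat 1))] .nil .nil)) (.node [(65,(.ofNat 1))] .nil (.node [(125,(.ofNat 1))] .nil .nil)))))) (.node [(3,(.negSucc 0))] (.node [] (.node [] (.node [] (.node [] (.node [] .nil (.node [(131,(.ofNat 1))] .nil .nil)) (.node [(67,(.ofNat 1))] .nil .nil)) (.node [(35,(.ofNat 1))] .nil (.node [(99,(.ofNat 1))] .nil .nil))) (.node [(16,(.ofNat 1))] (.node [] .nil (.node [(83,(.ofNat 1))] .nil .nil)) (.node [(51,(.ofNat 1))] .nil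 (.node [(115,(.ofNat 1))] .nil .nil)))) (.node [(11,(.ofNat 1))] (.node [] (.node [] .nil (.node [(79,(.negSucc 0))] .nil .nil)) (.node [(46,(.negSucc 0))] .nil (.node [(110,(.ofNat 1))] .nil .nil))) (.node [(30,(.negSucc 0))] (.node [] .nil (.node [(94,(.ofNat 1))] .nil .nil)) (.node [(58,(.ofNat 1))] .nil (.node [(120,(.negSucc 0))] .nil .nil))))) (.node [(7,(.ofNat 1))] (.node [] (.node [] (.node [] .nil (.node [(71,(.ofNat 1))] .nil .nil)) (.node [(39,(.ofNat 1))] .nil (.node [(103,(.ofNat 1))] .nil .nil))) (.node [(23,(.ofNat 1))] (.node [] .nil (.node [(87,(.ofNat 1))] .nil .nil)) (.node [(55,(.ofNat 1))] .nil (.node [(122,(.ofNat 1))] .nil .nil)))) (.node [(18,(.negSucc 0))] (.node [] (.node [] .nil (.node [(75,(.ofNat 1))] .nil .nil)) (.node [(44,(.ofNat 1))] .nil (.node [(108,(.negSucc 0))] .nil .nil))) (.node [(28,(.ofNat 1))] (.node [] .nil (.node [(92,(.negSucc 0))] .nil .nil)) (.node [(76,(.negSucc 0))] .nil (.node [(127,(.ofNat 1))] .nil .nil))))))))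
noncomputable def nt2 : Trie (List (ℕ × ℤ)) := (.node [(0,(.ofNat 1)),(2,(.ofNat 1))] (.node [] (.node [] (.node [] (.node [] (.node [] (.node [] (.node [] .nil (.node [(128,(.ofNat 1))] .nil .nil)) (.node [(64,(.ofNat 1))] .nil .nil)) (.node [(32,(.ofNat 1))] .nil (.node [(96,(.ofNat 1))] .nil .nil))) (.node [(16,(.ofNat 1))] (.node [] .nil (.node [(59,(.negSucc 0))] .nil .nil)) (.node [(52,(.negSucc 0))] .nil (.node [(118,(.ofNat 1))] .nil .nil)))) (.node [(9,(.negSucc 0))] (.node [] (.node [] .nil (.node [(72,(.ofNat 1))] .nil .nil)) (.node [(40,(.ofNat 1))] .nil (.node [(104,(.ofNat 1))] .nil .nil))) (.node [(18,(.ofNat 1))] (.node [] .nil (.node [(92,(.ofNat 1))] .nil .nil)) (.node [(61,(.ofNat 1))] .nil (.node [(114,(.negSucc 0))] .nil .nil))))) (.node [(4,(.ofNat 1))] (.node [] (.node [] (.node [] (.node [] .nil (.node [(132,(.ofNat 1))] .nil .nil)) (.node [(68,(.ofNat 1))] .nil .nil)) (.node [(36,(.ofNat 1))] .nil (.node [(101,(.ofNat 1))] .nil .nil))) (.node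 [(26,(.negSucc 0))] (.node [] .nil (.node [(79,(.ofNat 1))] .nil .nil)) (.node [(48,(.ofNat 1))] .nil (.node [(110,(.negSucc 0))] .nil .nil)))) (.node [(12,(.ofNat 1))] (.node [] (.node [] .nil (.node [(81,(.negSucc 0))] .nil .nil)) (.node [(44,(.ofNat 1))] .nil (.node [(108,(.ofNat 1))] .nil .nil))) (.node [(22,(.ofNat 1))] (.node [] .nil (.node [(88,(.negSucc 0))] .nil .nil)) (.node [(55,(.negSucc 0))] .nil (.node [(124,(.ofNat 1))] .nil .nil)))))) (.node [(2,(.negSucc 0))] (.node [] (.node [] (.node [] (.node [] (.node [] .nil (.node [(131,(.ofNat 1))] .nil .nil)) (.node [(66,(.ofNat 1))] .nil .nil)) (.node [(34,(.ofNat 1))] .nil (.node [(98,(.ofNat 1))] .nil .nil))) (.node [(24,(.negSucc 0))] (.node [] .nil (.node [(77,(.ofNat 1))] .nil .nil)) (.node [(46,(.ofNat 1))] .nil (.node [(120,(.ofNat 1))] .nil .nil)))) (.node [(10,(.ofNat 1))] (.node [] (.node [] .nil (.node [(74,(.ofNat 1))] .nil .nil)) (.node [(42,(.ofNat 1))] .nil (.node [(106,(.ofNat 1))] .nil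 .nil))) (.node [(20,(.ofNat 1))] (.node [] .nil (.node [(86,(.negSucc 0))] .nil .nil)) (.node [(63,(.ofNat 1))] .nil (.node [(122,(.ofNat 1))] .nil .nil))))) (.node [(6,(.ofNat 1))] (.node [] (.node [] (.node [] .nil (.node [(70,(.ofNat 1))] .nil .nil)) (.node [(39,(.negSucc 0))] .nil (.node [(102,(.ofNat 1))] .nil .nil))) (.node [(28,(.negSucc 0))] (.node [] .nil (.node [(90,(.ofNat 1))] .nil .nil)) (.node [(54,(.ofNat 1))] .nil (.node [(112,(.negSucc 0))] .nil .nil)))) (.node [(14,(.ofNat 1))] (.node [] (.node [] .nil (.node [(83,(.negSucc 0))] .nil .nil)) (.node [(50,(.negSucc 0))] .nil (.node [(116,(.ofNat 1))] .nil .nil))) (.node [(30,(.ofNat 1))] (.node [] .nil (.node [(94,(.ofNat 1))] .nil .nil)) (.node [(57,(.negSucc 0))] .nil (.node [(126,(.ofNat 1))] .nil .nil))))))) (.node [(1,(.ofNat 1))] (.node [] (.node [] (.node [] (.node [] (.node [] (.node [] .nil (.node [(129,(.ofNat 1))] .nil .nil)) (.node [(65,(.ofNat 1))] .nil .nil)) (.node [(33,(.ofNat 1))]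 .nil (.node [(97,(.ofNat 1))] .nil .nil))) (.node [(17,(.ofNat 1))] (.node [] .nil (.node [(76,(.ofNat 1))] .nil .nil)) (.node [(53,(.negSucc 0))] .nil (.node [(119,(.ofNat 1))] .nil .nil)))) (.node [(8,(.ofNat 1))] (.node [] (.node [] .nil (.node [(73,(.ofNat 1))] .nil .nil)) (.node [(41,(.ofNat 1))] .nil (.node [(105,(.ofNat 1))] .nil .nil))) (.node [(19,(.ofNat 1))] (.node [] .nil (.node [(93,(.ofNat 1))] .nil .nil)) (.node [(62,(.ofNat 1))] .nil (.node [(115,(.negSucc 0))] .nil .nil))))) (.node [(5,(.ofNat 1))] (.node [] (.node [] (.node [] .nil (.node [(69,(.ofNat 1))] .nil .nil)) (.node [(37,(.ofNat 1))] .nil (.node [(100,(.negSucc 0))] .nil .nil))) (.node [(27,(.negSucc 0))] (.node [] .nil (.node [(85,(.ofNat 1))] .nil .nil)) (.node [(49,(.ofNat 1))] .nil (.node [(111,(.negSucc 0))] .nil .nil)))) (.node [(13,(.ofNat 1))] (.node [] (.node [] .nil (.node [(82,(.negSucc 0))] .nil .nil)) (.node [(45,(.ofNat 1))] .nil (.node [(109,(.ofNat 1))] .nil .nil))) (.node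 [(23,(.ofNat 1))] (.node [] .nil (.node [(89,(.negSucc 0))] .nil .nil)) (.node [(56,(.negSucc 0))] .nil (.node [(125,(.ofNat 1))] .nil .nil)))))) (.node [(2,(.ofNat 1)),(3,(.ofNat 1))] (.node [] (.node [] (.node [] (.node [] (.node [] .nil (.node [(130,(.negSucc 0))] .nil .nil)) (.node [(67,(.ofNat 1))] .nil .nil)) (.node [(35,(.ofNat 1))] .nil (.node [(99,(.ofNat 1))] .nil .nil))) (.node [(25,(.negSucc 0))] (.node [] .nil (.node [(78,(.ofNat 1))] .nil .nil)) (.node [(47,(.ofNat 1))] .nil (.node [(121,(.ofNat 1))] .nil .nil)))) (.node [(11,(.ofNat 1))] (.node [] (.node [] .nil (.node [(75,(.ofNat 1))] .nil .nil)) (.node [(43,(.ofNat 1))] .nil (.node [(107,(.ofNat 1))] .nil .nil))) (.node [(21,(.ofNat 1))] (.node [] .nil (.node [(87,(.negSucc 0))] .nil .nil)) (.node [(80,(.negSucc 0))] .nil (.node [(123,(.ofNat 1))] .nil .nil))))) (.node [(7,(.ofNat 1))] (.node [] (.node [] (.node [] .nil (.node [(71,(.ofNat 1))] .nil .nil)) (.node [(38,(.ofNat 1))] .nil (.node [(103,(.ofNat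 1))] .nil .nil))) (.node [(29,(.negSucc 0))] (.node [] .nil (.node [(91,(.ofNat 1))] .nil .nil)) (.node [(60,(.ofNat 1))] .nil (.node [(113,(.negSucc 0))] .nil .nil)))) (.node [(15,(.ofNat 1))] (.node [] (.node [] .nil (.node [(84,(.negSucc 0))] .nil .nil)) (.node [(51,(.negSucc 0))] .nil (.node [(117,(.ofNat 1))] .nil .nil))) (.node [(31,(.ofNat 1))] (.node [] .nil (.node [(95,(.ofNat 1))] .nil .nil)) (.node [(58,(.negSucc 0))] .nil (.node [(127,(.ofNat 1))] .nil .nil))))))))
noncomputable def nt1 : Trie (List (ℕ × ℤ)) := (.node [(0,(.ofNat 1))] (.node [] (.node [] (.node [] (.node [] (.node [] (.node [] (.node [] .nil (.node [(124,(.negSucc 0))] .nil .nil)) (.node [(64,(.ofNat 1))] .nil .nil)) (.node [(36,(.negSucc 0))] .nil (.node [(96,(.ofNat 1))] .nil .nil))) (.node [(12,(.ofNat 1))] (.node [] .nil (.node [(80,(.ofNat 1))] .nil .nil)) (.node [(57,(.negSucc 0))] .nil (.node [(112,(.ofNat 1))] .nil .nil)))) (.node [(8,(.ofNat 1))] (.node [] (.node [] .nil (.node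 [(72,(.ofNat 1))] .nil .nil)) (.node [(40,(.ofNat 1))] .nil (.node [(108,(.ofNat 1))] .nil .nil))) (.node [(24,(.ofNat 1))] (.node [] .nil (.node [(78,(.ofNat 1))] .nil .nil)) (.node [(47,(.ofNat 1))] .nil (.node [(120,(.ofNat 1))] .nil .nil))))) (.node [(4,(.ofNat 1))] (.node [] (.node [] (.node [] (.node [] .nil (.node [(132,(.ofNat 1))] .nil .nil)) (.node [(68,(.ofNat 1))] .nil .nil)) (.node [(32,(.ofNat 1))] .nil (.node [(100,(.ofNat 1))] .nil .nil))) (.node [(20,(.ofNat 1))] (.node [] .nil (.node [(93,(.ofNat 1))] .nil .nil)) (.node [(62,(.ofNat 1))] .nil (.node [(116,(.ofNat 1))] .nil .nil)))) (.node [(16,(.negSucc 0))] (.node [] (.node [] .nil (.node [(86,(.negSucc 0))] .nil .nil)) (.node [(44,(.ofNat 1))] .nil (.node [(104,(.negSucc 0))] .nil .nil))) (.node [(28,(.ofNat 1))] (.node [] .nil (.node [(83,(.negSucc 0))] .nil .nil)) (.node [(50,(.negSucc 0))] .nil (.node [(128,(.ofNat 1))] .nil .nil)))))) (.node [(2,(.ofNat 1))] (.node [] (.node [] (.node []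 (.node [] (.node [] .nil (.node [(130,(.ofNat 1))] .nil .nil)) (.node [(66,(.ofNat 1))] .nil .nil)) (.node [(30,(.ofNat 1))] .nil (.node [(98,(.ofNat 1))] .nil .nil))) (.node [(18,(.ofNat 1))] (.node [] .nil (.node [(91,(.ofNat 1))] .nil .nil)) (.node [(60,(.ofNat 1))] .nil (.node [(114,(.ofNat 1))] .nil .nil)))) (.node [(14,(.negSucc 0))] (.node [] (.node [] .nil (.node [(74,(.ofNat 1))] .nil .nil)) (.node [(42,(.ofNat 1))] .nil (.node [(102,(.negSucc 0))] .nil .nil))) (.node [(26,(.ofNat 1))] (.node [] .nil (.node [(81,(.negSucc 0))] .nil .nil)) (.node [(49,(.ofNat 1))] .nil (.node [(126,(.ofNat 1))] .nil .nil))))) (.node [(6,(.ofNat 1))] (.node [] (.node [] (.node [] .nil (.node [(70,(.ofNat 1))] .nil .nil)) (.node [(38,(.ofNat 1))] .nil (.node [(106,(.ofNat 1))] .nil .nil))) (.node [(22,(.ofNat 1))] (.node [] .nil (.node [(76,(.ofNat 1))] .nil .nil)) (.node [(85,(.negSucc 0))] .nil (.node [(118,(.ofNat 1))] .nil .nil)))) (.node [(10,(.ofNat 1))] (.node [] (.node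 [] .nil (.node [(88,(.negSucc 0))] .nil .nil)) (.node [(55,(.negSucc 0))] .nil (.node [(110,(.ofNat 1))] .nil .nil))) (.node [(34,(.negSucc 0))] (.node [] .nil (.node [(94,(.ofNat 1))] .nil .nil)) (.node [(52,(.negSucc 0))] .nil (.node [(122,(.negSucc 0))] .nil .nil))))))) (.node [(1,(.negSucc 0))] (.node [] (.node [] (.node [] (.node [] (.node [] (.node [] .nil (.node [(125,(.negSucc 0))] .nil .nil)) (.node [(65,(.ofNat 1))] .nil .nil)) (.node [(37,(.negSucc 0))] .nil (.node [(97,(.ofNat 1))] .nil .nil))) (.node [(13,(.ofNat 1))] (.node [] .nil (.node [(90,(.ofNat 1))] .nil .nil)) (.node [(58,(.negSucc 0))] .nil (.node [(113,(.ofNat 1))] .nil .nil)))) (.node [(9,(.ofNat 1))] (.node [] (.node [] .nil (.node [(73,(.ofNat 1))] .nil .nil)) (.node [(41,(.ofNat 1))] .nil (.node [(109,(.ofNat 1))] .nil .nil))) (.node [(25,(.ofNat 1))] (.node [] .nil (.node [(79,(.ofNat 1))] .nil .nil)) (.node [(48,(.ofNat 1))] .nil (.node [(121,(.ofNat 1))] .nil .nil))))) (.node [(5,(.ofNat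 1))] (.node [] (.node [] (.node [] .nil (.node [(69,(.ofNat 1))] .nil .nil)) (.node [(33,(.ofNat 1))] .nil (.node [(101,(.ofNat 1))] .nil .nil))) (.node [(21,(.ofNat 1))] (.node [] .nil (.node [(54,(.negSucc 0))] .nil .nil)) (.node [(63,(.ofNat 1))] .nil (.node [(117,(.ofNat 1))] .nil .nil)))) (.node [(17,(.negSucc 0))] (.node [] (.node [] .nil (.node [(87,(.negSucc 0))] .nil .nil)) (.node [(45,(.ofNat 1))] .nil (.node [(105,(.negSucc 0))] .nil .nil))) (.node [(29,(.ofNat 1))] (.node [] .nil (.node [(84,(.negSucc 0))] .nil .nil)) (.node [(51,(.negSucc 0))] .nil (.node [(129,(.ofNat 1))] .nil .nil)))))) (.node [(1,(.ofNat 1)),(3,(.ofNat 1))] (.node [] (.node [] (.node [] (.node [] (.node [] .nil (.node [(131,(.ofNat 1))] .nil .nil)) (.node [(67,(.ofNat 1))] .nil .nil)) (.node [(31,(.ofNat 1))] .nil (.node [(99,(.ofNat 1))] .nil .nil))) (.node [(19,(.ofNat 1))] (.node [] .nil (.node [(92,(.ofNat 1))] .nil .nil)) (.node [(61,(.ofNat 1))] .nil (.node [(115,(.ofNat 1))]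 .nil .nil)))) (.node [(15,(.negSucc 0))] (.node [] (.node [] .nil (.node [(75,(.ofNat 1))] .nil .nil)) (.node [(43,(.ofNat 1))] .nil (.node [(103,(.negSucc 0))] .nil .nil))) (.node [(27,(.ofNat 1))] (.node [] .nil (.node [(82,(.negSucc 0))] .nil .nil)) (.node [(59,(.ofNat 1))] .nil (.node [(127,(.ofNat 1))] .nil .nil))))) (.node [(7,(.ofNat 1))] (.node [] (.node [] (.node [] .nil (.node [(71,(.ofNat 1))] .nil .nil)) (.node [(39,(.ofNat 1))] .nil (.node [(107,(.ofNat 1))] .nil .nil))) (.node [(23,(.ofNat 1))] (.node [] .nil (.node [(77,(.ofNat 1))] .nil .nil)) (.node [(46,(.ofNat 1))] .nil (.node [(119,(.ofNat 1))] .nil .nil)))) (.node [(11,(.ofNat 1))] (.node [] (.node [] .nil (.node [(89,(.negSucc 0))] .nil .nil)) (.node [(56,(.negSucc 0))] .nil (.node [(111,(.ofNat 1))] .nil .nil))) (.node [(35,(.negSucc 0))] (.node [] .nil (.node [(95,(.ofNat 1))] .nil .nil)) (.node [(53,(.negSucc 0))] .nil (.node [(123,(.negSucc 0))] .nil .nil))))))))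
noncomputable def nt0 : Trie (List (ℕ × ℤ)) := (.node [(0,(.negSucc 0))] (.node [] (.node [] (.node [] (.node [] (.node [] (.node [] (.node [] .nil (.node [(128,(.ofNat 1))] .nil .nil)) (.node [(64,(.ofNat 1))] .nil .nil)) (.node [(48,(.ofNat 1))] .nil (.node [(112,(.negSucc 0))] .nil .nil))) (.node [(16,(.ofNat 1))] (.node [] .nil (.node [(101,(.negSucc 0))] .nil .nil)) (.node [(32,(.negSucc 0))] .nil (.node [(96,(.ofNat 1))] .nil .nil)))) (.node [(7,(.ofNat 1))] (.node [] (.node [] .nil (.node [(72,(.ofNat 1))] .nil .nil)) (.node [(24,(.negSucc 0))] .nil (.node [(83,(.ofNat 1))] .nil .nil))) (.node [(40,(.ofNat 1))] (.node [] .nil (.node [(88,(.ofNat 1))] .nil .nil)) (.node [(35,(.negSucc 0))] .nil (.node [(120,(.ofNat 1))] .nil .nil))))) (.node [(4,(.ofNat 1))] (.node [] (.node [] (.node [] (.node [] .nil (.node [(131,(.negSucc 0))] .nil .nil)) (.node [(68,(.ofNat 1))] .nil .nil)) (.node [(57,(.ofNat 1))] .nil (.node [(39,(.negSucc 0))] .nil .nil))) (.node [(20,(.ofNat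 1))] (.node [] .nil (.node [(105,(.negSucc 0))] .nil .nil)) (.node [(52,(.ofNat 1))] .nil (.node [(116,(.ofNat 1))] .nil .nil)))) (.node [(12,(.ofNat 1))] (.node [] (.node [] .nil (.node [(76,(.ofNat 1))] .nil .nil)) (.node [(28,(.negSucc 0))] .nil (.node [(92,(.ofNat 1))] .nil .nil))) (.node [(44,(.ofNat 1))] (.node [] .nil (.node [(108,(.negSucc 0))] .nil .nil)) (.node [(60,(.ofNat 1))] .nil (.node [(124,(.ofNat 1))] .nil .nil)))))) (.node [(0,(.ofNat 1)),(2,(.ofNat 1))] (.node [] (.node [] (.node [] (.node [] (.node [] .nil (.node [(130,(.ofNat 1))] .nil .nil)) (.node [(66,(.ofNat 1))] .nil .nil)) (.node [(55,(.ofNat 1))] .nil (.node [(114,(.negSucc 0))] .nil .nil))) (.node [(18,(.ofNat 1))] (.node [] .nil (.node [(103,(.negSucc 0))] .nil .nil)) (.node [(50,(.ofNat 1))] .nil (.node [(98,(.ofNat 1))] .nil .nil)))) (.node [(10,(.ofNat 1))] (.node [] (.node [] .nil (.node [(74,(.ofNat 1))] .nil .nil)) (.node [(26,(.negSucc 0))] .nil (.node [(90,(.ofNat 1))] .nil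 .nil))) (.node [(42,(.ofNat 1))] (.node [] .nil (.node [(106,(.negSucc 0))] .nil .nil)) (.node [(37,(.negSucc 0))] .nil (.node [(122,(.ofNat 1))] .nil .nil))))) (.node [(6,(.ofNat 1))] (.node [] (.node [] (.node [] .nil (.node [(70,(.ofNat 1))] .nil .nil)) (.node [(59,(.ofNat 1))] .nil (.node [(81,(.ofNat 1))] .nil .nil))) (.node [(22,(.ofNat 1))] (.node [] .nil (.node [(86,(.ofNat 1))] .nil .nil)) (.node [(54,(.ofNat 1))] .nil (.node [(118,(.ofNat 1))] .nil .nil)))) (.node [(14,(.ofNat 1))] (.node [] (.node [] .nil (.node [(78,(.ofNat 1))] .nil .nil)) (.node [(30,(.negSucc 0))] .nil (.node [(94,(.ofNat 1))] .nil .nil))) (.node [(46,(.ofNat 1))] (.node [] .nil (.node [(110,(.negSucc 0))] .nil .nil)) (.node [(62,(.ofNat 1))] .nil (.node [(126,(.ofNat 1))] .nil .nil))))))) (.node [(1,(.ofNat 1))] (.node [] (.node [] (.node [] (.node [] (.node [] (.node [] .nil (.node [(129,(.ofNat 1))] .nil .nil)) (.node [(65,(.ofNat 1))] .nil .nil)) (.node [(49,(.ofNat 1))] .nil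 (.node [(113,(.negSucc 0))] .nil .nil))) (.node [(17,(.ofNat 1))] (.node [] .nil (.node [(102,(.negSucc 0))] .nil .nil)) (.node [(33,(.negSucc 0))] .nil (.node [(97,(.ofNat 1))] .nil .nil)))) (.node [(9,(.ofNat 1))] (.node [] (.node [] .nil (.node [(73,(.ofNat 1))] .nil .nil)) (.node [(25,(.negSucc 0))] .nil (.node [(84,(.ofNat 1))] .nil .nil))) (.node [(41,(.ofNat 1))] (.node [] .nil (.node [(89,(.ofNat 1))] .nil .nil)) (.node [(36,(.negSucc 0))] .nil (.node [(121,(.ofNat 1))] .nil .nil))))) (.node [(5,(.ofNat 1))] (.node [] (.node [] (.node [] .nil (.node [(69,(.ofNat 1))] .nil .nil)) (.node [(58,(.ofNat 1))] .nil (.node [(80,(.ofNat 1))] .nil .nil))) (.node [(21,(.ofNat 1))] (.node [] .nil (.node [(85,(.ofNat 1))] .nil .nil)) (.node [(53,(.ofNat 1))] .nil (.node [(117,(.ofNat 1))] .nil .nil)))) (.node [(13,(.ofNat 1))] (.node [] (.node [] .nil (.node [(77,(.ofNat 1))] .nil .nil)) (.node [(29,(.negSucc 0))] .nil (.node [(93,(.ofNat 1))] .nil .nil))) (.node [(45,(.ofNat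 1))] (.node [] .nil (.node [(109,(.negSucc 0))] .nil .nil)) (.node [(61,(.ofNat 1))] .nil (.node [(125,(.ofNat 1))] .nil .nil)))))) (.node [(3,(.ofNat 1))] (.node [] (.node [] (.node [] (.node [] (.node [] .nil (.node [(132,(.ofNat 1))] .nil .nil)) (.node [(67,(.ofNat 1))] .nil .nil)) (.node [(56,(.ofNat 1))] .nil (.node [(115,(.negSucc 0))] .nil .nil))) (.node [(19,(.ofNat 1))] (.node [] .nil (.node [(104,(.negSucc 0))] .nil .nil)) (.node [(51,(.ofNat 1))] .nil (.node [(99,(.ofNat 1))] .nil .nil)))) (.node [(11,(.ofNat 1))] (.node [] (.node [] .nil (.node [(75,(.ofNat 1))] .nil .nil)) (.node [(27,(.negSucc 0))] .nil (.node [(91,(.ofNat 1))] .nil .nil))) (.node [(43,(.ofNat 1))] (.node [] .nil (.node [(107,(.negSucc 0))] .nil .nil)) (.node [(38,(.negSucc 0))] .nil (.node [(123,(.ofNat 1))] .nil .nil))))) (.node [(8,(.negSucc 0))] (.node [] (.node [] (.node [] .nil (.node [(71,(.ofNat 1))] .nil .nil)) (.node [(100,(.negSucc 0))] .nil (.node [(82,(.ofNat 1))] .nil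 .nil))) (.node [(23,(.ofNat 1))] (.node [] .nil (.node [(87,(.ofNat 1))] .nil .nil)) (.node [(34,(.negSucc 0))] .nil (.node [(119,(.ofNat 1))] .nil .nil)))) (.node [(15,(.ofNat 1))] (.node [] (.node [] .nil (.node [(79,(.ofNat 1))] .nil .nil)) (.node [(31,(.negSucc 0))] .nil (.node [(95,(.ofNat 1))] .nil .nil))) (.node [(47,(.ofNat 1))] (.node [] .nil (.node [(111,(.negSucc 0))] .nil .nil)) (.node [(63,(.ofNat 1))] .nil (.node [(127,(.ofNat 1))] .nil .nil))))))))
noncomputable def nt : Trie (Trie (List (ℕ × ℤ))) := (.node nt0 (.node .nil (.node .nil .nil (.node nt4 .nil .nil)) (.node nt2 .nil (.node nt6 .nil .nil))) (.node nt1 (.node .nil .nil (.node nt5 .nil .nil)) (.node nt3 .nil .nil)))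
noncomputable def w6 : Trie (ℕ × ℤ) := (.node (0,(.ofNat 1)) (.node (0,0) (.node (0,0) (.node (0,0) (.node (0,0) (.node (0,0) (.node (0,0) .nil (.node (65,(.ofNat 1)) .nil .nil)) (.node (32,(.ofNat 1)) .nil (.node (96,(.ofNat 1)) .nil .nil))) (.node (16,(.ofNat 1)) (.node (0,0) .nil (.node (80,(.ofNat 1)) .nil .nil)) (.node (49,(.negSucc 0)) .nil (.node (113,(.ofNat 1)) .nil .nil)))) (.node (8,(.ofNat 1)) (.node (0,0) (.node (0,0) .nil (.node (71,(.negSucc 0)) .nil .nil)) (.node (39,(.ofNat 1)) .nil (.node (105,(.ofNat 1)) .nil .nil))) (.node (23,(.ofNat 1)) (.node (0,0) .nil (.node (89,(.ofNat 1)) .nil .nil)) (.node (56,(.ofNat 1)) .nil (.node (119,(.negSucc 0)) .nil .nil))))) (.node (4,(.ofNat 1)) (.node (0,0) (.node (0,0) (.node (0,0) .nil (.node (67,(.negSucc 0)) .nil .nil)) (.node (37,(.negSucc 0)) .nil (.node (100,(.ofNat 1)) .nil .nil))) (.node (21,(.negSucc 0)) (.node (0,0) .nil (.node (84,(.ofNat 1)) .nil .nil)) (.node (52,(.ofNat 1)) .nil (.node (115,(.negSucc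 0)) .nil .nil)))) (.node (13,(.negSucc 0)) (.node (0,0) (.node (0,0) .nil (.node (77,(.ofNat 1)) .nil .nil)) (.node (43,(.ofNat 1)) .nil (.node (108,(.ofNat 1)) .nil .nil))) (.node (27,(.ofNat 1)) (.node (0,0) .nil (.node (92,(.ofNat 1)) .nil .nil)) (.node (61,(.negSucc 0)) .nil (.node (124,(.ofNat 1)) .nil .nil)))))) (.node (2,(.ofNat 1)) (.node (0,0) (.node (0,0) (.node (0,0) (.node (0,0) .nil (.node (66,(.ofNat 1)) .nil .nil)) (.node (35,(.negSucc 0)) .nil (.node (97,(.negSucc 0)) .nil .nil))) (.node (19,(.negSucc 0)) (.node (0,0) .nil (.node (81,(.negSucc 0)) .nil .nil)) (.node (50,(.ofNat 1)) .nil (.node (114,(.ofNat 1)) .nil .nil)))) (.node (9,(.ofNat 1)) (.node (0,0) (.node (0,0) .nil (.node (74,(.ofNat 1)) .nil .nil)) (.node (42,(.ofNat 1)) .nil (.node (107,(.ofNat 1)) .nil .nil))) (.node (26,(.ofNat 1)) (.node (0,0) .nil (.node (91,(.ofNat 1)) .nil .nil)) (.node (57,(.ofNat 1)) .nil (.node (122,(.ofNat 1)) .nil .nil))))) (.node (5,(.ofNat 1)) (.node (0,0)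 (.node (0,0) (.node (0,0) .nil (.node (70,(.ofNat 1)) .nil .nil)) (.node (38,(.ofNat 1)) .nil (.node (101,(.negSucc 0)) .nil .nil))) (.node (22,(.ofNat 1)) (.node (0,0) .nil (.node (85,(.negSucc 0)) .nil .nil)) (.node (53,(.ofNat 1)) .nil (.node (118,(.ofNat 1)) .nil .nil)))) (.node (15,(.negSucc 0)) (.node (0,0) (.node (0,0) .nil (.node (78,(.ofNat 1)) .nil .nil)) (.node (46,(.ofNat 1)) .nil (.node (111,(.ofNat 1)) .nil .nil))) (.node (30,(.ofNat 1)) (.node (0,0) .nil (.node (94,(.ofNat 1)) .nil .nil)) (.node (63,(.negSucc 0)) .nil .nil)))))) (.node (1,(.ofNat 1)) (.node (0,0) (.node (0,0) (.node (0,0) (.node (0,0) (.node (0,0) .nil (.node (64,(.negSucc 0)) .nil .nil)) (.node (33,(.ofNat 1)) .nil (.node (98,(.ofNat 1)) .nil .nil))) (.node (17,(.ofNat 1)) (.node (0,0) .nil (.node (82,(.ofNat 1)) .nil .nil)) (.node (48,(.ofNat 1)) .nil (.node (112,(.negSucc 0)) .nil .nil)))) (.node (10,(.negSucc 0)) (.node (0,0) (.node (0,0) .nil (.node (73,(.ofNat 1)) .nil .nil))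 (.node (41,(.ofNat 1)) .nil (.node (104,(.negSucc 0)) .nil .nil))) (.node (25,(.ofNat 1)) (.node (0,0) .nil (.node (88,(.negSucc 0)) .nil .nil)) (.node (58,(.negSucc 0)) .nil (.node (121,(.ofNat 1)) .nil .nil))))) (.node (6,(.negSucc 0)) (.node (0,0) (.node (0,0) (.node (0,0) .nil (.node (69,(.ofNat 1)) .nil .nil)) (.node (36,(.ofNat 1)) .nil (.node (102,(.ofNat 1)) .nil .nil))) (.node (20,(.ofNat 1)) (.node (0,0) .nil (.node (86,(.ofNat 1)) .nil .nil)) (.node (54,(.negSucc 0)) .nil (.node (117,(.ofNat 1)) .nil .nil)))) (.node (12,(.ofNat 1)) (.node (0,0) (.node (0,0) .nil (.node (76,(.negSucc 0)) .nil .nil)) (.node (45,(.ofNat 1)) .nil (.node (109,(.ofNat 1)) .nil .nil))) (.node (29,(.ofNat 1)) (.node (0,0) .nil (.node (93,(.ofNat 1)) .nil .nil)) (.node (60,(.ofNat 1)) .nil (.node (125,(.ofNat 1)) .nil .nil)))))) (.node (3,(.ofNat 1)) (.node (0,0) (.node (0,0) (.node (0,0) (.node (0,0) .nil (.node (68,(.ofNat 1)) .nil .nil)) (.node (34,(.ofNat 1)) .nil (.node (99,(.ofNat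 1)) .nil .nil))) (.node (18,(.ofNat 1)) (.node (0,0) .nil (.node (83,(.ofNat 1)) .nil .nil)) (.node (51,(.ofNat 1)) .nil (.node (116,(.ofNat 1)) .nil .nil)))) (.node (11,(.ofNat 1)) (.node (0,0) (.node (0,0) .nil (.node (75,(.ofNat 1)) .nil .nil)) (.node (44,(.negSucc 0)) .nil (.node (106,(.negSucc 0)) .nil .nil))) (.node (28,(.negSucc 0)) (.node (0,0) .nil (.node (90,(.negSucc 0)) .nil .nil)) (.node (59,(.ofNat 1)) .nil (.node (123,(.ofNat 1)) .nil .nil))))) (.node (7,(.ofNat 1)) (.node (0,0) (.node (0,0) (.node (0,0) .nil (.node (72,(.ofNat 1)) .nil .nil)) (.node (40,(.negSucc 0)) .nil (.node (103,(.ofNat 1)) .nil .nil))) (.node (24,(.negSucc 0)) (.node (0,0) .nil (.node (87,(.ofNat 1)) .nil .nil)) (.node (55,(.ofNat 1)) .nil (.node (120,(.ofNat 1)) .nil .nil)))) (.node (14,(.ofNat 1)) (.node (0,0) (.node (0,0) .nil (.node (79,(.ofNat 1)) .nil .nil)) (.node (47,(.ofNat 1)) .nil (.node (110,(.negSucc 0)) .nil .nil))) (.node (31,(.ofNat 1)) (.node (0,0) .nil (.node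 (95,(.ofNat 1)) .nil .nil)) (.node (62,(.negSucc 0)) .nil .nil)))))))
noncomputable def w5 : Trie (ℕ × ℤ) := (.node (0,(.ofNat 1)) (.node (0,0) (.node (0,0) (.node (0,0) (.node (0,0) (.node (0,0) (.node (0,0) .nil (.node (61,(.negSucc 0)) .nil .nil)) (.node (32,(.ofNat 1)) .nil (.node (97,(.ofNat 1)) .nil .nil))) (.node (15,(.ofNat 1)) (.node (0,0) .nil (.node (81,(.ofNat 1)) .nil .nil)) (.node (48,(.ofNat 1)) .nil (.node (112,(.ofNat 1)) .nil .nil)))) (.node (9,(.negSucc 0)) (.node (0,0) (.node (0,0) .nil (.node (72,(.ofNat 1)) .nil .nil)) (.node (41,(.negSucc 0)) .nil (.node (103,(.negSucc 0)) .nil .nil))) (.node (25,(.negSucc 0)) (.node (0,0) .nil (.node (87,(.negSucc 0)) .nil .nil)) (.node (56,(.ofNat 1)) .nil (.node (121,(.ofNat 1)) .nil .nil))))) (.node (5,(.negSucc 0)) (.node (0,0) (.node (0,0) (.node (0,0) .nil (.node (68,(.ofNat 1)) .nil .nil)) (.node (36,(.ofNat 1)) .nil (.node (101,(.ofNat 1)) .nil .nil))) (.node (20,(.ofNat 1)) (.node (0,0) .nil (.node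 (85,(.ofNat 1)) .nil .nil)) (.node (52,(.ofNat 1)) .nil (.node (117,(.ofNat 1)) .nil .nil)))) (.node (11,(.ofNat 1)) (.node (0,0) (.node (0,0) .nil (.node (75,(.negSucc 0)) .nil .nil)) (.node (45,(.negSucc 0)) .nil (.node (107,(.negSucc 0)) .nil .nil))) (.node (29,(.negSucc 0)) (.node (0,0) .nil (.node (91,(.negSucc 0)) .nil .nil)) (.node (62,(.ofNat 1)) .nil (.node (124,(.ofNat 1)) .nil .nil)))))) (.node (2,(.ofNat 1)) (.node (0,0) (.node (0,0) (.node (0,0) (.node (0,0) .nil (.node (67,(.ofNat 1)) .nil .nil)) (.node (33,(.ofNat 1)) .nil (.node (98,(.ofNat 1)) .nil .nil))) (.node (17,(.ofNat 1)) (.node (0,0) .nil (.node (82,(.ofNat 1)) .nil .nil)) (.node (49,(.ofNat 1)) .nil (.node (113,(.negSucc 0)) .nil .nil)))) (.node (10,(.ofNat 1)) (.node (0,0) (.node (0,0) .nil (.node (74,(.ofNat 1)) .nil .nil)) (.node (42,(.ofNat 1)) .nil (.node (106,(.ofNat 1)) .nil .nil))) (.node (26,(.ofNat 1)) (.node (0,0) .nil (.node (90,(.ofNat 1)) .nil .nil)) (.node (59,(.negSucc 0))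 .nil (.node (122,(.ofNat 1)) .nil .nil))))) (.node (6,(.ofNat 1)) (.node (0,0) (.node (0,0) (.node (0,0) .nil (.node (71,(.ofNat 1)) .nil .nil)) (.node (37,(.ofNat 1)) .nil (.node (102,(.ofNat 1)) .nil .nil))) (.node (21,(.ofNat 1)) (.node (0,0) .nil (.node (86,(.ofNat 1)) .nil .nil)) (.node (55,(.negSucc 0)) .nil (.node (118,(.ofNat 1)) .nil .nil)))) (.node (14,(.ofNat 1)) (.node (0,0) (.node (0,0) .nil (.node (78,(.ofNat 1)) .nil .nil)) (.node (46,(.ofNat 1)) .nil (.node (109,(.negSucc 0)) .nil .nil))) (.node (30,(.ofNat 1)) (.node (0,0) .nil (.node (94,(.ofNat 1)) .nil .nil)) (.node (60,(.negSucc 0)) .nil .nil)))))) (.node (1,(.ofNat 1)) (.node (0,0) (.node (0,0) (.node (0,0) (.node (0,0) (.node (0,0) .nil (.node (63,(.ofNat 1)) .nil .nil)) (.node (34,(.negSucc 0)) .nil (.node (96,(.negSucc 0)) .nil .nil))) (.node (18,(.negSucc 0)) (.node (0,0) .nil (.node (80,(.negSucc 0)) .nil .nil)) (.node (50,(.negSucc 0)) .nil (.node (114,(.ofNat 1)) .nil .nil)))) (.node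 (8,(.ofNat 1)) (.node (0,0) (.node (0,0) .nil (.node (73,(.ofNat 1)) .nil .nil)) (.node (40,(.ofNat 1)) .nil (.node (105,(.ofNat 1)) .nil .nil))) (.node (24,(.ofNat 1)) (.node (0,0) .nil (.node (89,(.ofNat 1)) .nil .nil)) (.node (57,(.ofNat 1)) .nil (.node (120,(.negSucc 0)) .nil .nil))))) (.node (4,(.ofNat 1)) (.node (0,0) (.node (0,0) (.node (0,0) .nil (.node (69,(.ofNat 1)) .nil .nil)) (.node (38,(.negSucc 0)) .nil (.node (100,(.negSucc 0)) .nil .nil))) (.node (22,(.negSucc 0)) (.node (0,0) .nil (.node (84,(.negSucc 0)) .nil .nil)) (.node (53,(.ofNat 1)) .nil (.node (116,(.negSucc 0)) .nil .nil)))) (.node (13,(.ofNat 1)) (.node (0,0) (.node (0,0) .nil (.node (77,(.ofNat 1)) .nil .nil)) (.node (44,(.ofNat 1)) .nil (.node (110,(.ofNat 1)) .nil .nil))) (.node (28,(.ofNat 1)) (.node (0,0) .nil (.node (93,(.ofNat 1)) .nil .nil)) (.node (64,(.negSucc 0)) .nil (.node (125,(.ofNat 1)) .nil .nil)))))) (.node (3,(.ofNat 1)) (.node (0,0) (.node (0,0) (.node (0,0) (.node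 (0,0) .nil (.node (66,(.negSucc 0)) .nil .nil)) (.node (35,(.ofNat 1)) .nil (.node (99,(.ofNat 1)) .nil .nil))) (.node (19,(.ofNat 1)) (.node (0,0) .nil (.node (83,(.ofNat 1)) .nil .nil)) (.node (51,(.ofNat 1)) .nil (.node (115,(.ofNat 1)) .nil .nil)))) (.node (12,(.negSucc 0)) (.node (0,0) (.node (0,0) .nil (.node (76,(.ofNat 1)) .nil .nil)) (.node (43,(.ofNat 1)) .nil (.node (108,(.ofNat 1)) .nil .nil))) (.node (27,(.ofNat 1)) (.node (0,0) .nil (.node (92,(.ofNat 1)) .nil .nil)) (.node (58,(.ofNat 1)) .nil (.node (123,(.ofNat 1)) .nil .nil))))) (.node (7,(.ofNat 1)) (.node (0,0) (.node (0,0) (.node (0,0) .nil (.node (70,(.negSucc 0)) .nil .nil)) (.node (39,(.ofNat 1)) .nil (.node (104,(.ofNat 1)) .nil .nil))) (.node (23,(.ofNat 1)) (.node (0,0) .nil (.node (88,(.ofNat 1)) .nil .nil)) (.node (54,(.ofNat 1)) .nil (.node (119,(.ofNat 1)) .nil .nil)))) (.node (16,(.negSucc 0)) (.node (0,0) (.node (0,0) .nil (.node (79,(.ofNat 1)) .nil .nil)) (.node (47,(.ofNat 1))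 .nil (.node (111,(.ofNat 1)) .nil .nil))) (.node (31,(.ofNat 1)) (.node (0,0) .nil (.node (95,(.ofNat 1)) .nil .nil)) (.node (65,(.negSucc 0)) .nil .nil)))))))
noncomputable def w4 : Trie (ℕ × ℤ) := (.node (0,(.ofNat 1)) (.node (0,0) (.node (0,0) (.node (0,0) (.node (0,0) (.node (0,0) (.node (0,0) .nil (.node (67,(.negSucc 0)) .nil .nil)) (.node (32,(.ofNat 1)) .nil (.node (95,(.negSucc 0)) .nil .nil))) (.node (16,(.ofNat 1)) (.node (0,0) .nil (.node (79,(.negSucc 0)) .nil .nil)) (.node (48,(.ofNat 1)) .nil (.node (110,(.negSucc 0)) .nil .nil)))) (.node (7,(.ofNat 1)) (.node (0,0) (.node (0,0) .nil (.node (72,(.ofNat 1)) .nil .nil)) (.node (40,(.ofNat 1)) .nil (.node (106,(.ofNat 1)) .nil .nil))) (.node (24,(.ofNat 1)) (.node (0,0) .nil (.node (90,(.ofNat 1)) .nil .nil)) (.node (55,(.ofNat 1)) .nil (.node (120,(.ofNat 1)) .nil .nil))))) (.node (3,(.ofNat 1)) (.node (0,0) (.node (0,0) (.node (0,0) .nil (.node (65,(.ofNat 1)) .nil .nil)) (.node (34,(.ofNat 1)) .nil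 (.node (99,(.negSucc 0)) .nil .nil))) (.node (18,(.ofNat 1)) (.node (0,0) .nil (.node (83,(.negSucc 0)) .nil .nil)) (.node (52,(.ofNat 1)) .nil (.node (116,(.ofNat 1)) .nil .nil)))) (.node (14,(.negSucc 0)) (.node (0,0) (.node (0,0) .nil (.node (76,(.ofNat 1)) .nil .nil)) (.node (44,(.ofNat 1)) .nil (.node (108,(.ofNat 1)) .nil .nil))) (.node (28,(.ofNat 1)) (.node (0,0) .nil (.node (92,(.ofNat 1)) .nil .nil)) (.node (57,(.negSucc 0)) .nil (.node (124,(.ofNat 1)) .nil .nil)))))) (.node (2,(.ofNat 1)) (.node (0,0) (.node (0,0) (.node (0,0) (.node (0,0) .nil (.node (59,(.negSucc 0)) .nil .nil)) (.node (36,(.negSucc 0)) .nil (.node (98,(.ofNat 1)) .nil .nil))) (.node (20,(.negSucc 0)) (.node (0,0) .nil (.node (82,(.ofNat 1)) .nil .nil)) (.node (51,(.negSucc 0)) .nil (.node (114,(.ofNat 1)) .nil .nil)))) (.node (10,(.ofNat 1)) (.node (0,0) (.node (0,0) .nil (.node (75,(.ofNat 1)) .nil .nil)) (.node (41,(.ofNat 1)) .nil (.node (104,(.negSucc 0)) .nil .nil))) (.node (25,(.ofNat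 1)) (.node (0,0) .nil (.node (88,(.negSucc 0)) .nil .nil)) (.node (61,(.ofNat 1)) .nil (.node (121,(.negSucc 0)) .nil .nil))))) (.node (6,(.ofNat 1)) (.node (0,0) (.node (0,0) (.node (0,0) .nil (.node (69,(.negSucc 0)) .nil .nil)) (.node (38,(.ofNat 1)) .nil (.node (102,(.ofNat 1)) .nil .nil))) (.node (22,(.ofNat 1)) (.node (0,0) .nil (.node (86,(.ofNat 1)) .nil .nil)) (.node (54,(.ofNat 1)) .nil (.node (117,(.negSucc 0)) .nil .nil)))) (.node (12,(.ofNat 1)) (.node (0,0) (.node (0,0) .nil (.node (78,(.ofNat 1)) .nil .nil)) (.node (45,(.ofNat 1)) .nil (.node (112,(.ofNat 1)) .nil .nil))) (.node (29,(.ofNat 1)) (.node (0,0) .nil (.node (94,(.ofNat 1)) .nil .nil)) (.node (62,(.ofNat 1)) .nil .nil)))))) (.node (1,(.ofNat 1)) (.node (0,0) (.node (0,0) (.node (0,0) (.node (0,0) (.node (0,0) .nil (.node (68,(.negSucc 0)) .nil .nil)) (.node (33,(.ofNat 1)) .nil (.node (97,(.ofNat 1)) .nil .nil))) (.node (17,(.ofNat 1)) (.node (0,0) .nil (.node (81,(.ofNat 1)) .nil .nil))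 (.node (49,(.ofNat 1)) .nil (.node (111,(.negSucc 0)) .nil .nil)))) (.node (9,(.ofNat 1)) (.node (0,0) (.node (0,0) .nil (.node (73,(.ofNat 1)) .nil .nil)) (.node (42,(.negSucc 0)) .nil (.node (107,(.ofNat 1)) .nil .nil))) (.node (26,(.negSucc 0)) (.node (0,0) .nil (.node (91,(.ofNat 1)) .nil .nil)) (.node (60,(.ofNat 1)) .nil (.node (122,(.ofNat 1)) .nil .nil))))) (.node (5,(.ofNat 1)) (.node (0,0) (.node (0,0) (.node (0,0) .nil (.node (70,(.ofNat 1)) .nil .nil)) (.node (35,(.ofNat 1)) .nil (.node (101,(.ofNat 1)) .nil .nil))) (.node (19,(.ofNat 1)) (.node (0,0) .nil (.node (85,(.ofNat 1)) .nil .nil)) (.node (53,(.ofNat 1)) .nil (.node (118,(.ofNat 1)) .nil .nil)))) (.node (15,(.negSucc 0)) (.node (0,0) (.node (0,0) .nil (.node (77,(.ofNat 1)) .nil .nil)) (.node (46,(.negSucc 0)) .nil (.node (109,(.ofNat 1)) .nil .nil))) (.node (30,(.negSucc 0)) (.node (0,0) .nil (.node (93,(.ofNat 1)) .nil .nil)) (.node (58,(.negSucc 0)) .nil (.node (125,(.ofNat 1)) .nil .nil))))))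 (.node (4,(.negSucc 0)) (.node (0,0) (.node (0,0) (.node (0,0) (.node (0,0) .nil (.node (64,(.ofNat 1)) .nil .nil)) (.node (37,(.negSucc 0)) .nil (.node (100,(.ofNat 1)) .nil .nil))) (.node (21,(.negSucc 0)) (.node (0,0) .nil (.node (84,(.ofNat 1)) .nil .nil)) (.node (50,(.ofNat 1)) .nil (.node (115,(.ofNat 1)) .nil .nil)))) (.node (11,(.ofNat 1)) (.node (0,0) (.node (0,0) .nil (.node (74,(.negSucc 0)) .nil .nil)) (.node (43,(.ofNat 1)) .nil (.node (105,(.negSucc 0)) .nil .nil))) (.node (27,(.ofNat 1)) (.node (0,0) .nil (.node (89,(.negSucc 0)) .nil .nil)) (.node (66,(.negSucc 0)) .nil (.node (123,(.ofNat 1)) .nil .nil))))) (.node (8,(.negSucc 0)) (.node (0,0) (.node (0,0) (.node (0,0) .nil (.node (71,(.ofNat 1)) .nil .nil)) (.node (39,(.ofNat 1)) .nil (.node (103,(.ofNat 1)) .nil .nil))) (.node (23,(.ofNat 1)) (.node (0,0) .nil (.node (87,(.ofNat 1)) .nil .nil)) (.node (56,(.negSucc 0)) .nil (.node (119,(.ofNat 1)) .nil .nil)))) (.node (13,(.ofNat 1)) (.node (0,0)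 (.node (0,0) .nil (.node (80,(.ofNat 1)) .nil .nil)) (.node (47,(.ofNat 1)) .nil (.node (113,(.ofNat 1)) .nil .nil))) (.node (31,(.ofNat 1)) (.node (0,0) .nil (.node (96,(.ofNat 1)) .nil .nil)) (.node (63,(.ofNat 1)) .nil .nil)))))))
noncomputable def w3 : Trie (ℕ × ℤ) := (.node (0,(.ofNat 1)) (.node (0,0) (.node (0,0) (.node (0,0) (.node (0,0) (.node (0,0) (.node (0,0) .nil (.node (64,(.ofNat 1)) .nil .nil)) (.node (32,(.ofNat 1)) .nil (.node (96,(.ofNat 1)) .nil .nil))) (.node (16,(.ofNat 1)) (.node (0,0) .nil (.node (80,(.ofNat 1)) .nil .nil)) (.node (48,(.ofNat 1)) .nil (.node (115,(.ofNat 1)) .nil .nil)))) (.node (11,(.negSucc 0)) (.node (0,0) (.node (0,0) .nil (.node (68,(.ofNat 1)) .nil .nil)) (.node (37,(.ofNat 1)) .nil (.node (101,(.negSucc 0)) .nil .nil))) (.node (21,(.ofNat 1)) (.node (0,0) .nil (.node (85,(.negSucc 0)) .nil .nil)) (.node (69,(.negSucc 0)) .nil (.node (120,(.ofNat 1)) .nil .nil))))) (.node (4,(.ofNat 1)) (.node (0,0) (.node (0,0) (.node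 (0,0) .nil (.node (72,(.negSucc 0)) .nil .nil)) (.node (39,(.negSucc 0)) .nil (.node (103,(.ofNat 1)) .nil .nil))) (.node (23,(.negSucc 0)) (.node (0,0) .nil (.node (87,(.ofNat 1)) .nil .nil)) (.node (51,(.ofNat 1)) .nil (.node (113,(.negSucc 0)) .nil .nil)))) (.node (9,(.ofNat 1)) (.node (0,0) (.node (0,0) .nil (.node (76,(.ofNat 1)) .nil .nil)) (.node (44,(.ofNat 1)) .nil (.node (108,(.ofNat 1)) .nil .nil))) (.node (28,(.ofNat 1)) (.node (0,0) .nil (.node (92,(.ofNat 1)) .nil .nil)) (.node (60,(.ofNat 1)) .nil (.node (124,(.ofNat 1)) .nil .nil)))))) (.node (3,(.negSucc 0)) (.node (0,0) (.node (0,0) (.node (0,0) (.node (0,0) .nil (.node (70,(.negSucc 0)) .nil .nil)) (.node (34,(.ofNat 1)) .nil (.node (98,(.ofNat 1)) .nil .nil))) (.node (18,(.ofNat 1)) (.node (0,0) .nil (.node (82,(.ofNat 1)) .nil .nil)) (.node (50,(.ofNat 1)) .nil (.node (117,(.ofNat 1)) .nil .nil)))) (.node (13,(.negSucc 0)) (.node (0,0) (.node (0,0) .nil (.node (73,(.negSucc 0)) .nil .nil)) (.node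 (42,(.ofNat 1)) .nil (.node (106,(.ofNat 1)) .nil .nil))) (.node (26,(.ofNat 1)) (.node (0,0) .nil (.node (90,(.ofNat 1)) .nil .nil)) (.node (54,(.negSucc 0)) .nil (.node (123,(.ofNat 1)) .nil .nil))))) (.node (6,(.ofNat 1)) (.node (0,0) (.node (0,0) (.node (0,0) .nil (.node (66,(.ofNat 1)) .nil .nil)) (.node (41,(.negSucc 0)) .nil (.node (105,(.ofNat 1)) .nil .nil))) (.node (25,(.negSucc 0)) (.node (0,0) .nil (.node (89,(.ofNat 1)) .nil .nil)) (.node (58,(.ofNat 1)) .nil (.node (118,(.ofNat 1)) .nil .nil)))) (.node (14,(.ofNat 1)) (.node (0,0) (.node (0,0) .nil (.node (79,(.ofNat 1)) .nil .nil)) (.node (47,(.negSucc 0)) .nil (.node (110,(.ofNat 1)) .nil .nil))) (.node (31,(.negSucc 0)) (.node (0,0) .nil (.node (95,(.ofNat 1)) .nil .nil)) (.node (62,(.ofNat 1)) .nil .nil)))))) (.node (1,(.ofNat 1)) (.node (0,0) (.node (0,0) (.node (0,0) (.node (0,0) (.node (0,0) .nil (.node (65,(.ofNat 1)) .nil .nil)) (.node (33,(.ofNat 1)) .nil (.node (97,(.ofNat 1)) .nil .nil)))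 (.node (17,(.ofNat 1)) (.node (0,0) .nil (.node (81,(.ofNat 1)) .nil .nil)) (.node (49,(.ofNat 1)) .nil (.node (116,(.ofNat 1)) .nil .nil)))) (.node (12,(.negSucc 0)) (.node (0,0) (.node (0,0) .nil (.node (74,(.ofNat 1)) .nil .nil)) (.node (38,(.ofNat 1)) .nil (.node (102,(.negSucc 0)) .nil .nil))) (.node (22,(.ofNat 1)) (.node (0,0) .nil (.node (86,(.negSucc 0)) .nil .nil)) (.node (53,(.negSucc 0)) .nil (.node (121,(.ofNat 1)) .nil .nil))))) (.node (5,(.ofNat 1)) (.node (0,0) (.node (0,0) (.node (0,0) .nil (.node (56,(.negSucc 0)) .nil .nil)) (.node (40,(.negSucc 0)) .nil (.node (104,(.ofNat 1)) .nil .nil))) (.node (24,(.negSucc 0)) (.node (0,0) .nil (.node (88,(.ofNat 1)) .nil .nil)) (.node (57,(.ofNat 1)) .nil (.node (114,(.negSucc 0)) .nil .nil)))) (.node (10,(.ofNat 1)) (.node (0,0) (.node (0,0) .nil (.node (77,(.ofNat 1)) .nil .nil)) (.node (45,(.ofNat 1)) .nil (.node (109,(.ofNat 1)) .nil .nil))) (.node (29,(.ofNat 1)) (.node (0,0) .nil (.node (93,(.ofNat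 1)) .nil .nil)) (.node (61,(.ofNat 1)) .nil (.node (125,(.ofNat 1)) .nil .nil)))))) (.node (2,(.ofNat 1)) (.node (0,0) (.node (0,0) (.node (0,0) (.node (0,0) .nil (.node (71,(.negSucc 0)) .nil .nil)) (.node (35,(.ofNat 1)) .nil (.node (99,(.ofNat 1)) .nil .nil))) (.node (19,(.ofNat 1)) (.node (0,0) .nil (.node (83,(.ofNat 1)) .nil .nil)) (.node (52,(.negSucc 0)) .nil (.node (112,(.negSucc 0)) .nil .nil)))) (.node (8,(.ofNat 1)) (.node (0,0) (.node (0,0) .nil (.node (75,(.ofNat 1)) .nil .nil)) (.node (43,(.ofNat 1)) .nil (.node (107,(.ofNat 1)) .nil .nil))) (.node (27,(.ofNat 1)) (.node (0,0) .nil (.node (91,(.ofNat 1)) .nil .nil)) (.node (55,(.negSucc 0)) .nil (.node (122,(.negSucc 0)) .nil .nil))))) (.node (7,(.ofNat 1)) (.node (0,0) (.node (0,0) (.node (0,0) .nil (.node (67,(.ofNat 1)) .nil .nil)) (.node (36,(.ofNat 1)) .nil (.node (100,(.negSucc 0)) .nil .nil))) (.node (20,(.ofNat 1)) (.node (0,0) .nil (.node (84,(.negSucc 0)) .nil .nil)) (.node (59,(.ofNat 1))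 .nil (.node (119,(.ofNat 1)) .nil .nil)))) (.node (15,(.ofNat 1)) (.node (0,0) (.node (0,0) .nil (.node (78,(.negSucc 0)) .nil .nil)) (.node (46,(.ofNat 1)) .nil (.node (111,(.ofNat 1)) .nil .nil))) (.node (30,(.ofNat 1)) (.node (0,0) .nil (.node (94,(.negSucc 0)) .nil .nil)) (.node (63,(.ofNat 1)) .nil .nil)))))))
noncomputable def w2 : Trie (ℕ × ℤ) := (.node (0,(.ofNat 1)) (.node (0,0) (.node (0,0) (.node (0,0) (.node (0,0) (.node (0,0) (.node (0,0) .nil (.node (64,(.ofNat 1)) .nil .nil)) (.node (31,(.ofNat 1)) .nil (.node (96,(.ofNat 1)) .nil .nil))) (.node (22,(.negSucc 0)) (.node (0,0) .nil (.node (84,(.ofNat 1)) .nil .nil)) (.node (53,(.ofNat 1)) .nil (.node (106,(.negSucc 0)) .nil .nil)))) (.node (8,(.ofNat 1)) (.node (0,0) (.node (0,0) .nil (.node (77,(.negSucc 0)) .nil .nil)) (.node (44,(.negSucc 0)) .nil (.node (110,(.ofNat 1)) .nil .nil))) (.node (24,(.ofNat 1)) (.node (0,0) .nil (.node (88,(.ofNat 1)) .nil .nil)) (.node (51,(.negSucc 0)) .nil (.node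 (120,(.ofNat 1)) .nil .nil))))) (.node (4,(.ofNat 1)) (.node (0,0) (.node (0,0) (.node (0,0) .nil (.node (68,(.ofNat 1)) .nil .nil)) (.node (36,(.ofNat 1)) .nil (.node (100,(.ofNat 1)) .nil .nil))) (.node (14,(.ofNat 1)) (.node (0,0) .nil (.node (80,(.negSucc 0)) .nil .nil)) (.node (73,(.negSucc 0)) .nil (.node (116,(.ofNat 1)) .nil .nil)))) (.node (18,(.negSucc 0)) (.node (0,0) (.node (0,0) .nil (.node (71,(.ofNat 1)) .nil .nil)) (.node (40,(.ofNat 1)) .nil (.node (114,(.ofNat 1)) .nil .nil))) (.node (28,(.ofNat 1)) (.node (0,0) .nil (.node (92,(.ofNat 1)) .nil .nil)) (.node (60,(.ofNat 1)) .nil (.node (123,(.negSucc 0)) .nil .nil)))))) (.node (1,(.ofNat 1)) (.node (0,0) (.node (0,0) (.node (0,0) (.node (0,0) .nil (.node (66,(.ofNat 1)) .nil .nil)) (.node (34,(.ofNat 1)) .nil (.node (98,(.ofNat 1)) .nil .nil))) (.node (12,(.ofNat 1)) (.node (0,0) .nil (.node (86,(.ofNat 1)) .nil .nil)) (.node (55,(.ofNat 1)) .nil (.node (108,(.negSucc 0)) .nil .nil)))) (.node (10,(.ofNat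 1)) (.node (0,0) (.node (0,0) .nil (.node (69,(.ofNat 1)) .nil .nil)) (.node (46,(.negSucc 0)) .nil (.node (112,(.ofNat 1)) .nil .nil))) (.node (26,(.ofNat 1)) (.node (0,0) .nil (.node (90,(.ofNat 1)) .nil .nil)) (.node (58,(.ofNat 1)) .nil (.node (122,(.ofNat 1)) .nil .nil))))) (.node (6,(.ofNat 1)) (.node (0,0) (.node (0,0) (.node (0,0) .nil (.node (75,(.negSucc 0)) .nil .nil)) (.node (38,(.ofNat 1)) .nil (.node (102,(.ofNat 1)) .nil .nil))) (.node (16,(.ofNat 1)) (.node (0,0) .nil (.node (82,(.negSucc 0)) .nil .nil)) (.node (49,(.negSucc 0)) .nil (.node (118,(.ofNat 1)) .nil .nil)))) (.node (20,(.negSucc 0)) (.node (0,0) (.node (0,0) .nil (.node (78,(.ofNat 1)) .nil .nil)) (.node (42,(.ofNat 1)) .nil (.node (104,(.negSucc 0)) .nil .nil))) (.node (30,(.ofNat 1)) (.node (0,0) .nil (.node (93,(.negSucc 0)) .nil .nil)) (.node (62,(.ofNat 1)) .nil .nil)))))) (.node (2,(.negSucc 0)) (.node (0,0) (.node (0,0) (.node (0,0) (.node (0,0) (.node (0,0) .nil (.node (65,(.ofNat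 1)) .nil .nil)) (.node (33,(.ofNat 1)) .nil (.node (97,(.ofNat 1)) .nil .nil))) (.node (11,(.ofNat 1)) (.node (0,0) .nil (.node (85,(.ofNat 1)) .nil .nil)) (.node (54,(.ofNat 1)) .nil (.node (107,(.negSucc 0)) .nil .nil)))) (.node (9,(.ofNat 1)) (.node (0,0) (.node (0,0) .nil (.node (52,(.negSucc 0)) .nil .nil)) (.node (45,(.negSucc 0)) .nil (.node (111,(.ofNat 1)) .nil .nil))) (.node (25,(.ofNat 1)) (.node (0,0) .nil (.node (89,(.ofNat 1)) .nil .nil)) (.node (57,(.ofNat 1)) .nil (.node (121,(.ofNat 1)) .nil .nil))))) (.node (5,(.ofNat 1)) (.node (0,0) (.node (0,0) (.node (0,0) .nil (.node (74,(.negSucc 0)) .nil .nil)) (.node (37,(.ofNat 1)) .nil (.node (101,(.ofNat 1)) .nil .nil))) (.node (15,(.ofNat 1)) (.node (0,0) .nil (.node (81,(.negSucc 0)) .nil .nil)) (.node (48,(.negSucc 0)) .nil (.node (117,(.ofNat 1)) .nil .nil)))) (.node (19,(.negSucc 0)) (.node (0,0) (.node (0,0) .nil (.node (72,(.ofNat 1)) .nil .nil)) (.node (41,(.ofNat 1)) .nil (.node (103,(.negSucc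 0)) .nil .nil))) (.node (29,(.ofNat 1)) (.node (0,0) .nil (.node (94,(.ofNat 1)) .nil .nil)) (.node (61,(.ofNat 1)) .nil (.node (125,(.ofNat 1)) .nil .nil)))))) (.node (3,(.ofNat 1)) (.node (0,0) (.node (0,0) (.node (0,0) (.node (0,0) .nil (.node (67,(.ofNat 1)) .nil .nil)) (.node (35,(.ofNat 1)) .nil (.node (99,(.ofNat 1)) .nil .nil))) (.node (13,(.ofNat 1)) (.node (0,0) .nil (.node (79,(.negSucc 0)) .nil .nil)) (.node (56,(.ofNat 1)) .nil (.node (115,(.ofNat 1)) .nil .nil)))) (.node (17,(.negSucc 0)) (.node (0,0) (.node (0,0) .nil (.node (70,(.ofNat 1)) .nil .nil)) (.node (39,(.ofNat 1)) .nil (.node (113,(.ofNat 1)) .nil .nil))) (.node (27,(.ofNat 1)) (.node (0,0) .nil (.node (91,(.ofNat 1)) .nil .nil)) (.node (59,(.ofNat 1)) .nil (.node (124,(.ofNat 1)) .nil .nil))))) (.node (7,(.ofNat 1)) (.node (0,0) (.node (0,0) (.node (0,0) .nil (.node (76,(.negSucc 0)) .nil .nil)) (.node (43,(.negSucc 0)) .nil (.node (109,(.ofNat 1)) .nil .nil))) (.node (23,(.ofNat 1)) (.node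 (0,0) .nil (.node (87,(.ofNat 1)) .nil .nil)) (.node (50,(.negSucc 0)) .nil (.node (119,(.ofNat 1)) .nil .nil)))) (.node (21,(.negSucc 0)) (.node (0,0) (.node (0,0) .nil (.node (83,(.ofNat 1)) .nil .nil)) (.node (47,(.ofNat 1)) .nil (.node (105,(.negSucc 0)) .nil .nil))) (.node (32,(.negSucc 0)) (.node (0,0) .nil (.node (95,(.ofNat 1)) .nil .nil)) (.node (63,(.ofNat 1)) .nil .nil)))))))
noncomputable def w1 : Trie (ℕ × ℤ) := (.node (0,(.ofNat 1)) (.node (0,0) (.node (0,0) (.node (0,0) (.node (0,0) (.node (0,0) (.node (0,0) .nil (.node (64,(.ofNat 1)) .nil .nil)) (.node (32,(.ofNat 1)) .nil (.node (100,(.ofNat 1)) .nil .nil))) (.node (16,(.ofNat 1)) (.node (0,0) .nil (.node (70,(.ofNat 1)) .nil .nil)) (.node (39,(.ofNat 1)) .nil (.node (112,(.ofNat 1)) .nil .nil)))) (.node (4,(.ofNat 1)) (.node (0,0) (.node (0,0) .nil (.node (82,(.negSucc 0)) .nil .nil)) (.node (49,(.negSucc 0)) .nil (.node (104,(.ofNat 1)) .nil .nil))) (.node (28,(.negSucc 0)) (.node (0,0) .nil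 (.node (88,(.ofNat 1)) .nil .nil)) (.node (46,(.negSucc 0)) .nil (.node (116,(.negSucc 0)) .nil .nil))))) (.node (8,(.negSucc 0)) (.node (0,0) (.node (0,0) (.node (0,0) .nil (.node (68,(.ofNat 1)) .nil .nil)) (.node (36,(.ofNat 1)) .nil (.node (96,(.negSucc 0)) .nil .nil))) (.node (20,(.ofNat 1)) (.node (0,0) .nil (.node (75,(.negSucc 0)) .nil .nil)) (.node (52,(.ofNat 1)) .nil (.node (120,(.ofNat 1)) .nil .nil)))) (.node (12,(.ofNat 1)) (.node (0,0) (.node (0,0) .nil (.node (85,(.ofNat 1)) .nil .nil)) (.node (54,(.ofNat 1)) .nil (.node (108,(.ofNat 1)) .nil .nil))) (.node (24,(.ofNat 1)) (.node (0,0) .nil (.node (92,(.ofNat 1)) .nil .nil)) (.node (60,(.ofNat 1)) .nil (.node (124,(.ofNat 1)) .nil .nil)))))) (.node (2,(.ofNat 1)) (.node (0,0) (.node (0,0) (.node (0,0) (.node (0,0) .nil (.node (66,(.ofNat 1)) .nil .nil)) (.node (34,(.ofNat 1)) .nil (.node (102,(.ofNat 1)) .nil .nil))) (.node (18,(.ofNat 1)) (.node (0,0) .nil (.node (72,(.ofNat 1)) .nil .nil)) (.node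 (41,(.ofNat 1)) .nil (.node (114,(.ofNat 1)) .nil .nil)))) (.node (6,(.ofNat 1)) (.node (0,0) (.node (0,0) .nil (.node (83,(.ofNat 1)) .nil .nil)) (.node (51,(.negSucc 0)) .nil (.node (106,(.ofNat 1)) .nil .nil))) (.node (30,(.negSucc 0)) (.node (0,0) .nil (.node (90,(.ofNat 1)) .nil .nil)) (.node (58,(.ofNat 1)) .nil (.node (118,(.negSucc 0)) .nil .nil))))) (.node (10,(.negSucc 0)) (.node (0,0) (.node (0,0) (.node (0,0) .nil (.node (80,(.negSucc 0)) .nil .nil)) (.node (38,(.ofNat 1)) .nil (.node (98,(.negSucc 0)) .nil .nil))) (.node (22,(.ofNat 1)) (.node (0,0) .nil (.node (77,(.negSucc 0)) .nil .nil)) (.node (44,(.negSucc 0)) .nil (.node (122,(.ofNat 1)) .nil .nil)))) (.node (14,(.ofNat 1)) (.node (0,0) (.node (0,0) .nil (.node (47,(.negSucc 0)) .nil .nil)) (.node (56,(.ofNat 1)) .nil (.node (110,(.ofNat 1)) .nil .nil))) (.node (26,(.ofNat 1)) (.node (0,0) .nil (.node (94,(.ofNat 1)) .nil .nil)) (.node (62,(.ofNat 1)) .nil .nil)))))) (.node (1,(.ofNat 1)) (.node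 (0,0) (.node (0,0) (.node (0,0) (.node (0,0) (.node (0,0) .nil (.node (65,(.ofNat 1)) .nil .nil)) (.node (33,(.ofNat 1)) .nil (.node (101,(.ofNat 1)) .nil .nil))) (.node (17,(.ofNat 1)) (.node (0,0) .nil (.node (71,(.ofNat 1)) .nil .nil)) (.node (40,(.ofNat 1)) .nil (.node (113,(.ofNat 1)) .nil .nil)))) (.node (5,(.ofNat 1)) (.node (0,0) (.node (0,0) .nil (.node (73,(.ofNat 1)) .nil .nil)) (.node (50,(.negSucc 0)) .nil (.node (105,(.ofNat 1)) .nil .nil))) (.node (29,(.negSucc 0)) (.node (0,0) .nil (.node (89,(.ofNat 1)) .nil .nil)) (.node (57,(.ofNat 1)) .nil (.node (117,(.negSucc 0)) .nil .nil))))) (.node (9,(.negSucc 0)) (.node (0,0) (.node (0,0) (.node (0,0) .nil (.node (79,(.negSucc 0)) .nil .nil)) (.node (37,(.ofNat 1)) .nil (.node (97,(.negSucc 0)) .nil .nil))) (.node (21,(.ofNat 1)) (.node (0,0) .nil (.node (76,(.negSucc 0)) .nil .nil)) (.node (43,(.negSucc 0)) .nil (.node (121,(.ofNat 1)) .nil .nil)))) (.node (13,(.ofNat 1)) (.node (0,0) (.node (0,0) .nil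 (.node (86,(.ofNat 1)) .nil .nil)) (.node (55,(.ofNat 1)) .nil (.node (109,(.ofNat 1)) .nil .nil))) (.node (25,(.ofNat 1)) (.node (0,0) .nil (.node (93,(.ofNat 1)) .nil .nil)) (.node (61,(.ofNat 1)) .nil (.node (125,(.ofNat 1)) .nil .nil)))))) (.node (7,(.negSucc 0)) (.node (0,0) (.node (0,0) (.node (0,0) (.node (0,0) .nil (.node (67,(.ofNat 1)) .nil .nil)) (.node (35,(.ofNat 1)) .nil (.node (95,(.negSucc 0)) .nil .nil))) (.node (19,(.ofNat 1)) (.node (0,0) .nil (.node (74,(.negSucc 0)) .nil .nil)) (.node (42,(.ofNat 1)) .nil (.node (119,(.ofNat 1)) .nil .nil)))) (.node (11,(.ofNat 1)) (.node (0,0) (.node (0,0) .nil (.node (84,(.ofNat 1)) .nil .nil)) (.node (53,(.ofNat 1)) .nil (.node (107,(.ofNat 1)) .nil .nil))) (.node (23,(.ofNat 1)) (.node (0,0) .nil (.node (91,(.ofNat 1)) .nil .nil)) (.node (59,(.ofNat 1)) .nil (.node (123,(.ofNat 1)) .nil .nil))))) (.node (3,(.ofNat 1)) (.node (0,0) (.node (0,0) (.node (0,0) .nil (.node (81,(.negSucc 0)) .nil .nil)) (.node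 (48,(.negSucc 0)) .nil (.node (103,(.ofNat 1)) .nil .nil))) (.node (27,(.negSucc 0)) (.node (0,0) .nil (.node (87,(.ofNat 1)) .nil .nil)) (.node (45,(.negSucc 0)) .nil (.node (115,(.negSucc 0)) .nil .nil)))) (.node (15,(.ofNat 1)) (.node (0,0) (.node (0,0) .nil (.node (69,(.ofNat 1)) .nil .nil)) (.node (78,(.negSucc 0)) .nil (.node (111,(.ofNat 1)) .nil .nil))) (.node (31,(.ofNat 1)) (.node (0,0) .nil (.node (99,(.ofNat 1)) .nil .nil)) (.node (63,(.ofNat 1)) .nil .nil)))))))
noncomputable def w0 : Trie (ℕ × ℤ) := (.node (1,(.negSucc 0)) (.node (0,0) (.node (0,0) (.node (0,0) (.node (0,0) (.node (0,0) (.node (0,0) .nil (.node (64,(.ofNat 1)) .nil .nil)) (.node (93,(.negSucc 0)) .nil (.node (75,(.ofNat 1)) .nil .nil))) (.node (16,(.ofNat 1)) (.node (0,0) .nil (.node (80,(.ofNat 1)) .nil .nil)) (.node (27,(.negSucc 0)) .nil (.node (112,(.ofNat 1)) .nil .nil)))) (.node (8,(.ofNat 1)) (.node (0,0) (.node (0,0) .nil (.node (72,(.ofNat 1)) .nil .nil)) (.node (24,(.negSucc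 0)) .nil (.node (88,(.ofNat 1)) .nil .nil))) (.node (40,(.ofNat 1)) (.node (0,0) .nil (.node (104,(.negSucc 0)) .nil .nil)) (.node (56,(.ofNat 1)) .nil (.node (120,(.ofNat 1)) .nil .nil))))) (.node (4,(.ofNat 1)) (.node (0,0) (.node (0,0) (.node (0,0) .nil (.node (68,(.ofNat 1)) .nil .nil)) (.node (20,(.negSucc 0)) .nil (.node (84,(.ofNat 1)) .nil .nil))) (.node (36,(.ofNat 1)) (.node (0,0) .nil (.node (100,(.negSucc 0)) .nil .nil)) (.node (31,(.negSucc 0)) .nil (.node (116,(.ofNat 1)) .nil .nil)))) (.node (12,(.ofNat 1)) (.node (0,0) (.node (0,0) .nil (.node (97,(.negSucc 0)) .nil .nil)) (.node (44,(.ofNat 1)) .nil (.node (92,(.ofNat 1)) .nil .nil))) (.node (49,(.ofNat 1)) (.node (0,0) .nil (.node (108,(.negSucc 0)) .nil .nil)) (.node (60,(.ofNat 1)) .nil (.node (125,(.ofNat 1)) .nil .nil)))))) (.node (2,(.ofNat 1)) (.node (0,0) (.node (0,0) (.node (0,0) (.node (0,0) .nil (.node (66,(.ofNat 1)) .nil .nil)) (.node (18,(.negSucc 0)) .nil (.node (77,(.ofNat 1)) .nil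 .nil))) (.node (34,(.ofNat 1)) (.node (0,0) .nil (.node (82,(.ofNat 1)) .nil .nil)) (.node (29,(.negSucc 0)) .nil (.node (114,(.ofNat 1)) .nil .nil)))) (.node (10,(.ofNat 1)) (.node (0,0) (.node (0,0) .nil (.node (95,(.negSucc 0)) .nil .nil)) (.node (26,(.negSucc 0)) .nil (.node (90,(.ofNat 1)) .nil .nil))) (.node (42,(.ofNat 1)) (.node (0,0) .nil (.node (106,(.negSucc 0)) .nil .nil)) (.node (58,(.ofNat 1)) .nil (.node (122,(.ofNat 1)) .nil .nil))))) (.node (6,(.ofNat 1)) (.node (0,0) (.node (0,0) (.node (0,0) .nil (.node (70,(.ofNat 1)) .nil .nil)) (.node (22,(.negSucc 0)) .nil (.node (86,(.ofNat 1)) .nil .nil))) (.node (38,(.ofNat 1)) (.node (0,0) .nil (.node (102,(.negSucc 0)) .nil .nil)) (.node (54,(.ofNat 1)) .nil (.node (118,(.ofNat 1)) .nil .nil)))) (.node (14,(.ofNat 1)) (.node (0,0) (.node (0,0) .nil (.node (78,(.ofNat 1)) .nil .nil)) (.node (46,(.ofNat 1)) .nil (.node (110,(.ofNat 1)) .nil .nil))) (.node (51,(.ofNat 1)) (.node (0,0) .nil (.node (73,(.ofNat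 1)) .nil .nil)) (.node (62,(.ofNat 1)) .nil .nil)))))) (.node (0,(.ofNat 1)) (.node (0,0) (.node (0,0) (.node (0,0) (.node (0,0) (.node (0,0) .nil (.node (65,(.ofNat 1)) .nil .nil)) (.node (17,(.negSucc 0)) .nil (.node (76,(.ofNat 1)) .nil .nil))) (.node (33,(.ofNat 1)) (.node (0,0) .nil (.node (81,(.ofNat 1)) .nil .nil)) (.node (28,(.negSucc 0)) .nil (.node (113,(.ofNat 1)) .nil .nil)))) (.node (9,(.ofNat 1)) (.node (0,0) (.node (0,0) .nil (.node (94,(.negSucc 0)) .nil .nil)) (.node (25,(.negSucc 0)) .nil (.node (89,(.ofNat 1)) .nil .nil))) (.node (41,(.ofNat 1)) (.node (0,0) .nil (.node (105,(.negSucc 0)) .nil .nil)) (.node (57,(.ofNat 1)) .nil (.node (121,(.ofNat 1)) .nil .nil))))) (.node (5,(.ofNat 1)) (.node (0,0) (.node (0,0) (.node (0,0) .nil (.node (69,(.ofNat 1)) .nil .nil)) (.node (21,(.negSucc 0)) .nil (.node (85,(.ofNat 1)) .nil .nil))) (.node (37,(.ofNat 1)) (.node (0,0) .nil (.node (101,(.negSucc 0)) .nil .nil)) (.node (53,(.ofNat 1)) .nil (.node (117,(.ofNat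 1)) .nil .nil)))) (.node (13,(.ofNat 1)) (.node (0,0) (.node (0,0) .nil (.node (98,(.negSucc 0)) .nil .nil)) (.node (45,(.ofNat 1)) .nil (.node (109,(.ofNat 1)) .nil .nil))) (.node (50,(.ofNat 1)) (.node (0,0) .nil (.node (32,(.negSucc 0)) .nil .nil)) (.node (61,(.ofNat 1)) .nil (.node (124,(.negSucc 0)) .nil .nil)))))) (.node (3,(.ofNat 1)) (.node (0,0) (.node (0,0) (.node (0,0) (.node (0,0) .nil (.node (67,(.ofNat 1)) .nil .nil)) (.node (19,(.negSucc 0)) .nil (.node (83,(.ofNat 1)) .nil .nil))) (.node (35,(.ofNat 1)) (.node (0,0) .nil (.node (99,(.negSucc 0)) .nil .nil)) (.node (30,(.negSucc 0)) .nil (.node (115,(.ofNat 1)) .nil .nil)))) (.node (11,(.ofNat 1)) (.node (0,0) (.node (0,0) .nil (.node (96,(.negSucc 0)) .nil .nil)) (.node (43,(.ofNat 1)) .nil (.node (91,(.ofNat 1)) .nil .nil))) (.node (48,(.ofNat 1)) (.node (0,0) .nil (.node (107,(.negSucc 0)) .nil .nil)) (.node (59,(.ofNat 1)) .nil (.node (123,(.ofNat 1)) .nil .nil))))) (.node (7,(.ofNat 1)) (.node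 (0,0) (.node (0,0) (.node (0,0) .nil (.node (71,(.ofNat 1)) .nil .nil)) (.node (23,(.negSucc 0)) .nil (.node (87,(.ofNat 1)) .nil .nil))) (.node (39,(.ofNat 1)) (.node (0,0) .nil (.node (103,(.negSucc 0)) .nil .nil)) (.node (55,(.ofNat 1)) .nil (.node (119,(.ofNat 1)) .nil .nil)))) (.node (15,(.ofNat 1)) (.node (0,0) (.node (0,0) .nil (.node (79,(.ofNat 1)) .nil .nil)) (.node (47,(.ofNat 1)) .nil (.node (111,(.ofNat 1)) .nil .nil))) (.node (52,(.ofNat 1)) (.node (0,0) .nil (.node (74,(.ofNat 1)) .nil .nil)) (.node (63,(.ofNat 1)) .nil .nil)))))))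
noncomputable def w : Trie (Trie (ℕ × ℤ)) := (.node w0 (.node .nil (.node .nil .nil (.node w4 .nil .nil)) (.node w2 .nil (.node w6 .nil .nil))) (.node w1 (.node .nil .nil (.node w5 .nil .nil)) (.node w3 .nil .nil)))
noncomputable def chi : Trie ℕ := (.node 98944770024428100700477500251615470837647165199872880094777193492832575919160782148575161502376067798843566213413 (.node 0 (.node 0 (.node 0 (.node 0 (.node 0 (.node 0 .nil (.node 263869163884684647036300374791230736417470102672782666099233075163702749324094116781022259070252372616923612849883 .nil .nil)) (.node 196515307131850216499844156159268225653779496790854201909794644454255165661614454465148162417374452008407335286484 .nil (.node 340791012419096854632782663330642548758644169970494224730738913612171079949961302598467556795526406512297561147098 .nil .nil))) (.node 177273403537034853133501261997675446526799931421874785189135634599285572743507063051413727866196888775899030370020 (.node 0 .nil (.node 265208118107249058971224224389550943693192656011093541645907436901567264778079387944542360707352546161807921329307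 .nil .nil)) (.node 254233341347476737074656681275453478767730495671020100740987426504561851616212769357577890996409645793268734736099 .nil (.node 350580030907647530184333374122298914784799309193268490985425734675718225563899256029868479920270555326720972010706 .nil .nil)))) (.node 176054757626727116451763681433981988253442070188458224786172367316712723129942092165246729053130655034453368096548 (.node 0 (.node 0 .nil (.node 265054922155906293381317207113671835316777123790081840749466264497161016872022781936585805656451124171039388579483 .nil .nil)) (.node 254063701576590926316389289878948190704289543391949706968181215125598312677338010484319609832074482708835258714339 .nil (.node 342031303785891222490833000512076047244733108097285849177683095376994586777546641108051694900097622282074036217498 .nil .nil))) (.node 186726288643299540948293445367611859627624357568079935655107823390708020047676501033747239292630303193983924422876 (.node 0 .nil (.node 274693890852599837122737156000739716168067922273416077864609703642104294147885131657479324360653442767222701926035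 .nil .nil)) (.node 262800567766234042164693556132125763318976582178806134835813189799733768048604749605362664677727969093718048093467 .nil (.node 351805933932356805102199464308929470908017292615746121966722962487875427971887654134817154459119679164969938101394 .nil .nil))))) (.node 175883062378383353465320162911653462865846652555643131602648070915858197577846120831322185341083842787882457782564 (.node 0 (.node 0 (.node 0 .nil (.node 264002769856998733678070762575193041905309023354164002362411418107749326629351567626227937377360461741498767095003 .nil .nil)) (.node 253009493800225414384966718214646159968666977602287169170408283714295635821445583713295479005272171117157202937635 .nil (.node 340962707667440617619226181852971074146239587603309317914263210013025605502057273932392100507573218758868471461082 .nil .nil))) (.node 185672080866934029016870873703309828892001791778417397857334891979405343191784074262723108465827991602305868646172 (.node 0 .nil (.node 273625294734149232251130337341634743069574401779439546601189818278135312872395764481819729968129039244017137169619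 .nil .nil)) (.node 255435543438241428588033887718520757354062936846377968267585654812577410196959587378443163696042138441049453737635 .nil (.node 351634238684013042115755945786600945520421874982931028783198666087020902419791682800892610747072866918399027787410 .nil .nil)))) (.node 177123353745177721323370500093086961351935590682434756049592252680681704405431459340906323445655058557658932852964 (.node 0 (.node 0 .nil (.node 273470043305348514433047192939932397369004404204683146294030560851838078353117946013196912369515968091111170127571 .nil .nil)) (.node 262480878203491099596295402831031990080671289160295711923463596502166360771654387021596979092850975791044474554651 .nil (.node 342181353577748354300963762416664532419597448836725878317226477295598455115622244818559099320639452500314133734554 .nil .nil))) (.node 186897983891643303934736963889940385015219775200895028838632119791562545599772472367671783004677115440554834736860 (.node 0 .nil (.node 274843940644456968932867917905328201342932263012856107004153085560708162485960735367986728781195272985462799443091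 .nil .nil)) (.node 263834220768140604471403499424155139719264797202920580935784912192697180645236598589752544295673241267456292013787 .nil (.node 361423257172563717667306656578257311546577014205705295037885487150568048033729636232293533871817015732822438651018 .nil .nil)))))) (.node 174699359584619659348479457715035601290694096792088656363132966604290916643138668136424901302596740395904116345188 (.node 0 (.node 0 (.node 0 (.node 0 .nil (.node 263984270559997736281534261328743624894129137942360610075328294111301048983312202300259948716215071485696389530843 .nil .nil)) (.node 252877943305369279971372457556507091804982522274650532317948025792140045129409345328756063245875731154719482984739 .nil (.node 340809511716097852029319164577091965769824055382297617017822037608619357596000667924435545456671796768099938711258 .nil .nil))) (.node 185540530372077894603276613045170760728317336450780761004874634057249752499747835878183692706431551639868148693276 (.node 0 .nil (.node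 265226617404250056367760725636000360704372541422896933932990560898015542424118753270510349368497936417610298893467 .nil .nil)) (.node 254251840644477734471193182521902895778910381082823493028070550501010129262252134683545879657555036049071112300259 .nil (.node 350598530204648527580869875368748331795979194605071883272508858672166503209938621355836468581415945582523349574866 .nil .nil)))) (.node 176073256923728113848300182680431405264621955600261617073255491313161000775981457491214717714276045290255745660708 (.node 0 (.node 0 .nil (.node 273322048990949334851092558161167149518294528818987816565205263955125196628263554763355770496685787035008506902739 .nil .nil)) (.node 254211695890990105898343924657713438554999418777645036697006512022311194402192401734160751704904663764937921939171 .nil (.node 342162854280747356904427261170215115408417563424922486030143353299150177469582879492591110659494062244511756170394 .nil .nil))) (.node 186874282957698720530248080146377107478334232953775265383933120287420901772530892283588381165460484250086587647708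 (.node 0 .nil (.node 274825441347455971536331416658878784331752377601052714717069961564259884839921370042018740120049882729660421878931 .nil .nil)) (.node 263704725750742422285985365891839308879734807229028643494042739292432576566421572665879391083988450467156006353115 .nil (.node 351953928246755984684154099087694718758727168001441451695548259384588309696742045384658296331949860221072601326226 .nil .nil))))) (.node 175901561675384350861856664158102879877026537967446523889731194912306475223885486157290174002229233043684835346724 (.node 0 (.node 0 (.node 0 .nil (.node 265036422858905295984780705867222418305597238378278448462383140500712739225983416610617816995305733915237011015323 .nil .nil)) (.node 253027993097226411781503219461095576979846863014090561457491407710743913467484949039263467666417561372959580501795 .nil (.node 340981206964441615015762683099420491157419473015112710201346334009473883148096639258360089168718609014670849025242 .nil .nil))) (.node 185690580163935026413407374949759245903181677190220790144418015975853620837823439588691097126973381858108246210332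 (.node 0 .nil (.node 273643794031150229647666838588084160080754287191242938888272942274583590518435129807787718629274429499819514733779 .nil .nil)) (.node 262652573451834862582738921353360515468266706793110805106987892903020886323750358355521522804897788037615384868635 .nil (.node 351782232998412221697710580565366193371131750368626358512023962983733784144646074050733752619903047974501691012242 .nil .nil)))) (.node 177254904240033855736964760751226029515620046010071392902052510602837295097467697725445739205051498520096652805860 (.node 0 (.node 0 .nil (.node 264024415313485364854383519192933082118040100247539066406392332589999983843371935249645076668865443769829579891931 .nil .nil)) (.node 262628872517890279178250037609797237931381164545991041652288893398879242496508778271438120965681156847147137779483 .nil (.node 350448480412791395770739113464159846621114853865631854132965476753562634871863017645329064160874115364283252057810 .nil .nil))) (.node 187045978206042483516691598668705632865929650586590358567457416688275427324626863617512924877507296496657497961692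 (.node 0 .nil (.node 339607309625333160515941958134024687183491614206939749491223809300603799015253849903570272757039304120319219709722 .nil .nil)) (.node 263850664587683649639763873544781319406290217260979273812149951167254471678054751455054270409106982361121235285723 .nil .nil)))))) (.node 166282182957719486068573344762951801914312351023742651407850585227722868548822291599147532041820247313694900504876 (.node 0 (.node 0 (.node 0 (.node 0 (.node 0 .nil (.node 263871219362142599264476501917053973741624568026527365509951160185593735937315329241688521617964021779061047142107 .nil .nil)) (.node 252861499485826234803012083435880912117957102216591839441582986817582754096591192463454337132441990061054539712803 .nil (.node 340807456238639899801143037451268728445669590028552917607103952586728370982779455463769282908960147605962504419034 .nil .nil))) (.node 185524086552534849434916238924544581041291916392722068128509595082692461466929683012881966592997810546203205421340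 (.node 0 .nil (.node 265224561926792104139584598510177123380218076069152234522272475876124555810897540809844086820786287255472864601243 .nil .nil)) (.node 254235396824934689302832808401276716091884961024764800151705511526452838229433981818244153544121294955406169028323 .nil (.node 350582086385105482412509501248122152108953774547013190396143819697609212177120468490534742467982204488858406302930 .nil .nil)))) (.node 176071201446270161620124055554608167940467490246516917662537406291270014162760245030548455166564396128118311368484 (.node 0 (.node 0 .nil (.node 272269896692041775147846113622688356106826428383069978178150417565713506385592340452997902217595124605467885418259 .nil .nil)) (.node 254080145396133971484749663999574370391314963450008399844546254100155603710156163349621335945508223802500201986275 .nil (.node 342033359263349174719009127637899284568887573451030548588401180398885573390767853568717957447809271444211470509722 .nil .nil))) (.node 186742732462842586116653819488238039314649777626138628531472862365265311080494653899048965406064044287648867694812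 (.node 0 .nil (.node 274695946330057789350913283126562953492222387627160777275327788663995280761106344118145586908365091929360136218259 .nil .nil)) (.node 263702670273284470057809238766016071555580341875283944083324654270541589953200360205213128536276801305018572060891 .nil (.node 351822377751899850270559838429555650595042712673804814843088001462432719004705807000118880572553420258634881373330 .nil .nil))))) (.node 175899506197926398633680537032279642552872072613701824479013109890415488610664273696623911454517583881547401054500 (.node 0 (.node 0 (.node 0 .nil (.node 264904872364049161571186445209083350141912783050641811609922882578557148533947178226078401235909293952799291062427 .nil .nil)) (.node 253011549277683366613142845340469397292821442956031868581126368736186622434666796173961741552983820279294637229859 .nil (.node 340979151486983662787586555973597253833265007661368010790628248987582896534875426797693826621006959852533414733018 .nil .nil))) (.node 185674136344391981245047000829133066216156257132162097268052977001296329805005286723389371013539640764443302938396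 (.node 0 .nil (.node 273641738553692277419490711462260922756599821837498239477554857252692603905213917347121456081562780337682080441555 .nil .nil)) (.node 262650517974376910354562794227537278144112241439366105696269807881129899710529145894855260257186138875477950576411 .nil (.node 351650682503556087284116319907227125207447295040989721659563705061578193452609835666194336860506608012063971059346 .nil .nil)))) (.node 177125409222635673551546627218910198676090056036179455460310337702572691018652671801572585993366707719796367145188 (.node 0 (.node 0 .nil (.node 273472098782806466661223320065755634693158869558427845704748645873729064966339158473863174917227617253248604419795 .nil .nil)) (.node 262497322023034144764655776951658169767696709218354404799828635476723651804472539886898705206284716884709417826587 .nil (.node 350432036593248350602378739343533666934089433807573161256600437779005343839044864780027338047440374270618308785874 .nil .nil))) (.node 186914427711186349103097338010566564702245195258953721714997158766119836632590625232973509118110856534219778008796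 (.node 0 .nil (.node 331190132998432987236035845181940887807109868438593744535941427924035750920937473366292903496262811038110003869410 .nil .nil)) (.node 263836276245598556699579626549978377043419262556665280346502997214588167258457811050418806843384890429593726306011 .nil (.node 428760670105855103035402501089593642623242200029575066350958878885458340663391145682865904411261195247673772942481 .nil .nil)))))) (.node 175751511883527219051725902253514394702162197228006494750187812993702606885809882446782769581687402825444737829668 (.node 0 (.node 0 (.node 0 (.node 0 .nil (.node 264000714379540781449894635449369804581154558000419302951693333085858340016130355165561674829648812579361332802779 .nil .nil)) (.node 252879998782827232199548584682330329129136987628395231728666110814031031742630557789422325793587380316856917276963 .nil (.node 340831157172584483205631921194832005982555132275672681061802952090870014810021035547852684748176778796430751508186 .nil .nil))) (.node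 185542585849535846831452740170993998052471801804525460415592719079140739112969048338849955254143200802005582985500 (.node 0 .nil (.node 273493744239293097837536076683495674905889946451802909748729560355979722180359526097280314208732599281579417216723 .nil .nil)) (.node 254383391139333868884787443180041963942594836410460129880530808423165719954288373068085295416951476011508832253155 .nil (.node 351632183206555089887579818660777708196267409629186329372480581065129915806570470340226348199361217756261593495186 .nil .nil)))) (.node 177106909925634676155010125972460781664910170624376063173227213706124413372613306475604597332221317463993989581028 (.node 0 (.node 0 .nil (.node 273453599485805469264686818819306217681978984146624453417665521877280787320299793147895186256082226997446226855635 .nil .nil)) (.node 262478822726033147368119275705208752756516823806551012512745511480275374158433174560930716545139326628907040262427 .nil (.node 342164909758205309132603388296038352732572028778667185440861438321041164082804091953257373207205711406649190462618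 .nil .nil))) (.node 186895928414185351706560836764117147691065309847150329427914034769671558986551259907005520456965466278417400444636 (.node 0 .nil (.node 274827496824913923764507543784702021655906842954797414127788046586150871453142582502685002667761531891797856171155 .nil .nil)) (.node 263721169570285467454345740012465488566760227287087336370407778266989867599239725531181117197422191560820949625051 .nil (.node 353006080545663544387400543626173512170195268437359290082603105773999999939413259695016164611040522650613222810706 .nil .nil))))) (.node 175923207131870982038169420775842920089757614860821587933712109394557132437905853780707313293734215072015648143652 (.node 0 (.node 0 (.node 0 .nil (.node 265052866678448341153141079987848597992622658436337141338748179475270030258801569475919543108739475008901954287259 .nil .nil)) (.node 254061646099132974088213162753124953380135078038205007557463130103707326064116798023653347284362833546697824422115 .nil (.node 342014859966348177322472626391449867557707688039227156301318056402437295744728488242749968786663881188409092945562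 .nil .nil))) (.node 186724233165841588720117318241788622303469892214335236244389738368817033434455288573080976744918654031846490130652 (.node 0 .nil (.node 274677447033056791954376781880113536481042502215357384988244664667547003115066978792177598247219701673557758654099 .nil .nil)) (.node 262669017271377907751099295473986695155292126851169497983352931877578177356568511220823248918331529131280328140571 .nil (.node 351803878454898852874023337183106233583862827262001422556004877465984441358666441674150891911408030002832503809170 .nil .nil)))) (.node 177256959717491807965140887877049266839774511363816092312770595624728281710688910186112001752763147682234087098084 (.node 0 (.node 0 .nil (.node 265076567612392924557629963731411875529508200683456904793447178979411674086043149560002944947956106199370201376411 .nil .nil)) (.node 263681024816797838881496482148276031342849264981908880039343739788290932739179992581795989244771819276687759263963 .nil (.node 350450535890249347998915240589983083945269319219376553543683561775453621485084230105995326708585764526420686350034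 .nil .nil))) (.node 188098130504950043219938043207184426277397751022508196954512263077687117567298077927870793156597958926198119446172 (.node 0 .nil (.node 340659461924240720219188402672503480594959714642857587878278655690015489257925064213928141036129966549859841194202 .nil .nil)) (.node 263854775542599554096116127796427794054599147968468672633586121211036444904497176376386795504530280685396103870171 .nil .nil)))))))
noncomputable def par : Trie (ℕ × ℕ × ℕ) := (.node (0,1,17) (.node (0,0,0) (.node (0,0,0) (.node (0,0,0) (.node (0,0,0) (.node (0,0,0) (.node (0,0,0) .nil (.node (4,67,8) .nil .nil)) (.node (0,93,1) .nil (.node (4,95,3) .nil .nil))) (.node (2,22,7) (.node (0,0,0) .nil (.node (4,79,6) .nil .nil)) (.node (6,49,7) .nil (.node (4,110,8) .nil .nil)))) (.node (5,9,12) (.node (0,0,0) (.node (0,0,0) .nil (.node (6,71,7) .nil .nil)) (.node (5,41,7) .nil (.node (5,103,6) .nil .nil))) (.node (5,25,6) (.node (0,0,0) .nil (.node (5,87,7) .nil .nil)) (.node (2,51,5)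 .nil (.node (6,119,11) .nil .nil))))) (.node (5,5,13) (.node (0,0,0) (.node (0,0,0) (.node (0,0,0) .nil (.node (6,67,8) .nil .nil)) (.node (6,37,9) .nil (.node (4,99,4) .nil .nil))) (.node (6,21,8) (.node (0,0,0) .nil (.node (4,83,5) .nil .nil)) (.node (0,31,3) .nil (.node (6,115,10) .nil .nil)))) (.node (6,13,10) (.node (0,0,0) (.node (0,0,0) .nil (.node (5,75,5) .nil .nil)) (.node (5,45,8) .nil (.node (5,107,9) .nil .nil))) (.node (5,29,5) (.node (0,0,0) .nil (.node (5,91,10) .nil .nil)) (.node (6,61,10) .nil (.node (2,123,15) .nil .nil)))))) (.node (3,3,15) (.node (0,0,0) (.node (0,0,0) (.node (0,0,0) (.node (0,0,0) .nil (.node (3,70,6) .nil .nil)) (.node (6,35,10) .nil (.node (6,97,5) .nil .nil))) (.node (6,19,9) (.node (0,0,0) .nil (.node (6,81,8) .nil .nil)) (.node (4,51,5) .nil (.node (5,113,10) .nil .nil)))) (.node (3,13,10) (.node (0,0,0) (.node (0,0,0) .nil (.node (3,73,3) .nil .nil)) (.node (1,51,5) .nil (.node (4,104,7) .nil .nil))) (.node (1,30,4) (.node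 (0,0,0) .nil (.node (4,88,8) .nil .nil)) (.node (5,59,8) .nil (.node (4,121,13) .nil .nil))))) (.node (1,10,11) (.node (0,0,0) (.node (0,0,0) (.node (0,0,0) .nil (.node (4,69,5) .nil .nil)) (.node (3,41,7) .nil (.node (6,101,6) .nil .nil))) (.node (3,25,6) (.node (0,0,0) .nil (.node (6,85,7) .nil .nil)) (.node (5,55,7) .nil (.node (4,117,12) .nil .nil)))) (.node (6,15,9) (.node (0,0,0) (.node (0,0,0) .nil (.node (3,79,6) .nil .nil)) (.node (2,42,6) .nil (.node (5,109,7) .nil .nil))) (.node (3,31,3) (.node (0,0,0) .nil (.node (2,93,1) .nil .nil)) (.node (5,60,11) .nil .nil)))))) (.node (2,2,16) (.node (0,0,0) (.node (0,0,0) (.node (0,0,0) (.node (0,0,0) (.node (0,0,0) .nil (.node (6,64,9) .nil .nil)) (.node (5,34,11) .nil (.node (5,96,4) .nil .nil))) (.node (5,18,10) (.node (0,0,0) .nil (.node (5,80,7) .nil .nil)) (.node (5,50,6) .nil (.node (6,112,9) .nil .nil)))) (.node (6,10,11) (.node (0,0,0) (.node (0,0,0) .nil (.node (0,94,2) .nil .nil)) (.node (4,42,6) .nil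 (.node (6,104,7) .nil .nil))) (.node (4,26,5) (.node (0,0,0) .nil (.node (6,88,8) .nil .nil)) (.node (6,58,9) .nil (.node (5,120,12) .nil .nil))))) (.node (6,6,12) (.node (0,0,0) (.node (0,0,0) (.node (0,0,0) .nil (.node (2,74,4) .nil .nil)) (.node (5,38,8) .nil (.node (5,100,5) .nil .nil))) (.node (5,22,7) (.node (0,0,0) .nil (.node (5,84,6) .nil .nil)) (.node (6,54,8) .nil (.node (5,116,11) .nil .nil)))) (.node (4,15,9) (.node (0,0,0) (.node (0,0,0) .nil (.node (6,76,6) .nil .nil)) (.node (4,46,7) .nil (.node (2,103,6) .nil .nil))) (.node (4,30,4) (.node (0,0,0) .nil (.node (7,0,0) .nil .nil)) (.node (4,58,9) .nil (.node (0,124,16) .nil .nil)))))) (.node (4,4,14) (.node (0,0,0) (.node (0,0,0) (.node (0,0,0) (.node (0,0,0) .nil (.node (5,66,7) .nil .nil)) (.node (4,37,9) .nil (.node (1,95,3) .nil .nil))) (.node (4,21,8) (.node (0,0,0) .nil (.node (1,74,4) .nil .nil)) (.node (3,52,4) .nil (.node (3,112,9) .nil .nil)))) (.node (5,12,11) (.node (0,0,0) (.node (0,0,0)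 .nil (.node (4,74,4) .nil .nil)) (.node (6,44,9) .nil (.node (6,106,8) .nil .nil))) (.node (6,28,6) (.node (0,0,0) .nil (.node (6,90,9) .nil .nil)) (.node (3,55,7) .nil (.node (3,122,14) .nil .nil))))) (.node (4,8,13) (.node (0,0,0) (.node (0,0,0) (.node (0,0,0) .nil (.node (5,70,6) .nil .nil)) (.node (6,40,8) .nil (.node (3,100,5) .nil .nil))) (.node (6,24,7) (.node (0,0,0) .nil (.node (3,84,6) .nil .nil)) (.node (4,56,6) .nil (.node (1,115,10) .nil .nil)))) (.node (5,16,8) (.node (0,0,0) (.node (0,0,0) .nil (.node (2,83,5) .nil .nil)) (.node (3,46,7) .nil (.node (6,110,8) .nil .nil))) (.node (2,32,2) (.node (0,0,0) .nil (.node (3,94,2) .nil .nil)) (.node (5,65,10) .nil .nil)))))))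
noncomputable def T : Tabs := ⟨7, 126, 133, ex, nt⟩
noncomputable def X : Extra := ⟨w, chi, .nil, par⟩
theorem ex_ok : exBeq chevE7 T.ex = true := by decide +kernel
end Cfsg.Agent.Lib.Chev.TabE7
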