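import Cfsg.Agent.Lib.Chev.Comm
import Cfsg.Prelude.Def_ChevE8

namespace Cfsg.Agent.Lib.Chev.TabE8
open Cfsg.Agent.Lib.Chev Cfsg.Lie

noncomputable def ex0 : Trie (List (ℕ × ℤ × ℕ)) := (.node [] (.node [] (.node [] (.node [] (.node [] (.node [] (.node [] (.node [] .nil (.node [(9,(.ofNat 1),1)] .nil .nil)) .nil) (.node [] .nil (.node [] .nil (.node [(55,(.ofNat 1),1)] .nil .nil)))) (.node [] .nil (.node [] (.node [] .nil (.node [(22,(.ofNat 1),1)] .nil .nil)) (.node [] .nil (.node [(101,(.negSucc 0),1)] .nil .nil))))) (.node [] (.node [] (.node [] .nil (.node [] .nil (.node [(31,(.negSucc 0),1)] .nil .nil))) (.node [] (.node [] .nil (.node [(19,(.ofNat 1),1)] .nil .nil)) (.node [] .nil (.node [(74,(.ofNat 1),1)] .nil .nil)))) (.node [] (.node [] .nil (.node [] .nil (.node [(45,(.negSucc 0),1)] .nil .nil))) .nil))) (.node [] (.node [] (.node [] .nil (.node [] .nil (.node [] .nil (.node [(64,(.ofNat 1),1)] .nil .nil)))) (.node [] (.node [] (.node [] .nil (.node [(14,(.ofNat 1),1)]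 .nil .nil)) .nil) (.node [] .nil (.node [] .nil (.node [(122,(.negSucc 0),1)] .nil .nil))))) (.node [] (.node [] (.node [] .nil (.node [] .nil (.node [(34,(.negSucc 0),1)] .nil .nil))) (.node [] .nil (.node [] .nil (.node [(87,(.negSucc 0),1)] .nil .nil)))) (.node [] (.node [] .nil (.node [] .nil (.node [(49,(.negSucc 0),1)] .nil .nil))) (.node [] (.node [] .nil (.node [(25,(.negSucc 0),1)] .nil .nil)) .nil))))) (.node [] (.node [] (.node [] (.node [] (.node [] (.node [] .nil (.node [(10,(.ofNat 1),1)] .nil .nil)) .nil) (.node [] .nil (.node [] .nil (.node [(60,(.ofNat 1),1)] .nil .nil)))) (.node [] (.node [] .nil (.node [] .nil (.node [(39,(.ofNat 1),1)] .nil .nil))) (.node [] .nil (.node [] .nil (.node [(113,(.negSucc 0),1)] .nil .nil))))) (.node [] .nil (.node [] (.node [] (.node [] .nil (.node [(15,(.ofNat 1),1)] .nil .nil)) .nil) .nil))) (.node [] (.node [] (.node [] (.node [] .nil (.node [] .nil (.node [(30,(.ofNat 1),1)] .nil .nil))) (.node [] (.node [] .nil (.node [(18,(.negSucc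 0),1)] .nil .nil)) (.node [] .nil (.node [(67,(.ofNat 1),1)] .nil .nil)))) (.node [] (.node [] .nil (.node [] .nil (.node [(44,(.ofNat 1),1)] .nil .nil))) (.node [] .nil (.node [] .nil (.node [(127,(.negSucc 0),1)] .nil .nil))))) (.node [] (.node [] (.node [] (.node [] .nil (.node [(13,(.ofNat 1),1)] .nil .nil)) (.node [] .nil (.node [(35,(.ofNat 1),1)] .nil .nil))) (.node [] .nil (.node [] .nil (.node [(92,(.negSucc 0),1)] .nil .nil)))) (.node [] .nil (.node [] (.node [] .nil (.node [(26,(.ofNat 1),1)] .nil .nil)) .nil)))))) (.node [] (.node [] (.node [] (.node [] (.node [] .nil (.node [] .nil (.node [] .nil (.node [(57,(.negSucc 0),1)] .nil .nil)))) (.node [] (.node [] .nil (.node [] .nil (.node [(38,(.negSucc 0),1)] .nil .nil))) (.node [] .nil (.node [] .nil (.node [(107,(.negSucc 0),1)] .nil .nil))))) (.node [] (.node [] (.node [] (.node [] .nil (.node [(12,(.ofNat 1),1)] .nil .nil)) (.node [] .nil (.node [(32,(.ofNat 1),1)] .nil .nil))) (.node [] (.node [] .nil (.node [(20,(.negSucc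 0),1)] .nil .nil)) (.node [] .nil (.node [(79,(.negSucc 0),1)] .nil .nil)))) (.node [] (.node [] .nil (.node [] .nil (.node [(46,(.ofNat 1),1)] .nil .nil))) (.node [] (.node [] .nil (.node [(24,(.ofNat 1),1)] .nil .nil)) .nil)))) (.node [] (.node [] (.node [] (.node [] (.node [] .nil (.node [(11,(.ofNat 1),1)] .nil .nil)) .nil) (.node [] .nil (.node [] .nil (.node [(65,(.negSucc 0),1)] .nil .nil)))) (.node [] .nil (.node [] (.node [] .nil (.node [(23,(.negSucc 0),1)] .nil .nil)) (.node [] .nil (.node [(125,(.negSucc 0),1)] .nil .nil))))) (.node [] (.node [] .nil (.node [] .nil (.node [] .nil (.node [(89,(.ofNat 1),1)] .nil .nil)))) (.node [] (.node [] .nil (.node [] .nil (.node [(51,(.ofNat 1),1)] .nil .nil))) .nil)))) (.node [] (.node [] (.node [] (.node [] (.node [] .nil (.node [] .nil (.node [(29,(.negSucc 0),1)] .nil .nil))) (.node [] (.node [] .nil (.node [(17,(.ofNat 1),1)] .nil .nil)) .nil)) (.node [] (.node [] .nil (.node [] .nil (.node [(41,(.negSucc 0),1)] .nil .nil)))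 (.node [] .nil (.node [] .nil (.node [(118,(.negSucc 0),1)] .nil .nil))))) (.node [] (.node [] .nil (.node [] .nil (.node [] .nil (.node [(86,(.ofNat 1),1)] .nil .nil)))) (.node [] (.node [] .nil (.node [] .nil (.node [(48,(.ofNat 1),1)] .nil .nil))) .nil))) (.node [(8,(.ofNat 1),1)] (.node [] (.node [] .nil (.node [] .nil (.node [] .nil (.node [(70,(.negSucc 0),1)] .nil .nil)))) (.node [] .nil (.node [] .nil (.node [] .nil (.node [(0,(.negSucc 1),1),(1,(.negSucc 2),1),(2,(.negSucc 3),1),(3,(.negSucc 5),1),(4,(.negSucc 4),1),(5,(.negSucc 3),1),(6,(.negSucc 2),1),(7,(.negSucc 1),1),(8,(.negSucc 0),2)] .nil .nil))))) (.node [] (.node [] (.node [] .nil (.node [] .nil (.node [(36,(.negSucc 0),1)] .nil .nil))) (.node [] .nil (.node [] .nil (.node [(96,(.ofNat 1),1)] .nil .nil)))) (.node [] (.node [] (.node [] .nil (.node [(16,(.negSucc 0),1)] .nil .nil)) (.node [] .nil (.node [(54,(.negSucc 0),1)] .nil .nil))) (.node [] (.node [] .nil (.node [(27,(.negSucc 0),1)] .nil .nil)) .nil)))))))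
noncomputable def ex1 : Trie (List (ℕ × ℤ × ℕ)) := (.node [] (.node [] (.node [] (.node [] (.node [] (.node [] .nil (.node [] .nil (.node [] .nil (.node [(56,(.ofNat 1),1)] .nil .nil)))) (.node [] (.node [] .nil (.node [] .nil (.node [(38,(.negSucc 0),1)] .nil .nil))) (.node [] .nil (.node [] .nil (.node [(102,(.negSucc 0),1)] .nil .nil))))) (.node [] (.node [] (.node [] (.node [] .nil (.node [(12,(.ofNat 1),1)] .nil .nil)) .nil) (.node [] .nil (.node [] .nil (.node [(75,(.ofNat 1),1)] .nil .nil)))) (.node [] .nil (.node [] (.node [] .nil (.node [(24,(.ofNat 1),1)] .nil .nil)) .nil)))) (.node [] (.node [] (.node [] (.node [] (.node [] .nil (.node [(11,(.ofNat 1),1)] .nil .nil)) .nil) .nil) (.node [] .nil (.node [] (.node [] .nil (.node [(23,(.negSucc 0),1)] .nil .nil)) (.node [] .nil (.node [(123,(.negSucc 0),1)] .nil .nil))))) (.node [] (.node [] .nil (.node [] .nil (.node [] .nil (.node [(88,(.negSucc 0),1)] .nil .nil)))) (.node [] (.node [] .nil (.node [] .nil (.node [(50,(.negSucc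 0),1)] .nil .nil))) .nil)))) (.node [] (.node [] (.node [] (.node [] (.node [] .nil (.node [] .nil (.node [(29,(.negSucc 0),1)] .nil .nil))) (.node [] (.node [] .nil (.node [(17,(.ofNat 1),1)] .nil .nil)) (.node [] .nil (.node [(61,(.ofNat 1),1)] .nil .nil)))) (.node [] (.node [] .nil (.node [] .nil (.node [(40,(.ofNat 1),1)] .nil .nil))) (.node [] .nil (.node [] .nil (.node [(114,(.negSucc 0),1)] .nil .nil))))) (.node [] (.node [] .nil (.node [] .nil (.node [] .nil (.node [(86,(.ofNat 1),1)] .nil .nil)))) (.node [] (.node [] .nil (.node [] .nil (.node [(48,(.ofNat 1),1)] .nil .nil))) .nil))) (.node [(9,(.ofNat 1),1)] (.node [] (.node [] .nil (.node [] .nil (.node [] .nil (.node [(68,(.ofNat 1),1)] .nil .nil)))) (.node [] .nil (.node [] .nil (.node [] .nil (.node [(0,(.negSucc 1),1),(1,(.negSucc 2),1),(2,(.negSucc 3),1),(3,(.negSucc 5),1),(4,(.negSucc 4),1),(5,(.negSucc 3),1),(6,(.negSucc 2),1),(7,(.negSucc 0),1),(9,(.negSucc 0),2)] .nil .nil))))) (.node [] (.node [] .nil (.node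 [] .nil (.node [] .nil (.node [(93,(.negSucc 0),1)] .nil .nil)))) (.node [] (.node [] (.node [] .nil (.node [(16,(.negSucc 0),1)] .nil .nil)) (.node [] .nil (.node [(54,(.negSucc 0),1)] .nil .nil))) .nil))))) (.node [] (.node [] (.node [] (.node [] (.node [] (.node [] (.node [] .nil (.node [(10,(.ofNat 1),1)] .nil .nil)) .nil) (.node [] .nil (.node [] .nil (.node [(58,(.negSucc 0),1)] .nil .nil)))) (.node [] .nil (.node [] .nil (.node [] .nil (.node [(108,(.negSucc 0),1)] .nil .nil))))) (.node [] (.node [] (.node [] .nil (.node [] .nil (.node [(33,(.ofNat 1),1)] .nil .nil))) (.node [] (.node [] .nil (.node [(21,(.negSucc 0),1)] .nil .nil)) (.node [] .nil (.node [(80,(.negSucc 0),1)] .nil .nil)))) (.node [] (.node [] (.node [] .nil (.node [(15,(.ofNat 1),1)] .nil .nil)) (.node [] .nil (.node [(47,(.ofNat 1),1)] .nil .nil))) .nil))) (.node [] (.node [] (.node [] (.node [] .nil (.node [] .nil (.node [(30,(.ofNat 1),1)] .nil .nil))) (.node [] (.node [] .nil (.node [(18,(.negSucc 0),1)]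 .nil .nil)) (.node [] .nil (.node [(66,(.negSucc 0),1)] .nil .nil)))) (.node [] (.node [] .nil (.node [] .nil (.node [(44,(.ofNat 1),1)] .nil .nil))) (.node [] .nil (.node [] .nil (.node [(126,(.negSucc 0),1)] .nil .nil))))) (.node [] (.node [] (.node [] (.node [] .nil (.node [(13,(.ofNat 1),1)] .nil .nil)) (.node [] .nil (.node [(35,(.ofNat 1),1)] .nil .nil))) (.node [] .nil (.node [] .nil (.node [(90,(.ofNat 1),1)] .nil .nil)))) (.node [] (.node [] .nil (.node [] .nil (.node [(52,(.ofNat 1),1)] .nil .nil))) (.node [] (.node [] .nil (.node [(26,(.ofNat 1),1)] .nil .nil)) .nil))))) (.node [] (.node [] (.node [] (.node [] .nil (.node [] .nil (.node [] .nil (.node [(64,(.ofNat 1),1)] .nil .nil)))) (.node [] (.node [] (.node [] .nil (.node [(14,(.ofNat 1),1)] .nil .nil)) (.node [] .nil (.node [(42,(.negSucc 0),1)] .nil .nil))) (.node [] .nil (.node [] .nil (.node [(119,(.negSucc 0),1)] .nil .nil))))) (.node [] (.node [] (.node [] .nil (.node [] .nil (.node [(34,(.negSucc 0),1)] .nil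 .nil))) .nil) (.node [] .nil (.node [] (.node [] .nil (.node [(25,(.negSucc 0),1)] .nil .nil)) .nil)))) (.node [(9,(.negSucc 0),1)] (.node [] (.node [] (.node [] .nil (.node [] .nil (.node [(31,(.negSucc 0),1)] .nil .nil))) (.node [] (.node [] .nil (.node [(19,(.ofNat 1),1)] .nil .nil)) (.node [] .nil (.node [(71,(.negSucc 0),1)] .nil .nil)))) (.node [] (.node [] .nil (.node [] .nil (.node [(45,(.negSucc 0),1)] .nil .nil))) (.node [] .nil (.node [] .nil (.node [(128,(.negSucc 0),1)] .nil .nil))))) (.node [] (.node [] (.node [] .nil (.node [] .nil (.node [(37,(.negSucc 0),1)] .nil .nil))) (.node [] (.node [] .nil (.node [(22,(.ofNat 1),1)] .nil .nil)) (.node [] .nil (.node [(97,(.ofNat 1),1)] .nil .nil)))) (.node [] .nil (.node [] (.node [] .nil (.node [(28,(.negSucc 0),1)] .nil .nil)) (.node [(8,(.ofNat 1),1)] .nil .nil))))))))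
noncomputable def ex2 : Trie (List (ℕ × ℤ × ℕ)) := (.node [] (.node [] (.node [] (.node [] (.node [] .nil (.node [] (.node [] .nil (.node [] .nil (.node [(39,(.negSucc 0),1)] .nil .nil))) (.node [] .nil (.node [] .nil (.node [(103,(.negSucc 0),1)] .nil .nil))))) (.node [] (.node [] (.node [] .nil (.node [] .nil (.node [(33,(.ofNat 1),1)] .nil .nil))) (.node [] (.node [] .nil (.node [(21,(.negSucc 0),1)] .nil .nil)) (.node [] .nil (.node [(76,(.ofNat 1),1)] .nil .nil)))) (.node [] (.node [] (.node [] .nil (.node [(15,(.ofNat 1),1)] .nil .nil)) (.node [] .nil (.node [(47,(.ofNat 1),1)] .nil .nil))) .nil))) (.node [] (.node [] (.node [] (.node [] .nil (.node [] .nil (.node [(30,(.ofNat 1),1)] .nil .nil))) (.node [] (.node [] .nil (.node [(18,(.negSucc 0),1)] .nil .nil)) (.node [] .nil (.node [(66,(.negSucc 0),1)] .nil .nil)))) (.node [] (.node [] .nil (.node [] .nil (.node [(44,(.ofNat 1),1)] .nil .nil))) (.node [] .nil (.node [] .nil (.node [(124,(.negSucc 0),1)] .nil .nil)))))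 (.node [] (.node [] (.node [] (.node [] .nil (.node [(13,(.ofNat 1),1)] .nil .nil)) .nil) .nil) .nil))) (.node [] (.node [] (.node [] (.node [] .nil (.node [] .nil (.node [] .nil (.node [(62,(.ofNat 1),1)] .nil .nil)))) (.node [] (.node [] (.node [] .nil (.node [(14,(.ofNat 1),1)] .nil .nil)) .nil) (.node [] .nil (.node [] .nil (.node [(115,(.negSucc 0),1)] .nil .nil))))) (.node [] (.node [] (.node [] .nil (.node [] .nil (.node [(34,(.negSucc 0),1)] .nil .nil))) (.node [] .nil (.node [] .nil (.node [(87,(.ofNat 1),1)] .nil .nil)))) (.node [] (.node [] .nil (.node [] .nil (.node [(49,(.ofNat 1),1)] .nil .nil))) (.node [] (.node [] .nil (.node [(25,(.negSucc 0),1)] .nil .nil)) .nil)))) (.node [(10,(.negSucc 0),1)] (.node [] (.node [] .nil (.node [] .nil (.node [] .nil (.node [(69,(.ofNat 1),1)] .nil .nil)))) (.node [] .nil (.node [] .nil (.node [] .nil (.node [(129,(.negSucc 0),1)] .nil .nil))))) (.node [] (.node [] (.node [] .nil (.node [] .nil (.node [(37,(.negSucc 0),1)] .nil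 .nil))) (.node [] (.node [] .nil (.node [(22,(.ofNat 1),1)] .nil .nil)) (.node [] .nil (.node [(94,(.negSucc 0),1)] .nil .nil)))) (.node [] (.node [] .nil (.node [] .nil (.node [(55,(.negSucc 0),1)] .nil .nil))) (.node [] (.node [] .nil (.node [(28,(.negSucc 0),1)] .nil .nil)) (.node [(9,(.ofNat 1),1)] .nil .nil))))))) (.node [] (.node [] (.node [] (.node [] (.node [] (.node [] .nil (.node [] .nil (.node [(29,(.negSucc 0),1)] .nil .nil))) (.node [] (.node [] .nil (.node [(17,(.ofNat 1),1)] .nil .nil)) (.node [] .nil (.node [(59,(.negSucc 0),1)] .nil .nil)))) (.node [] (.node [] .nil (.node [] .nil (.node [(40,(.ofNat 1),1)] .nil .nil))) (.node [] .nil (.node [] .nil (.node [(109,(.negSucc 0),1)] .nil .nil))))) (.node [] (.node [] .nil (.node [] .nil (.node [] .nil (.node [(81,(.negSucc 0),1)] .nil .nil)))) .nil)) (.node [(10,(.ofNat 1),1)] (.node [] .nil (.node [] .nil (.node [] .nil (.node [] .nil (.node [(0,(.negSucc 1),1),(1,(.negSucc 2),1),(2,(.negSucc 3),1),(3,(.negSucc 5),1),(4,(.negSucc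 4),1),(5,(.negSucc 3),1),(6,(.negSucc 1),1),(7,(.negSucc 0),1),(10,(.negSucc 0),2)] .nil .nil))))) (.node [] (.node [] (.node [] .nil (.node [] .nil (.node [(36,(.ofNat 1),1)] .nil .nil))) (.node [] .nil (.node [] .nil (.node [(91,(.ofNat 1),1)] .nil .nil)))) (.node [] (.node [] (.node [] .nil (.node [(16,(.negSucc 0),1)] .nil .nil)) (.node [] .nil (.node [(53,(.ofNat 1),1)] .nil .nil))) (.node [] (.node [] .nil (.node [(27,(.ofNat 1),1)] .nil .nil)) (.node [(8,(.ofNat 1),1)] .nil .nil)))))) (.node [] (.node [] (.node [] (.node [] (.node [] (.node [] .nil (.node [(11,(.ofNat 1),1)] .nil .nil)) .nil) (.node [] .nil (.node [] .nil (.node [(65,(.ofNat 1),1)] .nil .nil)))) (.node [] (.node [] .nil (.node [] .nil (.node [(43,(.negSucc 0),1)] .nil .nil))) (.node [] (.node [] .nil (.node [(23,(.negSucc 0),1)] .nil .nil)) (.node [] .nil (.node [(120,(.negSucc 0),1)] .nil .nil))))) (.node [] (.node [] .nil (.node [] .nil (.node [] .nil (.node [(88,(.negSucc 0),1)] .nil .nil)))) (.node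 [] (.node [] .nil (.node [] .nil (.node [(50,(.negSucc 0),1)] .nil .nil))) .nil))) (.node [] (.node [] (.node [] (.node [] (.node [] .nil (.node [(12,(.ofNat 1),1)] .nil .nil)) (.node [] .nil (.node [(32,(.negSucc 0),1)] .nil .nil))) (.node [] (.node [] .nil (.node [(20,(.ofNat 1),1)] .nil .nil)) (.node [] .nil (.node [(72,(.negSucc 0),1)] .nil .nil)))) (.node [] (.node [] .nil (.node [] .nil (.node [(46,(.negSucc 0),1)] .nil .nil))) (.node [] (.node [] .nil (.node [(24,(.ofNat 1),1)] .nil .nil)) (.node [] .nil (.node [(130,(.negSucc 0),1)] .nil .nil))))) (.node [] (.node [] .nil (.node [] .nil (.node [] .nil (.node [(98,(.ofNat 1),1)] .nil .nil)))) (.node [] (.node [] .nil (.node [] .nil (.node [(56,(.ofNat 1),1)] .nil .nil))) .nil))))))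
noncomputable def ex3 : Trie (List (ℕ × ℤ × ℕ)) := (.node [] (.node [] (.node [] (.node [] (.node [] (.node [] (.node [] .nil (.node [] .nil (.node [(29,(.negSucc 0),1)] .nil .nil))) (.node [] (.node [] .nil (.node [(17,(.ofNat 1),1)] .nil .nil)) (.node [] .nil (.node [(59,(.negSucc 0),1)] .nil .nil)))) (.node [] (.node [] .nil (.node [] .nil (.node [(41,(.negSucc 0),1)] .nil .nil))) (.node [] .nil (.node [] .nil (.node [(104,(.negSucc 0),1)] .nil .nil))))) (.node [] (.node [] .nil (.node [] .nil (.node [] .nil (.node [(77,(.ofNat 1),1)] .nil .nil)))) .nil)) (.node [(11,(.ofNat 1),1)] (.node [] (.node [] (.node [] .nil (.node [] .nil (.node [(31,(.ofNat 1),1)] .nil .nil))) (.node [] (.node [] .nil (.node [(19,(.negSucc 0),1)] .nil .nil)) (.node [] .nil (.node [(68,(.negSucc 0),1)] .nil .nil)))) (.node [] (.node [] .nil (.node [] .nil (.node [(45,(.ofNat 1),1)] .nil .nil))) (.node [] .nil (.node [] .nil (.node [(0,(.negSucc 1),1),(1,(.negSucc 2),1),(2,(.negSucc 3),1),(3,(.negSucc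 5),1),(4,(.negSucc 4),1),(5,(.negSucc 2),1),(6,(.negSucc 1),1),(7,(.negSucc 0),1),(11,(.negSucc 0),2)] .nil .nil))))) (.node [] (.node [] (.node [] .nil (.node [] .nil (.node [(37,(.negSucc 0),1)] .nil .nil))) (.node [] .nil (.node [] .nil (.node [(91,(.ofNat 1),1)] .nil .nil)))) (.node [] (.node [] (.node [] .nil (.node [(16,(.negSucc 0),1)] .nil .nil)) (.node [] .nil (.node [(53,(.ofNat 1),1)] .nil .nil))) (.node [] (.node [] .nil (.node [(28,(.negSucc 0),1)] .nil .nil)) (.node [(10,(.ofNat 1),1)] .nil .nil)))))) (.node [] (.node [] (.node [] (.node [] .nil (.node [] .nil (.node [] .nil (.node [(63,(.ofNat 1),1)] .nil .nil)))) (.node [] (.node [] .nil (.node [] .nil (.node [(43,(.negSucc 0),1)] .nil .nil))) (.node [] (.node [] .nil (.node [(23,(.negSucc 0),1)] .nil .nil)) (.node [] .nil (.node [(116,(.negSucc 0),1)] .nil .nil))))) (.node [] (.node [] (.node [] .nil (.node [] .nil (.node [(35,(.negSucc 0),1)] .nil .nil))) (.node [] .nil (.node [] .nil (.node [(89,(.ofNat 1),1)]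 .nil .nil)))) (.node [] (.node [] .nil (.node [] .nil (.node [(51,(.ofNat 1),1)] .nil .nil))) (.node [] (.node [] .nil (.node [(26,(.negSucc 0),1)] .nil .nil)) (.node [(8,(.ofNat 1),1)] .nil .nil))))) (.node [] (.node [] (.node [] (.node [] (.node [] .nil (.node [(12,(.ofNat 1),1)] .nil .nil)) (.node [] .nil (.node [(33,(.ofNat 1),1)] .nil .nil))) (.node [] (.node [] .nil (.node [(21,(.negSucc 0),1)] .nil .nil)) .nil)) (.node [] (.node [] .nil (.node [] .nil (.node [(47,(.ofNat 1),1)] .nil .nil))) (.node [] (.node [] .nil (.node [(24,(.ofNat 1),1)] .nil .nil)) (.node [] .nil (.node [(132,(.negSucc 0),1)] .nil .nil))))) (.node [] (.node [] .nil (.node [] .nil (.node [] .nil (.node [(95,(.negSucc 0),1)] .nil .nil)))) (.node [] (.node [] .nil (.node [] .nil (.node [(57,(.negSucc 0),1)] .nil .nil))) .nil))))) (.node [] (.node [] (.node [] (.node [] .nil (.node [] (.node [] (.node [] .nil (.node [(14,(.ofNat 1),1)] .nil .nil)) (.node [] .nil (.node [(42,(.ofNat 1),1)] .nil .nil)))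 (.node [] .nil (.node [] .nil (.node [(110,(.negSucc 0),1)] .nil .nil))))) (.node [] (.node [] .nil (.node [] .nil (.node [] .nil (.node [(82,(.negSucc 0),1)] .nil .nil)))) .nil)) (.node [(11,(.negSucc 0),1)] (.node [] (.node [] (.node [] .nil (.node [] .nil (.node [(32,(.negSucc 0),1)] .nil .nil))) (.node [] (.node [] .nil (.node [(20,(.ofNat 1),1)] .nil .nil)) (.node [] .nil (.node [(69,(.ofNat 1),1)] .nil .nil)))) (.node [] (.node [] .nil (.node [] .nil (.node [(46,(.negSucc 0),1)] .nil .nil))) (.node [] .nil (.node [] .nil (.node [(131,(.negSucc 0),1)] .nil .nil))))) (.node [] (.node [] .nil (.node [] (.node [] .nil (.node [(22,(.ofNat 1),1)] .nil .nil)) .nil)) .nil))) (.node [] (.node [] (.node [] (.node [] .nil (.node [] .nil (.node [] .nil (.node [(67,(.ofNat 1),1)] .nil .nil)))) (.node [] .nil (.node [] .nil (.node [] .nil (.node [(121,(.negSucc 0),1)] .nil .nil))))) (.node [] (.node [] (.node [] (.node [] .nil (.node [(13,(.ofNat 1),1)] .nil .nil)) (.node [] .nil (.node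 [(36,(.ofNat 1),1)] .nil .nil))) (.node [] .nil (.node [] .nil (.node [(90,(.negSucc 0),1)] .nil .nil)))) (.node [] (.node [] .nil (.node [] .nil (.node [(52,(.negSucc 0),1)] .nil .nil))) (.node [] (.node [] .nil (.node [(27,(.ofNat 1),1)] .nil .nil)) (.node [(9,(.ofNat 1),1)] .nil .nil))))) (.node [] (.node [] (.node [] .nil (.node [] .nil (.node [] .nil (.node [(73,(.negSucc 0),1)] .nil .nil)))) (.node [] (.node [] (.node [] .nil (.node [(15,(.ofNat 1),1)] .nil .nil)) .nil) (.node [] .nil (.node [] .nil (.node [(133,(.negSucc 0),1)] .nil .nil))))) (.node [] (.node [] .nil (.node [] .nil (.node [] .nil (.node [(99,(.ofNat 1),1)] .nil .nil)))) (.node [] (.node [] .nil (.node [] .nil (.node [(58,(.ofNat 1),1)] .nil .nil))) .nil))))))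
noncomputable def ex4 : Trie (List (ℕ × ℤ × ℕ)) := (.node [] (.node [] (.node [] (.node [] (.node [] (.node [] (.node [] .nil (.node [] .nil (.node [(30,(.negSucc 0),1)] .nil .nil))) (.node [] (.node [] .nil (.node [(18,(.ofNat 1),1)] .nil .nil)) (.node [] .nil (.node [(62,(.negSucc 0),1)] .nil .nil)))) (.node [] (.node [] (.node [] .nil (.node [(14,(.ofNat 1),1)] .nil .nil)) .nil) (.node [] .nil (.node [] .nil (.node [(105,(.negSucc 0),1)] .nil .nil))))) (.node [] (.node [] .nil (.node [] .nil (.node [] .nil (.node [(78,(.ofNat 1),1)] .nil .nil)))) (.node [] (.node [] .nil (.node [] .nil (.node [(52,(.negSucc 0),1)] .nil .nil))) (.node [] (.node [] .nil (.node [(27,(.ofNat 1),1)] .nil .nil)) (.node [(10,(.ofNat 1),1)] .nil .nil))))) (.node [(12,(.negSucc 0),1)] (.node [] (.node [] .nil (.node [] .nil (.node [] .nil (.node [(71,(.negSucc 0),1)] .nil .nil)))) (.node [] (.node [] .nil (.node [] .nil (.node [(48,(.ofNat 1),1)] .nil .nil))) (.node [] .nil (.node [] .nil (.node [(134,(.negSucc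 0),1)] .nil .nil))))) (.node [] (.node [] (.node [] .nil (.node [] .nil (.node [(40,(.negSucc 0),1)] .nil .nil))) (.node [] (.node [] .nil (.node [(22,(.ofNat 1),1)] .nil .nil)) (.node [] .nil (.node [(94,(.ofNat 1),1)] .nil .nil)))) .nil))) (.node [] (.node [] (.node [] (.node [] (.node [] .nil (.node [] .nil (.node [(32,(.negSucc 0),1)] .nil .nil))) (.node [] (.node [] .nil (.node [(20,(.ofNat 1),1)] .nil .nil)) .nil)) (.node [] .nil (.node [] .nil (.node [] .nil (.node [(117,(.negSucc 0),1)] .nil .nil))))) (.node [] (.node [] (.node [] (.node [] .nil (.node [(13,(.ofNat 1),1)] .nil .nil)) (.node [] .nil (.node [(38,(.negSucc 0),1)] .nil .nil))) (.node [] .nil (.node [] .nil (.node [(92,(.ofNat 1),1)] .nil .nil)))) .nil)) (.node [] (.node [] (.node [] .nil (.node [] .nil (.node [] .nil (.node [(73,(.negSucc 0),1)] .nil .nil)))) (.node [] (.node [] (.node [] .nil (.node [(15,(.ofNat 1),1)] .nil .nil)) (.node [] .nil (.node [(50,(.ofNat 1),1)] .nil .nil))) (.node [] (.node []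 .nil (.node [(25,(.ofNat 1),1)] .nil .nil)) (.node [(8,(.ofNat 1),1)] .nil (.node [(136,(.negSucc 0),1)] .nil .nil))))) (.node [] (.node [] (.node [] .nil (.node [] .nil (.node [(42,(.ofNat 1),1)] .nil .nil))) .nil) (.node [] (.node [] .nil (.node [] .nil (.node [(60,(.negSucc 0),1)] .nil .nil))) .nil))))) (.node [] (.node [] (.node [] (.node [] (.node [] (.node [] .nil (.node [] .nil (.node [(31,(.ofNat 1),1)] .nil .nil))) (.node [] (.node [] .nil (.node [(19,(.negSucc 0),1)] .nil .nil)) (.node [] .nil (.node [(63,(.ofNat 1),1)] .nil .nil)))) (.node [] .nil (.node [] (.node [] .nil (.node [(23,(.negSucc 0),1)] .nil .nil)) (.node [] .nil (.node [(111,(.negSucc 0),1)] .nil .nil))))) (.node [] (.node [] .nil (.node [] .nil (.node [] .nil (.node [(83,(.negSucc 0),1)] .nil .nil)))) (.node [] (.node [] .nil (.node [] .nil (.node [(53,(.ofNat 1),1)] .nil .nil))) (.node [] (.node [] .nil (.node [(28,(.negSucc 0),1)] .nil .nil)) (.node [(11,(.ofNat 1),1)] .nil .nil))))) (.node [] (.node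 [] (.node [] .nil (.node [] .nil (.node [] .nil (.node [(72,(.ofNat 1),1)] .nil .nil)))) (.node [] (.node [] .nil (.node [] .nil (.node [(49,(.negSucc 0),1)] .nil .nil))) (.node [] .nil (.node [] .nil (.node [(135,(.negSucc 0),1)] .nil .nil))))) (.node [] (.node [] (.node [] .nil (.node [] .nil (.node [(41,(.negSucc 0),1)] .nil .nil))) (.node [] .nil (.node [] .nil (.node [(95,(.negSucc 0),1)] .nil .nil)))) .nil))) (.node [(12,(.ofNat 1),1)] (.node [] (.node [] (.node [] (.node [] .nil (.node [] .nil (.node [(33,(.ofNat 1),1)] .nil .nil))) (.node [] (.node [] .nil (.node [(21,(.negSucc 0),1)] .nil .nil)) (.node [] .nil (.node [(70,(.ofNat 1),1)] .nil .nil)))) (.node [] .nil (.node [] .nil (.node [] .nil (.node [(0,(.negSucc 1),1),(1,(.negSucc 2),1),(2,(.negSucc 3),1),(3,(.negSucc 5),1),(4,(.negSucc 3),1),(5,(.negSucc 2),1),(6,(.negSucc 1),1),(7,(.negSucc 0),1),(12,(.negSucc 0),2)] .nil .nil))))) (.node [] (.node [] (.node [] .nil (.node [] .nil (.node [(39,(.ofNat 1),1)] .nil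 .nil))) (.node [] .nil (.node [] .nil (.node [(93,(.negSucc 0),1)] .nil .nil)))) (.node [] (.node [] (.node [] .nil (.node [(16,(.negSucc 0),1)] .nil .nil)) .nil) .nil))) (.node [] (.node [] .nil (.node [] (.node [] .nil (.node [] .nil (.node [(51,(.ofNat 1),1)] .nil .nil))) (.node [] (.node [] .nil (.node [(26,(.negSucc 0),1)] .nil .nil)) (.node [(9,(.ofNat 1),1)] .nil (.node [(137,(.negSucc 0),1)] .nil .nil))))) (.node [] (.node [] (.node [] .nil (.node [] .nil (.node [(43,(.negSucc 0),1)] .nil .nil))) (.node [] .nil (.node [] .nil (.node [(100,(.ofNat 1),1)] .nil .nil)))) (.node [] (.node [] .nil (.node [] .nil (.node [(61,(.ofNat 1),1)] .nil .nil))) .nil))))))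
noncomputable def ex5 : Trie (List (ℕ × ℤ × ℕ)) := (.node [] (.node [] (.node [] (.node [] (.node [] (.node [] (.node [] .nil (.node [] .nil (.node [(34,(.negSucc 0),1)] .nil .nil))) .nil) (.node [] .nil (.node [] .nil (.node [] .nil (.node [(106,(.negSucc 0),1)] .nil .nil))))) (.node [] (.node [] (.node [] .nil (.node [] .nil (.node [(42,(.ofNat 1),1)] .nil .nil))) .nil) (.node [] (.node [] .nil (.node [] .nil (.node [(58,(.negSucc 0),1)] .nil .nil))) .nil))) (.node [] (.node [] (.node [] (.node [] .nil (.node [] .nil (.node [(38,(.negSucc 0),1)] .nil .nil))) (.node [] .nil (.node [] .nil (.node [(75,(.negSucc 0),1)] .nil .nil)))) (.node [] (.node [] .nil (.node [] .nil (.node [(54,(.ofNat 1),1)] .nil .nil))) (.node [] (.node [] .nil (.node [(27,(.ofNat 1),1)] .nil .nil)) (.node [(11,(.ofNat 1),1)] .nil (.node [(139,(.negSucc 0),1)] .nil .nil))))) (.node [] (.node [] .nil (.node [] .nil (.node [] .nil (.node [(98,(.ofNat 1),1)] .nil .nil)))) (.node [] (.node [] (.node [] .nil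 (.node [(18,(.ofNat 1),1)] .nil .nil)) (.node [] .nil (.node [(62,(.negSucc 0),1)] .nil .nil))) .nil)))) (.node [(13,(.ofNat 1),1)] (.node [] (.node [] (.node [] (.node [] .nil (.node [] .nil (.node [(36,(.negSucc 0),1)] .nil .nil))) .nil) (.node [] .nil (.node [] (.node [] .nil (.node [(25,(.ofNat 1),1)] .nil .nil)) (.node [(9,(.ofNat 1),1)] .nil (.node [(0,(.negSucc 1),1),(1,(.negSucc 2),1),(2,(.negSucc 3),1),(3,(.negSucc 4),1),(4,(.negSucc 3),1),(5,(.negSucc 2),1),(6,(.negSucc 1),1),(7,(.negSucc 0),1),(13,(.negSucc 0),2)] .nil .nil))))) (.node [] (.node [] .nil (.node [] .nil (.node [] .nil (.node [(96,(.ofNat 1),1)] .nil .nil)))) (.node [] (.node [] .nil (.node [] .nil (.node [(60,(.negSucc 0),1)] .nil .nil))) .nil))) (.node [] (.node [] (.node [] (.node [] .nil (.node [] .nil (.node [(40,(.negSucc 0),1)] .nil .nil))) (.node [] .nil (.node [] .nil (.node [(77,(.negSucc 0),1)] .nil .nil)))) (.node [] (.node [] .nil (.node [] .nil (.node [(56,(.ofNat 1),1)] .nil .nil))) (.node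 [] .nil (.node [] .nil (.node [(141,(.negSucc 0),1)] .nil .nil))))) (.node [] (.node [] .nil (.node [] .nil (.node [] .nil (.node [(100,(.ofNat 1),1)] .nil .nil)))) (.node [] (.node [] (.node [] .nil (.node [(20,(.ofNat 1),1)] .nil .nil)) .nil) .nil))))) (.node [(13,(.ofNat 1),1)] (.node [] (.node [] (.node [] (.node [] (.node [] .nil (.node [] .nil (.node [(35,(.ofNat 1),1)] .nil .nil))) .nil) (.node [] .nil (.node [] (.node [] .nil (.node [(24,(.negSucc 0),1)] .nil .nil)) (.node [(8,(.ofNat 1),1)] .nil (.node [(112,(.negSucc 0),1)] .nil .nil))))) (.node [] (.node [] (.node [] .nil (.node [] .nil (.node [(43,(.negSucc 0),1)] .nil .nil))) (.node [] .nil (.node [] .nil (.node [(84,(.negSucc 0),1)] .nil .nil)))) (.node [] (.node [] .nil (.node [] .nil (.node [(59,(.ofNat 1),1)] .nil .nil))) .nil))) (.node [] (.node [] (.node [] (.node [] .nil (.node [] .nil (.node [(39,(.ofNat 1),1)] .nil .nil))) (.node [] .nil (.node [] .nil (.node [(76,(.ofNat 1),1)] .nil .nil)))) (.node [] (.node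 [] (.node [] .nil (.node [(15,(.ofNat 1),1)] .nil .nil)) (.node [] .nil (.node [(55,(.negSucc 0),1)] .nil .nil))) (.node [] (.node [] .nil (.node [(28,(.negSucc 0),1)] .nil .nil)) (.node [(12,(.ofNat 1),1)] .nil (.node [(140,(.negSucc 0),1)] .nil .nil))))) (.node [] (.node [] .nil (.node [] .nil (.node [] .nil (.node [(99,(.negSucc 0),1)] .nil .nil)))) (.node [] (.node [] (.node [] .nil (.node [(19,(.negSucc 0),1)] .nil .nil)) (.node [] .nil (.node [(63,(.ofNat 1),1)] .nil .nil))) .nil)))) (.node [(13,(.negSucc 0),1)] (.node [] (.node [] (.node [] (.node [] .nil (.node [] .nil (.node [(37,(.ofNat 1),1)] .nil .nil))) (.node [] .nil (.node [] .nil (.node [(74,(.ofNat 1),1)] .nil .nil)))) (.node [] .nil (.node [] (.node [] .nil (.node [(26,(.negSucc 0),1)] .nil .nil)) (.node [(10,(.ofNat 1),1)] .nil (.node [(138,(.negSucc 0),1)] .nil .nil))))) (.node [] (.node [] .nil (.node [] (.node [] .nil (.node [(22,(.ofNat 1),1)] .nil .nil)) (.node [] .nil (.node [(97,(.negSucc 0),1)] .nil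 .nil)))) (.node [] (.node [] (.node [] .nil (.node [(17,(.negSucc 0),1)] .nil .nil)) (.node [] .nil (.node [(61,(.ofNat 1),1)] .nil .nil))) .nil))) (.node [] (.node [] (.node [] (.node [] .nil (.node [] .nil (.node [(41,(.negSucc 0),1)] .nil .nil))) (.node [] .nil (.node [] .nil (.node [(78,(.ofNat 1),1)] .nil .nil)))) (.node [] (.node [] .nil (.node [] .nil (.node [(57,(.ofNat 1),1)] .nil .nil))) (.node [] .nil (.node [] .nil (.node [(142,(.negSucc 0),1)] .nil .nil))))) (.node [] (.node [] (.node [] (.node [] .nil (.node [(14,(.ofNat 1),1)] .nil .nil)) .nil) .nil) (.node [] (.node [] (.node [] .nil (.node [(21,(.negSucc 0),1)] .nil .nil)) .nil) .nil))))))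
noncomputable def ex6 : Trie (List (ℕ × ℤ × ℕ)) := (.node [(14,(.ofNat 1),1)] (.node [] (.node [] (.node [] (.node [] (.node [] .nil (.node [] .nil (.node [] .nil (.node [(76,(.ofNat 1),1)] .nil .nil)))) (.node [] .nil (.node [] .nil (.node [(13,(.ofNat 1),1)] .nil .nil)))) (.node [] .nil (.node [] (.node [] (.node [] .nil (.node [(19,(.negSucc 0),1)] .nil .nil)) (.node [] .nil (.node [(68,(.negSucc 0),1)] .nil .nil))) (.node [] (.node [] .nil (.node [(36,(.negSucc 0),1)] .nil .nil)) .nil)))) (.node [] (.node [] .nil (.node [] (.node [] .nil (.node [] .nil (.node [(64,(.ofNat 1),1)] .nil .nil))) (.node [] (.node [] .nil (.node [(32,(.ofNat 1),1)] .nil .nil)) (.node [] .nil (.node [(145,(.negSucc 0),1)] .nil .nil))))) (.node [] (.node [] .nil (.node [] .nil (.node [(9,(.ofNat 1),1)] .nil (.node [(103,(.ofNat 1),1)] .nil .nil)))) (.node [] (.node [] .nil (.node [] .nil (.node [(72,(.negSucc 0),1)] .nil .nil))) (.node [] (.node [] .nil (.node [(40,(.negSucc 0),1)] .nil .nil)) .nil)))))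 (.node [(14,(.negSucc 0),1)] (.node [] (.node [] (.node [] .nil (.node [] .nil (.node [] .nil (.node [(78,(.ofNat 1),1)] .nil .nil)))) (.node [] .nil (.node [] (.node [] .nil (.node [(30,(.ofNat 1),1)] .nil .nil)) (.node [] .nil (.node [(143,(.negSucc 0),1)] .nil .nil))))) (.node [] (.node [] .nil (.node [] (.node [] .nil (.node [(22,(.ofNat 1),1)] .nil .nil)) (.node [] .nil (.node [(101,(.ofNat 1),1)] .nil .nil)))) (.node [] (.node [] (.node [] .nil (.node [(21,(.negSucc 0),1)] .nil .nil)) (.node [] .nil (.node [(70,(.negSucc 0),1)] .nil .nil))) (.node [] (.node [] .nil (.node [(38,(.negSucc 0),1)] .nil .nil)) .nil)))) (.node [] (.node [] .nil (.node [] (.node [] (.node [] .nil (.node [(17,(.negSucc 0),1)] .nil .nil)) (.node [] .nil (.node [(66,(.ofNat 1),1)] .nil .nil))) (.node [] (.node [] .nil (.node [(34,(.negSucc 0),1)] .nil .nil)) (.node [] .nil (.node [(147,(.negSucc 0),1)] .nil .nil))))) (.node [] (.node [] .nil (.node [] .nil (.node [(11,(.ofNat 1),1)] .nil (.node [(105,(.ofNat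 1),1)] .nil .nil)))) (.node [] (.node [] .nil (.node [] .nil (.node [(74,(.ofNat 1),1)] .nil .nil))) (.node [] (.node [] .nil (.node [(42,(.ofNat 1),1)] .nil .nil)) .nil)))))) (.node [(14,(.ofNat 1),1)] (.node [] (.node [] (.node [] (.node [] .nil (.node [] .nil (.node [] .nil (.node [(77,(.negSucc 0),1)] .nil .nil)))) (.node [] .nil (.node [] (.node [] .nil (.node [(29,(.negSucc 0),1)] .nil .nil)) (.node [] .nil (.node [(0,(.negSucc 1),1),(1,(.negSucc 2),1),(2,(.negSucc 2),1),(3,(.negSucc 4),1),(4,(.negSucc 3),1),(5,(.negSucc 2),1),(6,(.negSucc 1),1),(7,(.negSucc 0),1),(14,(.negSucc 0),2)] .nil .nil))))) (.node [] (.node [] .nil (.node [] .nil (.node [] .nil (.node [(85,(.negSucc 0),1)] .nil .nil)))) (.node [] (.node [] (.node [] .nil (.node [(20,(.ofNat 1),1)] .nil .nil)) (.node [] .nil (.node [(69,(.ofNat 1),1)] .nil .nil))) (.node [] (.node [] .nil (.node [(37,(.ofNat 1),1)] .nil .nil)) .nil)))) (.node [] (.node [] .nil (.node [] (.node [] (.node [] .nil (.node [(16,(.ofNat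 1),1)] .nil .nil)) (.node [] .nil (.node [(65,(.negSucc 0),1)] .nil .nil))) (.node [] (.node [] .nil (.node [(33,(.negSucc 0),1)] .nil .nil)) (.node [] .nil (.node [(146,(.negSucc 0),1)] .nil .nil))))) (.node [] (.node [] .nil (.node [] .nil (.node [(10,(.ofNat 1),1)] .nil (.node [(104,(.negSucc 0),1)] .nil .nil)))) (.node [] (.node [] .nil (.node [] .nil (.node [(73,(.ofNat 1),1)] .nil .nil))) (.node [] (.node [] .nil (.node [(41,(.negSucc 0),1)] .nil .nil)) .nil))))) (.node [] (.node [] (.node [] .nil (.node [] .nil (.node [] (.node [] .nil (.node [(31,(.negSucc 0),1)] .nil .nil)) (.node [] .nil (.node [(144,(.negSucc 0),1)] .nil .nil))))) (.node [] (.node [] .nil (.node [] .nil (.node [(8,(.ofNat 1),1)] .nil (.node [(102,(.negSucc 0),1)] .nil .nil)))) (.node [] (.node [] .nil (.node [] .nil (.node [(71,(.ofNat 1),1)] .nil .nil))) (.node [] (.node [] .nil (.node [(39,(.ofNat 1),1)] .nil .nil)) .nil)))) (.node [] (.node [] .nil (.node [] (.node [] (.node [] .nil (.node [(18,(.ofNat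 1),1)] .nil .nil)) (.node [] .nil (.node [(67,(.ofNat 1),1)] .nil .nil))) (.node [] (.node [] .nil (.node [(35,(.ofNat 1),1)] .nil .nil)) (.node [] .nil (.node [(148,(.negSucc 0),1)] .nil .nil))))) (.node [] (.node [] .nil (.node [] .nil (.node [(12,(.ofNat 1),1)] .nil (.node [(106,(.negSucc 0),1)] .nil .nil)))) (.node [] (.node [] .nil (.node [] .nil (.node [(75,(.negSucc 0),1)] .nil .nil))) (.node [] (.node [] .nil (.node [(43,(.negSucc 0),1)] .nil .nil)) .nil)))))))
noncomputable def ex7 : Trie (List (ℕ × ℤ × ℕ)) := (.node [] (.node [] (.node [] (.node [] (.node [] (.node [] (.node [] .nil (.node [] .nil (.node [(44,(.negSucc 0),1)] .nil .nil))) .nil) (.node [] (.node [] (.node [] .nil (.node [(17,(.negSucc 0),1)] .nil .nil)) (.node [] .nil (.node [(60,(.negSucc 0),1)] .nil .nil))) (.node [] (.node [] .nil (.node [(28,(.negSucc 0),1)] .nil .nil)) (.node [] .nil (.node [(0,(.negSucc 1),1),(1,(.negSucc 1),1),(2,(.negSucc 3),1),(3,(.negSucc 4),1),(4,(.negSucc 3),1),(5,(.negSucc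 2),1),(6,(.negSucc 1),1),(7,(.negSucc 0),1),(15,(.negSucc 0),2)] .nil .nil))))) (.node [] (.node [] (.node [] .nil (.node [] .nil (.node [(52,(.ofNat 1),1)] .nil .nil))) (.node [] .nil (.node [(11,(.ofNat 1),1)] .nil (.node [(84,(.negSucc 0),1)] .nil .nil)))) .nil)) (.node [] (.node [] (.node [] (.node [] .nil (.node [] .nil (.node [(48,(.negSucc 0),1)] .nil .nil))) (.node [] .nil (.node [] .nil (.node [(80,(.negSucc 0),1)] .nil .nil)))) (.node [] (.node [] (.node [] .nil (.node [(21,(.negSucc 0),1)] .nil .nil)) .nil) (.node [] .nil (.node [] .nil (.node [(151,(.negSucc 0),1)] .nil .nil))))) (.node [] (.node [] (.node [] .nil (.node [] .nil (.node [(56,(.ofNat 1),1)] .nil .nil))) (.node [] (.node [] .nil (.node [(24,(.negSucc 0),1)] .nil .nil)) (.node [] .nil (.node [(109,(.ofNat 1),1)] .nil .nil)))) .nil))) (.node [(15,(.ofNat 1),1)] (.node [] (.node [] (.node [] (.node [] .nil (.node [] .nil (.node [(46,(.negSucc 0),1)] .nil .nil))) .nil) (.node [] (.node [] (.node [] .nil (.node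 [(19,(.negSucc 0),1)] .nil .nil)) (.node [] .nil (.node [(62,(.negSucc 0),1)] .nil .nil))) (.node [] .nil (.node [] .nil (.node [(149,(.negSucc 0),1)] .nil .nil))))) (.node [] (.node [] (.node [] .nil (.node [] .nil (.node [(54,(.ofNat 1),1)] .nil .nil))) (.node [] .nil (.node [(13,(.ofNat 1),1)] .nil (.node [(107,(.ofNat 1),1)] .nil .nil)))) .nil)) (.node [] (.node [] (.node [] (.node [] .nil (.node [] .nil (.node [(50,(.negSucc 0),1)] .nil .nil))) (.node [] .nil (.node [(9,(.ofNat 1),1)] .nil (.node [(82,(.negSucc 0),1)] .nil .nil)))) (.node [] .nil (.node [] .nil (.node [] .nil (.node [(153,(.negSucc 0),1)] .nil .nil))))) (.node [] (.node [] (.node [] .nil (.node [] .nil (.node [(58,(.negSucc 0),1)] .nil .nil))) (.node [] (.node [] .nil (.node [(26,(.negSucc 0),1)] .nil .nil)) (.node [] .nil (.node [(111,(.ofNat 1),1)] .nil .nil)))) .nil)))) (.node [(15,(.negSucc 0),1)] (.node [] (.node [] (.node [] (.node [] (.node [] .nil (.node [] .nil (.node [(45,(.ofNat 1),1)] .nil .nil)))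 .nil) (.node [] (.node [] (.node [] .nil (.node [(18,(.ofNat 1),1)] .nil .nil)) (.node [] .nil (.node [(61,(.ofNat 1),1)] .nil .nil))) .nil)) (.node [] (.node [] (.node [] .nil (.node [] .nil (.node [(53,(.negSucc 0),1)] .nil .nil))) (.node [] .nil (.node [(12,(.ofNat 1),1)] .nil .nil))) .nil)) (.node [] (.node [] (.node [] (.node [] .nil (.node [] .nil (.node [(49,(.ofNat 1),1)] .nil .nil))) (.node [] .nil (.node [(8,(.ofNat 1),1)] .nil (.node [(81,(.ofNat 1),1)] .nil .nil)))) (.node [] .nil (.node [] .nil (.node [] .nil (.node [(152,(.negSucc 0),1)] .nil .nil))))) (.node [] (.node [] (.node [] .nil (.node [] .nil (.node [(57,(.ofNat 1),1)] .nil .nil))) (.node [] (.node [] .nil (.node [(25,(.ofNat 1),1)] .nil .nil)) (.node [] .nil (.node [(110,(.negSucc 0),1)] .nil .nil)))) .nil))) (.node [] (.node [] (.node [] (.node [] (.node [] .nil (.node [] .nil (.node [(47,(.ofNat 1),1)] .nil .nil))) (.node [] .nil (.node [] .nil (.node [(79,(.ofNat 1),1)] .nil .nil)))) (.node [] (.node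 [] (.node [] .nil (.node [(20,(.ofNat 1),1)] .nil .nil)) (.node [] .nil (.node [(63,(.ofNat 1),1)] .nil .nil))) (.node [] .nil (.node [] .nil (.node [(150,(.negSucc 0),1)] .nil .nil))))) (.node [] (.node [] (.node [] .nil (.node [] .nil (.node [(55,(.negSucc 0),1)] .nil .nil))) (.node [] (.node [] .nil (.node [(23,(.ofNat 1),1)] .nil .nil)) (.node [] .nil (.node [(108,(.negSucc 0),1)] .nil .nil)))) .nil)) (.node [] (.node [] (.node [] (.node [] .nil (.node [] .nil (.node [(51,(.negSucc 0),1)] .nil .nil))) (.node [] .nil (.node [(10,(.ofNat 1),1)] .nil (.node [(83,(.ofNat 1),1)] .nil .nil)))) (.node [] .nil (.node [] .nil (.node [] .nil (.node [(154,(.negSucc 0),1)] .nil .nil))))) (.node [] (.node [] (.node [] (.node [] .nil (.node [(16,(.ofNat 1),1)] .nil .nil)) (.node [] .nil (.node [(59,(.ofNat 1),1)] .nil .nil))) (.node [] (.node [] .nil (.node [(27,(.ofNat 1),1)] .nil .nil)) (.node [] .nil (.node [(112,(.negSucc 0),1)] .nil .nil)))) .nil)))))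
noncomputable def ex8 : Trie (List (ℕ × ℤ × ℕ)) := (.node [(16,(.ofNat 1),1)] (.node [] (.node [] (.node [] (.node [] (.node [] .nil (.node [] .nil (.node [(8,(.negSucc 0),1)] .nil (.node [(81,(.ofNat 1),1)] .nil .nil)))) (.node [] (.node [] .nil (.node [] .nil (.node [(70,(.negSucc 0),1)] .nil .nil))) (.node [] (.node [] .nil (.node [(33,(.negSucc 0),1)] .nil .nil)) (.node [(15,(.ofNat 1),1)] .nil (.node [(143,(.negSucc 0),1)] .nil .nil))))) (.node [] (.node [] .nil (.node [] .nil (.node [] .nil (.node [(85,(.negSucc 0),1)] .nil .nil)))) (.node [] .nil (.node [] (.node [] .nil (.node [(46,(.negSucc 0),1)] .nil .nil)) .nil)))) (.node [] (.node [] (.node [] .nil (.node [] .nil (.node [(12,(.negSucc 0),1)] .nil .nil))) (.node [] .nil (.node [] .nil (.node [] .nil (.node [(156,(.ofNat 1),1)] .nil .nil))))) (.node [] (.node [] (.node [] (.node [] .nil (.node [(19,(.ofNat 1),1)] .nil .nil)) (.node [] .nil (.node [(66,(.ofNat 1),1)] .nil .nil))) (.node [] (.node [] .nil (.node [(29,(.negSucc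 0),1)] .nil .nil)) (.node [] .nil (.node [(115,(.negSucc 0),1)] .nil .nil)))) (.node [] .nil (.node [] (.node [] .nil (.node [(50,(.negSucc 0),1)] .nil .nil)) .nil))))) (.node [(16,(.negSucc 0),1)] (.node [] (.node [] (.node [] .nil (.node [] .nil (.node [(10,(.negSucc 0),1)] .nil (.node [(83,(.ofNat 1),1)] .nil .nil)))) (.node [] (.node [] .nil (.node [] .nil (.node [(72,(.negSucc 0),1)] .nil .nil))) .nil)) (.node [] (.node [] (.node [] (.node [] .nil (.node [(17,(.ofNat 1),1)] .nil .nil)) (.node [] .nil (.node [(64,(.ofNat 1),1)] .nil .nil))) (.node [] (.node [] .nil (.node [(23,(.ofNat 1),1)] .nil .nil)) (.node [(14,(.ofNat 1),1)] .nil (.node [(113,(.negSucc 0),1)] .nil .nil)))) (.node [] .nil (.node [] (.node [] .nil (.node [(48,(.negSucc 0),1)] .nil .nil)) .nil)))) (.node [] (.node [] .nil (.node [] .nil (.node [] (.node [] .nil (.node [(44,(.negSucc 0),1)] .nil .nil)) (.node [] .nil (.node [(158,(.ofNat 1),1)] .nil .nil))))) (.node [] (.node [] (.node [] (.node [] .nil (.node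 [(21,(.ofNat 1),1)] .nil .nil)) (.node [] .nil (.node [(68,(.negSucc 0),1)] .nil .nil))) (.node [] (.node [] .nil (.node [(31,(.negSucc 0),1)] .nil .nil)) (.node [] .nil (.node [(117,(.negSucc 0),1)] .nil .nil)))) (.node [] (.node [] .nil (.node [] .nil (.node [(79,(.ofNat 1),1)] .nil .nil))) (.node [] (.node [] .nil (.node [(52,(.ofNat 1),1)] .nil .nil)) .nil)))))) (.node [(16,(.negSucc 0),1)] (.node [] (.node [] (.node [] (.node [] .nil (.node [] .nil (.node [(9,(.negSucc 0),1)] .nil (.node [(82,(.negSucc 0),1)] .nil .nil)))) (.node [] (.node [] .nil (.node [] .nil (.node [(71,(.ofNat 1),1)] .nil .nil))) (.node [] .nil (.node [] .nil (.node [(149,(.negSucc 0),1)] .nil .nil))))) (.node [] .nil (.node [] .nil (.node [] (.node [] .nil (.node [(47,(.ofNat 1),1)] .nil .nil)) .nil)))) (.node [] (.node [] .nil (.node [] .nil (.node [] .nil (.node [] .nil (.node [(157,(.ofNat 1),1)] .nil .nil))))) (.node [] (.node [] (.node [] (.node [] .nil (.node [(20,(.negSucc 0),1)] .nil .nil))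 (.node [] .nil (.node [(67,(.ofNat 1),1)] .nil .nil))) (.node [] (.node [] .nil (.node [(30,(.ofNat 1),1)] .nil .nil)) (.node [] .nil (.node [(116,(.ofNat 1),1)] .nil .nil)))) (.node [] .nil (.node [] (.node [] .nil (.node [(51,(.negSucc 0),1)] .nil .nil)) .nil))))) (.node [(16,(.ofNat 1),1)] (.node [] (.node [] (.node [] .nil (.node [] .nil (.node [(11,(.negSucc 0),1)] .nil .nil))) (.node [] (.node [] .nil (.node [] .nil (.node [(73,(.ofNat 1),1)] .nil .nil))) (.node [] .nil (.node [] .nil (.node [(155,(.ofNat 1),1)] .nil .nil))))) (.node [] (.node [] (.node [] (.node [] .nil (.node [(18,(.negSucc 0),1)] .nil .nil)) (.node [] .nil (.node [(65,(.negSucc 0),1)] .nil .nil))) (.node [] .nil (.node [] .nil (.node [(114,(.ofNat 1),1)] .nil .nil)))) (.node [] .nil (.node [] (.node [] .nil (.node [(49,(.ofNat 1),1)] .nil .nil)) .nil)))) (.node [] (.node [] .nil (.node [] .nil (.node [] (.node [] .nil (.node [(45,(.ofNat 1),1)] .nil .nil)) (.node [] .nil (.node [(159,(.ofNat 1),1)] .nil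 .nil))))) (.node [] (.node [] (.node [] .nil (.node [] .nil (.node [(69,(.ofNat 1),1)] .nil .nil))) (.node [] (.node [] .nil (.node [(32,(.ofNat 1),1)] .nil .nil)) (.node [] .nil (.node [(0,(.negSucc 1),1),(1,(.negSucc 1),1),(2,(.negSucc 2),1),(3,(.negSucc 4),1),(4,(.negSucc 3),1),(5,(.negSucc 2),1),(6,(.negSucc 1),1),(7,(.negSucc 0),1),(16,(.negSucc 0),2)] .nil .nil)))) (.node [] (.node [] .nil (.node [] .nil (.node [(80,(.negSucc 0),1)] .nil .nil))) (.node [] (.node [] .nil (.node [(53,(.negSucc 0),1)] .nil .nil)) .nil)))))))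
noncomputable def ex9 : Trie (List (ℕ × ℤ × ℕ)) := (.node [(17,(.ofNat 1),1)] (.node [] (.node [] (.node [] (.node [] .nil (.node [] (.node [] .nil (.node [] .nil (.node [(74,(.negSucc 0),1)] .nil .nil))) (.node [] (.node [] .nil (.node [(37,(.negSucc 0),1)] .nil .nil)) (.node [] .nil (.node [(144,(.ofNat 1),1)] .nil .nil))))) (.node [] (.node [] (.node [] (.node [] .nil (.node [(20,(.ofNat 1),1)] .nil .nil)) (.node [] .nil (.node [(68,(.negSucc 0),1)] .nil .nil))) .nil) .nil)) (.node [(17,(.ofNat 1),1)] (.node [] (.node [] (.node [] .nil (.node [] .nil (.node [(64,(.ofNat 1),1)] .nil .nil))) (.node [] .nil (.node [(13,(.negSucc 0),1)] .nil .nil))) (.node [] .nil (.node [] (.node [] .nil (.node [(46,(.negSucc 0),1)] .nil .nil)) (.node [] .nil (.node [(160,(.negSucc 0),1)] .nil .nil))))) (.node [] (.node [] .nil (.node [] .nil (.node [] .nil (.node [(120,(.ofNat 1),1)] .nil .nil)))) (.node [] (.node [] .nil (.node [(8,(.ofNat 1),1)] .nil (.node [(81,(.ofNat 1),1)] .nil .nil)))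 (.node [] (.node [] .nil (.node [(56,(.negSucc 0),1)] .nil .nil)) .nil))))) (.node [] (.node [] (.node [] (.node [] .nil (.node [] .nil (.node [] .nil (.node [(84,(.ofNat 1),1)] .nil .nil)))) (.node [] (.node [] .nil (.node [] .nil (.node [(76,(.negSucc 0),1)] .nil .nil))) (.node [] (.node [] .nil (.node [(44,(.negSucc 0),1)] .nil .nil)) (.node [] .nil (.node [(155,(.ofNat 1),1)] .nil .nil))))) (.node [] (.node [] .nil (.node [] (.node [] .nil (.node [(24,(.ofNat 1),1)] .nil .nil)) (.node [] .nil (.node [(118,(.ofNat 1),1)] .nil .nil)))) (.node [] (.node [] .nil (.node [] .nil (.node [(79,(.ofNat 1),1)] .nil .nil))) (.node [] (.node [] .nil (.node [(54,(.negSucc 0),1)] .nil .nil)) .nil)))) (.node [] (.node [] (.node [] (.node [] (.node [] .nil (.node [(18,(.ofNat 1),1)] .nil .nil)) (.node [] .nil (.node [(66,(.ofNat 1),1)] .nil .nil))) .nil) (.node [] .nil (.node [] .nil (.node [] .nil (.node [(162,(.negSucc 0),1)] .nil .nil))))) (.node [] (.node [] .nil (.node [] (.node [] .nil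 (.node [(35,(.negSucc 0),1)] .nil .nil)) (.node [] .nil (.node [(0,(.negSucc 1),1),(1,(.negSucc 1),1),(2,(.negSucc 2),1),(3,(.negSucc 3),1),(4,(.negSucc 3),1),(5,(.negSucc 2),1),(6,(.negSucc 1),1),(7,(.negSucc 0),1),(17,(.negSucc 0),2)] .nil .nil)))) (.node [] (.node [] .nil (.node [(10,(.ofNat 1),1)] .nil .nil)) (.node [] (.node [] .nil (.node [(58,(.ofNat 1),1)] .nil .nil)) .nil)))))) (.node [] (.node [] (.node [] (.node [] .nil (.node [] (.node [] .nil (.node [] .nil (.node [(75,(.ofNat 1),1)] .nil .nil))) (.node [] .nil (.node [] .nil (.node [(150,(.ofNat 1),1)] .nil .nil))))) (.node [] (.node [] (.node [] (.node [] .nil (.node [(21,(.negSucc 0),1)] .nil .nil)) (.node [] .nil (.node [(69,(.ofNat 1),1)] .nil .nil))) (.node [] .nil (.node [(14,(.negSucc 0),1)] .nil .nil))) .nil)) (.node [] (.node [] (.node [] (.node [] .nil (.node [] .nil (.node [(65,(.negSucc 0),1)] .nil .nil))) .nil) (.node [] .nil (.node [] (.node [] .nil (.node [(47,(.ofNat 1),1)] .nil .nil)) (.node [(16,(.ofNat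 1),1)] .nil (.node [(161,(.negSucc 0),1)] .nil .nil))))) (.node [] (.node [] .nil (.node [] (.node [] .nil (.node [(34,(.ofNat 1),1)] .nil .nil)) (.node [] .nil (.node [(121,(.negSucc 0),1)] .nil .nil)))) (.node [] (.node [] .nil (.node [(9,(.ofNat 1),1)] .nil (.node [(82,(.negSucc 0),1)] .nil .nil))) (.node [] (.node [] .nil (.node [(57,(.negSucc 0),1)] .nil .nil)) .nil))))) (.node [(17,(.negSucc 0),1)] (.node [] (.node [] .nil (.node [] (.node [] .nil (.node [] .nil (.node [(77,(.ofNat 1),1)] .nil .nil))) (.node [] (.node [] .nil (.node [(45,(.ofNat 1),1)] .nil .nil)) .nil))) (.node [] (.node [] .nil (.node [] (.node [] .nil (.node [(29,(.negSucc 0),1)] .nil .nil)) (.node [] .nil (.node [(119,(.negSucc 0),1)] .nil .nil)))) (.node [] (.node [] .nil (.node [] .nil (.node [(80,(.negSucc 0),1)] .nil .nil))) (.node [] (.node [] .nil (.node [(55,(.ofNat 1),1)] .nil .nil)) .nil)))) (.node [] (.node [] (.node [] (.node [] (.node [] .nil (.node [(19,(.negSucc 0),1)] .nil .nil)) (.node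 [] .nil (.node [(67,(.ofNat 1),1)] .nil .nil))) (.node [] .nil (.node [] .nil (.node [(85,(.negSucc 0),1)] .nil .nil)))) (.node [] .nil (.node [] .nil (.node [] .nil (.node [(163,(.negSucc 0),1)] .nil .nil))))) (.node [] (.node [] .nil (.node [] (.node [] .nil (.node [(36,(.ofNat 1),1)] .nil .nil)) (.node [(15,(.negSucc 0),1)] .nil (.node [(138,(.negSucc 0),1)] .nil .nil)))) (.node [] (.node [] .nil (.node [(11,(.ofNat 1),1)] .nil .nil)) (.node [] (.node [] .nil (.node [(59,(.negSucc 0),1)] .nil .nil)) .nil)))))))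
noncomputable def ex10 : Trie (List (ℕ × ℤ × ℕ)) := (.node [(18,(.ofNat 1),1)] (.node [] (.node [] (.node [] (.node [] .nil (.node [] .nil (.node [] (.node [] .nil (.node [(40,(.negSucc 0),1)] .nil .nil)) (.node [] .nil (.node [(145,(.negSucc 0),1)] .nil .nil))))) (.node [] (.node [] (.node [] .nil (.node [] .nil (.node [(71,(.negSucc 0),1)] .nil .nil))) (.node [] .nil (.node [(14,(.ofNat 1),1)] .nil .nil))) (.node [] (.node [] .nil (.node [] .nil (.node [(80,(.negSucc 0),1)] .nil .nil))) (.node [] (.node [] .nil (.node [(55,(.ofNat 1),1)] .nil .nil)) .nil)))) (.node [(18,(.negSucc 0),1)] (.node [] (.node [] (.node [] (.node [] .nil (.node [(20,(.negSucc 0),1)] .nil .nil)) .nil) .nil) (.node [] .nil (.node [] (.node [] .nil (.node [(49,(.negSucc 0),1)] .nil .nil)) (.node [(16,(.negSucc 0),1)] .nil .nil)))) (.node [] (.node [] .nil (.node [] (.node [] .nil (.node [(34,(.ofNat 1),1)] .nil .nil)) (.node [] .nil (.node [(124,(.negSucc 0),1)] .nil .nil)))) .nil))) (.node [] (.node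 [] (.node [] (.node [] (.node [] .nil (.node [] .nil (.node [(65,(.negSucc 0),1)] .nil .nil))) .nil) (.node [] .nil (.node [] .nil (.node [] .nil (.node [(156,(.negSucc 0),1)] .nil .nil))))) (.node [] (.node [] .nil (.node [] (.node [] .nil (.node [(25,(.ofNat 1),1)] .nil .nil)) (.node [] .nil (.node [(122,(.negSucc 0),1)] .nil .nil)))) (.node [] (.node [] .nil (.node [(9,(.negSucc 0),1)] .nil .nil)) .nil))) (.node [] (.node [] (.node [] .nil (.node [] .nil (.node [] .nil (.node [(85,(.negSucc 0),1)] .nil .nil)))) (.node [] .nil (.node [] .nil (.node [] .nil (.node [(165,(.ofNat 1),1)] .nil .nil))))) (.node [] (.node [] (.node [] .nil (.node [] .nil (.node [(75,(.ofNat 1),1)] .nil .nil))) (.node [] (.node [] .nil (.node [(38,(.negSucc 0),1)] .nil .nil)) (.node [(15,(.ofNat 1),1)] .nil (.node [(134,(.negSucc 0),1)] .nil .nil)))) (.node [] .nil (.node [] (.node [] .nil (.node [(61,(.ofNat 1),1)] .nil .nil)) .nil)))))) (.node [] (.node [] (.node [] (.node [] (.node [] (.node [] .nil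 (.node [] .nil (.node [(64,(.ofNat 1),1)] .nil .nil))) (.node [] .nil (.node [] .nil (.node [(84,(.ofNat 1),1)] .nil .nil)))) (.node [] .nil (.node [] (.node [] .nil (.node [(44,(.negSucc 0),1)] .nil .nil)) (.node [] .nil (.node [(151,(.negSucc 0),1)] .nil .nil))))) (.node [] (.node [] (.node [] .nil (.node [] .nil (.node [(72,(.ofNat 1),1)] .nil .nil))) .nil) (.node [] (.node [] .nil (.node [(8,(.negSucc 0),1)] .nil (.node [(81,(.ofNat 1),1)] .nil .nil))) (.node [] (.node [] .nil (.node [(56,(.negSucc 0),1)] .nil .nil)) (.node [(17,(.ofNat 1),1)] .nil .nil))))) (.node [(18,(.ofNat 1),1)] (.node [] (.node [] (.node [] (.node [] .nil (.node [(21,(.ofNat 1),1)] .nil .nil)) .nil) .nil) (.node [] .nil (.node [] (.node [] .nil (.node [(50,(.ofNat 1),1)] .nil .nil)) (.node [] .nil (.node [(164,(.ofNat 1),1)] .nil .nil))))) (.node [] (.node [] (.node [] .nil (.node [] .nil (.node [(74,(.negSucc 0),1)] .nil .nil))) (.node [] .nil (.node [] .nil (.node [(0,(.negSucc 1),1),(1,(.negSucc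 1),1),(2,(.negSucc 2),1),(3,(.negSucc 3),1),(4,(.negSucc 2),1),(5,(.negSucc 2),1),(6,(.negSucc 1),1),(7,(.negSucc 0),1),(18,(.negSucc 0),2)] .nil .nil)))) (.node [] (.node [] .nil (.node [] .nil (.node [(83,(.negSucc 0),1)] .nil .nil))) (.node [] (.node [] .nil (.node [(60,(.negSucc 0),1)] .nil .nil)) .nil))))) (.node [] (.node [] (.node [] (.node [] (.node [] (.node [] .nil (.node [(19,(.ofNat 1),1)] .nil .nil)) (.node [] .nil (.node [(66,(.ofNat 1),1)] .nil .nil))) (.node [] .nil (.node [(13,(.ofNat 1),1)] .nil .nil))) (.node [] (.node [] .nil (.node [] .nil (.node [(78,(.ofNat 1),1)] .nil .nil))) (.node [] (.node [] .nil (.node [(48,(.ofNat 1),1)] .nil .nil)) (.node [] .nil (.node [(160,(.negSucc 0),1)] .nil .nil))))) (.node [] (.node [] .nil (.node [] (.node [] .nil (.node [(30,(.negSucc 0),1)] .nil .nil)) (.node [] .nil (.node [(123,(.ofNat 1),1)] .nil .nil)))) (.node [] (.node [] .nil (.node [(10,(.negSucc 0),1)] .nil .nil)) .nil))) (.node [] (.node [] (.node [] (.node []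 .nil (.node [] .nil (.node [(70,(.ofNat 1),1)] .nil .nil))) .nil) (.node [] (.node [] .nil (.node [] .nil (.node [(79,(.ofNat 1),1)] .nil .nil))) (.node [] (.node [] .nil (.node [(54,(.negSucc 0),1)] .nil .nil)) (.node [] .nil (.node [(166,(.ofNat 1),1)] .nil .nil))))) (.node [] (.node [] (.node [] .nil (.node [] .nil (.node [(76,(.negSucc 0),1)] .nil .nil))) (.node [] (.node [] .nil (.node [(39,(.ofNat 1),1)] .nil .nil)) (.node [] .nil (.node [(139,(.ofNat 1),1)] .nil .nil)))) (.node [] (.node [] .nil (.node [(12,(.ofNat 1),1)] .nil .nil)) (.node [] (.node [] .nil (.node [(62,(.negSucc 0),1)] .nil .nil)) .nil)))))))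
noncomputable def ex11 : Trie (List (ℕ × ℤ × ℕ)) := (.node [(19,(.ofNat 1),1)] (.node [] (.node [] (.node [] (.node [] (.node [] (.node [] .nil (.node [] .nil (.node [(64,(.ofNat 1),1)] .nil .nil))) (.node [] .nil (.node [] .nil (.node [(84,(.ofNat 1),1)] .nil .nil)))) (.node [] .nil (.node [] (.node [] .nil (.node [(42,(.negSucc 0),1)] .nil .nil)) (.node [] .nil (.node [(146,(.ofNat 1),1)] .nil .nil))))) (.node [] .nil (.node [] (.node [] .nil (.node [(9,(.ofNat 1),1)] .nil .nil)) (.node [] (.node [] .nil (.node [(57,(.ofNat 1),1)] .nil .nil)) (.node [(17,(.negSucc 0),1)] .nil .nil))))) (.node [] (.node [] .nil (.node [] .nil (.node [] (.node [] .nil (.node [(51,(.negSucc 0),1)] .nil .nil)) (.node [] .nil (.node [(164,(.ofNat 1),1)] .nil .nil))))) (.node [] (.node [] (.node [] .nil (.node [] .nil (.node [(75,(.ofNat 1),1)] .nil .nil))) (.node [] (.node [] .nil (.node [(35,(.ofNat 1),1)] .nil .nil)) (.node [] .nil (.node [(0,(.negSucc 1),1),(1,(.negSucc 1),1),(2,(.negSucc 2),1),(3,(.negSucc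 3),1),(4,(.negSucc 2),1),(5,(.negSucc 1),1),(6,(.negSucc 1),1),(7,(.negSucc 0),1),(19,(.negSucc 0),2)] .nil .nil)))) (.node [] (.node [] .nil (.node [] .nil (.node [(83,(.negSucc 0),1)] .nil .nil))) (.node [] (.node [] .nil (.node [(61,(.ofNat 1),1)] .nil .nil)) (.node [(18,(.ofNat 1),1)] .nil .nil)))))) (.node [] (.node [] (.node [] (.node [] (.node [] (.node [] .nil (.node [(21,(.negSucc 0),1)] .nil .nil)) (.node [] .nil (.node [(67,(.negSucc 0),1)] .nil .nil))) (.node [] .nil (.node [(13,(.negSucc 0),1)] .nil .nil))) (.node [] (.node [] .nil (.node [] .nil (.node [(78,(.ofNat 1),1)] .nil .nil))) (.node [] (.node [] .nil (.node [(48,(.ofNat 1),1)] .nil .nil)) (.node [] .nil (.node [(157,(.ofNat 1),1)] .nil .nil))))) (.node [] (.node [] .nil (.node [] (.node [] .nil (.node [(26,(.ofNat 1),1)] .nil .nil)) (.node [] .nil (.node [(125,(.ofNat 1),1)] .nil .nil)))) .nil)) (.node [(19,(.ofNat 1),1)] (.node [] (.node [] (.node [] .nil (.node [] .nil (.node [(71,(.negSucc 0),1)] .nil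 .nil))) .nil) (.node [] (.node [] .nil (.node [] .nil (.node [(80,(.negSucc 0),1)] .nil .nil))) (.node [] (.node [] .nil (.node [(54,(.negSucc 0),1)] .nil .nil)) (.node [] .nil (.node [(167,(.negSucc 0),1)] .nil .nil))))) (.node [] (.node [] .nil (.node [] .nil (.node [] .nil (.node [(135,(.ofNat 1),1)] .nil .nil)))) (.node [] (.node [] .nil (.node [(12,(.negSucc 0),1)] .nil .nil)) .nil))))) (.node [] (.node [] (.node [] (.node [] (.node [] (.node [] (.node [] .nil (.node [(20,(.ofNat 1),1)] .nil .nil)) .nil) .nil) (.node [] .nil (.node [] (.node [] .nil (.node [(45,(.negSucc 0),1)] .nil .nil)) (.node [] .nil (.node [(152,(.ofNat 1),1)] .nil .nil))))) (.node [] (.node [] (.node [] .nil (.node [] .nil (.node [(73,(.ofNat 1),1)] .nil .nil))) .nil) (.node [] (.node [] .nil (.node [] .nil (.node [(82,(.ofNat 1),1)] .nil .nil))) (.node [] (.node [] .nil (.node [(58,(.negSucc 0),1)] .nil .nil)) .nil)))) (.node [(19,(.negSucc 0),1)] (.node [] (.node [] (.node [] .nil (.node [] .nil (.node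 [(70,(.ofNat 1),1)] .nil .nil))) (.node [] .nil (.node [] .nil (.node [(85,(.negSucc 0),1)] .nil .nil)))) (.node [] (.node [] .nil (.node [] .nil (.node [(79,(.ofNat 1),1)] .nil .nil))) (.node [] (.node [] .nil (.node [(52,(.ofNat 1),1)] .nil .nil)) .nil))) (.node [] (.node [] .nil (.node [] (.node [] .nil (.node [(38,(.negSucc 0),1)] .nil .nil)) (.node [(15,(.negSucc 0),1)] .nil (.node [(131,(.negSucc 0),1)] .nil .nil)))) .nil))) (.node [] (.node [] (.node [] (.node [] (.node [] .nil (.node [] .nil (.node [(68,(.ofNat 1),1)] .nil .nil))) .nil) (.node [] .nil (.node [] .nil (.node [(16,(.ofNat 1),1)] .nil (.node [(161,(.ofNat 1),1)] .nil .nil))))) (.node [] (.node [] (.node [] .nil (.node [] .nil (.node [(74,(.negSucc 0),1)] .nil .nil))) (.node [] (.node [] .nil (.node [(31,(.negSucc 0),1)] .nil .nil)) (.node [] .nil (.node [(126,(.negSucc 0),1)] .nil .nil)))) (.node [] (.node [] .nil (.node [(11,(.negSucc 0),1)] .nil .nil)) (.node [] (.node [] .nil (.node [(60,(.negSucc 0),1)]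 .nil .nil)) .nil)))) (.node [] (.node [] (.node [] .nil (.node [] .nil (.node [(14,(.negSucc 0),1)] .nil .nil))) (.node [] (.node [] .nil (.node [(8,(.ofNat 1),1)] .nil .nil)) (.node [] .nil (.node [] .nil (.node [(168,(.negSucc 0),1)] .nil .nil))))) (.node [] (.node [] (.node [] .nil (.node [] .nil (.node [(77,(.negSucc 0),1)] .nil .nil))) (.node [] (.node [] .nil (.node [(41,(.ofNat 1),1)] .nil .nil)) (.node [] .nil (.node [(140,(.negSucc 0),1)] .nil .nil)))) (.node [] .nil (.node [] (.node [] .nil (.node [(63,(.negSucc 0),1)] .nil .nil)) .nil)))))))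
noncomputable def ex12 : Trie (List (ℕ × ℤ × ℕ)) := (.node [(20,(.ofNat 1),1)] (.node [] (.node [] (.node [] (.node [] (.node [] (.node [] (.node [] .nil (.node [(21,(.ofNat 1),1)] .nil .nil)) (.node [] .nil (.node [(65,(.ofNat 1),1)] .nil .nil))) .nil) (.node [] .nil (.node [] (.node [] .nil (.node [(43,(.negSucc 0),1)] .nil .nil)) (.node [] .nil (.node [(147,(.negSucc 0),1)] .nil .nil))))) (.node [] (.node [] (.node [] .nil (.node [] .nil (.node [(73,(.ofNat 1),1)] .nil .nil))) .nil) (.node [] (.node [] .nil (.node [(10,(.ofNat 1),1)] .nil (.node [(82,(.ofNat 1),1)] .nil .nil))) .nil))) (.node [] (.node [] (.node [] (.node [] .nil (.node [] .nil (.node [(70,(.ofNat 1),1)] .nil .nil))) (.node [] .nil (.node [] .nil (.node [(85,(.negSucc 0),1)] .nil .nil)))) (.node [] (.node [] .nil (.node [] .nil (.node [(79,(.ofNat 1),1)] .nil .nil))) (.node [] .nil (.node [] .nil (.node [(165,(.negSucc 0),1)] .nil .nil))))) (.node [] (.node [] (.node [] .nil (.node [] .nil (.node [(76,(.ofNat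 1),1)] .nil .nil))) (.node [] (.node [] .nil (.node [(36,(.ofNat 1),1)] .nil .nil)) (.node [(15,(.ofNat 1),1)] .nil (.node [(129,(.negSucc 0),1)] .nil .nil)))) (.node [] .nil (.node [] (.node [] .nil (.node [(62,(.ofNat 1),1)] .nil .nil)) .nil))))) (.node [] (.node [] (.node [] .nil (.node [] .nil (.node [] (.node [] .nil (.node [(49,(.ofNat 1),1)] .nil .nil)) (.node [(16,(.negSucc 0),1)] .nil (.node [(158,(.negSucc 0),1)] .nil .nil))))) (.node [] (.node [] (.node [] .nil (.node [] .nil (.node [(74,(.negSucc 0),1)] .nil .nil))) (.node [] (.node [] .nil (.node [(27,(.ofNat 1),1)] .nil .nil)) (.node [] .nil (.node [(127,(.negSucc 0),1)] .nil .nil)))) (.node [] (.node [] .nil (.node [(11,(.ofNat 1),1)] .nil .nil)) (.node [] (.node [] .nil (.node [(60,(.negSucc 0),1)] .nil .nil)) .nil)))) (.node [(20,(.negSucc 0),1)] (.node [] (.node [] (.node [] .nil (.node [] .nil (.node [(72,(.negSucc 0),1)] .nil .nil))) (.node [] .nil (.node [(14,(.ofNat 1),1)] .nil .nil))) (.node [] (.node []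 .nil (.node [(8,(.negSucc 0),1)] .nil (.node [(81,(.negSucc 0),1)] .nil .nil))) (.node [] (.node [] .nil (.node [(55,(.negSucc 0),1)] .nil .nil)) .nil))) (.node [] (.node [] (.node [] .nil (.node [] .nil (.node [(77,(.negSucc 0),1)] .nil .nil))) (.node [] (.node [] .nil (.node [(41,(.ofNat 1),1)] .nil .nil)) (.node [] .nil (.node [(136,(.negSucc 0),1)] .nil .nil)))) (.node [] .nil (.node [] (.node [] .nil (.node [(63,(.negSucc 0),1)] .nil .nil)) (.node [(19,(.ofNat 1),1)] .nil .nil))))))) (.node [] (.node [] (.node [] (.node [] (.node [] (.node [] .nil (.node [] .nil (.node [(67,(.negSucc 0),1)] .nil .nil))) (.node [] .nil (.node [(13,(.ofNat 1),1)] .nil .nil))) (.node [] (.node [] .nil (.node [] .nil (.node [(78,(.ofNat 1),1)] .nil .nil))) (.node [] (.node [] .nil (.node [(46,(.negSucc 0),1)] .nil .nil)) (.node [] .nil (.node [(153,(.negSucc 0),1)] .nil .nil))))) (.node [] .nil (.node [] .nil (.node [] (.node [] .nil (.node [(59,(.negSucc 0),1)] .nil .nil)) .nil)))) (.node []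 (.node [] .nil (.node [] .nil (.node [] (.node [] .nil (.node [(53,(.ofNat 1),1)] .nil .nil)) (.node [] .nil (.node [(167,(.negSucc 0),1)] .nil .nil))))) (.node [] (.node [] .nil (.node [] (.node [] .nil (.node [(39,(.negSucc 0),1)] .nil .nil)) (.node [] .nil (.node [(132,(.ofNat 1),1)] .nil .nil)))) (.node [] (.node [] .nil (.node [(12,(.ofNat 1),1)] .nil .nil)) .nil)))) (.node [] (.node [] (.node [] (.node [] (.node [] .nil (.node [] .nil (.node [(69,(.ofNat 1),1)] .nil .nil))) .nil) (.node [] .nil (.node [] (.node [] .nil (.node [(51,(.negSucc 0),1)] .nil .nil)) (.node [] .nil (.node [(162,(.negSucc 0),1)] .nil .nil))))) (.node [] (.node [] .nil (.node [] (.node [] .nil (.node [(32,(.negSucc 0),1)] .nil .nil)) (.node [] .nil (.node [(0,(.negSucc 1),1),(1,(.negSucc 1),1),(2,(.negSucc 2),1),(3,(.negSucc 3),1),(4,(.negSucc 2),1),(5,(.negSucc 1),1),(6,(.negSucc 0),1),(7,(.negSucc 0),1),(20,(.negSucc 0),2)] .nil .nil)))) (.node [] (.node [] .nil (.node [] .nil (.node [(83,(.negSucc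 0),1)] .nil .nil))) (.node [] .nil (.node [(18,(.negSucc 0),1)] .nil .nil))))) (.node [(20,(.ofNat 1),1)] (.node [] .nil (.node [] .nil (.node [] (.node [] .nil (.node [(57,(.ofNat 1),1)] .nil .nil)) (.node [(17,(.ofNat 1),1)] .nil (.node [(169,(.ofNat 1),1)] .nil .nil))))) (.node [] (.node [] .nil (.node [] .nil (.node [] .nil (.node [(141,(.ofNat 1),1)] .nil .nil)))) (.node [] (.node [] .nil (.node [] .nil (.node [(84,(.ofNat 1),1)] .nil .nil))) .nil))))))
noncomputable def ex13 : Trie (List (ℕ × ℤ × ℕ)) := (.node [(21,(.ofNat 1),1)] (.node [] (.node [] (.node [] (.node [] (.node [] (.node [] .nil (.node [] .nil (.node [(66,(.ofNat 1),1)] .nil .nil))) (.node [] .nil (.node [(13,(.negSucc 0),1)] .nil .nil))) (.node [] (.node [] .nil (.node [] .nil (.node [(78,(.ofNat 1),1)] .nil .nil))) (.node [] .nil (.node [] .nil (.node [(148,(.ofNat 1),1)] .nil .nil))))) (.node [] .nil (.node [] .nil (.node [] (.node [] .nil (.node [(59,(.negSucc 0),1)] .nil .nil)) .nil)))) (.node [] (.node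 [] (.node [] (.node [] .nil (.node [] .nil (.node [(71,(.ofNat 1),1)] .nil .nil))) .nil) (.node [] (.node [] .nil (.node [] .nil (.node [(80,(.ofNat 1),1)] .nil .nil))) (.node [] (.node [] .nil (.node [(53,(.ofNat 1),1)] .nil .nil)) (.node [] .nil (.node [(166,(.ofNat 1),1)] .nil .nil))))) (.node [] (.node [] .nil (.node [] (.node [] .nil (.node [(37,(.ofNat 1),1)] .nil .nil)) (.node [] .nil (.node [(130,(.ofNat 1),1)] .nil .nil)))) (.node [] (.node [] .nil (.node [(12,(.negSucc 0),1)] .nil .nil)) .nil)))) (.node [] (.node [] (.node [] (.node [] (.node [] .nil (.node [] .nil (.node [(69,(.ofNat 1),1)] .nil .nil))) .nil) (.node [] .nil (.node [] (.node [] .nil (.node [(50,(.ofNat 1),1)] .nil .nil)) (.node [] .nil (.node [(159,(.ofNat 1),1)] .nil .nil))))) (.node [] (.node [] (.node [] .nil (.node [] .nil (.node [(75,(.negSucc 0),1)] .nil .nil))) (.node [] (.node [] .nil (.node [(28,(.ofNat 1),1)] .nil .nil)) (.node [] .nil (.node [(0,(.negSucc 1),1),(1,(.negSucc 1),1),(2,(.negSucc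 2),1),(3,(.negSucc 3),1),(4,(.negSucc 2),1),(5,(.negSucc 1),1),(6,(.negSucc 0),1),(21,(.negSucc 0),2)] .nil .nil)))) (.node [] (.node [] .nil (.node [] .nil (.node [(83,(.negSucc 0),1)] .nil .nil))) (.node [] (.node [] .nil (.node [(61,(.negSucc 0),1)] .nil .nil)) (.node [(18,(.ofNat 1),1)] .nil .nil))))) (.node [] (.node [] .nil (.node [] (.node [] .nil (.node [(9,(.negSucc 0),1)] .nil .nil)) (.node [] (.node [] .nil (.node [(56,(.negSucc 0),1)] .nil .nil)) (.node [(17,(.negSucc 0),1)] .nil (.node [(169,(.ofNat 1),1)] .nil .nil))))) (.node [] (.node [] .nil (.node [] (.node [] .nil (.node [(42,(.ofNat 1),1)] .nil .nil)) (.node [] .nil (.node [(137,(.ofNat 1),1)] .nil .nil)))) (.node [] (.node [] .nil (.node [] .nil (.node [(84,(.ofNat 1),1)] .nil .nil))) .nil))))) (.node [] (.node [] (.node [] (.node [] (.node [] (.node [] .nil (.node [] .nil (.node [(68,(.negSucc 0),1)] .nil .nil))) .nil) (.node [] .nil (.node [] (.node [] .nil (.node [(47,(.negSucc 0),1)] .nil .nil)) (.node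 [(16,(.ofNat 1),1)] .nil (.node [(154,(.ofNat 1),1)] .nil .nil))))) (.node [] .nil (.node [] (.node [] .nil (.node [(11,(.negSucc 0),1)] .nil .nil)) .nil))) (.node [] (.node [] (.node [] (.node [] .nil (.node [] .nil (.node [(72,(.negSucc 0),1)] .nil .nil))) (.node [] .nil (.node [(14,(.negSucc 0),1)] .nil .nil))) (.node [] (.node [] .nil (.node [] .nil (.node [(81,(.negSucc 0),1)] .nil .nil))) (.node [] .nil (.node [] .nil (.node [(168,(.ofNat 1),1)] .nil .nil))))) (.node [] (.node [] (.node [] .nil (.node [] .nil (.node [(77,(.negSucc 0),1)] .nil .nil))) (.node [] (.node [] .nil (.node [(40,(.negSucc 0),1)] .nil .nil)) (.node [] .nil (.node [(133,(.negSucc 0),1)] .nil .nil)))) (.node [] .nil (.node [] (.node [] .nil (.node [(63,(.negSucc 0),1)] .nil .nil)) (.node [(19,(.negSucc 0),1)] .nil .nil)))))) (.node [] (.node [] (.node [] (.node [] .nil (.node [] .nil (.node [] .nil (.node [(85,(.negSucc 0),1)] .nil .nil)))) (.node [] .nil (.node [] (.node [] .nil (.node [(52,(.negSucc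 0),1)] .nil .nil)) (.node [] .nil (.node [(163,(.ofNat 1),1)] .nil .nil))))) (.node [] (.node [] (.node [] .nil (.node [] .nil (.node [(76,(.ofNat 1),1)] .nil .nil))) (.node [] (.node [] .nil (.node [(33,(.negSucc 0),1)] .nil .nil)) (.node [(15,(.negSucc 0),1)] .nil (.node [(128,(.negSucc 0),1)] .nil .nil)))) (.node [] .nil (.node [] (.node [] .nil (.node [(62,(.ofNat 1),1)] .nil .nil)) .nil)))) (.node [(21,(.negSucc 0),1)] (.node [] (.node [] (.node [] .nil (.node [] .nil (.node [(73,(.ofNat 1),1)] .nil .nil))) .nil) (.node [] (.node [] .nil (.node [(10,(.negSucc 0),1)] .nil (.node [(82,(.ofNat 1),1)] .nil .nil))) (.node [] (.node [] .nil (.node [(58,(.ofNat 1),1)] .nil .nil)) .nil))) (.node [] (.node [] .nil (.node [] (.node [] .nil (.node [(43,(.negSucc 0),1)] .nil .nil)) (.node [] .nil (.node [(142,(.negSucc 0),1)] .nil .nil)))) (.node [] .nil (.node [] .nil (.node [(20,(.ofNat 1),1)] .nil .nil))))))))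
noncomputable def ex14 : Trie (List (ℕ × ℤ × ℕ)) := (.node [(22,(.negSucc 0),1)] (.node [] (.node [] (.node [] (.node [] (.node [] .nil (.node [] (.node [] .nil (.node [(34,(.ofNat 1),1)] .nil .nil)) (.node [] .nil (.node [(98,(.negSucc 0),1)] .nil .nil)))) (.node [] (.node [] .nil (.node [(9,(.ofNat 1),1)] .nil .nil)) .nil)) (.node [] (.node [] .nil (.node [] (.node [] .nil (.node [(42,(.negSucc 0),1)] .nil .nil)) (.node [] .nil (.node [(106,(.negSucc 0),1)] .nil .nil)))) (.node [] (.node [] (.node [] .nil (.node [(26,(.negSucc 0),1)] .nil .nil)) (.node [] .nil (.node [(90,(.ofNat 1),1)] .nil .nil))) .nil))) (.node [] (.node [] (.node [] .nil (.node [] (.node [] .nil (.node [(38,(.ofNat 1),1)] .nil .nil)) (.node [] .nil (.node [(102,(.negSucc 0),1)] .nil .nil)))) (.node [] (.node [] .nil (.node [(13,(.ofNat 1),1)] .nil (.node [(86,(.negSucc 0),1)] .nil .nil))) (.node [] .nil (.node [] .nil (.node [(173,(.negSucc 0),1)] .nil .nil))))) (.node [] .nil (.node [] (.node [] (.node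 [] .nil (.node [(30,(.negSucc 0),1)] .nil .nil)) (.node [] .nil (.node [(94,(.ofNat 1),1)] .nil .nil))) .nil)))) (.node [] (.node [] (.node [] (.node [] .nil (.node [] (.node [] .nil (.node [(36,(.ofNat 1),1)] .nil .nil)) (.node [] .nil (.node [(100,(.negSucc 0),1)] .nil .nil)))) (.node [] (.node [] .nil (.node [(11,(.ofNat 1),1)] .nil .nil)) (.node [] .nil (.node [] .nil (.node [(171,(.negSucc 0),1)] .nil .nil))))) (.node [] .nil (.node [] (.node [] (.node [] .nil (.node [(28,(.negSucc 0),1)] .nil .nil)) (.node [] .nil (.node [(92,(.ofNat 1),1)] .nil .nil))) .nil))) (.node [] (.node [] (.node [] .nil (.node [] (.node [] .nil (.node [(40,(.ofNat 1),1)] .nil .nil)) (.node [] .nil (.node [(104,(.negSucc 0),1)] .nil .nil)))) (.node [] (.node [] (.node [] .nil (.node [(24,(.negSucc 0),1)] .nil .nil)) (.node [] .nil (.node [(88,(.negSucc 0),1)] .nil .nil))) (.node [] .nil (.node [] .nil (.node [(175,(.negSucc 0),1)] .nil .nil))))) (.node [] .nil (.node [] (.node [] (.node [] .nil (.node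 [(32,(.negSucc 0),1)] .nil .nil)) (.node [] .nil (.node [(96,(.negSucc 0),1)] .nil .nil))) .nil))))) (.node [(22,(.ofNat 1),1)] (.node [] (.node [] (.node [] (.node [] .nil (.node [] (.node [] .nil (.node [(35,(.negSucc 0),1)] .nil .nil)) (.node [] .nil (.node [(99,(.ofNat 1),1)] .nil .nil)))) (.node [] (.node [] .nil (.node [(10,(.ofNat 1),1)] .nil .nil)) (.node [] .nil (.node [] .nil (.node [(170,(.negSucc 0),1)] .nil .nil))))) (.node [] (.node [] .nil (.node [] (.node [] .nil (.node [(43,(.ofNat 1),1)] .nil .nil)) (.node [] .nil (.node [(0,(.negSucc 0),1),(1,(.negSucc 2),1),(2,(.negSucc 2),1),(3,(.negSucc 4),1),(4,(.negSucc 3),1),(5,(.negSucc 2),1),(6,(.negSucc 1),1),(7,(.negSucc 0),1),(22,(.negSucc 0),2)] .nil .nil)))) (.node [] (.node [] (.node [] .nil (.node [(27,(.ofNat 1),1)] .nil .nil)) (.node [] .nil (.node [(91,(.negSucc 0),1)] .nil .nil))) .nil))) (.node [] (.node [] (.node [] .nil (.node [] (.node [] .nil (.node [(39,(.negSucc 0),1)] .nil .nil)) (.node [] .nil (.node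 [(103,(.ofNat 1),1)] .nil .nil)))) (.node [] (.node [] (.node [] .nil (.node [(23,(.ofNat 1),1)] .nil .nil)) (.node [(14,(.ofNat 1),1)] .nil (.node [(87,(.ofNat 1),1)] .nil .nil))) (.node [] .nil (.node [] .nil (.node [(174,(.negSucc 0),1)] .nil .nil))))) (.node [] .nil (.node [] (.node [] (.node [] .nil (.node [(31,(.ofNat 1),1)] .nil .nil)) (.node [] .nil (.node [(95,(.negSucc 0),1)] .nil .nil))) .nil)))) (.node [] (.node [] (.node [] (.node [] .nil (.node [] (.node [] .nil (.node [(37,(.negSucc 0),1)] .nil .nil)) (.node [] .nil (.node [(101,(.ofNat 1),1)] .nil .nil)))) (.node [] (.node [] .nil (.node [(12,(.ofNat 1),1)] .nil .nil)) (.node [] .nil (.node [] .nil (.node [(172,(.negSucc 0),1)] .nil .nil))))) (.node [] .nil (.node [] (.node [] (.node [] .nil (.node [(29,(.ofNat 1),1)] .nil .nil)) (.node [] .nil (.node [(93,(.negSucc 0),1)] .nil .nil))) .nil))) (.node [] (.node [] (.node [] .nil (.node [] (.node [] .nil (.node [(41,(.ofNat 1),1)] .nil .nil)) (.node [] .nil (.node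 [(105,(.ofNat 1),1)] .nil .nil)))) (.node [] (.node [] (.node [] .nil (.node [(25,(.ofNat 1),1)] .nil .nil)) (.node [] .nil (.node [(89,(.negSucc 0),1)] .nil .nil))) (.node [] .nil (.node [] .nil (.node [(176,(.negSucc 0),1)] .nil .nil))))) (.node [] (.node [] (.node [] .nil (.node [(8,(.ofNat 1),1)] .nil .nil)) .nil) (.node [] (.node [] (.node [] .nil (.node [(33,(.ofNat 1),1)] .nil .nil)) (.node [] .nil (.node [(97,(.ofNat 1),1)] .nil .nil))) .nil))))))
noncomputable def ex15 : Trie (List (ℕ × ℤ × ℕ)) := (.node [(23,(.negSucc 0),1)] (.node [] (.node [] (.node [] (.node [] (.node [] .nil (.node [] (.node [] .nil (.node [(44,(.ofNat 1),1)] .nil .nil)) (.node [] .nil (.node [(109,(.negSucc 0),1)] .nil .nil)))) (.node [] (.node [] (.node [] .nil (.node [(29,(.ofNat 1),1)] .nil .nil)) (.node [] .nil (.node [(92,(.ofNat 1),1)] .nil .nil))) (.node [] .nil (.node [] .nil (.node [(171,(.negSucc 0),1)] .nil .nil))))) (.node [] (.node [] .nil (.node [] (.node [] .nil (.node [(52,(.negSucc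 0),1)] .nil .nil)) (.node [] .nil (.node [(0,(.negSucc 0),1),(1,(.negSucc 1),1),(2,(.negSucc 2),1),(3,(.negSucc 4),1),(4,(.negSucc 3),1),(5,(.negSucc 2),1),(6,(.negSucc 1),1),(7,(.negSucc 0),1),(23,(.negSucc 0),2)] .nil .nil)))) .nil)) (.node [] (.node [] (.node [] .nil (.node [] (.node [] .nil (.node [(48,(.ofNat 1),1)] .nil .nil)) (.node [] .nil (.node [(114,(.ofNat 1),1)] .nil .nil)))) (.node [] (.node [] (.node [] .nil (.node [(33,(.ofNat 1),1)] .nil .nil)) (.node [(15,(.ofNat 1),1)] .nil .nil)) (.node [] .nil (.node [] .nil (.node [(178,(.ofNat 1),1)] .nil .nil))))) (.node [] (.node [] (.node [] (.node [] .nil (.node [(26,(.ofNat 1),1)] .nil .nil)) (.node [(10,(.negSucc 0),1)] .nil (.node [(88,(.negSucc 0),1)] .nil .nil))) .nil) .nil))) (.node [] (.node [] (.node [] (.node [] .nil (.node [] (.node [] .nil (.node [(46,(.ofNat 1),1)] .nil .nil)) (.node [] .nil (.node [(111,(.negSucc 0),1)] .nil .nil)))) (.node [] (.node [] (.node [] .nil (.node [(31,(.ofNat 1),1)] .nil .nil))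 (.node [] .nil (.node [(94,(.ofNat 1),1)] .nil .nil))) .nil)) (.node [] (.node [] (.node [] (.node [] .nil (.node [(24,(.ofNat 1),1)] .nil .nil)) (.node [(8,(.negSucc 0),1)] .nil (.node [(86,(.negSucc 0),1)] .nil .nil))) (.node [] .nil (.node [(22,(.ofNat 1),1)] .nil .nil))) .nil)) (.node [] (.node [] (.node [] .nil (.node [] (.node [] .nil (.node [(50,(.ofNat 1),1)] .nil .nil)) (.node [] .nil (.node [(116,(.ofNat 1),1)] .nil .nil)))) (.node [] .nil (.node [] .nil (.node [] .nil (.node [(180,(.ofNat 1),1)] .nil .nil))))) (.node [] (.node [] (.node [] (.node [] .nil (.node [(28,(.ofNat 1),1)] .nil .nil)) (.node [(12,(.negSucc 0),1)] .nil (.node [(90,(.ofNat 1),1)] .nil .nil))) .nil) (.node [] (.node [] .nil (.node [] .nil (.node [(107,(.negSucc 0),1)] .nil .nil))) .nil))))) (.node [(23,(.negSucc 0),1)] (.node [] (.node [] (.node [] (.node [] .nil (.node [] (.node [] .nil (.node [(45,(.negSucc 0),1)] .nil .nil)) (.node [] .nil (.node [(110,(.ofNat 1),1)] .nil .nil)))) (.node []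 (.node [] (.node [] .nil (.node [(30,(.negSucc 0),1)] .nil .nil)) (.node [] .nil (.node [(93,(.negSucc 0),1)] .nil .nil))) .nil)) (.node [] (.node [] .nil (.node [] (.node [] .nil (.node [(53,(.ofNat 1),1)] .nil .nil)) (.node [] .nil (.node [(149,(.negSucc 0),1)] .nil .nil)))) .nil)) (.node [] (.node [] (.node [] .nil (.node [] (.node [] .nil (.node [(49,(.negSucc 0),1)] .nil .nil)) (.node [] .nil (.node [(115,(.negSucc 0),1)] .nil .nil)))) (.node [] (.node [] .nil (.node [(16,(.ofNat 1),1)] .nil .nil)) (.node [] .nil (.node [] .nil (.node [(179,(.ofNat 1),1)] .nil .nil))))) (.node [] (.node [] (.node [] (.node [] .nil (.node [(27,(.negSucc 0),1)] .nil .nil)) (.node [(11,(.negSucc 0),1)] .nil (.node [(89,(.negSucc 0),1)] .nil .nil))) .nil) .nil))) (.node [(23,(.ofNat 1),1)] (.node [] (.node [] (.node [] .nil (.node [] (.node [] .nil (.node [(47,(.negSucc 0),1)] .nil .nil)) (.node [] .nil (.node [(113,(.negSucc 0),1)] .nil .nil)))) (.node [] (.node [] (.node [] .nil (.node [(32,(.negSucc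 0),1)] .nil .nil)) (.node [] .nil (.node [(95,(.negSucc 0),1)] .nil .nil))) (.node [] .nil (.node [] .nil (.node [(177,(.ofNat 1),1)] .nil .nil))))) (.node [] (.node [] (.node [] (.node [] .nil (.node [(25,(.negSucc 0),1)] .nil .nil)) (.node [(9,(.negSucc 0),1)] .nil (.node [(87,(.ofNat 1),1)] .nil .nil))) .nil) .nil)) (.node [] (.node [] (.node [] .nil (.node [] (.node [] .nil (.node [(51,(.ofNat 1),1)] .nil .nil)) (.node [] .nil (.node [(117,(.negSucc 0),1)] .nil .nil)))) (.node [] .nil (.node [] .nil (.node [] .nil (.node [(181,(.ofNat 1),1)] .nil .nil))))) (.node [] (.node [] (.node [] .nil (.node [] .nil (.node [(91,(.negSucc 0),1)] .nil .nil))) (.node [] .nil (.node [] .nil (.node [(170,(.negSucc 0),1)] .nil .nil)))) (.node [] (.node [] .nil (.node [] .nil (.node [(108,(.ofNat 1),1)] .nil .nil))) .nil))))))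
noncomputable def ex16 : Trie (List (ℕ × ℤ × ℕ)) := (.node [(24,(.negSucc 0),1)] (.node [] (.node [] (.node [] (.node [] .nil (.node [] (.node [] .nil (.node [] .nil (.node [(96,(.ofNat 1),1)] .nil .nil))) (.node [] .nil (.node [] .nil (.node [(172,(.ofNat 1),1)] .nil .nil))))) (.node [] (.node [] (.node [] (.node [] .nil (.node [(27,(.ofNat 1),1)] .nil .nil)) (.node [(10,(.ofNat 1),1)] .nil (.node [(90,(.ofNat 1),1)] .nil .nil))) (.node [] (.node [] .nil (.node [(58,(.negSucc 0),1)] .nil .nil)) (.node [] .nil (.node [(138,(.negSucc 0),1)] .nil .nil)))) (.node [] .nil .nil))) (.node [(24,(.ofNat 1),1)] (.node [] (.node [] (.node [] .nil (.node [] .nil (.node [(86,(.negSucc 0),1)] .nil .nil))) (.node [] (.node [] .nil (.node [(54,(.ofNat 1),1)] .nil .nil)) (.node [] .nil (.node [(119,(.negSucc 0),1)] .nil .nil)))) (.node [] (.node [] (.node [] .nil (.node [(37,(.ofNat 1),1)] .nil .nil)) .nil) (.node [] .nil (.node [] .nil (.node [(182,(.negSucc 0),1)] .nil .nil))))) (.node [] .nil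 (.node [] (.node [] (.node [] .nil (.node [(44,(.ofNat 1),1)] .nil .nil)) (.node [] .nil (.node [(109,(.negSucc 0),1)] .nil .nil))) .nil)))) (.node [(24,(.ofNat 1),1)] (.node [] (.node [] (.node [] .nil (.node [] .nil (.node [] .nil (.node [(112,(.negSucc 0),1)] .nil .nil)))) (.node [] (.node [] (.node [] .nil (.node [(35,(.ofNat 1),1)] .nil .nil)) (.node [] .nil (.node [(98,(.ofNat 1),1)] .nil .nil))) (.node [] .nil (.node [] .nil (.node [(177,(.ofNat 1),1)] .nil .nil))))) (.node [] .nil (.node [] (.node [] .nil (.node [] .nil (.node [(107,(.negSucc 0),1)] .nil .nil))) .nil))) (.node [] (.node [] (.node [] (.node [] (.node [] .nil (.node [(25,(.ofNat 1),1)] .nil .nil)) (.node [(8,(.ofNat 1),1)] .nil (.node [(88,(.negSucc 0),1)] .nil .nil))) (.node [] (.node [] .nil (.node [(56,(.ofNat 1),1)] .nil .nil)) (.node [] .nil (.node [(121,(.negSucc 0),1)] .nil .nil)))) (.node [] .nil (.node [] .nil (.node [] .nil (.node [(184,(.negSucc 0),1)] .nil .nil))))) (.node [] (.node [] (.node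 [] .nil (.node [(13,(.negSucc 0),1)] .nil .nil)) (.node [] .nil (.node [] .nil (.node [(170,(.negSucc 0),1)] .nil .nil)))) (.node [] (.node [] (.node [] .nil (.node [(46,(.ofNat 1),1)] .nil .nil)) .nil) .nil))))) (.node [] (.node [] (.node [] (.node [] .nil (.node [] (.node [] (.node [] .nil (.node [(34,(.negSucc 0),1)] .nil .nil)) (.node [] .nil (.node [(97,(.negSucc 0),1)] .nil .nil))) .nil)) (.node [] (.node [] (.node [] (.node [] .nil (.node [(28,(.negSucc 0),1)] .nil .nil)) (.node [(11,(.ofNat 1),1)] .nil (.node [(91,(.negSucc 0),1)] .nil .nil))) (.node [] (.node [] .nil (.node [(59,(.ofNat 1),1)] .nil .nil)) (.node [(22,(.negSucc 0),1)] .nil (.node [(150,(.ofNat 1),1)] .nil .nil)))) .nil)) (.node [] (.node [] (.node [] (.node [] .nil (.node [] .nil (.node [(87,(.ofNat 1),1)] .nil .nil))) (.node [] (.node [] .nil (.node [(55,(.negSucc 0),1)] .nil .nil)) (.node [] .nil (.node [(120,(.ofNat 1),1)] .nil .nil)))) (.node [] (.node [] .nil (.node [(17,(.ofNat 1),1)] .nil .nil))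 (.node [] .nil (.node [(23,(.ofNat 1),1)] .nil (.node [(183,(.negSucc 0),1)] .nil .nil))))) (.node [] .nil (.node [] (.node [] (.node [] .nil (.node [(45,(.negSucc 0),1)] .nil .nil)) (.node [] .nil (.node [(110,(.ofNat 1),1)] .nil .nil))) .nil)))) (.node [(24,(.negSucc 0),1)] (.node [] (.node [] (.node [] .nil (.node [] .nil (.node [] .nil (.node [(118,(.ofNat 1),1)] .nil .nil)))) (.node [] (.node [] (.node [] .nil (.node [(36,(.negSucc 0),1)] .nil .nil)) (.node [(15,(.negSucc 0),1)] .nil (.node [(99,(.negSucc 0),1)] .nil .nil))) .nil)) (.node [] .nil (.node [] (.node [] .nil (.node [] .nil (.node [(108,(.ofNat 1),1)] .nil .nil))) .nil))) (.node [] (.node [] (.node [] (.node [] (.node [] .nil (.node [(26,(.negSucc 0),1)] .nil .nil)) (.node [(9,(.ofNat 1),1)] .nil (.node [(89,(.negSucc 0),1)] .nil .nil))) (.node [] (.node [] .nil (.node [(57,(.ofNat 1),1)] .nil .nil)) (.node [] .nil (.node [(0,(.negSucc 0),1),(1,(.negSucc 1),1),(2,(.negSucc 2),1),(3,(.negSucc 3),1),(4,(.negSucc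 3),1),(5,(.negSucc 2),1),(6,(.negSucc 1),1),(7,(.negSucc 0),1),(24,(.negSucc 0),2)] .nil .nil)))) (.node [] .nil (.node [] .nil (.node [] .nil (.node [(185,(.negSucc 0),1)] .nil .nil))))) (.node [] (.node [] (.node [] (.node [] .nil (.node [(29,(.ofNat 1),1)] .nil .nil)) .nil) .nil) (.node [] (.node [] (.node [] .nil (.node [(47,(.negSucc 0),1)] .nil .nil)) .nil) .nil))))))
noncomputable def ex17 : Trie (List (ℕ × ℤ × ℕ)) := (.node [(25,(.negSucc 0),1)] (.node [] (.node [] (.node [] (.node [] .nil (.node [] (.node [] (.node [] .nil (.node [(34,(.negSucc 0),1)] .nil .nil)) .nil) (.node [] .nil (.node [] .nil (.node [(173,(.negSucc 0),1)] .nil .nil))))) (.node [] (.node [] (.node [] .nil (.node [] .nil (.node [(93,(.ofNat 1),1)] .nil .nil))) (.node [] (.node [] .nil (.node [(61,(.negSucc 0),1)] .nil .nil)) (.node [(22,(.ofNat 1),1)] .nil (.node [(139,(.ofNat 1),1)] .nil .nil)))) (.node [] (.node [] .nil (.node [] .nil (.node [(108,(.ofNat 1),1)] .nil .nil))) .nil))) (.node [(25,(.negSucc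 0),1)] (.node [] (.node [] (.node [] (.node [] .nil (.node [(27,(.negSucc 0),1)] .nil .nil)) (.node [(9,(.negSucc 0),1)] .nil .nil)) (.node [] .nil (.node [] .nil (.node [(123,(.ofNat 1),1)] .nil .nil)))) (.node [] (.node [] (.node [] .nil (.node [(40,(.ofNat 1),1)] .nil .nil)) .nil) (.node [] .nil (.node [(23,(.negSucc 0),1)] .nil .nil)))) .nil)) (.node [(25,(.ofNat 1),1)] (.node [] (.node [] (.node [] (.node [] .nil (.node [] .nil (.node [(87,(.ofNat 1),1)] .nil .nil))) (.node [] (.node [] .nil (.node [(55,(.negSucc 0),1)] .nil .nil)) .nil)) (.node [] (.node [] (.node [] .nil (.node [(38,(.ofNat 1),1)] .nil .nil)) (.node [(15,(.ofNat 1),1)] .nil .nil)) (.node [] .nil (.node [] .nil (.node [(178,(.negSucc 0),1)] .nil .nil))))) .nil) (.node [] (.node [] (.node [] .nil (.node [] .nil (.node [] .nil (.node [(0,(.negSucc 0),1),(1,(.negSucc 1),1),(2,(.negSucc 2),1),(3,(.negSucc 3),1),(4,(.negSucc 2),1),(5,(.negSucc 2),1),(6,(.negSucc 1),1),(7,(.negSucc 0),1),(25,(.negSucc 0),2)] .nil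 .nil)))) (.node [] .nil (.node [] .nil (.node [] .nil (.node [(187,(.ofNat 1),1)] .nil .nil))))) (.node [] (.node [] (.node [] .nil (.node [] .nil (.node [(97,(.negSucc 0),1)] .nil .nil))) .nil) (.node [] (.node [] (.node [] .nil (.node [(49,(.ofNat 1),1)] .nil .nil)) .nil) .nil))))) (.node [] (.node [] (.node [] (.node [] (.node [] (.node [] .nil (.node [] .nil (.node [(86,(.negSucc 0),1)] .nil .nil))) (.node [] (.node [] .nil (.node [(54,(.ofNat 1),1)] .nil .nil)) (.node [] .nil (.node [(112,(.negSucc 0),1)] .nil .nil)))) .nil) (.node [] (.node [] (.node [] .nil (.node [(12,(.ofNat 1),1)] .nil (.node [(94,(.negSucc 0),1)] .nil .nil))) (.node [] (.node [] .nil (.node [(62,(.ofNat 1),1)] .nil .nil)) (.node [] .nil (.node [(151,(.negSucc 0),1)] .nil .nil)))) (.node [] (.node [] .nil (.node [] .nil (.node [(109,(.negSucc 0),1)] .nil .nil))) (.node [] .nil (.node [(24,(.ofNat 1),1)] .nil .nil))))) (.node [(25,(.ofNat 1),1)] (.node [] (.node [] (.node [] (.node [] .nil (.node [(28,(.ofNat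 1),1)] .nil .nil)) (.node [(10,(.negSucc 0),1)] .nil .nil)) (.node [] .nil (.node [] .nil (.node [(124,(.negSucc 0),1)] .nil .nil)))) (.node [] (.node [] .nil (.node [(18,(.ofNat 1),1)] .nil .nil)) (.node [] .nil (.node [] .nil (.node [(186,(.ofNat 1),1)] .nil .nil))))) (.node [] (.node [] (.node [] .nil (.node [(13,(.ofNat 1),1)] .nil (.node [(96,(.ofNat 1),1)] .nil .nil))) (.node [] .nil (.node [] .nil (.node [(170,(.negSucc 0),1)] .nil .nil)))) (.node [] (.node [] (.node [] .nil (.node [(48,(.negSucc 0),1)] .nil .nil)) (.node [] .nil (.node [(111,(.ofNat 1),1)] .nil .nil))) .nil)))) (.node [] (.node [] (.node [] (.node [] (.node [] (.node [] .nil (.node [(26,(.ofNat 1),1)] .nil .nil)) (.node [(8,(.negSucc 0),1)] .nil (.node [(88,(.negSucc 0),1)] .nil .nil))) (.node [] (.node [] .nil (.node [(56,(.ofNat 1),1)] .nil .nil)) (.node [] .nil (.node [(122,(.negSucc 0),1)] .nil .nil)))) (.node [] (.node [] (.node [] .nil (.node [(39,(.negSucc 0),1)] .nil .nil)) (.node [] .nil (.node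 [(100,(.negSucc 0),1)] .nil .nil))) (.node [] .nil (.node [] .nil (.node [(182,(.negSucc 0),1)] .nil .nil))))) (.node [] .nil (.node [] (.node [] (.node [] .nil (.node [(44,(.ofNat 1),1)] .nil .nil)) .nil) .nil))) (.node [] (.node [] (.node [] (.node [] .nil (.node [] .nil (.node [(92,(.negSucc 0),1)] .nil .nil))) (.node [] (.node [] .nil (.node [(60,(.ofNat 1),1)] .nil .nil)) (.node [] .nil (.node [(134,(.negSucc 0),1)] .nil .nil)))) (.node [] (.node [] .nil (.node [] .nil (.node [(107,(.negSucc 0),1)] .nil .nil))) (.node [] .nil (.node [] .nil (.node [(188,(.ofNat 1),1)] .nil .nil))))) (.node [] (.node [] (.node [] (.node [] .nil (.node [(30,(.ofNat 1),1)] .nil .nil)) (.node [] .nil (.node [(98,(.ofNat 1),1)] .nil .nil))) .nil) (.node [] (.node [] (.node [] .nil (.node [(50,(.negSucc 0),1)] .nil .nil)) .nil) .nil))))))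
noncomputable def ex18 : Trie (List (ℕ × ℤ × ℕ)) := (.node [(26,(.negSucc 0),1)] (.node [] (.node [] (.node [] (.node [] (.node [] (.node [] .nil (.node [] .nil (.node [(86,(.negSucc 0),1)] .nil .nil))) (.node [] (.node [] .nil (.node [(54,(.ofNat 1),1)] .nil .nil)) (.node [] .nil (.node [(112,(.negSucc 0),1)] .nil .nil)))) (.node [] (.node [] (.node [] .nil (.node [(35,(.negSucc 0),1)] .nil .nil)) .nil) (.node [] .nil (.node [] .nil (.node [(174,(.ofNat 1),1)] .nil .nil))))) (.node [] (.node [] (.node [] .nil (.node [(12,(.negSucc 0),1)] .nil .nil)) (.node [] .nil (.node [] .nil (.node [(140,(.negSucc 0),1)] .nil .nil)))) (.node [] .nil (.node [] .nil (.node [(24,(.negSucc 0),1)] .nil .nil))))) (.node [] (.node [] (.node [] .nil (.node [] .nil (.node [] .nil (.node [(126,(.negSucc 0),1)] .nil .nil)))) (.node [] (.node [] (.node [] .nil (.node [(42,(.ofNat 1),1)] .nil .nil)) .nil) (.node [] .nil (.node [] .nil (.node [(186,(.ofNat 1),1)] .nil .nil))))) (.node [] (.node [] (.node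 [] .nil (.node [(13,(.negSucc 0),1)] .nil (.node [(97,(.negSucc 0),1)] .nil .nil))) (.node [] .nil (.node [] .nil (.node [(170,(.negSucc 0),1)] .nil .nil)))) (.node [] (.node [] (.node [] .nil (.node [(48,(.negSucc 0),1)] .nil .nil)) (.node [] .nil (.node [(111,(.ofNat 1),1)] .nil .nil))) (.node [] .nil (.node [(25,(.ofNat 1),1)] .nil .nil)))))) (.node [(26,(.ofNat 1),1)] (.node [] (.node [] (.node [] (.node [] (.node [] .nil (.node [(28,(.negSucc 0),1)] .nil .nil)) (.node [(9,(.ofNat 1),1)] .nil (.node [(89,(.ofNat 1),1)] .nil .nil))) (.node [] (.node [] .nil (.node [(57,(.negSucc 0),1)] .nil .nil)) .nil)) (.node [] (.node [] .nil (.node [] .nil (.node [(100,(.negSucc 0),1)] .nil .nil))) (.node [] .nil (.node [] .nil (.node [(179,(.ofNat 1),1)] .nil .nil))))) (.node [] .nil (.node [] .nil .nil))) (.node [(26,(.ofNat 1),1)] (.node [] (.node [] (.node [] .nil (.node [] .nil (.node [(93,(.ofNat 1),1)] .nil .nil))) (.node [] (.node [] .nil (.node [(61,(.negSucc 0),1)] .nil .nil))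 (.node [] .nil (.node [(131,(.negSucc 0),1)] .nil .nil)))) (.node [] (.node [] .nil (.node [] .nil (.node [(108,(.ofNat 1),1)] .nil .nil))) (.node [] .nil (.node [] .nil (.node [(189,(.negSucc 0),1)] .nil .nil))))) (.node [] .nil (.node [] (.node [] (.node [] .nil (.node [(51,(.ofNat 1),1)] .nil .nil)) .nil) .nil))))) (.node [] (.node [] (.node [] (.node [] (.node [] (.node [] (.node [] .nil (.node [(27,(.ofNat 1),1)] .nil .nil)) (.node [(8,(.ofNat 1),1)] .nil .nil)) .nil) (.node [] (.node [] (.node [] .nil (.node [(38,(.ofNat 1),1)] .nil .nil)) (.node [(15,(.negSucc 0),1)] .nil .nil)) .nil)) (.node [] (.node [] (.node [] .nil (.node [] .nil (.node [(95,(.negSucc 0),1)] .nil .nil))) (.node [] (.node [] .nil (.node [(63,(.ofNat 1),1)] .nil .nil)) (.node [] .nil (.node [(152,(.ofNat 1),1)] .nil .nil)))) (.node [] (.node [] .nil (.node [] .nil (.node [(110,(.negSucc 0),1)] .nil .nil))) .nil))) (.node [(26,(.negSucc 0),1)] (.node [] (.node [] (.node [] .nil (.node [(11,(.negSucc 0),1)]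 .nil (.node [(92,(.negSucc 0),1)] .nil .nil))) (.node [] (.node [] .nil (.node [(60,(.ofNat 1),1)] .nil .nil)) (.node [] .nil (.node [(0,(.negSucc 0),1),(1,(.negSucc 1),1),(2,(.negSucc 2),1),(3,(.negSucc 3),1),(4,(.negSucc 2),1),(5,(.negSucc 1),1),(6,(.negSucc 1),1),(7,(.negSucc 0),1),(26,(.negSucc 0),2)] .nil .nil)))) (.node [] (.node [] .nil (.node [(19,(.ofNat 1),1)] .nil (.node [(107,(.negSucc 0),1)] .nil .nil))) .nil)) .nil)) (.node [] (.node [] (.node [] (.node [] (.node [] .nil (.node [] .nil (.node [(90,(.negSucc 0),1)] .nil .nil))) (.node [] (.node [] .nil (.node [(58,(.ofNat 1),1)] .nil .nil)) (.node [] .nil (.node [(125,(.ofNat 1),1)] .nil .nil)))) (.node [] (.node [] (.node [] .nil (.node [(41,(.negSucc 0),1)] .nil .nil)) .nil) (.node [] .nil (.node [(23,(.ofNat 1),1)] .nil (.node [(183,(.ofNat 1),1)] .nil .nil))))) (.node [] (.node [] (.node [] .nil (.node [] .nil (.node [(96,(.ofNat 1),1)] .nil .nil))) .nil) (.node [] (.node [] (.node [] .nil (.node [(45,(.ofNat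 1),1)] .nil .nil)) .nil) .nil))) (.node [] (.node [] (.node [] .nil (.node [] .nil (.node [(22,(.negSucc 0),1)] .nil (.node [(135,(.ofNat 1),1)] .nil .nil)))) (.node [] .nil (.node [] .nil (.node [] .nil (.node [(190,(.negSucc 0),1)] .nil .nil))))) (.node [] (.node [] (.node [] (.node [] .nil (.node [(31,(.ofNat 1),1)] .nil .nil)) (.node [] .nil (.node [(99,(.ofNat 1),1)] .nil .nil))) .nil) (.node [] (.node [] (.node [] .nil (.node [(52,(.negSucc 0),1)] .nil .nil)) .nil) .nil))))))
noncomputable def ex19 : Trie (List (ℕ × ℤ × ℕ)) := (.node [(27,(.negSucc 0),1)] (.node [] (.node [] (.node [] (.node [] (.node [] (.node [] (.node [] .nil (.node [(28,(.ofNat 1),1)] .nil .nil)) (.node [(8,(.negSucc 0),1)] .nil (.node [(87,(.negSucc 0),1)] .nil .nil))) (.node [] (.node [] .nil (.node [(55,(.ofNat 1),1)] .nil .nil)) .nil)) (.node [] (.node [] (.node [] .nil (.node [(36,(.negSucc 0),1)] .nil .nil)) (.node [(15,(.ofNat 1),1)] .nil .nil)) (.node [] .nil (.node [] .nil (.node [(175,(.negSucc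 0),1)] .nil .nil))))) (.node [] (.node [] (.node [] .nil (.node [] .nil (.node [(95,(.negSucc 0),1)] .nil .nil))) (.node [] (.node [] .nil (.node [(63,(.ofNat 1),1)] .nil .nil)) (.node [] .nil (.node [(141,(.ofNat 1),1)] .nil .nil)))) (.node [] (.node [] .nil (.node [] .nil (.node [(110,(.negSucc 0),1)] .nil .nil))) .nil))) (.node [] (.node [] (.node [] (.node [] .nil (.node [(11,(.ofNat 1),1)] .nil (.node [(92,(.negSucc 0),1)] .nil .nil))) (.node [] (.node [] .nil (.node [(60,(.ofNat 1),1)] .nil .nil)) (.node [] .nil (.node [(0,(.negSucc 0),1),(1,(.negSucc 1),1),(2,(.negSucc 2),1),(3,(.negSucc 3),1),(4,(.negSucc 2),1),(5,(.negSucc 1),1),(6,(.negSucc 0),1),(7,(.negSucc 0),1),(27,(.negSucc 0),2)] .nil .nil)))) (.node [] (.node [] (.node [] .nil (.node [(43,(.ofNat 1),1)] .nil .nil)) (.node [] .nil (.node [(107,(.negSucc 0),1)] .nil .nil))) (.node [] .nil (.node [] .nil (.node [(187,(.negSucc 0),1)] .nil .nil))))) (.node [] (.node [] (.node [] .nil (.node [] .nil (.node [(98,(.negSucc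 0),1)] .nil .nil))) .nil) (.node [] (.node [] (.node [] .nil (.node [(49,(.negSucc 0),1)] .nil .nil)) .nil) .nil)))) (.node [(27,(.ofNat 1),1)] (.node [] (.node [] (.node [] (.node [] .nil (.node [(10,(.ofNat 1),1)] .nil .nil)) .nil) (.node [] (.node [] (.node [] .nil (.node [(41,(.negSucc 0),1)] .nil .nil)) .nil) (.node [] .nil (.node [(23,(.negSucc 0),1)] .nil (.node [(180,(.negSucc 0),1)] .nil .nil))))) (.node [] (.node [] (.node [] .nil (.node [] .nil (.node [(96,(.ofNat 1),1)] .nil .nil))) .nil) .nil)) (.node [(27,(.negSucc 0),1)] (.node [] (.node [] (.node [] .nil (.node [] .nil (.node [(94,(.ofNat 1),1)] .nil .nil))) (.node [] (.node [] .nil (.node [(62,(.negSucc 0),1)] .nil .nil)) (.node [(22,(.ofNat 1),1)] .nil (.node [(132,(.ofNat 1),1)] .nil .nil)))) (.node [] (.node [] .nil (.node [] .nil (.node [(109,(.ofNat 1),1)] .nil .nil))) .nil)) (.node [] (.node [] (.node [] .nil (.node [] .nil (.node [(99,(.ofNat 1),1)] .nil .nil))) .nil) (.node [] .nil (.node [] .nil (.node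 [(26,(.ofNat 1),1)] .nil .nil))))))) (.node [] (.node [] (.node [] (.node [] (.node [] (.node [] .nil (.node [] .nil (.node [(89,(.ofNat 1),1)] .nil .nil))) (.node [] (.node [] .nil (.node [(57,(.negSucc 0),1)] .nil .nil)) .nil)) (.node [] (.node [] (.node [] .nil (.node [(39,(.ofNat 1),1)] .nil .nil)) (.node [] .nil (.node [(100,(.negSucc 0),1)] .nil .nil))) .nil)) (.node [] (.node [] .nil (.node [] .nil (.node [] .nil (.node [(153,(.negSucc 0),1)] .nil .nil)))) .nil)) (.node [] (.node [] (.node [] .nil (.node [] .nil (.node [] .nil (.node [(129,(.negSucc 0),1)] .nil .nil)))) (.node [] (.node [] .nil (.node [(20,(.ofNat 1),1)] .nil .nil)) (.node [] .nil (.node [] .nil (.node [(189,(.negSucc 0),1)] .nil .nil))))) (.node [] .nil (.node [] (.node [] (.node [] .nil (.node [(51,(.ofNat 1),1)] .nil .nil)) .nil) .nil)))) (.node [] (.node [] (.node [] (.node [] (.node [] .nil (.node [] .nil (.node [(91,(.negSucc 0),1)] .nil .nil))) (.node [] (.node [] .nil (.node [(59,(.ofNat 1),1)]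 .nil .nil)) (.node [] .nil (.node [(127,(.negSucc 0),1)] .nil .nil)))) (.node [] .nil (.node [] .nil (.node [] .nil (.node [(184,(.negSucc 0),1)] .nil .nil))))) (.node [] (.node [] (.node [] .nil (.node [(13,(.ofNat 1),1)] .nil .nil)) (.node [] .nil (.node [] .nil (.node [(170,(.negSucc 0),1)] .nil .nil)))) (.node [] (.node [] (.node [] .nil (.node [(46,(.ofNat 1),1)] .nil .nil)) (.node [] .nil (.node [(111,(.ofNat 1),1)] .nil .nil))) (.node [] .nil (.node [(25,(.negSucc 0),1)] .nil .nil))))) (.node [(27,(.ofNat 1),1)] (.node [] (.node [] (.node [] .nil (.node [(12,(.ofNat 1),1)] .nil .nil)) (.node [] .nil (.node [] .nil (.node [(136,(.negSucc 0),1)] .nil .nil)))) (.node [] .nil (.node [] .nil (.node [(24,(.ofNat 1),1)] .nil (.node [(191,(.ofNat 1),1)] .nil .nil))))) (.node [] (.node [] (.node [] (.node [] .nil (.node [(32,(.ofNat 1),1)] .nil .nil)) .nil) .nil) (.node [] (.node [] (.node [] .nil (.node [(53,(.negSucc 0),1)] .nil .nil)) (.node [] .nil (.node [(112,(.negSucc 0),1)]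 .nil .nil))) .nil))))))
noncomputable def ex20 : Trie (List (ℕ × ℤ × ℕ)) := (.node [(28,(.negSucc 0),1)] (.node [] (.node [] (.node [] (.node [] (.node [] (.node [] .nil (.node [(9,(.negSucc 0),1)] .nil (.node [(88,(.negSucc 0),1)] .nil .nil))) (.node [] (.node [] .nil (.node [(56,(.ofNat 1),1)] .nil .nil)) .nil)) (.node [] (.node [] (.node [] .nil (.node [(37,(.negSucc 0),1)] .nil .nil)) (.node [] .nil (.node [(100,(.negSucc 0),1)] .nil .nil))) (.node [] .nil (.node [] .nil (.node [(176,(.ofNat 1),1)] .nil .nil))))) (.node [] (.node [] .nil (.node [] .nil (.node [] .nil (.node [(142,(.negSucc 0),1)] .nil .nil)))) .nil)) (.node [] (.node [] (.node [] (.node [] .nil (.node [] .nil (.node [(93,(.negSucc 0),1)] .nil .nil))) (.node [] (.node [] .nil (.node [(61,(.ofNat 1),1)] .nil .nil)) (.node [] .nil (.node [(128,(.negSucc 0),1)] .nil .nil)))) (.node [] (.node [] .nil (.node [] .nil (.node [(108,(.negSucc 0),1)] .nil .nil))) (.node [] .nil (.node [] .nil (.node [(188,(.ofNat 1),1)]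 .nil .nil))))) (.node [] .nil (.node [] (.node [] (.node [] .nil (.node [(50,(.negSucc 0),1)] .nil .nil)) .nil) .nil)))) (.node [(28,(.ofNat 1),1)] (.node [] (.node [] (.node [] (.node [] .nil (.node [] .nil (.node [(91,(.negSucc 0),1)] .nil .nil))) (.node [] (.node [] .nil (.node [(59,(.ofNat 1),1)] .nil .nil)) .nil)) (.node [] (.node [] (.node [] .nil (.node [(42,(.negSucc 0),1)] .nil .nil)) .nil) (.node [] .nil (.node [] .nil (.node [(181,(.ofNat 1),1)] .nil .nil))))) (.node [] (.node [] (.node [] .nil (.node [(13,(.negSucc 0),1)] .nil (.node [(97,(.ofNat 1),1)] .nil .nil))) (.node [] .nil (.node [] .nil (.node [(170,(.negSucc 0),1)] .nil .nil)))) (.node [] (.node [] .nil (.node [] .nil (.node [(111,(.ofNat 1),1)] .nil .nil))) (.node [] .nil (.node [(25,(.ofNat 1),1)] .nil .nil))))) (.node [] (.node [] (.node [] (.node [] .nil (.node [(12,(.negSucc 0),1)] .nil .nil)) (.node [] .nil (.node [] .nil (.node [(133,(.negSucc 0),1)] .nil .nil)))) (.node [] .nil (.node [] .nil (.node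 [(24,(.negSucc 0),1)] .nil (.node [(191,(.ofNat 1),1)] .nil .nil))))) (.node [] .nil (.node [] (.node [] (.node [] .nil (.node [(53,(.negSucc 0),1)] .nil .nil)) (.node [] .nil (.node [(112,(.negSucc 0),1)] .nil .nil))) .nil))))) (.node [] (.node [] (.node [] (.node [] (.node [] (.node [] .nil (.node [(10,(.negSucc 0),1)] .nil (.node [(90,(.ofNat 1),1)] .nil .nil))) (.node [] (.node [] .nil (.node [(58,(.negSucc 0),1)] .nil .nil)) .nil)) (.node [] (.node [] (.node [] .nil (.node [(40,(.ofNat 1),1)] .nil .nil)) .nil) (.node [] .nil (.node [(23,(.ofNat 1),1)] .nil .nil)))) (.node [] (.node [] .nil (.node [] .nil (.node [] .nil (.node [(154,(.ofNat 1),1)] .nil .nil)))) .nil)) (.node [] (.node [] (.node [] (.node [] .nil (.node [] .nil (.node [(94,(.ofNat 1),1)] .nil .nil))) (.node [] (.node [] .nil (.node [(62,(.negSucc 0),1)] .nil .nil)) (.node [(22,(.negSucc 0),1)] .nil (.node [(130,(.ofNat 1),1)] .nil .nil)))) (.node [] (.node [] .nil (.node [(21,(.ofNat 1),1)] .nil (.node [(109,(.ofNat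 1),1)] .nil .nil))) (.node [] .nil (.node [] .nil (.node [(190,(.ofNat 1),1)] .nil .nil))))) (.node [] (.node [] (.node [] .nil (.node [] .nil (.node [(99,(.ofNat 1),1)] .nil .nil))) .nil) (.node [] (.node [] (.node [] .nil (.node [(52,(.ofNat 1),1)] .nil .nil)) .nil) (.node [] .nil (.node [(26,(.negSucc 0),1)] .nil .nil)))))) (.node [] (.node [] (.node [] (.node [] (.node [] .nil (.node [(11,(.negSucc 0),1)] .nil .nil)) (.node [] .nil (.node [] .nil (.node [(0,(.negSucc 0),1),(1,(.negSucc 1),1),(2,(.negSucc 2),1),(3,(.negSucc 3),1),(4,(.negSucc 2),1),(5,(.negSucc 1),1),(6,(.negSucc 0),1),(28,(.negSucc 0),2)] .nil .nil)))) (.node [] (.node [] (.node [] .nil (.node [(43,(.ofNat 1),1)] .nil .nil)) .nil) (.node [] .nil (.node [] .nil (.node [(185,(.ofNat 1),1)] .nil .nil))))) (.node [] (.node [] (.node [] .nil (.node [] .nil (.node [(98,(.negSucc 0),1)] .nil .nil))) .nil) (.node [] (.node [] (.node [] .nil (.node [(47,(.ofNat 1),1)] .nil .nil)) .nil) .nil))) (.node [(28,(.negSucc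 0),1)] (.node [] (.node [] (.node [] .nil (.node [] .nil (.node [(95,(.negSucc 0),1)] .nil .nil))) (.node [] (.node [] .nil (.node [(63,(.ofNat 1),1)] .nil .nil)) (.node [] .nil (.node [(137,(.ofNat 1),1)] .nil .nil)))) (.node [] (.node [] .nil (.node [] .nil (.node [(110,(.negSucc 0),1)] .nil .nil))) .nil)) (.node [] (.node [] (.node [] (.node [] .nil (.node [(33,(.ofNat 1),1)] .nil .nil)) (.node [(15,(.negSucc 0),1)] .nil .nil)) .nil) (.node [] .nil (.node [] .nil (.node [(27,(.ofNat 1),1)] .nil .nil))))))))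
noncomputable def ex21 : Trie (List (ℕ × ℤ × ℕ)) := (.node [] (.node [] (.node [] (.node [] (.node [] (.node [] .nil (.node [] .nil (.node [] .nil (.node [(120,(.ofNat 1),1)] .nil .nil)))) (.node [] (.node [] .nil (.node [] .nil (.node [(101,(.ofNat 1),1)] .nil .nil))) (.node [] .nil (.node [(24,(.ofNat 1),1)] .nil .nil)))) (.node [] (.node [] (.node [] (.node [] .nil (.node [(32,(.ofNat 1),1)] .nil .nil)) .nil) (.node [] (.node [] .nil (.node [(68,(.negSucc 0),1)] .nil .nil)) (.node [] .nil (.node [(144,(.negSucc 0),1)] .nil .nil)))) (.node [] (.node [] (.node [] .nil (.node [(45,(.negSucc 0),1)] .nil .nil)) .nil) .nil))) (.node [(29,(.ofNat 1),1)] (.node [] (.node [] .nil (.node [] (.node [] .nil (.node [(64,(.ofNat 1),1)] .nil .nil)) (.node [(22,(.ofNat 1),1)] .nil .nil))) (.node [] (.node [] .nil (.node [(17,(.negSucc 0),1)] .nil .nil)) (.node [] .nil (.node [] .nil (.node [(192,(.ofNat 1),1)] .nil .nil))))) (.node [] (.node [] (.node [] (.node [] .nil (.node [(35,(.negSucc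 0),1)] .nil .nil)) .nil) .nil) (.node [] (.node [] .nil (.node [] .nil (.node [(115,(.ofNat 1),1)] .nil .nil))) (.node [(8,(.negSucc 0),1)] (.node [] .nil (.node [(88,(.negSucc 0),1)] .nil .nil)) .nil))))) (.node [(29,(.negSucc 0),1)] (.node [] (.node [] (.node [] .nil (.node [] .nil (.node [] .nil (.node [(0,(.negSucc 0),1),(1,(.negSucc 1),1),(2,(.negSucc 1),1),(3,(.negSucc 3),1),(4,(.negSucc 3),1),(5,(.negSucc 2),1),(6,(.negSucc 1),1),(7,(.negSucc 0),1),(29,(.negSucc 0),2)] .nil .nil)))) (.node [] (.node [] .nil (.node [] .nil (.node [(103,(.ofNat 1),1)] .nil .nil))) .nil)) (.node [] .nil (.node [] (.node [] (.node [] .nil (.node [(47,(.negSucc 0),1)] .nil .nil)) (.node [] .nil (.node [(113,(.ofNat 1),1)] .nil .nil))) (.node [] (.node [] .nil (.node [(86,(.negSucc 0),1)] .nil .nil)) .nil)))) (.node [] (.node [] (.node [] (.node [] (.node [] .nil (.node [(30,(.ofNat 1),1)] .nil .nil)) .nil) (.node [] (.node [] .nil (.node [(66,(.ofNat 1),1)] .nil .nil)) .nil)) (.node [] .nil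 (.node [] .nil (.node [] .nil (.node [(194,(.ofNat 1),1)] .nil .nil))))) (.node [] (.node [] (.node [] (.node [] .nil (.node [(37,(.negSucc 0),1)] .nil .nil)) (.node [(14,(.negSucc 0),1)] .nil .nil)) (.node [] .nil (.node [] .nil (.node [(171,(.ofNat 1),1)] .nil .nil)))) (.node [] (.node [] .nil (.node [] .nil (.node [(118,(.ofNat 1),1)] .nil .nil))) (.node [(10,(.negSucc 0),1)] (.node [] .nil (.node [(90,(.ofNat 1),1)] .nil .nil)) .nil)))))) (.node [] (.node [] (.node [] (.node [] (.node [] .nil (.node [] .nil (.node [] .nil (.node [(121,(.negSucc 0),1)] .nil .nil)))) (.node [] (.node [] .nil (.node [] .nil (.node [(102,(.negSucc 0),1)] .nil .nil))) (.node [] .nil (.node [] .nil (.node [(177,(.ofNat 1),1)] .nil .nil))))) (.node [] (.node [] (.node [] (.node [] .nil (.node [(33,(.negSucc 0),1)] .nil .nil)) .nil) (.node [] (.node [] .nil (.node [(69,(.ofNat 1),1)] .nil .nil)) (.node [] .nil (.node [(155,(.negSucc 0),1)] .nil .nil)))) (.node [] (.node [] (.node [] .nil (.node [(46,(.ofNat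 1),1)] .nil .nil)) .nil) .nil))) (.node [] (.node [] (.node [] .nil (.node [] (.node [] .nil (.node [(65,(.negSucc 0),1)] .nil .nil)) .nil)) (.node [] .nil (.node [] .nil (.node [] .nil (.node [(193,(.ofNat 1),1)] .nil .nil))))) (.node [] (.node [] (.node [] (.node [] .nil (.node [(36,(.ofNat 1),1)] .nil .nil)) .nil) .nil) (.node [] (.node [] .nil (.node [] .nil (.node [(116,(.negSucc 0),1)] .nil .nil))) (.node [(9,(.negSucc 0),1)] (.node [] .nil (.node [(89,(.negSucc 0),1)] .nil .nil)) .nil))))) (.node [] (.node [] (.node [] .nil (.node [] (.node [] .nil (.node [(16,(.negSucc 0),1)] .nil (.node [(104,(.negSucc 0),1)] .nil .nil))) .nil)) (.node [] (.node [] (.node [] (.node [] .nil (.node [(34,(.ofNat 1),1)] .nil .nil)) .nil) .nil) (.node [] (.node [] .nil (.node [] .nil (.node [(114,(.negSucc 0),1)] .nil .nil))) (.node [] (.node [] .nil (.node [(87,(.ofNat 1),1)] .nil .nil)) .nil)))) (.node [] (.node [] (.node [] (.node [] (.node [] .nil (.node [(31,(.negSucc 0),1)] .nil .nil))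 .nil) (.node [] (.node [] .nil (.node [(67,(.ofNat 1),1)] .nil .nil)) (.node [] .nil (.node [(143,(.negSucc 0),1)] .nil .nil)))) (.node [] (.node [] (.node [] .nil (.node [(44,(.ofNat 1),1)] .nil .nil)) .nil) (.node [] .nil (.node [] .nil (.node [(195,(.ofNat 1),1)] .nil .nil))))) (.node [] (.node [] .nil (.node [] .nil (.node [(23,(.ofNat 1),1)] .nil (.node [(172,(.ofNat 1),1)] .nil .nil)))) (.node [] (.node [] .nil (.node [] .nil (.node [(119,(.negSucc 0),1)] .nil .nil))) (.node [(11,(.negSucc 0),1)] (.node [] .nil (.node [(91,(.negSucc 0),1)] .nil .nil)) .nil)))))))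
noncomputable def ex22 : Trie (List (ℕ × ℤ × ℕ)) := (.node [] (.node [] (.node [] (.node [] (.node [] (.node [] .nil (.node [] .nil (.node [] .nil (.node [(124,(.negSucc 0),1)] .nil .nil)))) (.node [] .nil (.node [] .nil (.node [(25,(.ofNat 1),1)] .nil .nil)))) (.node [] (.node [] .nil (.node [] (.node [] .nil (.node [(71,(.negSucc 0),1)] .nil .nil)) (.node [] .nil (.node [(145,(.ofNat 1),1)] .nil .nil)))) (.node [] (.node [] (.node [] .nil (.node [(48,(.negSucc 0),1)] .nil .nil)) (.node [] .nil (.node [(114,(.negSucc 0),1)] .nil .nil))) (.node [] (.node [] .nil (.node [(87,(.ofNat 1),1)] .nil .nil)) .nil)))) (.node [(30,(.negSucc 0),1)] (.node [] (.node [] (.node [] (.node [] .nil (.node [(32,(.negSucc 0),1)] .nil .nil)) .nil) .nil) (.node [] (.node [] .nil (.node [(18,(.negSucc 0),1)] .nil .nil)) .nil)) (.node [] (.node [] (.node [] (.node [] .nil (.node [(38,(.negSucc 0),1)] .nil .nil)) .nil) .nil) .nil))) (.node [(30,(.negSucc 0),1)] (.node [] (.node [] (.node [] .nil (.node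 [] (.node [] .nil (.node [(65,(.negSucc 0),1)] .nil .nil)) (.node [] .nil (.node [(134,(.negSucc 0),1)] .nil .nil)))) (.node [] (.node [] .nil (.node [(16,(.ofNat 1),1)] .nil .nil)) .nil)) (.node [] (.node [] (.node [] (.node [] .nil (.node [(34,(.ofNat 1),1)] .nil .nil)) .nil) .nil) (.node [] (.node [] (.node [] .nil (.node [(50,(.negSucc 0),1)] .nil .nil)) .nil) (.node [(9,(.ofNat 1),1)] .nil .nil)))) (.node [] (.node [] (.node [] .nil (.node [] .nil (.node [] .nil (.node [(143,(.negSucc 0),1)] .nil .nil)))) (.node [] (.node [] (.node [] .nil (.node [(44,(.ofNat 1),1)] .nil .nil)) .nil) (.node [] .nil (.node [] .nil (.node [(197,(.negSucc 0),1)] .nil .nil))))) (.node [] (.node [] (.node [] (.node [] .nil (.node [(40,(.negSucc 0),1)] .nil .nil)) (.node [] .nil (.node [(102,(.negSucc 0),1)] .nil .nil))) (.node [] .nil (.node [(23,(.negSucc 0),1)] .nil .nil))) (.node [] (.node [] .nil (.node [] .nil (.node [(122,(.negSucc 0),1)] .nil .nil))) (.node [] (.node [] .nil (.node [(93,(.ofNat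 1),1)] .nil .nil)) .nil)))))) (.node [] (.node [] (.node [] (.node [] (.node [] .nil (.node [] (.node [] .nil (.node [(64,(.ofNat 1),1)] .nil .nil)) (.node [] .nil (.node [(0,(.negSucc 0),1),(1,(.negSucc 1),1),(2,(.negSucc 1),1),(3,(.negSucc 3),1),(4,(.negSucc 2),1),(5,(.negSucc 2),1),(6,(.negSucc 1),1),(7,(.negSucc 0),1),(30,(.negSucc 0),2)] .nil .nil)))) (.node [] .nil (.node [] .nil (.node [] .nil (.node [(178,(.negSucc 0),1)] .nil .nil))))) (.node [] (.node [] .nil (.node [] (.node [] .nil (.node [(72,(.ofNat 1),1)] .nil .nil)) (.node [] .nil (.node [(156,(.ofNat 1),1)] .nil .nil)))) (.node [] (.node [] (.node [] .nil (.node [(49,(.ofNat 1),1)] .nil .nil)) (.node [] .nil (.node [(115,(.ofNat 1),1)] .nil .nil))) (.node [(8,(.ofNat 1),1)] (.node [] .nil (.node [(88,(.negSucc 0),1)] .nil .nil)) (.node [(29,(.ofNat 1),1)] .nil .nil))))) (.node [(30,(.ofNat 1),1)] (.node [] (.node [] (.node [] (.node [] .nil (.node [(33,(.ofNat 1),1)] .nil .nil)) .nil) .nil) (.node [] .nil (.node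 [] .nil (.node [] .nil (.node [(196,(.negSucc 0),1)] .nil .nil))))) (.node [] (.node [] (.node [] (.node [] .nil (.node [(39,(.ofNat 1),1)] .nil .nil)) (.node [(14,(.ofNat 1),1)] .nil (.node [(101,(.ofNat 1),1)] .nil .nil))) (.node [] .nil (.node [] .nil (.node [(171,(.ofNat 1),1)] .nil .nil)))) (.node [] (.node [] .nil (.node [] .nil (.node [(117,(.negSucc 0),1)] .nil .nil))) (.node [] (.node [] .nil (.node [(92,(.negSucc 0),1)] .nil .nil)) .nil))))) (.node [(30,(.ofNat 1),1)] (.node [] (.node [] (.node [] (.node [] (.node [] .nil (.node [(31,(.ofNat 1),1)] .nil .nil)) .nil) (.node [] (.node [] .nil (.node [(66,(.ofNat 1),1)] .nil .nil)) (.node [(22,(.negSucc 0),1)] .nil .nil))) (.node [] (.node [] .nil (.node [] .nil (.node [(105,(.negSucc 0),1)] .nil .nil))) (.node [] .nil (.node [] .nil (.node [(192,(.ofNat 1),1)] .nil .nil))))) (.node [] .nil (.node [] .nil (.node [(10,(.ofNat 1),1)] .nil .nil)))) (.node [] (.node [] (.node [] .nil (.node [] (.node [] .nil (.node [(70,(.ofNat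 1),1)] .nil .nil)) .nil)) (.node [] (.node [] .nil (.node [] .nil (.node [(113,(.ofNat 1),1)] .nil .nil))) (.node [] (.node [] .nil (.node [(86,(.negSucc 0),1)] .nil .nil)) (.node [] .nil (.node [(198,(.negSucc 0),1)] .nil .nil))))) (.node [] (.node [] (.node [] .nil (.node [] .nil (.node [(103,(.ofNat 1),1)] .nil .nil))) (.node [] .nil (.node [] .nil (.node [(173,(.negSucc 0),1)] .nil .nil)))) (.node [] (.node [] .nil (.node [] .nil (.node [(123,(.ofNat 1),1)] .nil .nil))) (.node [(12,(.negSucc 0),1)] (.node [] .nil (.node [(94,(.negSucc 0),1)] .nil .nil)) .nil)))))))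
noncomputable def ex23 : Trie (List (ℕ × ℤ × ℕ)) := (.node [] (.node [] (.node [] (.node [] (.node [] (.node [] .nil (.node [] (.node [] .nil (.node [(64,(.ofNat 1),1)] .nil .nil)) (.node [] .nil (.node [(0,(.negSucc 0),1),(1,(.negSucc 1),1),(2,(.negSucc 1),1),(3,(.negSucc 3),1),(4,(.negSucc 2),1),(5,(.negSucc 1),1),(6,(.negSucc 1),1),(7,(.negSucc 0),1),(31,(.negSucc 0),2)] .nil .nil)))) (.node [] .nil (.node [] .nil (.node [(26,(.ofNat 1),1)] .nil .nil)))) (.node [] (.node [] .nil (.node [] .nil (.node [] .nil (.node [(146,(.negSucc 0),1)] .nil .nil)))) (.node [] .nil (.node [(9,(.negSucc 0),1)] (.node [] .nil (.node [(89,(.ofNat 1),1)] .nil .nil)) (.node [(29,(.negSucc 0),1)] .nil .nil))))) (.node [] (.node [] .nil (.node [] (.node [] .nil (.node [(19,(.negSucc 0),1)] .nil .nil)) (.node [] .nil (.node [] .nil (.node [(196,(.negSucc 0),1)] .nil .nil))))) (.node [] (.node [] (.node [] .nil (.node [(14,(.negSucc 0),1)] .nil (.node [(102,(.negSucc 0),1)] .nil .nil))) (.node [] .nil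 (.node [] .nil (.node [(171,(.ofNat 1),1)] .nil .nil)))) (.node [] (.node [] .nil (.node [] .nil (.node [(117,(.negSucc 0),1)] .nil .nil))) (.node [] (.node [] .nil (.node [(93,(.ofNat 1),1)] .nil .nil)) (.node [(30,(.ofNat 1),1)] .nil .nil)))))) (.node [(31,(.negSucc 0),1)] (.node [] (.node [] (.node [] (.node [] (.node [] .nil (.node [(33,(.negSucc 0),1)] .nil .nil)) .nil) (.node [] (.node [] .nil (.node [(67,(.negSucc 0),1)] .nil .nil)) (.node [(22,(.ofNat 1),1)] .nil (.node [(135,(.ofNat 1),1)] .nil .nil)))) (.node [] (.node [] .nil (.node [] .nil (.node [(105,(.negSucc 0),1)] .nil .nil))) .nil)) (.node [] (.node [] (.node [] (.node [] .nil (.node [(35,(.ofNat 1),1)] .nil .nil)) .nil) .nil) (.node [] (.node [] (.node [] .nil (.node [(52,(.negSucc 0),1)] .nil .nil)) .nil) .nil))) (.node [(31,(.ofNat 1),1)] (.node [] (.node [] .nil (.node [] (.node [] .nil (.node [(71,(.negSucc 0),1)] .nil .nil)) .nil)) (.node [] (.node [] (.node [] .nil (.node [(45,(.ofNat 1),1)] .nil .nil))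 (.node [] .nil (.node [(114,(.negSucc 0),1)] .nil .nil))) (.node [] (.node [] .nil (.node [(86,(.negSucc 0),1)] .nil .nil)) (.node [] .nil (.node [(199,(.ofNat 1),1)] .nil .nil))))) (.node [] (.node [] (.node [] (.node [] .nil (.node [(42,(.negSucc 0),1)] .nil .nil)) .nil) .nil) (.node [] (.node [] .nil (.node [] .nil (.node [(125,(.ofNat 1),1)] .nil .nil))) (.node [(12,(.ofNat 1),1)] .nil .nil)))))) (.node [] (.node [] (.node [] (.node [] (.node [] (.node [] (.node [] .nil (.node [(32,(.ofNat 1),1)] .nil .nil)) .nil) (.node [] .nil (.node [] .nil (.node [(131,(.negSucc 0),1)] .nil .nil)))) (.node [] (.node [] .nil (.node [(16,(.negSucc 0),1)] .nil .nil)) (.node [] .nil (.node [] .nil (.node [(179,(.ofNat 1),1)] .nil .nil))))) (.node [] (.node [] .nil (.node [] (.node [] .nil (.node [(73,(.ofNat 1),1)] .nil .nil)) (.node [] .nil (.node [(157,(.negSucc 0),1)] .nil .nil)))) (.node [] (.node [] (.node [] .nil (.node [(51,(.ofNat 1),1)] .nil .nil)) (.node [] .nil (.node [(116,(.ofNat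 1),1)] .nil .nil))) (.node [] (.node [] .nil (.node [(90,(.negSucc 0),1)] .nil .nil)) .nil)))) (.node [(31,(.negSucc 0),1)] (.node [] (.node [] .nil (.node [] (.node [] .nil (.node [(70,(.ofNat 1),1)] .nil .nil)) (.node [] .nil (.node [(143,(.negSucc 0),1)] .nil .nil)))) (.node [] (.node [] .nil (.node [] .nil (.node [(113,(.ofNat 1),1)] .nil .nil))) .nil)) (.node [] (.node [] (.node [] (.node [] .nil (.node [(41,(.ofNat 1),1)] .nil .nil)) .nil) (.node [] .nil (.node [(23,(.ofNat 1),1)] .nil .nil))) .nil))) (.node [(31,(.ofNat 1),1)] (.node [] (.node [] (.node [] .nil (.node [] (.node [] .nil (.node [(68,(.ofNat 1),1)] .nil .nil)) .nil)) (.node [] .nil (.node [] .nil (.node [] .nil (.node [(193,(.negSucc 0),1)] .nil .nil))))) (.node [] (.node [] (.node [] (.node [] .nil (.node [(38,(.negSucc 0),1)] .nil .nil)) (.node [] .nil (.node [(101,(.ofNat 1),1)] .nil .nil))) .nil) (.node [] .nil (.node [(11,(.ofNat 1),1)] (.node [] .nil (.node [(92,(.negSucc 0),1)] .nil .nil)) .nil))))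 (.node [] (.node [] .nil (.node [] (.node [] (.node [] .nil (.node [(48,(.negSucc 0),1)] .nil .nil)) .nil) (.node [(8,(.negSucc 0),1)] .nil (.node [] .nil (.node [(200,(.ofNat 1),1)] .nil .nil))))) (.node [] (.node [] (.node [] .nil (.node [] .nil (.node [(104,(.ofNat 1),1)] .nil .nil))) (.node [] .nil (.node [] .nil (.node [(174,(.ofNat 1),1)] .nil .nil)))) (.node [] (.node [] .nil (.node [] .nil (.node [(126,(.negSucc 0),1)] .nil .nil))) (.node [] (.node [] .nil (.node [(95,(.negSucc 0),1)] .nil .nil)) .nil)))))))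
noncomputable def ex24 : Trie (List (ℕ × ℤ × ℕ)) := (.node [] (.node [] (.node [] (.node [] (.node [] (.node [] (.node [] (.node [] .nil (.node [(33,(.ofNat 1),1)] .nil .nil)) .nil) (.node [] (.node [] .nil (.node [(65,(.ofNat 1),1)] .nil .nil)) (.node [] .nil (.node [(129,(.negSucc 0),1)] .nil .nil)))) (.node [] (.node [] .nil (.node [(16,(.ofNat 1),1)] .nil .nil)) (.node [] .nil (.node [(27,(.ofNat 1),1)] .nil .nil)))) (.node [] (.node [] .nil (.node [] (.node [] .nil (.node [(73,(.ofNat 1),1)] .nil .nil)) (.node [] .nil (.node [(147,(.ofNat 1),1)] .nil .nil)))) (.node [] (.node [] (.node [] .nil (.node [(51,(.ofNat 1),1)] .nil .nil)) (.node [] .nil (.node [(116,(.ofNat 1),1)] .nil .nil))) (.node [(10,(.negSucc 0),1)] .nil .nil)))) (.node [] (.node [] (.node [] .nil (.node [] (.node [] .nil (.node [(70,(.ofNat 1),1)] .nil .nil)) (.node [] .nil (.node [(143,(.negSucc 0),1)] .nil .nil)))) (.node [] (.node [] .nil (.node [(20,(.negSucc 0),1)] .nil (.node [(113,(.ofNat 1),1)] .nil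 .nil))) (.node [] .nil (.node [] .nil (.node [(197,(.ofNat 1),1)] .nil .nil))))) (.node [] (.node [] (.node [] (.node [] .nil (.node [(41,(.ofNat 1),1)] .nil .nil)) (.node [] .nil (.node [(103,(.negSucc 0),1)] .nil .nil))) (.node [] .nil (.node [(23,(.negSucc 0),1)] .nil .nil))) (.node [] .nil (.node [] (.node [] .nil (.node [(94,(.ofNat 1),1)] .nil .nil)) .nil))))) (.node [(32,(.negSucc 0),1)] (.node [] (.node [] (.node [] .nil (.node [] .nil (.node [] .nil (.node [(136,(.negSucc 0),1)] .nil .nil)))) .nil) (.node [] (.node [] (.node [] (.node [] .nil (.node [(36,(.ofNat 1),1)] .nil .nil)) (.node [] .nil (.node [(101,(.ofNat 1),1)] .nil .nil))) .nil) (.node [] (.node [] (.node [] .nil (.node [(53,(.negSucc 0),1)] .nil .nil)) .nil) (.node [(11,(.negSucc 0),1)] (.node [] .nil (.node [(92,(.negSucc 0),1)] .nil .nil)) .nil)))) (.node [(32,(.negSucc 0),1)] (.node [] (.node [] .nil (.node [] (.node [] .nil (.node [(72,(.negSucc 0),1)] .nil .nil)) .nil)) (.node [] (.node [] (.node []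 .nil (.node [(46,(.ofNat 1),1)] .nil .nil)) (.node [] .nil (.node [(115,(.negSucc 0),1)] .nil .nil))) (.node [(8,(.ofNat 1),1)] (.node [] .nil (.node [(87,(.negSucc 0),1)] .nil .nil)) .nil))) (.node [] (.node [] (.node [] (.node [] .nil (.node [(43,(.negSucc 0),1)] .nil .nil)) (.node [] .nil (.node [(104,(.ofNat 1),1)] .nil .nil))) .nil) (.node [] (.node [] .nil (.node [] .nil (.node [(127,(.negSucc 0),1)] .nil .nil))) (.node [] (.node [] .nil (.node [(95,(.negSucc 0),1)] .nil .nil)) (.node [(31,(.ofNat 1),1)] .nil .nil))))))) (.node [] (.node [] (.node [] (.node [] (.node [] .nil (.node [] (.node [] .nil (.node [(67,(.negSucc 0),1)] .nil .nil)) (.node [(22,(.negSucc 0),1)] .nil (.node [(132,(.ofNat 1),1)] .nil .nil)))) (.node [] (.node [] .nil (.node [] .nil (.node [(105,(.negSucc 0),1)] .nil .nil))) (.node [] .nil (.node [] .nil (.node [(180,(.negSucc 0),1)] .nil .nil))))) (.node [] (.node [] .nil (.node [] .nil (.node [] .nil (.node [(158,(.ofNat 1),1)] .nil .nil)))) (.node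 [] .nil (.node [] (.node [] .nil (.node [(91,(.negSucc 0),1)] .nil .nil)) .nil)))) (.node [] (.node [] .nil (.node [] .nil (.node [] .nil (.node [] .nil (.node [(199,(.ofNat 1),1)] .nil .nil))))) (.node [] .nil (.node [] .nil (.node [(12,(.negSucc 0),1)] .nil .nil))))) (.node [(32,(.ofNat 1),1)] (.node [] (.node [] (.node [] .nil (.node [] (.node [] .nil (.node [(69,(.ofNat 1),1)] .nil .nil)) .nil)) (.node [] .nil (.node [] .nil (.node [] .nil (.node [(194,(.ofNat 1),1)] .nil .nil))))) (.node [] (.node [] (.node [] (.node [] .nil (.node [(39,(.negSucc 0),1)] .nil .nil)) (.node [(14,(.ofNat 1),1)] .nil .nil)) (.node [] .nil (.node [] .nil (.node [(171,(.ofNat 1),1)] .nil .nil)))) (.node [] (.node [] .nil (.node [] .nil (.node [(117,(.negSucc 0),1)] .nil .nil))) (.node [] .nil (.node [(30,(.negSucc 0),1)] .nil .nil))))) (.node [(32,(.ofNat 1),1)] (.node [] .nil (.node [] (.node [] (.node [] .nil (.node [(49,(.negSucc 0),1)] .nil .nil)) .nil) (.node [] (.node [] .nil (.node [(89,(.ofNat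 1),1)] .nil .nil)) (.node [(29,(.ofNat 1),1)] .nil (.node [(201,(.negSucc 0),1)] .nil .nil))))) (.node [] (.node [] .nil (.node [] .nil (.node [] .nil (.node [(175,(.negSucc 0),1)] .nil .nil)))) (.node [] (.node [] .nil (.node [] .nil (.node [(0,(.negSucc 0),1),(1,(.negSucc 1),1),(2,(.negSucc 1),1),(3,(.negSucc 3),1),(4,(.negSucc 2),1),(5,(.negSucc 1),1),(6,(.negSucc 0),1),(7,(.negSucc 0),1),(32,(.negSucc 0),2)] .nil .nil))) .nil))))))
noncomputable def ex25 : Trie (List (ℕ × ℤ × ℕ)) := (.node [] (.node [] (.node [] (.node [] (.node [] (.node [] .nil (.node [] (.node [] .nil (.node [(66,(.ofNat 1),1)] .nil .nil)) (.node [(22,(.ofNat 1),1)] .nil (.node [(130,(.ofNat 1),1)] .nil .nil)))) (.node [] (.node [] .nil (.node [] .nil (.node [(105,(.negSucc 0),1)] .nil .nil))) (.node [] .nil (.node [(28,(.ofNat 1),1)] .nil .nil)))) (.node [] (.node [] .nil (.node [] .nil (.node [] .nil (.node [(148,(.negSucc 0),1)] .nil .nil)))) (.node [] (.node [] (.node [] .nil (.node [(52,(.ofNat 1),1)]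 .nil .nil)) .nil) (.node [] (.node [] .nil (.node [(91,(.negSucc 0),1)] .nil .nil)) .nil)))) (.node [] (.node [] (.node [] .nil (.node [] (.node [] .nil (.node [(71,(.ofNat 1),1)] .nil .nil)) .nil)) (.node [] (.node [] .nil (.node [(21,(.negSucc 0),1)] .nil (.node [(114,(.ofNat 1),1)] .nil .nil))) (.node [] .nil (.node [] .nil (.node [(198,(.negSucc 0),1)] .nil .nil))))) (.node [] (.node [] (.node [] (.node [] .nil (.node [(42,(.ofNat 1),1)] .nil .nil)) .nil) .nil) (.node [] .nil (.node [(12,(.ofNat 1),1)] .nil .nil))))) (.node [(33,(.negSucc 0),1)] (.node [] (.node [] (.node [] .nil (.node [] (.node [] .nil (.node [(69,(.ofNat 1),1)] .nil .nil)) (.node [] .nil (.node [(137,(.ofNat 1),1)] .nil .nil)))) .nil) (.node [] (.node [] (.node [] (.node [] .nil (.node [(37,(.ofNat 1),1)] .nil .nil)) (.node [(14,(.negSucc 0),1)] .nil (.node [(102,(.ofNat 1),1)] .nil .nil))) (.node [] .nil (.node [] .nil (.node [(171,(.ofNat 1),1)] .nil .nil)))) (.node [] (.node [] .nil (.node [] .nil (.node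 [(117,(.negSucc 0),1)] .nil .nil))) (.node [] (.node [] .nil (.node [(93,(.negSucc 0),1)] .nil .nil)) (.node [(30,(.ofNat 1),1)] .nil .nil))))) (.node [] (.node [] .nil (.node [] (.node [] (.node [] .nil (.node [(47,(.ofNat 1),1)] .nil .nil)) .nil) (.node [(9,(.ofNat 1),1)] (.node [] .nil (.node [(88,(.negSucc 0),1)] .nil .nil)) (.node [(29,(.negSucc 0),1)] .nil (.node [(201,(.negSucc 0),1)] .nil .nil))))) (.node [] .nil (.node [] (.node [] .nil (.node [] .nil (.node [(0,(.negSucc 0),1),(1,(.negSucc 1),1),(2,(.negSucc 1),1),(3,(.negSucc 3),1),(4,(.negSucc 2),1),(5,(.negSucc 1),1),(6,(.negSucc 0),1),(33,(.negSucc 0),2)] .nil .nil))) .nil))))) (.node [] (.node [] (.node [] (.node [] (.node [] .nil (.node [] (.node [] .nil (.node [(68,(.negSucc 0),1)] .nil .nil)) (.node [] .nil (.node [(133,(.negSucc 0),1)] .nil .nil)))) (.node [] .nil (.node [] .nil (.node [] .nil (.node [(181,(.ofNat 1),1)] .nil .nil))))) (.node [] (.node [] .nil (.node [] .nil (.node [] .nil (.node [(159,(.negSucc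 0),1)] .nil .nil)))) (.node [] (.node [] (.node [] .nil (.node [(53,(.negSucc 0),1)] .nil .nil)) .nil) (.node [(11,(.ofNat 1),1)] .nil .nil)))) (.node [] (.node [] (.node [] .nil (.node [] (.node [] .nil (.node [(72,(.negSucc 0),1)] .nil .nil)) .nil)) (.node [] (.node [] .nil (.node [] .nil (.node [(115,(.negSucc 0),1)] .nil .nil))) (.node [] .nil (.node [] .nil (.node [(200,(.negSucc 0),1)] .nil .nil))))) (.node [] (.node [] (.node [] (.node [] .nil (.node [(43,(.negSucc 0),1)] .nil .nil)) (.node [] .nil (.node [(104,(.ofNat 1),1)] .nil .nil))) .nil) (.node [] .nil (.node [] (.node [] .nil (.node [(95,(.negSucc 0),1)] .nil .nil)) (.node [(31,(.negSucc 0),1)] .nil .nil)))))) (.node [(33,(.ofNat 1),1)] (.node [] (.node [] (.node [] .nil (.node [] .nil (.node [] .nil (.node [(143,(.negSucc 0),1)] .nil .nil)))) (.node [] .nil (.node [] .nil (.node [] .nil (.node [(195,(.negSucc 0),1)] .nil .nil))))) (.node [] (.node [] (.node [] (.node [] .nil (.node [(40,(.negSucc 0),1)] .nil .nil))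 (.node [] .nil (.node [(103,(.negSucc 0),1)] .nil .nil))) (.node [] .nil (.node [(23,(.ofNat 1),1)] .nil .nil))) (.node [] .nil (.node [] (.node [] .nil (.node [(94,(.ofNat 1),1)] .nil .nil)) .nil)))) (.node [(33,(.negSucc 0),1)] (.node [] (.node [] .nil (.node [] (.node [] .nil (.node [(73,(.ofNat 1),1)] .nil .nil)) .nil)) (.node [] (.node [] (.node [] .nil (.node [(50,(.negSucc 0),1)] .nil .nil)) (.node [] .nil (.node [(116,(.ofNat 1),1)] .nil .nil))) (.node [(10,(.ofNat 1),1)] (.node [] .nil (.node [(90,(.ofNat 1),1)] .nil .nil)) .nil))) (.node [] (.node [] (.node [] .nil (.node [(16,(.negSucc 0),1)] .nil .nil)) (.node [] .nil (.node [] .nil (.node [(176,(.ofNat 1),1)] .nil .nil)))) (.node [] (.node [] .nil (.node [] .nil (.node [(128,(.negSucc 0),1)] .nil .nil))) (.node [] .nil (.node [(32,(.ofNat 1),1)] .nil .nil))))))))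
noncomputable def ex26 : Trie (List (ℕ × ℤ × ℕ)) := (.node [] (.node [] (.node [] (.node [] .nil (.node [] (.node [] (.node [] (.node [] .nil (.node [(39,(.negSucc 0),1)] .nil .nil)) (.node [] .nil (.node [(102,(.negSucc 0),1)] .nil .nil))) (.node [] (.node [] .nil (.node [(75,(.negSucc 0),1)] .nil .nil)) .nil)) (.node [] (.node [] (.node [] .nil (.node [(54,(.negSucc 0),1)] .nil .nil)) (.node [] .nil (.node [(119,(.ofNat 1),1)] .nil .nil))) .nil))) (.node [] (.node [] (.node [] (.node [] (.node [] .nil (.node [(36,(.negSucc 0),1)] .nil .nil)) .nil) .nil) (.node [] .nil (.node [(9,(.negSucc 0),1)] (.node [] .nil (.node [(87,(.ofNat 1),1)] .nil .nil)) (.node [(29,(.ofNat 1),1)] .nil .nil)))) (.node [] .nil (.node [] (.node [] .nil (.node [] .nil (.node [(124,(.negSucc 0),1)] .nil .nil))) .nil)))) (.node [] (.node [] (.node [] (.node [] .nil (.node [] .nil (.node [] .nil (.node [(139,(.negSucc 0),1)] .nil .nil)))) (.node [] (.node [] .nil (.node [(17,(.ofNat 1),1)] .nil .nil)) (.node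 [] .nil (.node [] .nil (.node [(192,(.ofNat 1),1)] .nil .nil))))) (.node [] .nil (.node [] (.node [] (.node [] .nil (.node [(56,(.negSucc 0),1)] .nil .nil)) (.node [] .nil (.node [(122,(.negSucc 0),1)] .nil .nil))) .nil))) (.node [] (.node [] (.node [] .nil (.node [] .nil (.node [] .nil (.node [(144,(.ofNat 1),1)] .nil .nil)))) (.node [] .nil (.node [] .nil (.node [] .nil (.node [(203,(.ofNat 1),1)] .nil .nil))))) (.node [] (.node [] .nil (.node [] .nil (.node [(24,(.negSucc 0),1)] .nil (.node [(173,(.negSucc 0),1)] .nil .nil)))) (.node [] (.node [] (.node [] .nil (.node [(65,(.negSucc 0),1)] .nil .nil)) .nil) (.node [] (.node [] .nil (.node [(97,(.ofNat 1),1)] .nil .nil)) .nil)))))) (.node [(34,(.ofNat 1),1)] (.node [] (.node [] (.node [] (.node [] .nil (.node [] .nil (.node [] .nil (.node [(138,(.negSucc 0),1)] .nil .nil)))) (.node [] .nil (.node [] .nil (.node [] .nil (.node [(182,(.ofNat 1),1)] .nil .nil))))) (.node [] (.node [] (.node [] (.node [] .nil (.node [(40,(.ofNat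 1),1)] .nil .nil)) (.node [(14,(.negSucc 0),1)] .nil (.node [(103,(.ofNat 1),1)] .nil .nil))) (.node [] (.node [] .nil (.node [(76,(.ofNat 1),1)] .nil .nil)) (.node [] .nil (.node [(160,(.negSucc 0),1)] .nil .nil)))) (.node [] (.node [] (.node [] .nil (.node [(55,(.ofNat 1),1)] .nil .nil)) (.node [] .nil (.node [(120,(.negSucc 0),1)] .nil .nil))) .nil))) (.node [(34,(.ofNat 1),1)] (.node [] (.node [] (.node [] (.node [] .nil (.node [(37,(.ofNat 1),1)] .nil .nil)) .nil) .nil) (.node [] (.node [] (.node [] .nil (.node [(44,(.ofNat 1),1)] .nil .nil)) .nil) (.node [(10,(.negSucc 0),1)] (.node [] .nil (.node [(88,(.negSucc 0),1)] .nil .nil)) (.node [(30,(.ofNat 1),1)] .nil (.node [(202,(.ofNat 1),1)] .nil .nil))))) (.node [] (.node [] .nil (.node [] .nil (.node [] .nil (.node [(172,(.negSucc 0),1)] .nil .nil)))) (.node [] (.node [] (.node [] .nil (.node [(64,(.ofNat 1),1)] .nil .nil)) (.node [] .nil (.node [(0,(.negSucc 0),1),(1,(.negSucc 1),1),(2,(.negSucc 1),1),(3,(.negSucc 2),1),(4,(.negSucc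 2),1),(5,(.negSucc 2),1),(6,(.negSucc 1),1),(7,(.negSucc 0),1),(34,(.negSucc 0),2)] .nil .nil))) (.node [] (.node [] .nil (.node [(96,(.negSucc 0),1)] .nil .nil)) .nil))))) (.node [(34,(.negSucc 0),1)] (.node [] (.node [] (.node [] (.node [] (.node [] .nil (.node [(35,(.ofNat 1),1)] .nil .nil)) .nil) .nil) (.node [] (.node [] .nil (.node [(18,(.ofNat 1),1)] .nil (.node [(106,(.negSucc 0),1)] .nil .nil))) (.node [(8,(.negSucc 0),1)] (.node [] .nil (.node [(86,(.negSucc 0),1)] .nil .nil)) .nil))) (.node [] .nil (.node [] (.node [] .nil (.node [] .nil (.node [(123,(.ofNat 1),1)] .nil .nil))) .nil))) (.node [] (.node [] (.node [] (.node [] (.node [] .nil (.node [(38,(.ofNat 1),1)] .nil .nil)) (.node [] .nil (.node [(101,(.ofNat 1),1)] .nil .nil))) (.node [] (.node [] .nil (.node [(74,(.ofNat 1),1)] .nil .nil)) (.node [] .nil (.node [(145,(.ofNat 1),1)] .nil .nil)))) (.node [] (.node [] .nil (.node [] .nil (.node [(118,(.negSucc 0),1)] .nil .nil))) (.node [] .nil (.node [] .nil (.node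 [(204,(.ofNat 1),1)] .nil .nil))))) (.node [] (.node [] .nil (.node [] .nil (.node [(25,(.negSucc 0),1)] .nil .nil))) (.node [] (.node [] (.node [] .nil (.node [(66,(.ofNat 1),1)] .nil .nil)) (.node [(22,(.ofNat 1),1)] .nil .nil)) (.node [(13,(.negSucc 0),1)] (.node [] .nil (.node [(98,(.negSucc 0),1)] .nil .nil)) .nil)))))))
noncomputable def ex27 : Trie (List (ℕ × ℤ × ℕ)) := (.node [] (.node [] (.node [] (.node [] (.node [] (.node [] .nil (.node [] .nil (.node [] .nil (.node [(138,(.negSucc 0),1)] .nil .nil)))) .nil) (.node [] (.node [] (.node [] (.node [] .nil (.node [(41,(.negSucc 0),1)] .nil .nil)) (.node [(14,(.ofNat 1),1)] .nil .nil)) .nil) .nil)) (.node [(35,(.ofNat 1),1)] (.node [] .nil (.node [] .nil (.node [] (.node [] .nil (.node [(89,(.ofNat 1),1)] .nil .nil)) (.node [] .nil (.node [(202,(.ofNat 1),1)] .nil .nil))))) (.node [] (.node [] .nil (.node [] .nil (.node [] .nil (.node [(172,(.negSucc 0),1)] .nil .nil)))) (.node [] (.node [] (.node [] .nil (.node [(64,(.ofNat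 1),1)] .nil .nil)) (.node [] .nil (.node [(0,(.negSucc 0),1),(1,(.negSucc 1),1),(2,(.negSucc 1),1),(3,(.negSucc 2),1),(4,(.negSucc 2),1),(5,(.negSucc 1),1),(6,(.negSucc 1),1),(7,(.negSucc 0),1),(35,(.negSucc 0),2)] .nil .nil))) (.node [] (.node [] .nil (.node [(97,(.ofNat 1),1)] .nil .nil)) (.node [(34,(.ofNat 1),1)] .nil .nil)))))) (.node [] (.node [] (.node [] (.node [] (.node [] (.node [] .nil (.node [(37,(.negSucc 0),1)] .nil .nil)) .nil) (.node [] .nil (.node [] .nil (.node [(140,(.ofNat 1),1)] .nil .nil)))) (.node [] (.node [] .nil (.node [] .nil (.node [(106,(.negSucc 0),1)] .nil .nil))) (.node [(9,(.ofNat 1),1)] (.node [] .nil (.node [(86,(.negSucc 0),1)] .nil .nil)) (.node [] .nil (.node [(193,(.negSucc 0),1)] .nil .nil))))) (.node [] .nil (.node [] (.node [] (.node [] .nil (.node [(58,(.negSucc 0),1)] .nil .nil)) (.node [] .nil (.node [(125,(.ofNat 1),1)] .nil .nil))) .nil))) (.node [(35,(.ofNat 1),1)] (.node [] (.node [] (.node [] (.node [] .nil (.node [(38,(.ofNat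 1),1)] .nil .nil)) (.node [] .nil (.node [(102,(.negSucc 0),1)] .nil .nil))) (.node [] (.node [] .nil (.node [(75,(.negSucc 0),1)] .nil .nil)) .nil)) (.node [] (.node [] .nil (.node [] .nil (.node [(119,(.ofNat 1),1)] .nil .nil))) (.node [] .nil (.node [] .nil (.node [(205,(.negSucc 0),1)] .nil .nil))))) (.node [] (.node [] .nil (.node [] .nil (.node [] .nil (.node [(174,(.ofNat 1),1)] .nil .nil)))) (.node [] (.node [] (.node [] .nil (.node [(67,(.negSucc 0),1)] .nil .nil)) (.node [(22,(.negSucc 0),1)] .nil .nil)) (.node [(13,(.ofNat 1),1)] .nil .nil)))))) (.node [(35,(.ofNat 1),1)] (.node [] (.node [] (.node [] (.node [] (.node [] (.node [] .nil (.node [(36,(.ofNat 1),1)] .nil .nil)) .nil) .nil) (.node [] (.node [] .nil (.node [(17,(.negSucc 0),1)] .nil .nil)) (.node [(8,(.ofNat 1),1)] .nil (.node [] .nil (.node [(183,(.negSucc 0),1)] .nil .nil))))) (.node [] (.node [] (.node [] (.node [] .nil (.node [(42,(.ofNat 1),1)] .nil .nil)) (.node [] .nil (.node [(104,(.ofNat 1),1)] .nil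 .nil))) (.node [] (.node [] .nil (.node [(77,(.ofNat 1),1)] .nil .nil)) (.node [] .nil (.node [(161,(.ofNat 1),1)] .nil .nil)))) (.node [] (.node [] (.node [] .nil (.node [(57,(.ofNat 1),1)] .nil .nil)) (.node [] .nil (.node [(121,(.negSucc 0),1)] .nil .nil))) .nil))) (.node [(35,(.negSucc 0),1)] (.node [] (.node [] (.node [] .nil (.node [] .nil (.node [(101,(.ofNat 1),1)] .nil .nil))) (.node [] (.node [] .nil (.node [(74,(.ofNat 1),1)] .nil .nil)) (.node [] .nil (.node [(144,(.ofNat 1),1)] .nil .nil)))) (.node [] (.node [] (.node [] .nil (.node [(45,(.ofNat 1),1)] .nil .nil)) (.node [] .nil (.node [(118,(.negSucc 0),1)] .nil .nil))) (.node [(11,(.negSucc 0),1)] (.node [] .nil (.node [(90,(.negSucc 0),1)] .nil .nil)) (.node [(31,(.ofNat 1),1)] .nil .nil)))) (.node [] (.node [] .nil (.node [] .nil (.node [(24,(.ofNat 1),1)] .nil .nil))) (.node [] (.node [] .nil (.node [] .nil (.node [(131,(.negSucc 0),1)] .nil .nil))) .nil)))) (.node [(35,(.negSucc 0),1)] (.node [] (.node [] (.node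 [] .nil (.node [] .nil .nil)) (.node [] (.node [] .nil (.node [(19,(.ofNat 1),1)] .nil .nil)) (.node [] .nil (.node [(29,(.negSucc 0),1)] .nil .nil)))) (.node [] .nil (.node [] (.node [] .nil (.node [] .nil (.node [(126,(.negSucc 0),1)] .nil .nil))) (.node [] (.node [] .nil (.node [(96,(.negSucc 0),1)] .nil .nil)) .nil)))) (.node [] (.node [] (.node [] .nil (.node [] .nil (.node [] .nil (.node [(146,(.negSucc 0),1)] .nil .nil)))) (.node [] (.node [] (.node [] .nil (.node [(54,(.negSucc 0),1)] .nil .nil)) .nil) (.node [] .nil (.node [] .nil (.node [(206,(.negSucc 0),1)] .nil .nil))))) (.node [] (.node [] .nil (.node [] .nil (.node [(26,(.negSucc 0),1)] .nil .nil))) (.node [] (.node [] (.node [] .nil (.node [(68,(.ofNat 1),1)] .nil .nil)) .nil) (.node [] (.node [] .nil (.node [(99,(.negSucc 0),1)] .nil .nil)) .nil)))))))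
noncomputable def ex28 : Trie (List (ℕ × ℤ × ℕ)) := (.node [] (.node [] (.node [] (.node [] (.node [] (.node [] (.node [] (.node [] .nil (.node [(37,(.ofNat 1),1)] .nil .nil)) .nil) .nil) (.node [] (.node [] .nil (.node [(17,(.ofNat 1),1)] .nil .nil)) (.node [(8,(.negSucc 0),1)] .nil .nil))) (.node [] (.node [] (.node [] .nil (.node [] .nil (.node [(104,(.ofNat 1),1)] .nil .nil))) (.node [] (.node [] .nil (.node [(77,(.ofNat 1),1)] .nil .nil)) .nil)) (.node [] (.node [] (.node [] .nil (.node [(57,(.ofNat 1),1)] .nil .nil)) (.node [] .nil (.node [(121,(.negSucc 0),1)] .nil .nil))) .nil))) (.node [(36,(.ofNat 1),1)] (.node [] (.node [] (.node [] .nil (.node [] .nil (.node [(101,(.ofNat 1),1)] .nil .nil))) (.node [] (.node [] .nil (.node [(74,(.ofNat 1),1)] .nil .nil)) (.node [] .nil (.node [(144,(.ofNat 1),1)] .nil .nil)))) (.node [] (.node [] .nil (.node [] .nil (.node [(118,(.negSucc 0),1)] .nil .nil))) (.node [(11,(.ofNat 1),1)] .nil (.node [] .nil (.node [(203,(.negSucc 0),1)]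 .nil .nil))))) (.node [] (.node [] .nil (.node [] .nil (.node [(24,(.negSucc 0),1)] .nil .nil))) (.node [] (.node [] (.node [] .nil (.node [(65,(.ofNat 1),1)] .nil .nil)) (.node [] .nil (.node [(129,(.negSucc 0),1)] .nil .nil))) (.node [] (.node [] .nil (.node [(98,(.ofNat 1),1)] .nil .nil)) .nil))))) (.node [] (.node [] (.node [] (.node [] .nil (.node [] .nil (.node [] .nil (.node [(141,(.negSucc 0),1)] .nil .nil)))) (.node [] .nil (.node [(10,(.ofNat 1),1)] (.node [] .nil (.node [(87,(.negSucc 0),1)] .nil .nil)) (.node [(29,(.ofNat 1),1)] .nil (.node [(194,(.ofNat 1),1)] .nil .nil))))) (.node [] .nil (.node [] (.node [] (.node [] .nil (.node [(59,(.negSucc 0),1)] .nil .nil)) (.node [] .nil (.node [(127,(.negSucc 0),1)] .nil .nil))) (.node [] (.node [] .nil (.node [(96,(.negSucc 0),1)] .nil .nil)) .nil)))) (.node [(36,(.negSucc 0),1)] (.node [] (.node [] (.node [] (.node [] .nil (.node [(39,(.ofNat 1),1)] .nil .nil)) (.node [] .nil (.node [(103,(.negSucc 0),1)] .nil .nil))) (.node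 [] (.node [] .nil (.node [(76,(.negSucc 0),1)] .nil .nil)) .nil)) (.node [] (.node [] .nil (.node [] .nil (.node [(120,(.ofNat 1),1)] .nil .nil))) .nil)) (.node [] (.node [] .nil (.node [] .nil (.node [] .nil (.node [(175,(.negSucc 0),1)] .nil .nil)))) (.node [] .nil (.node [] (.node [] .nil (.node [(99,(.negSucc 0),1)] .nil .nil)) (.node [(35,(.ofNat 1),1)] .nil .nil))))))) (.node [(36,(.ofNat 1),1)] (.node [] (.node [] (.node [] .nil (.node [] (.node [] .nil (.node [] .nil (.node [(106,(.negSucc 0),1)] .nil .nil))) (.node [] .nil (.node [] .nil (.node [(184,(.ofNat 1),1)] .nil .nil))))) (.node [] (.node [] (.node [] (.node [] .nil (.node [(43,(.ofNat 1),1)] .nil .nil)) .nil) (.node [] .nil (.node [] .nil (.node [(162,(.negSucc 0),1)] .nil .nil)))) .nil)) (.node [] (.node [] .nil (.node [] (.node [] (.node [] .nil (.node [(46,(.ofNat 1),1)] .nil .nil)) .nil) (.node [] (.node [] .nil (.node [(91,(.negSucc 0),1)] .nil .nil)) (.node [(32,(.ofNat 1),1)] .nil (.node [(205,(.negSucc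 0),1)] .nil .nil))))) (.node [] .nil (.node [] (.node [] (.node [] .nil (.node [(67,(.negSucc 0),1)] .nil .nil)) (.node [(22,(.ofNat 1),1)] .nil (.node [(132,(.ofNat 1),1)] .nil .nil))) (.node [(13,(.negSucc 0),1)] .nil .nil))))) (.node [(36,(.negSucc 0),1)] (.node [] (.node [] .nil (.node [] (.node [] .nil (.node [(20,(.ofNat 1),1)] .nil .nil)) (.node [] (.node [] .nil (.node [(89,(.ofNat 1),1)] .nil .nil)) .nil))) (.node [] (.node [] .nil (.node [] .nil (.node [] .nil (.node [(172,(.negSucc 0),1)] .nil .nil)))) (.node [] (.node [] .nil (.node [] .nil (.node [(0,(.negSucc 0),1),(1,(.negSucc 1),1),(2,(.negSucc 1),1),(3,(.negSucc 2),1),(4,(.negSucc 2),1),(5,(.negSucc 1),1),(6,(.negSucc 0),1),(7,(.negSucc 0),1),(36,(.negSucc 0),2)] .nil .nil))) (.node [] .nil (.node [(34,(.negSucc 0),1)] .nil .nil))))) (.node [(36,(.ofNat 1),1)] (.node [] (.node [] (.node [] (.node [] .nil (.node [(41,(.negSucc 0),1)] .nil .nil)) (.node [(14,(.negSucc 0),1)] .nil .nil)) (.node [] .nil (.node []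 .nil (.node [(147,(.ofNat 1),1)] .nil .nil)))) (.node [] (.node [] (.node [] .nil (.node [(55,(.negSucc 0),1)] .nil .nil)) .nil) (.node [] .nil (.node [] .nil (.node [(207,(.ofNat 1),1)] .nil .nil))))) (.node [] (.node [] .nil (.node [] .nil (.node [(27,(.negSucc 0),1)] .nil .nil))) (.node [] (.node [] (.node [] .nil (.node [(69,(.ofNat 1),1)] .nil .nil)) (.node [] .nil (.node [(138,(.negSucc 0),1)] .nil .nil))) .nil))))))
noncomputable def ex29 : Trie (List (ℕ × ℤ × ℕ)) := (.node [] (.node [] (.node [] (.node [] (.node [] .nil (.node [] (.node [] .nil (.node [] .nil (.node [(106,(.negSucc 0),1)] .nil .nil))) (.node [(9,(.negSucc 0),1)] .nil .nil))) (.node [] (.node [] (.node [] (.node [] .nil (.node [(43,(.ofNat 1),1)] .nil .nil)) .nil) .nil) (.node [] (.node [] (.node [] .nil (.node [(58,(.ofNat 1),1)] .nil .nil)) .nil) .nil))) (.node [(37,(.ofNat 1),1)] (.node [] (.node [] (.node [] .nil (.node [] .nil (.node [(102,(.ofNat 1),1)] .nil .nil))) (.node [] (.node [] .nil (.node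 [(75,(.ofNat 1),1)] .nil .nil)) .nil)) (.node [] (.node [] .nil (.node [] .nil (.node [(119,(.negSucc 0),1)] .nil .nil))) (.node [] (.node [] .nil (.node [(91,(.negSucc 0),1)] .nil .nil)) (.node [] .nil (.node [(204,(.ofNat 1),1)] .nil .nil))))) (.node [] .nil (.node [] (.node [] (.node [] .nil (.node [(66,(.ofNat 1),1)] .nil .nil)) (.node [(22,(.negSucc 0),1)] .nil (.node [(130,(.ofNat 1),1)] .nil .nil))) (.node [(13,(.ofNat 1),1)] .nil .nil))))) (.node [] (.node [] (.node [] (.node [] .nil (.node [] .nil (.node [] .nil (.node [(142,(.ofNat 1),1)] .nil .nil)))) (.node [] .nil (.node [] (.node [] .nil (.node [(88,(.negSucc 0),1)] .nil .nil)) (.node [] .nil (.node [(195,(.negSucc 0),1)] .nil .nil))))) (.node [] (.node [] .nil (.node [] .nil (.node [] .nil (.node [(172,(.negSucc 0),1)] .nil .nil)))) (.node [] (.node [] .nil (.node [] .nil (.node [(0,(.negSucc 0),1),(1,(.negSucc 1),1),(2,(.negSucc 1),1),(3,(.negSucc 2),1),(4,(.negSucc 2),1),(5,(.negSucc 1),1),(6,(.negSucc 0),1),(37,(.negSucc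 0),2)] .nil .nil))) (.node [] (.node [] .nil (.node [(97,(.negSucc 0),1)] .nil .nil)) (.node [(34,(.ofNat 1),1)] .nil .nil))))) (.node [] (.node [] (.node [] (.node [] (.node [] .nil (.node [(40,(.ofNat 1),1)] .nil .nil)) (.node [(14,(.ofNat 1),1)] .nil .nil)) .nil) (.node [] .nil (.node [] .nil (.node [] .nil (.node [(207,(.ofNat 1),1)] .nil .nil))))) (.node [] (.node [] .nil (.node [] .nil (.node [] .nil (.node [(176,(.ofNat 1),1)] .nil .nil)))) (.node [] (.node [] (.node [] .nil (.node [(69,(.ofNat 1),1)] .nil .nil)) (.node [] .nil (.node [(138,(.negSucc 0),1)] .nil .nil))) .nil))))) (.node [(37,(.ofNat 1),1)] (.node [] (.node [] (.node [] .nil (.node [] .nil (.node [(10,(.negSucc 0),1)] .nil (.node [(29,(.negSucc 0),1)] .nil (.node [(185,(.negSucc 0),1)] .nil .nil))))) (.node [] (.node [] .nil (.node [] .nil (.node [] .nil (.node [(163,(.ofNat 1),1)] .nil .nil)))) (.node [] (.node [] (.node [] .nil (.node [(59,(.negSucc 0),1)] .nil .nil)) .nil) .nil))) (.node [] (.node []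 (.node [] (.node [] .nil (.node [] .nil (.node [(103,(.negSucc 0),1)] .nil .nil))) (.node [] (.node [] .nil (.node [(76,(.negSucc 0),1)] .nil .nil)) .nil)) (.node [] (.node [] (.node [] .nil (.node [(47,(.ofNat 1),1)] .nil .nil)) (.node [] .nil (.node [(120,(.ofNat 1),1)] .nil .nil))) (.node [] .nil (.node [(33,(.ofNat 1),1)] .nil (.node [(206,(.ofNat 1),1)] .nil .nil))))) (.node [] .nil (.node [] (.node [] (.node [] .nil (.node [(68,(.negSucc 0),1)] .nil .nil)) (.node [] .nil (.node [(133,(.negSucc 0),1)] .nil .nil))) (.node [] (.node [] .nil (.node [(99,(.negSucc 0),1)] .nil .nil)) (.node [(35,(.negSucc 0),1)] .nil .nil)))))) (.node [(37,(.negSucc 0),1)] (.node [] (.node [] (.node [] .nil (.node [] .nil (.node [] .nil (.node [(144,(.ofNat 1),1)] .nil .nil)))) (.node [] (.node [] .nil (.node [(21,(.ofNat 1),1)] .nil .nil)) (.node [(11,(.negSucc 0),1)] (.node [] .nil (.node [(90,(.ofNat 1),1)] .nil .nil)) .nil))) (.node [] (.node [] .nil (.node [] .nil (.node [(24,(.ofNat 1),1)]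 .nil .nil))) (.node [] (.node [] .nil (.node [] .nil (.node [(128,(.negSucc 0),1)] .nil .nil))) (.node [] (.node [] .nil (.node [(98,(.ofNat 1),1)] .nil .nil)) .nil)))) (.node [(37,(.negSucc 0),1)] (.node [] (.node [] (.node [] (.node [] .nil (.node [(42,(.negSucc 0),1)] .nil .nil)) (.node [] .nil (.node [(104,(.ofNat 1),1)] .nil .nil))) (.node [] (.node [] .nil (.node [(77,(.ofNat 1),1)] .nil .nil)) (.node [] .nil (.node [(148,(.negSucc 0),1)] .nil .nil)))) (.node [] (.node [] (.node [] .nil (.node [(56,(.negSucc 0),1)] .nil .nil)) (.node [] .nil (.node [(121,(.negSucc 0),1)] .nil .nil))) .nil)) (.node [] (.node [] (.node [] .nil (.node [(17,(.negSucc 0),1)] .nil .nil)) (.node [] .nil (.node [(28,(.negSucc 0),1)] .nil .nil))) (.node [] .nil (.node [] .nil (.node [(36,(.ofNat 1),1)] .nil .nil))))))))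
noncomputable def ex30 : Trie (List (ℕ × ℤ × ℕ)) := (.node [] (.node [] (.node [] (.node [] (.node [] (.node [] .nil (.node [] .nil (.node [] .nil (.node [(139,(.ofNat 1),1)] .nil .nil)))) .nil) (.node [] .nil (.node [] (.node [] .nil (.node [] .nil (.node [(126,(.negSucc 0),1)] .nil .nil))) (.node [] (.node [] .nil (.node [(96,(.negSucc 0),1)] .nil .nil)) (.node [(34,(.ofNat 1),1)] .nil .nil))))) (.node [(38,(.negSucc 0),1)] (.node [] (.node [] (.node [] (.node [] .nil (.node [(41,(.ofNat 1),1)] .nil .nil)) .nil) .nil) (.node [] .nil (.node [] (.node [] .nil (.node [(92,(.ofNat 1),1)] .nil .nil)) (.node [(31,(.negSucc 0),1)] .nil .nil)))) (.node [] (.node [] .nil (.node [] .nil (.node [] .nil (.node [(173,(.ofNat 1),1)] .nil .nil)))) (.node [] (.node [] .nil (.node [] .nil (.node [(134,(.negSucc 0),1)] .nil .nil))) .nil)))) (.node [] (.node [] (.node [] (.node [] (.node [] (.node [] .nil (.node [(40,(.negSucc 0),1)] .nil .nil)) (.node [] .nil (.node [(101,(.ofNat 1),1)] .nil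 .nil))) (.node [] (.node [] .nil (.node [(74,(.ofNat 1),1)] .nil .nil)) .nil)) (.node [] (.node [] .nil (.node [(19,(.negSucc 0),1)] .nil .nil)) (.node [] .nil (.node [] .nil (.node [(196,(.ofNat 1),1)] .nil .nil))))) (.node [] .nil (.node [] (.node [] (.node [] .nil (.node [(61,(.negSucc 0),1)] .nil .nil)) .nil) .nil))) (.node [(38,(.ofNat 1),1)] (.node [] (.node [] .nil (.node [] .nil (.node [] .nil (.node [(146,(.negSucc 0),1)] .nil .nil)))) (.node [] (.node [] (.node [] .nil (.node [(54,(.negSucc 0),1)] .nil .nil)) (.node [] .nil (.node [(123,(.negSucc 0),1)] .nil .nil))) (.node [] .nil (.node [] .nil (.node [(208,(.ofNat 1),1)] .nil .nil))))) (.node [] (.node [] .nil (.node [(8,(.negSucc 0),1)] .nil (.node [(26,(.ofNat 1),1)] .nil .nil))) (.node [] (.node [] (.node [] .nil (.node [(70,(.negSucc 0),1)] .nil .nil)) .nil) .nil))))) (.node [(38,(.ofNat 1),1)] (.node [] (.node [] (.node [] (.node [] (.node [] (.node [] .nil (.node [(39,(.ofNat 1),1)] .nil .nil)) .nil) (.node []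 .nil (.node [] .nil (.node [(140,(.ofNat 1),1)] .nil .nil)))) (.node [] (.node [] .nil (.node [(18,(.negSucc 0),1)] .nil .nil)) (.node [] (.node [] .nil (.node [(86,(.negSucc 0),1)] .nil .nil)) (.node [] .nil (.node [(186,(.ofNat 1),1)] .nil .nil))))) (.node [] (.node [] (.node [] .nil (.node [] .nil (.node [(105,(.ofNat 1),1)] .nil .nil))) (.node [] (.node [] .nil (.node [(78,(.ofNat 1),1)] .nil .nil)) (.node [] .nil (.node [(164,(.negSucc 0),1)] .nil .nil)))) (.node [] (.node [] (.node [] .nil (.node [(60,(.ofNat 1),1)] .nil .nil)) (.node [] .nil (.node [(0,(.negSucc 0),1),(1,(.negSucc 1),1),(2,(.negSucc 1),1),(3,(.negSucc 2),1),(4,(.negSucc 1),1),(5,(.negSucc 1),1),(6,(.negSucc 1),1),(7,(.negSucc 0),1),(38,(.negSucc 0),2)] .nil .nil))) (.node [] (.node [] .nil (.node [(97,(.ofNat 1),1)] .nil .nil)) (.node [(35,(.ofNat 1),1)] .nil .nil))))) (.node [] (.node [] (.node [] (.node [] (.node [] .nil (.node [(42,(.negSucc 0),1)] .nil .nil)) (.node [(14,(.negSucc 0),1)] .nil .nil))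 (.node [] .nil (.node [] .nil (.node [(145,(.negSucc 0),1)] .nil .nil)))) (.node [] (.node [] (.node [] .nil (.node [(48,(.ofNat 1),1)] .nil .nil)) (.node [] .nil (.node [(122,(.ofNat 1),1)] .nil .nil))) (.node [(12,(.negSucc 0),1)] (.node [] .nil (.node [(93,(.negSucc 0),1)] .nil .nil)) .nil))) (.node [] (.node [] .nil (.node [] .nil (.node [(25,(.ofNat 1),1)] .nil (.node [(174,(.ofNat 1),1)] .nil .nil)))) (.node [] (.node [] .nil (.node [] .nil (.node [(135,(.negSucc 0),1)] .nil .nil))) .nil)))) (.node [] (.node [] (.node [] (.node [] (.node [] .nil (.node [] .nil (.node [(102,(.negSucc 0),1)] .nil .nil))) (.node [] (.node [] .nil (.node [(75,(.negSucc 0),1)] .nil .nil)) .nil)) (.node [] .nil (.node [] .nil (.node [(30,(.negSucc 0),1)] .nil (.node [(202,(.ofNat 1),1)] .nil .nil))))) (.node [] .nil (.node [] (.node [] (.node [] .nil (.node [(64,(.ofNat 1),1)] .nil .nil)) (.node [(22,(.ofNat 1),1)] .nil .nil)) (.node [(13,(.negSucc 0),1)] .nil .nil)))) (.node [] (.node [] .nil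 (.node [] (.node [] .nil (.node [] .nil (.node [(125,(.ofNat 1),1)] .nil .nil))) (.node [] .nil (.node [] .nil (.node [(209,(.ofNat 1),1)] .nil .nil))))) (.node [] (.node [] (.node [] .nil (.node [] .nil (.node [(106,(.negSucc 0),1)] .nil .nil))) (.node [(9,(.negSucc 0),1)] .nil .nil)) (.node [] (.node [] (.node [] .nil (.node [(71,(.ofNat 1),1)] .nil .nil)) .nil) (.node [] (.node [] .nil (.node [(100,(.negSucc 0),1)] .nil .nil)) .nil)))))))
noncomputable def ex31 : Trie (List (ℕ × ℤ × ℕ)) := (.node [] (.node [] (.node [] (.node [] (.node [] (.node [] (.node [] (.node [] .nil (.node [(40,(.ofNat 1),1)] .nil .nil)) .nil) .nil) (.node [] (.node [] .nil (.node [(18,(.ofNat 1),1)] .nil .nil)) .nil)) (.node [] (.node [] (.node [] .nil (.node [] .nil (.node [(105,(.ofNat 1),1)] .nil .nil))) (.node [] (.node [] .nil (.node [(78,(.ofNat 1),1)] .nil .nil)) .nil)) (.node [] (.node [] (.node [] .nil (.node [(60,(.ofNat 1),1)] .nil .nil)) (.node [] .nil (.node [(0,(.negSucc 0),1),(1,(.negSucc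 1),1),(2,(.negSucc 1),1),(3,(.negSucc 2),1),(4,(.negSucc 1),1),(5,(.negSucc 1),1),(6,(.negSucc 0),1),(7,(.negSucc 0),1),(39,(.negSucc 0),2)] .nil .nil))) .nil))) (.node [(39,(.negSucc 0),1)] (.node [] (.node [] (.node [] .nil (.node [(14,(.ofNat 1),1)] .nil .nil)) (.node [] .nil (.node [] .nil (.node [(145,(.negSucc 0),1)] .nil .nil)))) (.node [] (.node [] .nil (.node [] .nil (.node [(122,(.ofNat 1),1)] .nil .nil))) (.node [(12,(.ofNat 1),1)] .nil (.node [(32,(.negSucc 0),1)] .nil .nil)))) (.node [] (.node [] .nil (.node [] .nil (.node [(25,(.negSucc 0),1)] .nil .nil))) .nil))) (.node [] (.node [] (.node [] .nil (.node [] (.node [] .nil (.node [(20,(.negSucc 0),1)] .nil .nil)) (.node [] .nil (.node [(30,(.ofNat 1),1)] .nil (.node [(197,(.negSucc 0),1)] .nil .nil))))) (.node [] .nil (.node [] (.node [] (.node [] .nil (.node [(62,(.negSucc 0),1)] .nil .nil)) (.node [(22,(.negSucc 0),1)] .nil .nil)) (.node [(13,(.ofNat 1),1)] .nil .nil)))) (.node [(39,(.negSucc 0),1)] (.node [] (.node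 [] .nil (.node [] .nil (.node [] .nil (.node [(147,(.ofNat 1),1)] .nil .nil)))) (.node [] (.node [] (.node [] .nil (.node [(55,(.negSucc 0),1)] .nil .nil)) (.node [] .nil (.node [(124,(.negSucc 0),1)] .nil .nil))) .nil)) (.node [] (.node [] (.node [] .nil (.node [] .nil (.node [(106,(.negSucc 0),1)] .nil .nil))) (.node [] .nil (.node [(27,(.ofNat 1),1)] .nil .nil))) (.node [] .nil (.node [] (.node [] .nil (.node [(100,(.negSucc 0),1)] .nil .nil)) (.node [(38,(.ofNat 1),1)] .nil .nil))))))) (.node [(39,(.ofNat 1),1)] (.node [] (.node [] (.node [] (.node [] (.node [] .nil (.node [] .nil (.node [(101,(.ofNat 1),1)] .nil .nil))) (.node [] (.node [] .nil (.node [(74,(.ofNat 1),1)] .nil .nil)) (.node [] .nil (.node [(141,(.negSucc 0),1)] .nil .nil)))) (.node [] .nil (.node [] (.node [] .nil (.node [(87,(.negSucc 0),1)] .nil .nil)) (.node [] .nil (.node [(187,(.negSucc 0),1)] .nil .nil))))) (.node [] (.node [] .nil (.node [] .nil (.node [] .nil (.node [(165,(.ofNat 1),1)] .nil .nil))))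 (.node [] (.node [] .nil (.node [] .nil (.node [(129,(.negSucc 0),1)] .nil .nil))) (.node [] (.node [] .nil (.node [(98,(.ofNat 1),1)] .nil .nil)) (.node [(36,(.ofNat 1),1)] .nil .nil))))) (.node [(39,(.ofNat 1),1)] (.node [] (.node [] (.node [] (.node [] .nil (.node [(43,(.negSucc 0),1)] .nil .nil)) .nil) .nil) (.node [] (.node [] (.node [] .nil (.node [(49,(.ofNat 1),1)] .nil .nil)) .nil) (.node [] (.node [] .nil (.node [(94,(.negSucc 0),1)] .nil .nil)) (.node [] .nil (.node [(208,(.ofNat 1),1)] .nil .nil))))) (.node [] (.node [] .nil (.node [(8,(.ofNat 1),1)] .nil (.node [] .nil (.node [(175,(.negSucc 0),1)] .nil .nil)))) (.node [] (.node [] (.node [] .nil (.node [(70,(.negSucc 0),1)] .nil .nil)) (.node [] .nil (.node [(136,(.ofNat 1),1)] .nil .nil))) .nil)))) (.node [] (.node [] (.node [] (.node [] (.node [] (.node [] .nil (.node [(41,(.ofNat 1),1)] .nil .nil)) (.node [] .nil (.node [(103,(.negSucc 0),1)] .nil .nil))) (.node [] (.node [] .nil (.node [(76,(.negSucc 0),1)] .nil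 .nil)) .nil)) (.node [] .nil (.node [] (.node [] .nil (.node [(92,(.ofNat 1),1)] .nil .nil)) (.node [] .nil (.node [(203,(.negSucc 0),1)] .nil .nil))))) (.node [] (.node [] .nil (.node [] .nil (.node [] .nil (.node [(173,(.ofNat 1),1)] .nil .nil)))) (.node [] (.node [] (.node [] .nil (.node [(65,(.ofNat 1),1)] .nil .nil)) (.node [] .nil (.node [(134,(.negSucc 0),1)] .nil .nil))) .nil))) (.node [(39,(.ofNat 1),1)] (.node [] (.node [] .nil (.node [] .nil .nil)) (.node [] (.node [] .nil (.node [] .nil (.node [(127,(.negSucc 0),1)] .nil .nil))) (.node [] (.node [] .nil (.node [(96,(.negSucc 0),1)] .nil .nil)) (.node [(34,(.negSucc 0),1)] .nil (.node [(210,(.negSucc 0),1)] .nil .nil))))) (.node [] (.node [] .nil (.node [(10,(.negSucc 0),1)] .nil .nil)) (.node [] (.node [] (.node [] .nil (.node [(72,(.ofNat 1),1)] .nil .nil)) (.node [] .nil (.node [(139,(.ofNat 1),1)] .nil .nil))) .nil))))))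
noncomputable def ex32 : Trie (List (ℕ × ℤ × ℕ)) := (.node [] (.node [] (.node [] (.node [] .nil (.node [] (.node [] .nil (.node [] .nil .nil)) (.node [] (.node [] (.node [] .nil (.node [(61,(.ofNat 1),1)] .nil .nil)) (.node [] .nil (.node [(128,(.negSucc 0),1)] .nil .nil))) (.node [] (.node [] .nil (.node [(98,(.ofNat 1),1)] .nil .nil)) .nil)))) (.node [(40,(.negSucc 0),1)] (.node [] (.node [] (.node [] (.node [] .nil (.node [(43,(.negSucc 0),1)] .nil .nil)) .nil) .nil) (.node [] (.node [] .nil (.node [] .nil (.node [(123,(.ofNat 1),1)] .nil .nil))) (.node [] (.node [] .nil (.node [(94,(.negSucc 0),1)] .nil .nil)) (.node [(33,(.negSucc 0),1)] .nil .nil)))) .nil)) (.node [] (.node [] (.node [] (.node [] (.node [] .nil (.node [] .nil (.node [(103,(.negSucc 0),1)] .nil .nil))) (.node [] (.node [] .nil (.node [(76,(.negSucc 0),1)] .nil .nil)) .nil)) (.node [] (.node [] .nil (.node [(21,(.negSucc 0),1)] .nil .nil)) (.node [] .nil (.node [] .nil (.node [(198,(.ofNat 1),1)] .nil .nil)))))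 (.node [] (.node [] .nil (.node [] .nil (.node [] .nil (.node [(173,(.ofNat 1),1)] .nil .nil)))) (.node [] (.node [] .nil (.node [] .nil (.node [(134,(.negSucc 0),1)] .nil .nil))) .nil))) (.node [] (.node [] (.node [] .nil (.node [] .nil (.node [] .nil (.node [(148,(.negSucc 0),1)] .nil .nil)))) (.node [] (.node [] (.node [] .nil (.node [(56,(.negSucc 0),1)] .nil .nil)) .nil) (.node [] .nil (.node [(34,(.ofNat 1),1)] .nil (.node [(210,(.negSucc 0),1)] .nil .nil))))) (.node [] (.node [] .nil (.node [(10,(.ofNat 1),1)] .nil (.node [(28,(.ofNat 1),1)] .nil .nil))) (.node [] (.node [] (.node [] .nil (.node [(72,(.ofNat 1),1)] .nil .nil)) (.node [] .nil (.node [(139,(.ofNat 1),1)] .nil .nil))) .nil))))) (.node [(40,(.ofNat 1),1)] (.node [] (.node [] (.node [] (.node [] (.node [] .nil (.node [] .nil (.node [(102,(.ofNat 1),1)] .nil .nil))) (.node [] (.node [] .nil (.node [(75,(.ofNat 1),1)] .nil .nil)) (.node [] .nil (.node [(142,(.ofNat 1),1)] .nil .nil)))) (.node [] .nil (.node []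 (.node [] .nil (.node [(88,(.negSucc 0),1)] .nil .nil)) (.node [(30,(.negSucc 0),1)] .nil (.node [(188,(.ofNat 1),1)] .nil .nil))))) (.node [] (.node [] .nil (.node [] .nil (.node [] .nil (.node [(166,(.negSucc 0),1)] .nil .nil)))) (.node [] (.node [] (.node [] .nil (.node [(62,(.negSucc 0),1)] .nil .nil)) (.node [(22,(.ofNat 1),1)] .nil (.node [(130,(.ofNat 1),1)] .nil .nil))) (.node [(13,(.negSucc 0),1)] .nil (.node [(37,(.ofNat 1),1)] .nil .nil))))) (.node [(40,(.ofNat 1),1)] (.node [] .nil (.node [] (.node [] (.node [] .nil (.node [(50,(.ofNat 1),1)] .nil .nil)) (.node [] .nil (.node [(124,(.negSucc 0),1)] .nil .nil))) (.node [] .nil (.node [] .nil (.node [(209,(.negSucc 0),1)] .nil .nil))))) (.node [] (.node [] (.node [] .nil (.node [] .nil (.node [(106,(.negSucc 0),1)] .nil .nil))) (.node [(9,(.ofNat 1),1)] .nil (.node [] .nil (.node [(176,(.ofNat 1),1)] .nil .nil)))) (.node [] (.node [] (.node [] .nil (.node [(71,(.negSucc 0),1)] .nil .nil)) (.node [] .nil (.node [(137,(.negSucc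 0),1)] .nil .nil))) (.node [] (.node [] .nil (.node [(100,(.negSucc 0),1)] .nil .nil)) (.node [(38,(.negSucc 0),1)] .nil .nil)))))) (.node [] (.node [] (.node [] (.node [] (.node [] (.node [] .nil (.node [(42,(.ofNat 1),1)] .nil .nil)) (.node [(14,(.negSucc 0),1)] .nil .nil)) (.node [] .nil (.node [] .nil (.node [(145,(.negSucc 0),1)] .nil .nil)))) (.node [] .nil (.node [(12,(.negSucc 0),1)] (.node [] .nil (.node [(93,(.ofNat 1),1)] .nil .nil)) (.node [] .nil (.node [(204,(.ofNat 1),1)] .nil .nil))))) (.node [] (.node [] .nil (.node [] .nil (.node [(25,(.ofNat 1),1)] .nil .nil))) (.node [] (.node [] (.node [] .nil (.node [(66,(.ofNat 1),1)] .nil .nil)) .nil) .nil))) (.node [(40,(.negSucc 0),1)] (.node [] (.node [] (.node [] .nil (.node [] .nil (.node [(105,(.ofNat 1),1)] .nil .nil))) (.node [] (.node [] .nil (.node [(78,(.ofNat 1),1)] .nil .nil)) .nil)) (.node [] (.node [] .nil (.node [] .nil (.node [(0,(.negSucc 0),1),(1,(.negSucc 1),1),(2,(.negSucc 1),1),(3,(.negSucc 2),1),(4,(.negSucc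 1),1),(5,(.negSucc 1),1),(6,(.negSucc 0),1),(40,(.negSucc 0),2)] .nil .nil))) (.node [] (.node [] .nil (.node [(97,(.negSucc 0),1)] .nil .nil)) .nil))) (.node [] (.node [] (.node [] .nil (.node [(18,(.negSucc 0),1)] .nil .nil)) .nil) (.node [] .nil (.node [] .nil (.node [(39,(.ofNat 1),1)] .nil .nil))))))))
noncomputable def ex33 : Trie (List (ℕ × ℤ × ℕ)) := (.node [] (.node [] (.node [] (.node [] (.node [] (.node [] (.node [] (.node [] .nil (.node [(42,(.ofNat 1),1)] .nil .nil)) (.node [] .nil (.node [(101,(.ofNat 1),1)] .nil .nil))) (.node [] (.node [] .nil (.node [(74,(.ofNat 1),1)] .nil .nil)) (.node [] .nil (.node [(141,(.negSucc 0),1)] .nil .nil)))) (.node [] (.node [] .nil (.node [(19,(.ofNat 1),1)] .nil .nil)) .nil)) (.node [] .nil (.node [] (.node [] .nil (.node [(22,(.ofNat 1),1)] .nil (.node [(131,(.negSucc 0),1)] .nil .nil))) (.node [(13,(.negSucc 0),1)] .nil (.node [(36,(.negSucc 0),1)] .nil .nil))))) (.node [] (.node [] (.node [] .nil (.node [] .nil (.node [] .nil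 (.node [(146,(.ofNat 1),1)] .nil .nil)))) (.node [] (.node [] .nil (.node [] .nil (.node [(125,(.negSucc 0),1)] .nil .nil))) (.node [] .nil (.node [] .nil (.node [(208,(.ofNat 1),1)] .nil .nil))))) (.node [] (.node [] (.node [] .nil (.node [] .nil (.node [(106,(.negSucc 0),1)] .nil .nil))) (.node [(8,(.negSucc 0),1)] .nil (.node [(26,(.negSucc 0),1)] .nil (.node [(175,(.negSucc 0),1)] .nil .nil)))) (.node [] (.node [] (.node [] .nil (.node [(70,(.negSucc 0),1)] .nil .nil)) (.node [] .nil (.node [(136,(.ofNat 1),1)] .nil .nil))) (.node [] (.node [] .nil (.node [(100,(.negSucc 0),1)] .nil .nil)) (.node [(39,(.ofNat 1),1)] .nil .nil)))))) (.node [] (.node [] (.node [] (.node [] (.node [] (.node [] .nil (.node [(43,(.ofNat 1),1)] .nil .nil)) (.node [(14,(.negSucc 0),1)] .nil .nil)) .nil) (.node [] .nil (.node [(12,(.negSucc 0),1)] (.node [] .nil (.node [(92,(.ofNat 1),1)] .nil .nil)) (.node [(31,(.ofNat 1),1)] .nil (.node [(199,(.ofNat 1),1)] .nil .nil))))) (.node [] .nil (.node []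 (.node [] (.node [] .nil (.node [(63,(.negSucc 0),1)] .nil .nil)) .nil) .nil))) (.node [] (.node [] (.node [] (.node [] .nil (.node [] .nil (.node [(105,(.ofNat 1),1)] .nil .nil))) (.node [] (.node [] .nil (.node [(78,(.ofNat 1),1)] .nil .nil)) .nil)) (.node [] (.node [] (.node [] .nil (.node [(57,(.negSucc 0),1)] .nil .nil)) (.node [] .nil (.node [(0,(.negSucc 0),1),(1,(.negSucc 1),1),(2,(.negSucc 1),1),(3,(.negSucc 2),1),(4,(.negSucc 1),1),(5,(.negSucc 0),1),(6,(.negSucc 0),1),(7,(.negSucc 0),1),(41,(.negSucc 0),2)] .nil .nil))) (.node [] (.node [] .nil (.node [(96,(.negSucc 0),1)] .nil .nil)) .nil))) .nil))) (.node [(41,(.ofNat 1),1)] (.node [] (.node [] (.node [] .nil (.node [] (.node [] .nil (.node [(20,(.ofNat 1),1)] .nil .nil)) (.node [] (.node [] .nil (.node [(89,(.negSucc 0),1)] .nil .nil)) (.node [] .nil (.node [(189,(.ofNat 1),1)] .nil .nil))))) (.node [] (.node [] .nil (.node [] .nil (.node [] .nil (.node [(167,(.negSucc 0),1)] .nil .nil)))) (.node [] (.node [] .nil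 (.node [] .nil (.node [(132,(.negSucc 0),1)] .nil .nil))) (.node [] (.node [] .nil (.node [(99,(.ofNat 1),1)] .nil .nil)) .nil)))) (.node [(41,(.negSucc 0),1)] (.node [] (.node [] .nil (.node [] .nil (.node [] .nil (.node [(147,(.ofNat 1),1)] .nil .nil)))) (.node [] (.node [] (.node [] .nil (.node [(51,(.ofNat 1),1)] .nil .nil)) (.node [] .nil (.node [(127,(.negSucc 0),1)] .nil .nil))) (.node [] (.node [] .nil (.node [(95,(.negSucc 0),1)] .nil .nil)) .nil))) (.node [] (.node [] .nil (.node [] .nil (.node [(27,(.negSucc 0),1)] .nil .nil))) .nil))) (.node [] (.node [] (.node [] (.node [] (.node [] .nil (.node [] .nil (.node [(104,(.negSucc 0),1)] .nil .nil))) (.node [] (.node [] .nil (.node [(77,(.negSucc 0),1)] .nil .nil)) .nil)) (.node [] .nil (.node [] .nil (.node [(32,(.ofNat 1),1)] .nil (.node [(205,(.ofNat 1),1)] .nil .nil))))) (.node [] (.node [] .nil (.node [] .nil (.node [] .nil (.node [(174,(.negSucc 0),1)] .nil .nil)))) (.node [] (.node [] (.node [] .nil (.node [(67,(.ofNat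 1),1)] .nil .nil)) (.node [] .nil (.node [(135,(.ofNat 1),1)] .nil .nil))) (.node [] .nil (.node [(38,(.ofNat 1),1)] .nil .nil))))) (.node [(41,(.ofNat 1),1)] (.node [] .nil (.node [] (.node [] (.node [] .nil (.node [(60,(.ofNat 1),1)] .nil .nil)) .nil) (.node [] .nil (.node [(35,(.negSucc 0),1)] .nil (.node [(211,(.ofNat 1),1)] .nil .nil))))) (.node [] (.node [] .nil (.node [(11,(.negSucc 0),1)] .nil .nil)) (.node [] (.node [] (.node [] .nil (.node [(73,(.ofNat 1),1)] .nil .nil)) (.node [] .nil (.node [(140,(.negSucc 0),1)] .nil .nil))) .nil))))))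
noncomputable def ex34 : Trie (List (ℕ × ℤ × ℕ)) := (.node [] (.node [] (.node [] (.node [] (.node [] (.node [] (.node [] .nil (.node [] .nil (.node [(102,(.ofNat 1),1)] .nil .nil))) (.node [] (.node [] .nil (.node [(75,(.ofNat 1),1)] .nil .nil)) (.node [] .nil (.node [(142,(.ofNat 1),1)] .nil .nil)))) .nil) (.node [] .nil (.node [] .nil (.node [] (.node [] .nil (.node [(99,(.ofNat 1),1)] .nil .nil)) (.node [(37,(.negSucc 0),1)] .nil .nil))))) (.node [] (.node [] .nil (.node [] (.node [] .nil (.node [] .nil (.node [(126,(.negSucc 0),1)] .nil .nil))) (.node [] (.node [] .nil (.node [(95,(.negSucc 0),1)] .nil .nil)) (.node [] .nil (.node [(209,(.negSucc 0),1)] .nil .nil))))) (.node [] (.node [] .nil (.node [(9,(.negSucc 0),1)] .nil (.node [] .nil (.node [(176,(.ofNat 1),1)] .nil .nil)))) (.node [] (.node [] (.node [] .nil (.node [(71,(.negSucc 0),1)] .nil .nil)) (.node [] .nil (.node [(137,(.negSucc 0),1)] .nil .nil))) (.node [] .nil (.node [(40,(.ofNat 1),1)] .nil .nil)))))) (.node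 [] (.node [] (.node [] (.node [] (.node [] .nil (.node [] .nil (.node [(104,(.negSucc 0),1)] .nil .nil))) (.node [] (.node [] .nil (.node [(77,(.negSucc 0),1)] .nil .nil)) .nil)) (.node [] .nil (.node [] (.node [] .nil (.node [(93,(.ofNat 1),1)] .nil .nil)) (.node [] .nil (.node [(200,(.negSucc 0),1)] .nil .nil))))) (.node [] (.node [] .nil (.node [] .nil (.node [] .nil (.node [(174,(.negSucc 0),1)] .nil .nil)))) (.node [] (.node [] .nil (.node [] .nil (.node [(135,(.ofNat 1),1)] .nil .nil))) (.node [] .nil (.node [(38,(.negSucc 0),1)] .nil .nil))))) (.node [(42,(.ofNat 1),1)] (.node [] .nil (.node [] (.node [] (.node [] .nil (.node [(58,(.negSucc 0),1)] .nil .nil)) (.node [] .nil (.node [(128,(.negSucc 0),1)] .nil .nil))) (.node [] (.node [] .nil (.node [(97,(.negSucc 0),1)] .nil .nil)) (.node [(35,(.ofNat 1),1)] .nil (.node [(211,(.ofNat 1),1)] .nil .nil))))) (.node [] (.node [] .nil (.node [(11,(.ofNat 1),1)] .nil .nil)) (.node [] (.node [] (.node [] .nil (.node [(73,(.ofNat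 1),1)] .nil .nil)) (.node [] .nil (.node [(140,(.negSucc 0),1)] .nil .nil))) .nil))))) (.node [(42,(.ofNat 1),1)] (.node [] (.node [] (.node [] (.node [] (.node [] (.node [] .nil (.node [(43,(.ofNat 1),1)] .nil .nil)) (.node [(14,(.ofNat 1),1)] .nil .nil)) .nil) (.node [] (.node [] .nil (.node [(21,(.ofNat 1),1)] .nil .nil)) (.node [(12,(.ofNat 1),1)] (.node [] .nil (.node [(90,(.negSucc 0),1)] .nil .nil)) (.node [(31,(.negSucc 0),1)] .nil (.node [(190,(.negSucc 0),1)] .nil .nil))))) (.node [] (.node [] .nil (.node [] .nil (.node [] .nil (.node [(168,(.ofNat 1),1)] .nil .nil)))) (.node [] (.node [] (.node [] .nil (.node [(63,(.negSucc 0),1)] .nil .nil)) (.node [] .nil (.node [(133,(.ofNat 1),1)] .nil .nil))) .nil))) (.node [(42,(.negSucc 0),1)] (.node [] (.node [] (.node [] .nil (.node [] .nil (.node [(105,(.ofNat 1),1)] .nil .nil))) (.node [] (.node [] .nil (.node [(78,(.ofNat 1),1)] .nil .nil)) (.node [] .nil (.node [(148,(.negSucc 0),1)] .nil .nil)))) (.node [] (.node [] (.node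 [] .nil (.node [(52,(.ofNat 1),1)] .nil .nil)) (.node [] .nil (.node [(0,(.negSucc 0),1),(1,(.negSucc 1),1),(2,(.negSucc 1),1),(3,(.negSucc 2),1),(4,(.negSucc 1),1),(5,(.negSucc 0),1),(6,(.negSucc 0),1),(42,(.negSucc 0),2)] .nil .nil))) .nil)) (.node [] (.node [] .nil (.node [] .nil (.node [(28,(.negSucc 0),1)] .nil .nil))) .nil))) (.node [] (.node [] (.node [] (.node [] .nil (.node [] .nil (.node [] .nil (.node [(146,(.ofNat 1),1)] .nil .nil)))) (.node [] .nil (.node [] .nil (.node [(33,(.ofNat 1),1)] .nil (.node [(206,(.negSucc 0),1)] .nil .nil))))) (.node [] (.node [] (.node [] .nil (.node [] .nil (.node [(106,(.negSucc 0),1)] .nil .nil))) (.node [] .nil (.node [(26,(.ofNat 1),1)] .nil .nil))) (.node [] (.node [] (.node [] .nil (.node [(68,(.ofNat 1),1)] .nil .nil)) .nil) (.node [] (.node [] .nil (.node [(100,(.negSucc 0),1)] .nil .nil)) .nil)))) (.node [(42,(.negSucc 0),1)] (.node [] .nil (.node [] (.node [] (.node [] .nil (.node [(61,(.ofNat 1),1)] .nil .nil)) (.node [(22,(.negSucc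 0),1)] .nil (.node [(131,(.negSucc 0),1)] .nil .nil))) (.node [(13,(.ofNat 1),1)] .nil .nil))) (.node [] (.node [] (.node [] .nil (.node [(19,(.negSucc 0),1)] .nil .nil)) .nil) (.node [] .nil (.node [] .nil (.node [(41,(.ofNat 1),1)] .nil .nil))))))))
noncomputable def ex35 : Trie (List (ℕ × ℤ × ℕ)) := (.node [] (.node [] (.node [] (.node [] (.node [] (.node [] (.node [] .nil (.node [(14,(.negSucc 0),1)] .nil (.node [(103,(.ofNat 1),1)] .nil .nil))) (.node [] (.node [] .nil (.node [(76,(.ofNat 1),1)] .nil .nil)) .nil)) (.node [] (.node [] .nil (.node [(21,(.negSucc 0),1)] .nil .nil)) (.node [(12,(.negSucc 0),1)] .nil .nil))) (.node [] .nil (.node [] (.node [] (.node [] .nil (.node [(63,(.negSucc 0),1)] .nil .nil)) (.node [] .nil (.node [(133,(.ofNat 1),1)] .nil .nil))) .nil))) (.node [] (.node [] (.node [] (.node [] .nil (.node [] .nil (.node [(105,(.ofNat 1),1)] .nil .nil))) (.node [] (.node [] .nil (.node [(78,(.ofNat 1),1)] .nil .nil)) (.node [] .nil (.node [(148,(.negSucc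 0),1)] .nil .nil)))) (.node [] (.node [] .nil (.node [] .nil (.node [(0,(.negSucc 0),1),(1,(.negSucc 1),1),(2,(.negSucc 1),1),(3,(.negSucc 2),1),(4,(.negSucc 1),1),(5,(.negSucc 0),1),(43,(.negSucc 0),2)] .nil .nil))) (.node [] .nil (.node [] .nil (.node [(210,(.ofNat 1),1)] .nil .nil))))) (.node [] (.node [] .nil (.node [(10,(.negSucc 0),1)] .nil (.node [(28,(.ofNat 1),1)] .nil .nil))) (.node [] (.node [] (.node [] .nil (.node [(72,(.negSucc 0),1)] .nil .nil)) .nil) .nil)))) (.node [] (.node [] (.node [] .nil (.node [] .nil (.node [] (.node [] .nil (.node [(94,(.ofNat 1),1)] .nil .nil)) (.node [(33,(.negSucc 0),1)] .nil (.node [(201,(.ofNat 1),1)] .nil .nil))))) (.node [] (.node [] (.node [] .nil (.node [] .nil (.node [(106,(.negSucc 0),1)] .nil .nil))) (.node [] .nil (.node [] .nil (.node [(175,(.ofNat 1),1)] .nil .nil)))) (.node [] (.node [] .nil (.node [] .nil (.node [(136,(.negSucc 0),1)] .nil .nil))) (.node [] (.node [] .nil (.node [(100,(.negSucc 0),1)] .nil .nil)) (.node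 [(39,(.negSucc 0),1)] .nil .nil))))) (.node [(43,(.negSucc 0),1)] (.node [] .nil (.node [] (.node [] (.node [] .nil (.node [(59,(.negSucc 0),1)] .nil .nil)) (.node [(22,(.ofNat 1),1)] .nil (.node [(130,(.negSucc 0),1)] .nil .nil))) (.node [(13,(.negSucc 0),1)] (.node [] .nil (.node [(98,(.negSucc 0),1)] .nil .nil)) (.node [(36,(.ofNat 1),1)] .nil .nil)))) (.node [] .nil (.node [] (.node [] .nil (.node [] .nil (.node [(141,(.ofNat 1),1)] .nil .nil))) (.node [] .nil (.node [(42,(.ofNat 1),1)] .nil .nil))))))) (.node [(43,(.ofNat 1),1)] (.node [] (.node [] (.node [] (.node [] (.node [] .nil (.node [] .nil (.node [(104,(.negSucc 0),1)] .nil .nil))) (.node [] (.node [] .nil (.node [(77,(.negSucc 0),1)] .nil .nil)) .nil)) (.node [] .nil (.node [] (.node [] .nil (.node [(91,(.negSucc 0),1)] .nil .nil)) (.node [(32,(.negSucc 0),1)] .nil (.node [(191,(.ofNat 1),1)] .nil .nil))))) (.node [] (.node [] .nil (.node [] .nil (.node [] .nil (.node [(169,(.negSucc 0),1)] .nil .nil)))) .nil)) (.node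 [] (.node [] .nil (.node [] (.node [] (.node [] .nil (.node [(53,(.ofNat 1),1)] .nil .nil)) (.node [] .nil (.node [(129,(.negSucc 0),1)] .nil .nil))) (.node [] .nil (.node [] .nil (.node [(211,(.ofNat 1),1)] .nil .nil))))) (.node [] (.node [] .nil (.node [(11,(.negSucc 0),1)] .nil .nil)) (.node [] (.node [] (.node [] .nil (.node [(73,(.ofNat 1),1)] .nil .nil)) .nil) (.node [] .nil (.node [(41,(.ofNat 1),1)] .nil .nil)))))) (.node [] (.node [] (.node [] (.node [] .nil (.node [] .nil (.node [] .nil (.node [(147,(.negSucc 0),1)] .nil .nil)))) (.node [] .nil (.node [] (.node [] .nil (.node [(95,(.negSucc 0),1)] .nil .nil)) (.node [] .nil (.node [(207,(.ofNat 1),1)] .nil .nil))))) (.node [] (.node [] .nil (.node [] .nil (.node [(27,(.ofNat 1),1)] .nil (.node [(176,(.ofNat 1),1)] .nil .nil)))) (.node [] (.node [] (.node [] .nil (.node [(69,(.ofNat 1),1)] .nil .nil)) (.node [] .nil (.node [(137,(.negSucc 0),1)] .nil .nil))) (.node [] .nil (.node [(40,(.negSucc 0),1)] .nil .nil))))) (.node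 [] (.node [] .nil (.node [] (.node [] (.node [] .nil (.node [(62,(.ofNat 1),1)] .nil .nil)) (.node [] .nil (.node [(132,(.ofNat 1),1)] .nil .nil))) (.node [] (.node [] .nil (.node [(99,(.ofNat 1),1)] .nil .nil)) (.node [(37,(.ofNat 1),1)] .nil .nil)))) (.node [] (.node [] (.node [] .nil (.node [(20,(.negSucc 0),1)] .nil .nil)) .nil) (.node [] (.node [] .nil (.node [] .nil (.node [(142,(.ofNat 1),1)] .nil .nil))) .nil))))))
noncomputable def ex36 : Trie (List (ℕ × ℤ × ℕ)) := (.node [] (.node [] (.node [] (.node [] (.node [] .nil (.node [] (.node [] .nil (.node [] .nil (.node [(122,(.negSucc 0),1)] .nil .nil))) (.node [] (.node [] .nil (.node [(88,(.negSucc 0),1)] .nil .nil)) (.node [] .nil (.node [(192,(.ofNat 1),1)] .nil .nil))))) (.node [] (.node [] (.node [] (.node [] .nil (.node [(49,(.negSucc 0),1)] .nil .nil)) (.node [] .nil (.node [(114,(.ofNat 1),1)] .nil .nil))) (.node [] (.node [] .nil (.node [(80,(.negSucc 0),1)] .nil .nil)) (.node [(29,(.ofNat 1),1)] .nil (.node [(160,(.negSucc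 0),1)] .nil .nil)))) .nil)) (.node [] (.node [] (.node [] (.node [] (.node [] .nil (.node [(46,(.negSucc 0),1)] .nil .nil)) .nil) (.node [] .nil (.node [(25,(.ofNat 1),1)] .nil .nil))) (.node [] (.node [] (.node [] .nil (.node [(66,(.ofNat 1),1)] .nil .nil)) .nil) .nil)) (.node [] (.node [] (.node [] (.node [] .nil (.node [(54,(.ofNat 1),1)] .nil .nil)) .nil) (.node [] .nil .nil)) .nil))) (.node [] (.node [] (.node [] (.node [] .nil (.node [] .nil (.node [] .nil (.node [(151,(.negSucc 0),1)] .nil .nil)))) (.node [] (.node [] (.node [] .nil (.node [(64,(.ofNat 1),1)] .nil .nil)) (.node [] .nil (.node [(124,(.negSucc 0),1)] .nil .nil))) .nil)) (.node [] (.node [] .nil (.node [(9,(.ofNat 1),1)] .nil (.node [(34,(.ofNat 1),1)] .nil .nil))) .nil)) (.node [] (.node [] (.node [] .nil (.node [] .nil (.node [] .nil (.node [(155,(.negSucc 0),1)] .nil .nil)))) (.node [] .nil (.node [] .nil (.node [] .nil (.node [(213,(.negSucc 0),1)] .nil .nil))))) (.node [] (.node [] (.node [] (.node []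 .nil (.node [(56,(.ofNat 1),1)] .nil .nil)) (.node [(18,(.negSucc 0),1)] .nil (.node [(119,(.ofNat 1),1)] .nil .nil))) (.node [] (.node [] .nil (.node [(86,(.negSucc 0),1)] .nil .nil)) (.node [] .nil (.node [(178,(.ofNat 1),1)] .nil .nil)))) (.node [] .nil (.node [] (.node [] .nil (.node [(108,(.ofNat 1),1)] .nil .nil)) .nil)))))) (.node [(44,(.negSucc 0),1)] (.node [] (.node [] (.node [] (.node [] .nil (.node [] .nil (.node [] .nil (.node [(150,(.negSucc 0),1)] .nil .nil)))) (.node [] (.node [] .nil (.node [] .nil (.node [(123,(.ofNat 1),1)] .nil .nil))) .nil)) (.node [] (.node [] (.node [] (.node [] .nil (.node [(50,(.ofNat 1),1)] .nil .nil)) (.node [(16,(.negSucc 0),1)] .nil (.node [(115,(.negSucc 0),1)] .nil .nil))) (.node [(8,(.ofNat 1),1)] (.node [] .nil (.node [(81,(.ofNat 1),1)] .nil .nil)) (.node [(30,(.ofNat 1),1)] .nil .nil))) .nil)) (.node [(44,(.ofNat 1),1)] (.node [] (.node [] (.node [] (.node [] .nil (.node [(47,(.ofNat 1),1)] .nil .nil)) .nil) .nil) (.node [] .nil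 (.node [] .nil (.node [] .nil (.node [(212,(.negSucc 0),1)] .nil .nil))))) (.node [] (.node [] (.node [] (.node [] .nil (.node [(55,(.negSucc 0),1)] .nil .nil)) (.node [(17,(.negSucc 0),1)] .nil (.node [(118,(.negSucc 0),1)] .nil .nil))) (.node [] .nil (.node [] .nil (.node [(177,(.ofNat 1),1)] .nil .nil)))) (.node [] (.node [] .nil (.node [] .nil (.node [(149,(.negSucc 0),1)] .nil .nil))) (.node [] (.node [] .nil (.node [(107,(.negSucc 0),1)] .nil .nil)) .nil))))) (.node [] (.node [] (.node [] (.node [] (.node [] (.node [] .nil (.node [(45,(.ofNat 1),1)] .nil .nil)) .nil) (.node [] .nil (.node [(24,(.ofNat 1),1)] .nil .nil))) (.node [] (.node [] (.node [] .nil (.node [(65,(.negSucc 0),1)] .nil .nil)) (.node [] .nil (.node [(0,(.negSucc 0),1),(1,(.negSucc 0),1),(2,(.negSucc 1),1),(3,(.negSucc 2),1),(4,(.negSucc 2),1),(5,(.negSucc 2),1),(6,(.negSucc 1),1),(7,(.negSucc 0),1),(44,(.negSucc 0),2)] .nil .nil))) .nil)) (.node [] (.node [] .nil (.node [(10,(.ofNat 1),1)] .nil .nil))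 .nil)) (.node [] (.node [] (.node [] (.node [] (.node [] .nil (.node [(48,(.ofNat 1),1)] .nil .nil)) (.node [] .nil (.node [(113,(.negSucc 0),1)] .nil .nil))) (.node [] (.node [] .nil (.node [(79,(.ofNat 1),1)] .nil .nil)) (.node [] .nil (.node [(156,(.negSucc 0),1)] .nil .nil)))) (.node [] .nil (.node [] .nil (.node [] .nil (.node [(214,(.negSucc 0),1)] .nil .nil))))) (.node [] (.node [] (.node [] .nil (.node [] .nil (.node [(120,(.negSucc 0),1)] .nil .nil))) (.node [] (.node [] .nil (.node [(87,(.ofNat 1),1)] .nil .nil)) (.node [] .nil (.node [(182,(.ofNat 1),1)] .nil .nil)))) (.node [] (.node [] .nil (.node [(23,(.ofNat 1),1)] .nil .nil)) (.node [(15,(.negSucc 0),1)] (.node [] .nil (.node [(109,(.negSucc 0),1)] .nil .nil)) .nil)))))))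
noncomputable def ex37 : Trie (List (ℕ × ℤ × ℕ)) := (.node [] (.node [] (.node [] (.node [] (.node [] (.node [] .nil (.node [] .nil (.node [] .nil (.node [(150,(.negSucc 0),1)] .nil .nil)))) (.node [] (.node [] .nil (.node [] .nil (.node [(125,(.ofNat 1),1)] .nil .nil))) (.node [] (.node [] .nil (.node [(90,(.negSucc 0),1)] .nil .nil)) (.node [] .nil (.node [(193,(.negSucc 0),1)] .nil .nil))))) (.node [] (.node [] (.node [] (.node [] .nil (.node [(51,(.negSucc 0),1)] .nil .nil)) (.node [(16,(.ofNat 1),1)] .nil .nil)) (.node [(9,(.negSucc 0),1)] .nil (.node [] .nil (.node [(161,(.ofNat 1),1)] .nil .nil)))) .nil)) (.node [(45,(.ofNat 1),1)] (.node [] (.node [] .nil (.node [] .nil (.node [(26,(.ofNat 1),1)] .nil .nil))) (.node [] (.node [] (.node [] .nil (.node [(68,(.ofNat 1),1)] .nil .nil)) .nil) (.node [] .nil (.node [] .nil (.node [(212,(.negSucc 0),1)] .nil .nil))))) (.node [] (.node [] (.node [] .nil (.node [(17,(.ofNat 1),1)] .nil (.node [(119,(.ofNat 1),1)] .nil .nil))) (.node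 [] .nil (.node [] .nil (.node [(177,(.ofNat 1),1)] .nil .nil)))) (.node [] (.node [] .nil (.node [] .nil (.node [(149,(.negSucc 0),1)] .nil .nil))) (.node [] (.node [] .nil (.node [(108,(.ofNat 1),1)] .nil .nil)) (.node [(44,(.ofNat 1),1)] .nil .nil)))))) (.node [] (.node [] (.node [] (.node [] (.node [] (.node [] .nil (.node [(47,(.negSucc 0),1)] .nil .nil)) .nil) (.node [] .nil (.node [(24,(.negSucc 0),1)] .nil (.node [(152,(.ofNat 1),1)] .nil .nil)))) (.node [] (.node [] .nil (.node [] .nil (.node [(0,(.negSucc 0),1),(1,(.negSucc 0),1),(2,(.negSucc 1),1),(3,(.negSucc 2),1),(4,(.negSucc 2),1),(5,(.negSucc 1),1),(6,(.negSucc 1),1),(7,(.negSucc 0),1),(45,(.negSucc 0),2)] .nil .nil))) .nil)) (.node [] (.node [] .nil (.node [] .nil (.node [(35,(.ofNat 1),1)] .nil .nil))) .nil)) (.node [(45,(.ofNat 1),1)] (.node [] (.node [] (.node [] (.node [] .nil (.node [(48,(.ofNat 1),1)] .nil .nil)) (.node [] .nil (.node [(114,(.ofNat 1),1)] .nil .nil))) (.node [] (.node [] .nil (.node [(80,(.negSucc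 0),1)] .nil .nil)) .nil)) (.node [] .nil (.node [] .nil (.node [] .nil (.node [(215,(.ofNat 1),1)] .nil .nil))))) (.node [] (.node [] (.node [] (.node [] .nil (.node [(58,(.ofNat 1),1)] .nil .nil)) (.node [(19,(.negSucc 0),1)] .nil .nil)) (.node [] .nil (.node [] .nil (.node [(179,(.negSucc 0),1)] .nil .nil)))) (.node [] (.node [] .nil (.node [(23,(.negSucc 0),1)] .nil .nil)) (.node [(15,(.ofNat 1),1)] .nil .nil)))))) (.node [(45,(.negSucc 0),1)] (.node [] (.node [] (.node [] (.node [] (.node [] (.node [] .nil (.node [(46,(.ofNat 1),1)] .nil .nil)) .nil) .nil) (.node [] (.node [] (.node [] .nil (.node [(64,(.ofNat 1),1)] .nil .nil)) (.node [] .nil (.node [(126,(.negSucc 0),1)] .nil .nil))) .nil)) (.node [] (.node [] (.node [] (.node [] .nil (.node [(52,(.ofNat 1),1)] .nil .nil)) (.node [] .nil (.node [(116,(.negSucc 0),1)] .nil .nil))) (.node [] (.node [] .nil (.node [(82,(.ofNat 1),1)] .nil .nil)) (.node [(31,(.ofNat 1),1)] .nil .nil))) .nil)) (.node [(45,(.negSucc 0),1)] (.node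 [] (.node [] (.node [] .nil (.node [] .nil (.node [(113,(.negSucc 0),1)] .nil .nil))) (.node [] (.node [] .nil (.node [(79,(.ofNat 1),1)] .nil .nil)) (.node [] .nil (.node [(155,(.negSucc 0),1)] .nil .nil)))) .nil) (.node [] (.node [] (.node [] (.node [] .nil (.node [(57,(.negSucc 0),1)] .nil .nil)) .nil) (.node [] (.node [] .nil (.node [(86,(.negSucc 0),1)] .nil .nil)) .nil)) .nil))) (.node [] (.node [] (.node [] .nil (.node [] (.node [] (.node [] .nil (.node [(67,(.negSucc 0),1)] .nil .nil)) (.node [] .nil (.node [(131,(.negSucc 0),1)] .nil .nil))) .nil)) (.node [] (.node [] (.node [] (.node [] .nil (.node [(54,(.ofNat 1),1)] .nil .nil)) (.node [] .nil (.node [(118,(.negSucc 0),1)] .nil .nil))) (.node [(11,(.ofNat 1),1)] .nil .nil)) (.node [] .nil (.node [] (.node [] .nil (.node [(107,(.negSucc 0),1)] .nil .nil)) .nil)))) (.node [] (.node [] (.node [] .nil (.node [(8,(.negSucc 0),1)] .nil (.node [(29,(.negSucc 0),1)] .nil (.node [(157,(.ofNat 1),1)] .nil .nil)))) (.node [] .nil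 (.node [] .nil (.node [] .nil (.node [(216,(.ofNat 1),1)] .nil .nil))))) (.node [] (.node [] (.node [] .nil (.node [] .nil (.node [(121,(.negSucc 0),1)] .nil .nil))) (.node [] (.node [] .nil (.node [(89,(.ofNat 1),1)] .nil .nil)) (.node [] .nil (.node [(183,(.negSucc 0),1)] .nil .nil)))) (.node [] .nil (.node [] (.node [] .nil (.node [(110,(.negSucc 0),1)] .nil .nil)) .nil)))))))
noncomputable def ex38 : Trie (List (ℕ × ℤ × ℕ)) := (.node [] (.node [] (.node [] (.node [] (.node [] (.node [] (.node [] (.node [] .nil (.node [(47,(.ofNat 1),1)] .nil .nil)) .nil) .nil) (.node [] (.node [] .nil (.node [] .nil (.node [(127,(.negSucc 0),1)] .nil .nil))) (.node [] (.node [] .nil (.node [(91,(.negSucc 0),1)] .nil .nil)) (.node [] .nil (.node [(194,(.ofNat 1),1)] .nil .nil))))) (.node [] (.node [] (.node [] .nil (.node [] .nil (.node [(116,(.negSucc 0),1)] .nil .nil))) (.node [(10,(.negSucc 0),1)] (.node [] .nil (.node [(82,(.ofNat 1),1)] .nil .nil)) (.node [] .nil (.node [(162,(.negSucc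 0),1)] .nil .nil)))) .nil)) (.node [(46,(.ofNat 1),1)] (.node [] (.node [] (.node [] .nil (.node [] .nil (.node [(113,(.negSucc 0),1)] .nil .nil))) (.node [] (.node [] .nil (.node [(79,(.ofNat 1),1)] .nil .nil)) (.node [(27,(.ofNat 1),1)] .nil (.node [(155,(.negSucc 0),1)] .nil .nil)))) (.node [] (.node [] (.node [] .nil (.node [(69,(.ofNat 1),1)] .nil .nil)) .nil) (.node [] .nil (.node [] .nil (.node [(213,(.ofNat 1),1)] .nil .nil))))) (.node [] (.node [] (.node [] (.node [] .nil (.node [(57,(.negSucc 0),1)] .nil .nil)) (.node [] .nil (.node [(120,(.ofNat 1),1)] .nil .nil))) .nil) (.node [] .nil (.node [] (.node [] .nil (.node [(109,(.ofNat 1),1)] .nil .nil)) .nil))))) (.node [] (.node [] (.node [] (.node [] .nil (.node [] .nil (.node [] .nil (.node [(153,(.negSucc 0),1)] .nil .nil)))) (.node [] (.node [] (.node [] .nil (.node [(67,(.negSucc 0),1)] .nil .nil)) (.node [] .nil (.node [(129,(.negSucc 0),1)] .nil .nil))) .nil)) (.node [] (.node [] (.node [] .nil (.node [] .nil (.node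 [(118,(.negSucc 0),1)] .nil .nil))) (.node [(11,(.negSucc 0),1)] .nil (.node [(36,(.ofNat 1),1)] .nil .nil))) (.node [] .nil (.node [] (.node [] .nil (.node [(107,(.negSucc 0),1)] .nil .nil)) .nil)))) (.node [(46,(.negSucc 0),1)] (.node [] (.node [] (.node [] (.node [] .nil (.node [(49,(.ofNat 1),1)] .nil .nil)) (.node [] .nil (.node [(115,(.ofNat 1),1)] .nil .nil))) (.node [(8,(.ofNat 1),1)] (.node [] .nil (.node [(81,(.negSucc 0),1)] .nil .nil)) (.node [(29,(.ofNat 1),1)] .nil .nil))) .nil) (.node [] (.node [] (.node [] (.node [] .nil (.node [(59,(.ofNat 1),1)] .nil .nil)) (.node [(20,(.negSucc 0),1)] .nil (.node [(121,(.negSucc 0),1)] .nil .nil))) (.node [] (.node [] .nil (.node [(89,(.ofNat 1),1)] .nil .nil)) (.node [] .nil (.node [(180,(.ofNat 1),1)] .nil .nil)))) (.node [] .nil (.node [] (.node [] .nil (.node [(110,(.negSucc 0),1)] .nil .nil)) (.node [(45,(.ofNat 1),1)] .nil .nil))))))) (.node [(46,(.negSucc 0),1)] (.node [] (.node [] (.node [] (.node [] .nil (.node [] .nil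 (.node [(24,(.ofNat 1),1)] .nil .nil))) (.node [] (.node [] (.node [] .nil (.node [(65,(.ofNat 1),1)] .nil .nil)) (.node [] .nil (.node [(0,(.negSucc 0),1),(1,(.negSucc 0),1),(2,(.negSucc 1),1),(3,(.negSucc 2),1),(4,(.negSucc 2),1),(5,(.negSucc 1),1),(6,(.negSucc 0),1),(7,(.negSucc 0),1),(46,(.negSucc 0),2)] .nil .nil))) .nil)) (.node [] (.node [] (.node [] (.node [] .nil (.node [(53,(.ofNat 1),1)] .nil .nil)) .nil) (.node [] .nil (.node [(32,(.ofNat 1),1)] .nil .nil))) .nil)) (.node [] (.node [] .nil (.node [] .nil (.node [] .nil (.node [] .nil (.node [(215,(.ofNat 1),1)] .nil .nil))))) (.node [] (.node [] .nil (.node [] (.node [] .nil (.node [(87,(.negSucc 0),1)] .nil .nil)) .nil)) (.node [] (.node [] .nil (.node [(23,(.ofNat 1),1)] .nil .nil)) (.node [(15,(.negSucc 0),1)] .nil .nil))))) (.node [] (.node [] (.node [] .nil (.node [] (.node [] .nil (.node [] .nil (.node [(132,(.ofNat 1),1)] .nil .nil))) .nil)) (.node [] (.node [] (.node [] (.node [] .nil (.node [(55,(.ofNat 1),1)]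 .nil .nil)) (.node [(17,(.negSucc 0),1)] .nil .nil)) (.node [] .nil (.node [] .nil (.node [(177,(.ofNat 1),1)] .nil .nil)))) (.node [] (.node [] .nil (.node [] .nil (.node [(149,(.negSucc 0),1)] .nil .nil))) (.node [] .nil (.node [(44,(.negSucc 0),1)] .nil .nil))))) (.node [(46,(.ofNat 1),1)] (.node [] (.node [] (.node [] (.node [] .nil (.node [(51,(.negSucc 0),1)] .nil .nil)) (.node [(16,(.negSucc 0),1)] .nil .nil)) (.node [] .nil (.node [] .nil (.node [(158,(.negSucc 0),1)] .nil .nil)))) (.node [] .nil (.node [] .nil (.node [] .nil (.node [(217,(.negSucc 0),1)] .nil .nil))))) (.node [] (.node [] .nil (.node [] .nil (.node [] .nil (.node [(184,(.ofNat 1),1)] .nil .nil)))) (.node [] (.node [] .nil (.node [] .nil (.node [(150,(.negSucc 0),1)] .nil .nil))) .nil))))))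
noncomputable def ex39 : Trie (List (ℕ × ℤ × ℕ)) := (.node [] (.node [] (.node [] (.node [] (.node [] (.node [] .nil (.node [] .nil (.node [(24,(.negSucc 0),1)] .nil .nil))) (.node [] (.node [] .nil (.node [] .nil (.node [(0,(.negSucc 0),1),(1,(.negSucc 0),1),(2,(.negSucc 1),1),(3,(.negSucc 2),1),(4,(.negSucc 2),1),(5,(.negSucc 1),1),(6,(.negSucc 0),1),(47,(.negSucc 0),2)] .nil .nil))) (.node [] .nil (.node [] .nil (.node [(195,(.negSucc 0),1)] .nil .nil))))) (.node [] (.node [] (.node [] (.node [] .nil (.node [(53,(.ofNat 1),1)] .nil .nil)) .nil) (.node [] .nil (.node [] .nil (.node [(163,(.ofNat 1),1)] .nil .nil)))) .nil)) (.node [(47,(.ofNat 1),1)] (.node [] (.node [] (.node [] .nil (.node [] .nil (.node [(114,(.negSucc 0),1)] .nil .nil))) (.node [] (.node [] .nil (.node [(80,(.ofNat 1),1)] .nil .nil)) (.node [(28,(.ofNat 1),1)] .nil .nil))) (.node [] .nil (.node [] .nil (.node [] .nil (.node [(214,(.negSucc 0),1)] .nil .nil))))) (.node [] (.node [] (.node [] (.node [] .nil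 (.node [(58,(.negSucc 0),1)] .nil .nil)) .nil) .nil) (.node [] (.node [] .nil (.node [(23,(.negSucc 0),1)] .nil .nil)) (.node [(15,(.ofNat 1),1)] .nil .nil))))) (.node [] (.node [] (.node [] (.node [] .nil (.node [] .nil (.node [] .nil (.node [(154,(.ofNat 1),1)] .nil .nil)))) (.node [] (.node [] (.node [] .nil (.node [(68,(.negSucc 0),1)] .nil .nil)) (.node [] .nil (.node [(130,(.ofNat 1),1)] .nil .nil))) .nil)) (.node [] (.node [] (.node [] .nil (.node [(17,(.ofNat 1),1)] .nil (.node [(119,(.negSucc 0),1)] .nil .nil))) (.node [] .nil (.node [(37,(.ofNat 1),1)] .nil (.node [(177,(.ofNat 1),1)] .nil .nil)))) (.node [] (.node [] .nil (.node [] .nil (.node [(149,(.negSucc 0),1)] .nil .nil))) (.node [] (.node [] .nil (.node [(108,(.negSucc 0),1)] .nil .nil)) (.node [(44,(.ofNat 1),1)] .nil .nil))))) (.node [] (.node [] (.node [] (.node [] (.node [] .nil (.node [(50,(.ofNat 1),1)] .nil .nil)) (.node [(16,(.ofNat 1),1)] .nil .nil)) (.node [(9,(.ofNat 1),1)] .nil .nil)) (.node [] .nil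 (.node [] .nil (.node [] .nil (.node [(217,(.negSucc 0),1)] .nil .nil))))) (.node [] (.node [] (.node [] .nil (.node [(21,(.negSucc 0),1)] .nil .nil)) (.node [] (.node [] .nil (.node [(90,(.ofNat 1),1)] .nil .nil)) (.node [] .nil (.node [(181,(.negSucc 0),1)] .nil .nil)))) (.node [] (.node [] .nil (.node [] .nil (.node [(150,(.negSucc 0),1)] .nil .nil))) .nil))))) (.node [(47,(.negSucc 0),1)] (.node [] (.node [] (.node [] .nil (.node [] (.node [] (.node [] .nil (.node [(66,(.ofNat 1),1)] .nil .nil)) (.node [] .nil (.node [(128,(.negSucc 0),1)] .nil .nil))) .nil)) (.node [] (.node [] .nil (.node [(11,(.ofNat 1),1)] .nil (.node [(33,(.ofNat 1),1)] .nil .nil))) .nil)) (.node [] (.node [] (.node [] (.node [] .nil (.node [] .nil (.node [(115,(.ofNat 1),1)] .nil .nil))) (.node [] (.node [] .nil (.node [(81,(.negSucc 0),1)] .nil .nil)) (.node [(29,(.negSucc 0),1)] .nil .nil))) (.node [] .nil (.node [] .nil (.node [] .nil (.node [(216,(.negSucc 0),1)] .nil .nil))))) (.node [] (.node []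 (.node [] (.node [] .nil (.node [(59,(.ofNat 1),1)] .nil .nil)) (.node [] .nil (.node [(121,(.negSucc 0),1)] .nil .nil))) (.node [] (.node [] .nil (.node [(88,(.negSucc 0),1)] .nil .nil)) .nil)) (.node [] .nil (.node [] (.node [] .nil (.node [(110,(.negSucc 0),1)] .nil .nil)) (.node [(45,(.negSucc 0),1)] .nil .nil)))))) (.node [] (.node [] (.node [] (.node [] .nil (.node [] .nil (.node [] .nil (.node [(155,(.negSucc 0),1)] .nil .nil)))) (.node [] (.node [] (.node [] .nil (.node [(69,(.ofNat 1),1)] .nil .nil)) (.node [] .nil (.node [(133,(.negSucc 0),1)] .nil .nil))) .nil)) (.node [] (.node [] (.node [] (.node [] .nil (.node [(56,(.ofNat 1),1)] .nil .nil)) (.node [] .nil (.node [(120,(.ofNat 1),1)] .nil .nil))) .nil) (.node [] .nil (.node [] (.node [] .nil (.node [(109,(.ofNat 1),1)] .nil .nil)) .nil)))) (.node [(47,(.negSucc 0),1)] (.node [] (.node [] (.node [] (.node [] .nil (.node [(52,(.negSucc 0),1)] .nil .nil)) (.node [] .nil (.node [(116,(.negSucc 0),1)] .nil .nil))) (.node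 [(10,(.ofNat 1),1)] (.node [] .nil (.node [(82,(.ofNat 1),1)] .nil .nil)) (.node [] .nil (.node [(159,(.ofNat 1),1)] .nil .nil)))) .nil) (.node [] (.node [] .nil (.node [] (.node [] .nil (.node [(91,(.negSucc 0),1)] .nil .nil)) (.node [] .nil (.node [(185,(.negSucc 0),1)] .nil .nil)))) (.node [] .nil (.node [] .nil (.node [(46,(.ofNat 1),1)] .nil .nil))))))))
noncomputable def ex40 : Trie (List (ℕ × ℤ × ℕ)) := (.node [] (.node [] (.node [] (.node [] (.node [] (.node [] .nil (.node [] .nil (.node [] .nil (.node [(151,(.ofNat 1),1)] .nil .nil)))) (.node [] (.node [] (.node [] .nil (.node [(64,(.ofNat 1),1)] .nil .nil)) .nil) (.node [] (.node [] .nil (.node [(93,(.negSucc 0),1)] .nil .nil)) (.node [] .nil (.node [(196,(.ofNat 1),1)] .nil .nil))))) (.node [] (.node [] .nil (.node [] .nil (.node [(31,(.negSucc 0),1)] .nil (.node [(164,(.negSucc 0),1)] .nil .nil)))) (.node [] .nil (.node [] (.node [] .nil (.node [(107,(.negSucc 0),1)] .nil .nil)) (.node [(44,(.ofNat 1),1)] .nil .nil)))))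 (.node [(48,(.negSucc 0),1)] (.node [] (.node [] (.node [] (.node [] .nil (.node [(51,(.ofNat 1),1)] .nil .nil)) .nil) (.node [(8,(.ofNat 1),1)] .nil .nil)) (.node [] (.node [] (.node [] .nil (.node [(71,(.ofNat 1),1)] .nil .nil)) .nil) .nil)) (.node [] (.node [] (.node [] .nil (.node [(18,(.ofNat 1),1)] .nil (.node [(123,(.negSucc 0),1)] .nil .nil))) (.node [] (.node [] .nil (.node [(86,(.negSucc 0),1)] .nil .nil)) (.node [] .nil (.node [(178,(.negSucc 0),1)] .nil .nil)))) .nil))) (.node [] (.node [] (.node [] (.node [] (.node [] (.node [] .nil (.node [(50,(.negSucc 0),1)] .nil .nil)) (.node [] .nil (.node [(113,(.negSucc 0),1)] .nil .nil))) (.node [] (.node [] .nil (.node [(79,(.ofNat 1),1)] .nil .nil)) (.node [(25,(.negSucc 0),1)] .nil .nil))) (.node [] (.node [] .nil (.node [] .nil (.node [(134,(.negSucc 0),1)] .nil .nil))) .nil)) (.node [] (.node [] (.node [] (.node [] .nil (.node [(54,(.ofNat 1),1)] .nil .nil)) .nil) (.node [] .nil (.node [(38,(.ofNat 1),1)] .nil .nil)))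 .nil)) (.node [(48,(.ofNat 1),1)] (.node [] (.node [] .nil (.node [] .nil (.node [] .nil (.node [(157,(.ofNat 1),1)] .nil .nil)))) (.node [] .nil (.node [] .nil (.node [] .nil (.node [(218,(.negSucc 0),1)] .nil .nil))))) (.node [] (.node [] (.node [] (.node [] .nil (.node [(61,(.ofNat 1),1)] .nil .nil)) (.node [] .nil (.node [(126,(.negSucc 0),1)] .nil .nil))) .nil) .nil)))) (.node [(48,(.negSucc 0),1)] (.node [] (.node [] (.node [] (.node [] (.node [] (.node [] .nil (.node [(49,(.ofNat 1),1)] .nil .nil)) .nil) (.node [] .nil (.node [] .nil (.node [(152,(.ofNat 1),1)] .nil .nil)))) .nil) (.node [] (.node [] (.node [] .nil (.node [] .nil (.node [(117,(.negSucc 0),1)] .nil .nil))) (.node [] (.node [] .nil (.node [(83,(.ofNat 1),1)] .nil .nil)) .nil)) (.node [] (.node [] .nil (.node [] .nil (.node [(149,(.negSucc 0),1)] .nil .nil))) (.node [] (.node [] .nil (.node [(108,(.ofNat 1),1)] .nil .nil)) (.node [(45,(.ofNat 1),1)] .nil .nil))))) (.node [] (.node [] (.node [] (.node [] (.node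 [] .nil (.node [(52,(.negSucc 0),1)] .nil .nil)) (.node [(16,(.negSucc 0),1)] .nil .nil)) (.node [(9,(.ofNat 1),1)] .nil (.node [] .nil (.node [(156,(.ofNat 1),1)] .nil .nil)))) .nil) (.node [] (.node [] (.node [] (.node [] .nil (.node [(60,(.negSucc 0),1)] .nil .nil)) (.node [(19,(.ofNat 1),1)] .nil (.node [(125,(.ofNat 1),1)] .nil .nil))) (.node [] .nil (.node [] .nil (.node [(179,(.negSucc 0),1)] .nil .nil)))) .nil))) (.node [(48,(.ofNat 1),1)] (.node [] (.node [] (.node [] (.node [] .nil (.node [] .nil (.node [(114,(.ofNat 1),1)] .nil .nil))) (.node [] (.node [] .nil (.node [(80,(.negSucc 0),1)] .nil .nil)) (.node [(26,(.negSucc 0),1)] .nil .nil))) (.node [] (.node [] (.node [] .nil (.node [(70,(.negSucc 0),1)] .nil .nil)) (.node [] .nil (.node [(135,(.negSucc 0),1)] .nil .nil))) (.node [] .nil (.node [] .nil (.node [(212,(.negSucc 0),1)] .nil .nil))))) (.node [] (.node [] (.node [] .nil (.node [] .nil (.node [(122,(.ofNat 1),1)] .nil .nil))) (.node [(12,(.ofNat 1),1)] .nil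 .nil)) (.node [] (.node [] .nil (.node [(23,(.ofNat 1),1)] .nil .nil)) (.node [(15,(.negSucc 0),1)] .nil .nil)))) (.node [] (.node [] (.node [] .nil (.node [] .nil (.node [(30,(.negSucc 0),1)] .nil .nil))) (.node [] .nil (.node [] .nil (.node [] .nil (.node [(219,(.negSucc 0),1)] .nil .nil))))) (.node [] (.node [] (.node [] .nil (.node [] .nil (.node [(0,(.negSucc 0),1),(1,(.negSucc 0),1),(2,(.negSucc 1),1),(3,(.negSucc 2),1),(4,(.negSucc 1),1),(5,(.negSucc 1),1),(6,(.negSucc 1),1),(7,(.negSucc 0),1),(48,(.negSucc 0),2)] .nil .nil))) (.node [] (.node [] .nil (.node [(92,(.ofNat 1),1)] .nil .nil)) (.node [] .nil (.node [(186,(.ofNat 1),1)] .nil .nil)))) (.node [] .nil (.node [] (.node [] .nil (.node [(111,(.negSucc 0),1)] .nil .nil)) .nil)))))))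
noncomputable def ex41 : Trie (List (ℕ × ℤ × ℕ)) := (.node [] (.node [] (.node [] (.node [] (.node [] (.node [] (.node [] (.node [] .nil (.node [(50,(.ofNat 1),1)] .nil .nil)) .nil) .nil) (.node [] (.node [] (.node [] .nil (.node [(65,(.ofNat 1),1)] .nil .nil)) .nil) (.node [] (.node [] .nil (.node [(94,(.negSucc 0),1)] .nil .nil)) (.node [] .nil (.node [(197,(.negSucc 0),1)] .nil .nil))))) (.node [] (.node [] (.node [] .nil (.node [] .nil (.node [(117,(.negSucc 0),1)] .nil .nil))) (.node [] (.node [] .nil (.node [(83,(.ofNat 1),1)] .nil .nil)) (.node [(32,(.negSucc 0),1)] .nil (.node [(165,(.ofNat 1),1)] .nil .nil)))) (.node [] (.node [] .nil (.node [] .nil (.node [(149,(.negSucc 0),1)] .nil .nil))) .nil))) (.node [(49,(.negSucc 0),1)] (.node [] (.node [] (.node [] .nil (.node [(16,(.ofNat 1),1)] .nil .nil)) (.node [] .nil (.node [] .nil (.node [(156,(.ofNat 1),1)] .nil .nil)))) (.node [] (.node [] (.node [] .nil (.node [(72,(.ofNat 1),1)] .nil .nil)) .nil) .nil)) (.node [] (.node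 [] (.node [] (.node [] .nil (.node [(60,(.negSucc 0),1)] .nil .nil)) (.node [] .nil (.node [(124,(.negSucc 0),1)] .nil .nil))) (.node [] (.node [] .nil (.node [(87,(.negSucc 0),1)] .nil .nil)) .nil)) .nil))) (.node [] (.node [] (.node [] .nil (.node [] (.node [] (.node [] .nil (.node [(70,(.negSucc 0),1)] .nil .nil)) .nil) .nil)) (.node [] (.node [] (.node [] (.node [] .nil (.node [(55,(.ofNat 1),1)] .nil .nil)) (.node [] .nil (.node [(122,(.ofNat 1),1)] .nil .nil))) (.node [(12,(.negSucc 0),1)] .nil (.node [(39,(.ofNat 1),1)] .nil .nil))) (.node [] (.node [] .nil (.node [(23,(.negSucc 0),1)] .nil .nil)) (.node [(15,(.ofNat 1),1)] .nil .nil)))) (.node [(49,(.negSucc 0),1)] (.node [] (.node [] .nil (.node [] .nil (.node [(30,(.ofNat 1),1)] .nil (.node [(158,(.negSucc 0),1)] .nil .nil)))) .nil) (.node [] (.node [] (.node [] (.node [] .nil (.node [(62,(.ofNat 1),1)] .nil .nil)) (.node [] .nil (.node [(0,(.negSucc 0),1),(1,(.negSucc 0),1),(2,(.negSucc 1),1),(3,(.negSucc 2),1),(4,(.negSucc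 1),1),(5,(.negSucc 1),1),(6,(.negSucc 0),1),(7,(.negSucc 0),1),(49,(.negSucc 0),2)] .nil .nil))) (.node [] (.node [] .nil (.node [(92,(.ofNat 1),1)] .nil .nil)) .nil)) (.node [] .nil (.node [] (.node [] .nil (.node [(111,(.negSucc 0),1)] .nil .nil)) (.node [(48,(.ofNat 1),1)] .nil .nil))))))) (.node [(49,(.negSucc 0),1)] (.node [] (.node [] (.node [] (.node [] (.node [] .nil (.node [] .nil (.node [(113,(.negSucc 0),1)] .nil .nil))) (.node [] (.node [] .nil (.node [(79,(.ofNat 1),1)] .nil .nil)) (.node [(25,(.ofNat 1),1)] .nil (.node [(153,(.negSucc 0),1)] .nil .nil)))) (.node [] (.node [] .nil (.node [] .nil (.node [(134,(.negSucc 0),1)] .nil .nil))) (.node [] .nil .nil))) (.node [] .nil (.node [] .nil (.node [] (.node [] .nil (.node [(109,(.ofNat 1),1)] .nil .nil)) (.node [(46,(.ofNat 1),1)] .nil .nil))))) (.node [(49,(.ofNat 1),1)] (.node [] (.node [] (.node [] (.node [] .nil (.node [(53,(.negSucc 0),1)] .nil .nil)) .nil) (.node [(10,(.ofNat 1),1)] .nil .nil)) (.node [] .nil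 (.node [] .nil (.node [] .nil (.node [(218,(.negSucc 0),1)] .nil .nil))))) (.node [] (.node [] (.node [] .nil (.node [(20,(.ofNat 1),1)] .nil (.node [(127,(.negSucc 0),1)] .nil .nil))) (.node [] .nil (.node [] .nil (.node [(180,(.ofNat 1),1)] .nil .nil)))) .nil))) (.node [(49,(.ofNat 1),1)] (.node [] (.node [] (.node [] (.node [] (.node [] .nil (.node [(51,(.ofNat 1),1)] .nil .nil)) (.node [] .nil (.node [(115,(.ofNat 1),1)] .nil .nil))) (.node [(8,(.negSucc 0),1)] (.node [] .nil (.node [(81,(.negSucc 0),1)] .nil .nil)) (.node [(27,(.negSucc 0),1)] .nil .nil))) (.node [] (.node [] .nil (.node [] .nil (.node [(136,(.ofNat 1),1)] .nil .nil))) (.node [] .nil (.node [] .nil (.node [(213,(.ofNat 1),1)] .nil .nil))))) (.node [] (.node [] (.node [] .nil (.node [(18,(.negSucc 0),1)] .nil .nil)) (.node [] .nil (.node [] .nil (.node [(178,(.negSucc 0),1)] .nil .nil)))) .nil)) (.node [(49,(.ofNat 1),1)] (.node [] .nil (.node [] .nil (.node [] (.node [] .nil (.node [(107,(.negSucc 0),1)]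 .nil .nil)) (.node [(44,(.negSucc 0),1)] .nil (.node [(220,(.ofNat 1),1)] .nil .nil))))) (.node [] (.node [] (.node [] .nil (.node [] .nil (.node [(129,(.negSucc 0),1)] .nil .nil))) (.node [] .nil (.node [] .nil (.node [(187,(.negSucc 0),1)] .nil .nil)))) (.node [] (.node [] .nil (.node [] .nil (.node [(151,(.ofNat 1),1)] .nil .nil))) .nil))))))
noncomputable def ex42 : Trie (List (ℕ × ℤ × ℕ)) := (.node [] (.node [] (.node [] (.node [] (.node [] (.node [] .nil (.node [] .nil (.node [(25,(.negSucc 0),1)] .nil .nil))) (.node [] (.node [] (.node [] .nil (.node [(66,(.ofNat 1),1)] .nil .nil)) (.node [] .nil (.node [(134,(.negSucc 0),1)] .nil .nil))) (.node [] .nil (.node [] .nil (.node [(198,(.ofNat 1),1)] .nil .nil))))) (.node [] (.node [] .nil (.node [] .nil (.node [(33,(.negSucc 0),1)] .nil (.node [(166,(.negSucc 0),1)] .nil .nil)))) (.node [] .nil (.node [] (.node [] .nil (.node [(109,(.ofNat 1),1)] .nil .nil)) .nil)))) (.node [(50,(.negSucc 0),1)] (.node [] (.node [] (.node []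 (.node [] .nil (.node [(53,(.negSucc 0),1)] .nil .nil)) .nil) (.node [(10,(.negSucc 0),1)] .nil .nil)) .nil) (.node [] (.node [] (.node [] (.node [] .nil (.node [(61,(.negSucc 0),1)] .nil .nil)) .nil) (.node [] (.node [] .nil (.node [(88,(.negSucc 0),1)] .nil .nil)) .nil)) .nil))) (.node [] (.node [] (.node [] (.node [] (.node [] .nil (.node [] .nil (.node [(115,(.ofNat 1),1)] .nil .nil))) (.node [] (.node [] .nil (.node [(81,(.negSucc 0),1)] .nil .nil)) .nil)) (.node [] (.node [] (.node [] .nil (.node [(71,(.negSucc 0),1)] .nil .nil)) .nil) (.node [] .nil .nil))) (.node [] (.node [] (.node [] (.node [] .nil (.node [(56,(.ofNat 1),1)] .nil .nil)) (.node [(18,(.ofNat 1),1)] .nil (.node [(123,(.ofNat 1),1)] .nil .nil))) (.node [] .nil (.node [(40,(.ofNat 1),1)] .nil (.node [(178,(.negSucc 0),1)] .nil .nil)))) .nil)) (.node [] (.node [] (.node [] .nil (.node [] .nil (.node [] .nil (.node [(159,(.ofNat 1),1)] .nil .nil)))) (.node [] .nil (.node [] .nil (.node [(44,(.ofNat 1),1)] .nil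 (.node [(220,(.ofNat 1),1)] .nil .nil))))) (.node [] (.node [] (.node [] .nil (.node [] .nil (.node [(128,(.negSucc 0),1)] .nil .nil))) (.node [] (.node [] .nil (.node [(93,(.ofNat 1),1)] .nil .nil)) .nil)) (.node [] (.node [] .nil (.node [] .nil (.node [(151,(.ofNat 1),1)] .nil .nil))) .nil))))) (.node [(50,(.negSucc 0),1)] (.node [] (.node [] (.node [] (.node [] (.node [] .nil (.node [] .nil (.node [(114,(.negSucc 0),1)] .nil .nil))) (.node [] (.node [] .nil (.node [(80,(.ofNat 1),1)] .nil .nil)) (.node [] .nil (.node [(154,(.ofNat 1),1)] .nil .nil)))) .nil) (.node [] (.node [] .nil (.node [(12,(.ofNat 1),1)] .nil .nil)) (.node [] (.node [] .nil (.node [(23,(.ofNat 1),1)] .nil .nil)) (.node [(15,(.negSucc 0),1)] .nil (.node [(47,(.ofNat 1),1)] .nil .nil))))) (.node [(50,(.ofNat 1),1)] (.node [] (.node [] .nil (.node [] .nil (.node [(30,(.negSucc 0),1)] .nil .nil))) (.node [] .nil (.node [] .nil (.node [] .nil (.node [(219,(.ofNat 1),1)] .nil .nil))))) (.node [] (.node [] (.node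 [] (.node [] .nil (.node [(62,(.ofNat 1),1)] .nil .nil)) (.node [(21,(.ofNat 1),1)] .nil (.node [(0,(.negSucc 0),1),(1,(.negSucc 0),1),(2,(.negSucc 1),1),(3,(.negSucc 2),1),(4,(.negSucc 1),1),(5,(.negSucc 1),1),(6,(.negSucc 0),1),(50,(.negSucc 0),2)] .nil .nil))) (.node [] .nil (.node [] .nil (.node [(181,(.negSucc 0),1)] .nil .nil)))) (.node [] .nil (.node [] (.node [] .nil (.node [(111,(.negSucc 0),1)] .nil .nil)) (.node [(48,(.negSucc 0),1)] .nil .nil)))))) (.node [(50,(.ofNat 1),1)] (.node [] (.node [] (.node [] (.node [] (.node [] .nil (.node [(52,(.ofNat 1),1)] .nil .nil)) (.node [(16,(.negSucc 0),1)] .nil .nil)) (.node [(9,(.negSucc 0),1)] .nil (.node [(28,(.negSucc 0),1)] .nil (.node [(156,(.ofNat 1),1)] .nil .nil)))) (.node [] (.node [] (.node [] .nil (.node [(72,(.ofNat 1),1)] .nil .nil)) (.node [] .nil (.node [(137,(.negSucc 0),1)] .nil .nil))) (.node [] .nil (.node [] .nil (.node [(214,(.negSucc 0),1)] .nil .nil))))) (.node [] (.node [] (.node [] .nil (.node [] .nil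 (.node [(124,(.negSucc 0),1)] .nil .nil))) .nil) .nil)) (.node [(50,(.negSucc 0),1)] (.node [] (.node [] (.node [] .nil (.node [] .nil (.node [(117,(.negSucc 0),1)] .nil .nil))) (.node [] (.node [] .nil (.node [(83,(.ofNat 1),1)] .nil .nil)) .nil)) (.node [] (.node [] .nil (.node [] .nil (.node [(149,(.negSucc 0),1)] .nil .nil))) (.node [] (.node [] .nil (.node [(108,(.negSucc 0),1)] .nil .nil)) .nil))) (.node [] (.node [] (.node [] .nil (.node [] .nil (.node [(130,(.ofNat 1),1)] .nil .nil))) (.node [] (.node [] .nil (.node [(94,(.negSucc 0),1)] .nil .nil)) (.node [] .nil (.node [(188,(.ofNat 1),1)] .nil .nil)))) (.node [] .nil (.node [] .nil (.node [(49,(.ofNat 1),1)] .nil .nil))))))))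
noncomputable def ex43 : Trie (List (ℕ × ℤ × ℕ)) := (.node [] (.node [] (.node [] (.node [] (.node [] (.node [] (.node [] (.node [] .nil (.node [(52,(.ofNat 1),1)] .nil .nil)) (.node [] .nil (.node [(113,(.negSucc 0),1)] .nil .nil))) (.node [] (.node [] .nil (.node [(79,(.ofNat 1),1)] .nil .nil)) (.node [] .nil (.node [(153,(.negSucc 0),1)] .nil .nil)))) (.node [] (.node [] (.node [] .nil (.node [(67,(.ofNat 1),1)] .nil .nil)) .nil) (.node [] (.node [] .nil (.node [(95,(.negSucc 0),1)] .nil .nil)) (.node [] .nil (.node [(199,(.ofNat 1),1)] .nil .nil))))) (.node [] (.node [] .nil (.node [(12,(.ofNat 1),1)] .nil (.node [] .nil (.node [(167,(.negSucc 0),1)] .nil .nil)))) (.node [] (.node [] .nil (.node [(23,(.ofNat 1),1)] .nil .nil)) (.node [(15,(.negSucc 0),1)] .nil (.node [(46,(.negSucc 0),1)] .nil .nil))))) (.node [] (.node [] (.node [] .nil (.node [] .nil (.node [] .nil (.node [(157,(.negSucc 0),1)] .nil .nil)))) (.node [] (.node [] (.node [] .nil (.node [(73,(.ofNat 1),1)] .nil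 .nil)) .nil) (.node [] .nil (.node [] .nil (.node [(218,(.negSucc 0),1)] .nil .nil))))) (.node [] (.node [] (.node [] .nil (.node [(20,(.negSucc 0),1)] .nil (.node [(0,(.negSucc 0),1),(1,(.negSucc 0),1),(2,(.negSucc 1),1),(3,(.negSucc 2),1),(4,(.negSucc 1),1),(5,(.negSucc 0),1),(6,(.negSucc 0),1),(7,(.negSucc 0),1),(51,(.negSucc 0),2)] .nil .nil))) (.node [] (.node [] .nil (.node [(89,(.negSucc 0),1)] .nil .nil)) (.node [] .nil (.node [(180,(.ofNat 1),1)] .nil .nil)))) (.node [] .nil (.node [] (.node [] .nil (.node [(111,(.negSucc 0),1)] .nil .nil)) (.node [(49,(.ofNat 1),1)] .nil .nil)))))) (.node [] (.node [] (.node [] (.node [] (.node [] (.node [] .nil (.node [(53,(.ofNat 1),1)] .nil .nil)) (.node [(16,(.negSucc 0),1)] .nil .nil)) (.node [(8,(.ofNat 1),1)] .nil (.node [(27,(.ofNat 1),1)] .nil .nil))) (.node [] (.node [] .nil (.node [] .nil (.node [(136,(.ofNat 1),1)] .nil .nil))) .nil)) (.node [] (.node [] (.node [] (.node [] .nil (.node [(57,(.ofNat 1),1)] .nil .nil)) (.node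 [] .nil (.node [(125,(.negSucc 0),1)] .nil .nil))) (.node [] .nil (.node [(41,(.ofNat 1),1)] .nil .nil))) .nil)) (.node [] (.node [] (.node [] (.node [] .nil (.node [] .nil (.node [(117,(.negSucc 0),1)] .nil .nil))) (.node [] (.node [] .nil (.node [(83,(.ofNat 1),1)] .nil .nil)) (.node [(31,(.ofNat 1),1)] .nil .nil))) (.node [] (.node [] .nil (.node [] .nil (.node [(149,(.negSucc 0),1)] .nil .nil))) (.node [] (.node [] .nil (.node [(107,(.negSucc 0),1)] .nil .nil)) .nil))) (.node [] (.node [] (.node [] (.node [] .nil (.node [(63,(.ofNat 1),1)] .nil .nil)) (.node [] .nil (.node [(131,(.negSucc 0),1)] .nil .nil))) .nil) .nil)))) (.node [(51,(.negSucc 0),1)] (.node [] (.node [] (.node [] (.node [] .nil (.node [] .nil (.node [(26,(.ofNat 1),1)] .nil .nil))) (.node [] (.node [] (.node [] .nil (.node [(70,(.negSucc 0),1)] .nil .nil)) (.node [] .nil (.node [(135,(.ofNat 1),1)] .nil .nil))) .nil)) (.node [] .nil (.node [] .nil (.node [] (.node [] .nil (.node [(110,(.ofNat 1),1)] .nil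 .nil)) .nil)))) (.node [(51,(.negSucc 0),1)] (.node [] (.node [] .nil (.node [(11,(.ofNat 1),1)] .nil (.node [] .nil (.node [(158,(.negSucc 0),1)] .nil .nil)))) .nil) (.node [] (.node [] .nil (.node [] (.node [] .nil (.node [(92,(.ofNat 1),1)] .nil .nil)) .nil)) .nil))) (.node [(51,(.ofNat 1),1)] (.node [] (.node [] (.node [] (.node [] .nil (.node [] .nil (.node [(116,(.ofNat 1),1)] .nil .nil))) (.node [] (.node [] .nil (.node [(82,(.negSucc 0),1)] .nil .nil)) .nil)) (.node [] .nil (.node [] .nil (.node [] .nil (.node [(215,(.negSucc 0),1)] .nil .nil))))) (.node [] (.node [] (.node [] (.node [] .nil (.node [(60,(.negSucc 0),1)] .nil .nil)) (.node [(19,(.negSucc 0),1)] .nil (.node [(127,(.negSucc 0),1)] .nil .nil))) (.node [] .nil (.node [] .nil (.node [(179,(.ofNat 1),1)] .nil .nil)))) (.node [] .nil (.node [] .nil (.node [(48,(.ofNat 1),1)] .nil .nil))))) (.node [(51,(.ofNat 1),1)] (.node [] (.node [] .nil (.node [] .nil (.node [(32,(.ofNat 1),1)] .nil .nil))) (.node [] .nil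 (.node [] .nil (.node [(45,(.negSucc 0),1)] .nil (.node [(221,(.negSucc 0),1)] .nil .nil))))) (.node [] (.node [] (.node [] .nil (.node [] .nil (.node [(132,(.negSucc 0),1)] .nil .nil))) (.node [] .nil (.node [] .nil (.node [(189,(.ofNat 1),1)] .nil .nil)))) (.node [] (.node [] .nil (.node [] .nil (.node [(152,(.negSucc 0),1)] .nil .nil))) .nil))))))
noncomputable def ex44 : Trie (List (ℕ × ℤ × ℕ)) := (.node [] (.node [] (.node [] (.node [] (.node [] (.node [] (.node [] .nil (.node [] .nil (.node [(114,(.negSucc 0),1)] .nil .nil))) (.node [] (.node [] .nil (.node [(80,(.ofNat 1),1)] .nil .nil)) (.node [(26,(.negSucc 0),1)] .nil (.node [(154,(.ofNat 1),1)] .nil .nil)))) (.node [] (.node [] (.node [] .nil (.node [(68,(.ofNat 1),1)] .nil .nil)) (.node [] .nil (.node [(135,(.ofNat 1),1)] .nil .nil))) (.node [] .nil (.node [] .nil (.node [(200,(.negSucc 0),1)] .nil .nil))))) (.node [] (.node [] .nil (.node [] .nil (.node [] .nil (.node [(168,(.ofNat 1),1)] .nil .nil)))) (.node [] .nil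 (.node [] (.node [] .nil (.node [(110,(.ofNat 1),1)] .nil .nil)) (.node [(47,(.negSucc 0),1)] .nil .nil))))) (.node [] (.node [] (.node [] .nil (.node [(11,(.negSucc 0),1)] .nil .nil)) (.node [] .nil (.node [] .nil (.node [] .nil (.node [(219,(.ofNat 1),1)] .nil .nil))))) (.node [] (.node [] (.node [] .nil (.node [(21,(.negSucc 0),1)] .nil (.node [(128,(.negSucc 0),1)] .nil .nil))) (.node [] (.node [] .nil (.node [(90,(.negSucc 0),1)] .nil .nil)) (.node [] .nil (.node [(181,(.negSucc 0),1)] .nil .nil)))) (.node [] .nil (.node [] .nil (.node [(50,(.ofNat 1),1)] .nil .nil)))))) (.node [] (.node [] (.node [] (.node [] (.node [] .nil (.node [] .nil (.node [(116,(.ofNat 1),1)] .nil .nil))) (.node [(9,(.ofNat 1),1)] (.node [] .nil (.node [(82,(.negSucc 0),1)] .nil .nil)) (.node [(28,(.ofNat 1),1)] .nil .nil))) (.node [] (.node [] .nil (.node [] .nil (.node [(137,(.negSucc 0),1)] .nil .nil))) .nil)) (.node [] (.node [] (.node [] (.node [] .nil (.node [(58,(.ofNat 1),1)] .nil .nil)) (.node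 [(19,(.ofNat 1),1)] .nil (.node [(126,(.negSucc 0),1)] .nil .nil))) (.node [] .nil (.node [(42,(.ofNat 1),1)] .nil (.node [(179,(.ofNat 1),1)] .nil .nil)))) (.node [] .nil (.node [] .nil (.node [(48,(.negSucc 0),1)] .nil .nil))))) (.node [(52,(.ofNat 1),1)] (.node [] .nil (.node [] .nil (.node [] (.node [] .nil (.node [(108,(.negSucc 0),1)] .nil .nil)) (.node [(45,(.ofNat 1),1)] .nil (.node [(221,(.negSucc 0),1)] .nil .nil))))) (.node [] .nil (.node [] (.node [] .nil (.node [] .nil (.node [(152,(.negSucc 0),1)] .nil .nil))) .nil))))) (.node [(52,(.negSucc 0),1)] (.node [] (.node [] (.node [] (.node [] (.node [] (.node [] .nil (.node [(53,(.ofNat 1),1)] .nil .nil)) (.node [(16,(.ofNat 1),1)] .nil .nil)) .nil) (.node [] (.node [] (.node [] .nil (.node [(71,(.negSucc 0),1)] .nil .nil)) .nil) .nil)) .nil) (.node [(52,(.negSucc 0),1)] (.node [] (.node [] (.node [] .nil (.node [] .nil (.node [(117,(.negSucc 0),1)] .nil .nil))) (.node [] (.node [] .nil (.node [(83,(.ofNat 1),1)] .nil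 .nil)) (.node [(31,(.negSucc 0),1)] .nil (.node [(159,(.ofNat 1),1)] .nil .nil)))) (.node [] (.node [] .nil (.node [] .nil (.node [(149,(.negSucc 0),1)] .nil .nil))) .nil)) (.node [] (.node [] (.node [] (.node [] .nil (.node [(63,(.ofNat 1),1)] .nil .nil)) (.node [] .nil (.node [(131,(.negSucc 0),1)] .nil .nil))) (.node [] (.node [] .nil (.node [(93,(.ofNat 1),1)] .nil .nil)) .nil)) .nil))) (.node [(52,(.ofNat 1),1)] (.node [] (.node [] (.node [] .nil (.node [] .nil (.node [] .nil (.node [(157,(.negSucc 0),1)] .nil .nil)))) (.node [] (.node [] (.node [] .nil (.node [(73,(.ofNat 1),1)] .nil .nil)) .nil) (.node [] .nil (.node [] .nil (.node [(216,(.ofNat 1),1)] .nil .nil))))) (.node [] (.node [] (.node [] (.node [] .nil (.node [(61,(.negSucc 0),1)] .nil .nil)) (.node [] .nil (.node [(0,(.negSucc 0),1),(1,(.negSucc 0),1),(2,(.negSucc 1),1),(3,(.negSucc 2),1),(4,(.negSucc 1),1),(5,(.negSucc 0),1),(6,(.negSucc 0),1),(52,(.negSucc 0),2)] .nil .nil))) .nil) (.node [] .nil (.node [] (.node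 [] .nil (.node [(111,(.negSucc 0),1)] .nil .nil)) .nil)))) (.node [(52,(.negSucc 0),1)] (.node [] (.node [] .nil (.node [(12,(.negSucc 0),1)] .nil (.node [(33,(.ofNat 1),1)] .nil .nil))) (.node [] (.node [] .nil (.node [(23,(.negSucc 0),1)] .nil .nil)) (.node [(15,(.ofNat 1),1)] .nil .nil))) (.node [] (.node [] (.node [] .nil (.node [] .nil (.node [(133,(.ofNat 1),1)] .nil .nil))) (.node [] (.node [] .nil (.node [(95,(.negSucc 0),1)] .nil .nil)) (.node [] .nil (.node [(190,(.negSucc 0),1)] .nil .nil)))) (.node [] .nil (.node [] .nil (.node [(51,(.ofNat 1),1)] .nil .nil))))))))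
noncomputable def ex45 : Trie (List (ℕ × ℤ × ℕ)) := (.node [] (.node [] (.node [] (.node [] (.node [] (.node [] (.node [] .nil (.node [(16,(.negSucc 0),1)] .nil (.node [(115,(.negSucc 0),1)] .nil .nil))) (.node [] (.node [] .nil (.node [(81,(.ofNat 1),1)] .nil .nil)) (.node [(27,(.negSucc 0),1)] .nil .nil))) (.node [] (.node [] (.node [] .nil (.node [(69,(.ofNat 1),1)] .nil .nil)) (.node [] .nil (.node [(136,(.negSucc 0),1)] .nil .nil))) (.node [] .nil (.node [] .nil (.node [(201,(.ofNat 1),1)] .nil .nil))))) (.node [] (.node [] .nil (.node [] .nil (.node [] .nil (.node [(169,(.negSucc 0),1)] .nil .nil)))) .nil)) (.node [] (.node [] (.node [] (.node [] .nil (.node [] .nil (.node [(117,(.negSucc 0),1)] .nil .nil))) (.node [] (.node [] .nil (.node [(83,(.ofNat 1),1)] .nil .nil)) (.node [] .nil (.node [(159,(.ofNat 1),1)] .nil .nil)))) (.node [] (.node [] .nil (.node [] .nil (.node [(149,(.negSucc 0),1)] .nil .nil))) (.node [] .nil (.node [] .nil (.node [(220,(.negSucc 0),1)] .nil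 .nil))))) (.node [] (.node [] (.node [] (.node [] .nil (.node [(63,(.ofNat 1),1)] .nil .nil)) (.node [] .nil (.node [(130,(.negSucc 0),1)] .nil .nil))) (.node [] (.node [] .nil (.node [(91,(.negSucc 0),1)] .nil .nil)) .nil)) .nil))) (.node [] (.node [] (.node [] (.node [] .nil (.node [(10,(.ofNat 1),1)] .nil .nil)) (.node [] (.node [] (.node [] .nil (.node [(73,(.ofNat 1),1)] .nil .nil)) .nil) .nil)) (.node [] (.node [] (.node [] (.node [] .nil (.node [(59,(.ofNat 1),1)] .nil .nil)) (.node [(20,(.ofNat 1),1)] .nil (.node [(0,(.negSucc 0),1),(1,(.negSucc 0),1),(2,(.negSucc 1),1),(3,(.negSucc 2),1),(4,(.negSucc 1),1),(5,(.negSucc 0),1),(53,(.negSucc 0),2)] .nil .nil))) (.node [] .nil (.node [(43,(.ofNat 1),1)] .nil (.node [(180,(.negSucc 0),1)] .nil .nil)))) (.node [] .nil (.node [] (.node [] .nil (.node [(111,(.negSucc 0),1)] .nil .nil)) (.node [(49,(.negSucc 0),1)] .nil .nil))))) (.node [(53,(.negSucc 0),1)] (.node [] (.node [] .nil (.node [(12,(.ofNat 1),1)] .nil (.node [(33,(.negSucc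 0),1)] .nil .nil))) (.node [] (.node [] .nil (.node [(23,(.ofNat 1),1)] .nil .nil)) (.node [(15,(.negSucc 0),1)] (.node [] .nil (.node [(109,(.negSucc 0),1)] .nil .nil)) (.node [(46,(.ofNat 1),1)] .nil .nil)))) (.node [] (.node [] (.node [] .nil (.node [] .nil (.node [(133,(.ofNat 1),1)] .nil .nil))) (.node [] (.node [] .nil (.node [(95,(.negSucc 0),1)] .nil .nil)) .nil)) (.node [] (.node [] .nil (.node [] .nil (.node [(153,(.ofNat 1),1)] .nil .nil))) (.node [] .nil (.node [(52,(.ofNat 1),1)] .nil .nil))))))) (.node [(53,(.negSucc 0),1)] (.node [] (.node [] (.node [] (.node [] (.node [] .nil (.node [] .nil (.node [(116,(.ofNat 1),1)] .nil .nil))) (.node [] (.node [] .nil (.node [(82,(.negSucc 0),1)] .nil .nil)) (.node [(28,(.negSucc 0),1)] .nil .nil))) (.node [] (.node [] (.node [] .nil (.node [(72,(.negSucc 0),1)] .nil .nil)) (.node [] .nil (.node [(137,(.negSucc 0),1)] .nil .nil))) .nil)) .nil) (.node [] (.node [] (.node [] .nil (.node [] .nil (.node [(32,(.negSucc 0),1)] .nil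 .nil))) (.node [] .nil (.node [] .nil (.node [] .nil (.node [(221,(.negSucc 0),1)] .nil .nil))))) (.node [] (.node [] (.node [] .nil (.node [] .nil (.node [(132,(.ofNat 1),1)] .nil .nil))) (.node [] (.node [] .nil (.node [(94,(.ofNat 1),1)] .nil .nil)) .nil)) (.node [] .nil (.node [] .nil (.node [(51,(.ofNat 1),1)] .nil .nil)))))) (.node [(53,(.ofNat 1),1)] (.node [] (.node [] (.node [] .nil (.node [(11,(.ofNat 1),1)] .nil (.node [] .nil (.node [(158,(.ofNat 1),1)] .nil .nil)))) (.node [] .nil (.node [] .nil (.node [] .nil (.node [(217,(.negSucc 0),1)] .nil .nil))))) (.node [] (.node [] (.node [] (.node [] .nil (.node [(62,(.negSucc 0),1)] .nil .nil)) (.node [(21,(.ofNat 1),1)] .nil (.node [(129,(.negSucc 0),1)] .nil .nil))) (.node [] .nil (.node [] .nil (.node [(181,(.negSucc 0),1)] .nil .nil)))) (.node [] .nil (.node [] .nil (.node [(50,(.negSucc 0),1)] .nil .nil))))) (.node [] (.node [] .nil (.node [] .nil (.node [] (.node [] .nil (.node [(110,(.ofNat 1),1)] .nil .nil)) (.node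 [(47,(.ofNat 1),1)] .nil .nil)))) (.node [] (.node [] .nil (.node [] .nil (.node [] .nil (.node [(191,(.ofNat 1),1)] .nil .nil)))) (.node [] (.node [] .nil (.node [] .nil (.node [(154,(.ofNat 1),1)] .nil .nil))) .nil))))))
noncomputable def ex46 : Trie (List (ℕ × ℤ × ℕ)) := (.node [] (.node [] (.node [] (.node [] (.node [] (.node [] .nil (.node [(8,(.negSucc 0),1)] .nil .nil)) (.node [] .nil (.node [] (.node [] .nil (.node [(97,(.negSucc 0),1)] .nil .nil)) (.node [] .nil (.node [(202,(.negSucc 0),1)] .nil .nil))))) (.node [] (.node [] (.node [] (.node [] .nil (.node [(60,(.ofNat 1),1)] .nil .nil)) (.node [(18,(.negSucc 0),1)] .nil (.node [(126,(.negSucc 0),1)] .nil .nil))) (.node [] .nil (.node [(35,(.negSucc 0),1)] .nil .nil))) .nil)) (.node [] (.node [] (.node [] (.node [] (.node [] .nil (.node [(57,(.ofNat 1),1)] .nil .nil)) .nil) .nil) (.node [] (.node [] (.node [] .nil (.node [(75,(.ofNat 1),1)] .nil .nil)) .nil) (.node [] (.node [] .nil (.node [(107,(.negSucc 0),1)] .nil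 .nil)) (.node [(45,(.ofNat 1),1)] .nil .nil)))) (.node [] (.node [] .nil (.node [] .nil (.node [] .nil (.node [(182,(.ofNat 1),1)] .nil .nil)))) (.node [] (.node [] .nil (.node [] .nil (.node [(151,(.ofNat 1),1)] .nil .nil))) .nil)))) (.node [(54,(.ofNat 1),1)] (.node [] (.node [] (.node [] (.node [] (.node [] .nil (.node [(56,(.negSucc 0),1)] .nil .nil)) (.node [] .nil (.node [(118,(.ofNat 1),1)] .nil .nil))) .nil) (.node [] (.node [] .nil (.node [] .nil (.node [(139,(.negSucc 0),1)] .nil .nil))) (.node [] .nil (.node [] .nil (.node [(212,(.negSucc 0),1)] .nil .nil))))) .nil) (.node [(54,(.ofNat 1),1)] (.node [] (.node [] (.node [] .nil (.node [] .nil (.node [(123,(.negSucc 0),1)] .nil .nil))) (.node [] .nil (.node [] .nil (.node [(161,(.negSucc 0),1)] .nil .nil)))) (.node [] .nil (.node [] .nil (.node [] .nil (.node [(222,(.ofNat 1),1)] .nil .nil))))) (.node [] (.node [] .nil (.node [] .nil (.node [] .nil (.node [(186,(.ofNat 1),1)] .nil .nil)))) (.node [] (.node [] (.node []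 .nil (.node [(79,(.ofNat 1),1)] .nil .nil)) (.node [(25,(.ofNat 1),1)] .nil .nil)) .nil))))) (.node [] (.node [] (.node [] (.node [] (.node [] (.node [] (.node [] .nil (.node [(55,(.ofNat 1),1)] .nil .nil)) .nil) (.node [(9,(.negSucc 0),1)] .nil .nil)) .nil) (.node [] (.node [] (.node [] (.node [] .nil (.node [(61,(.negSucc 0),1)] .nil .nil)) (.node [(19,(.negSucc 0),1)] .nil (.node [(0,(.negSucc 0),1),(1,(.negSucc 0),1),(2,(.negSucc 1),1),(3,(.negSucc 1),1),(4,(.negSucc 1),1),(5,(.negSucc 1),1),(6,(.negSucc 1),1),(7,(.negSucc 0),1),(54,(.negSucc 0),2)] .nil .nil))) (.node [] (.node [] .nil (.node [(84,(.ofNat 1),1)] .nil .nil)) (.node [(38,(.negSucc 0),1)] .nil .nil))) (.node [] (.node [] .nil (.node [] .nil (.node [(150,(.ofNat 1),1)] .nil .nil))) .nil))) (.node [] (.node [] (.node [] (.node [] (.node [] .nil (.node [(58,(.negSucc 0),1)] .nil .nil)) (.node [(17,(.negSucc 0),1)] .nil (.node [(122,(.ofNat 1),1)] .nil .nil))) (.node [] .nil (.node [] .nil (.node [(160,(.negSucc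 0),1)] .nil .nil)))) (.node [] .nil (.node [(15,(.ofNat 1),1)] (.node [] .nil (.node [(108,(.ofNat 1),1)] .nil .nil)) (.node [(48,(.ofNat 1),1)] .nil .nil)))) (.node [] (.node [] .nil (.node [] .nil (.node [] .nil (.node [(183,(.ofNat 1),1)] .nil .nil)))) (.node [] (.node [] .nil (.node [] .nil (.node [(152,(.ofNat 1),1)] .nil .nil))) .nil)))) (.node [(54,(.negSucc 0),1)] (.node [] (.node [] (.node [] (.node [] .nil (.node [] .nil (.node [(119,(.negSucc 0),1)] .nil .nil))) .nil) (.node [] (.node [] (.node [] .nil (.node [(74,(.negSucc 0),1)] .nil .nil)) (.node [] .nil (.node [(140,(.negSucc 0),1)] .nil .nil))) (.node [] .nil (.node [(44,(.ofNat 1),1)] .nil .nil)))) (.node [] (.node [] .nil (.node [(13,(.ofNat 1),1)] (.node [] .nil (.node [(86,(.negSucc 0),1)] .nil .nil)) .nil)) (.node [] (.node [] .nil (.node [(24,(.ofNat 1),1)] .nil .nil)) .nil))) (.node [] (.node [] (.node [] (.node [] .nil (.node [] .nil (.node [(125,(.ofNat 1),1)] .nil .nil))) (.node [] .nil (.node [(34,(.negSucc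 0),1)] .nil (.node [(164,(.negSucc 0),1)] .nil .nil)))) (.node [] .nil (.node [] .nil (.node [] .nil (.node [(223,(.ofNat 1),1)] .nil .nil))))) (.node [] (.node [] (.node [] (.node [] .nil (.node [(64,(.ofNat 1),1)] .nil .nil)) (.node [] .nil (.node [(138,(.negSucc 0),1)] .nil .nil))) (.node [] (.node [] .nil (.node [(96,(.ofNat 1),1)] .nil .nil)) .nil)) (.node [] (.node [] (.node [] .nil (.node [(80,(.negSucc 0),1)] .nil .nil)) (.node [(26,(.ofNat 1),1)] .nil .nil)) (.node [] (.node [] .nil (.node [(112,(.negSucc 0),1)] .nil .nil)) .nil)))))))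
noncomputable def ex47 : Trie (List (ℕ × ℤ × ℕ)) := (.node [] (.node [] (.node [] (.node [] (.node [] (.node [] (.node [] (.node [] .nil (.node [(56,(.ofNat 1),1)] .nil .nil)) .nil) .nil) (.node [] .nil (.node [] (.node [] .nil (.node [(98,(.negSucc 0),1)] .nil .nil)) (.node [] .nil (.node [(203,(.ofNat 1),1)] .nil .nil))))) (.node [] (.node [] (.node [] .nil (.node [] .nil (.node [(0,(.negSucc 0),1),(1,(.negSucc 0),1),(2,(.negSucc 1),1),(3,(.negSucc 1),1),(4,(.negSucc 1),1),(5,(.negSucc 1),1),(6,(.negSucc 0),1),(7,(.negSucc 0),1),(55,(.negSucc 0),2)] .nil .nil))) (.node [] (.node [] .nil (.node [(84,(.ofNat 1),1)] .nil .nil)) (.node [(36,(.negSucc 0),1)] .nil .nil))) (.node [] (.node [] .nil (.node [] .nil (.node [(150,(.ofNat 1),1)] .nil .nil))) .nil))) (.node [] (.node [] (.node [] (.node [] .nil (.node [(17,(.ofNat 1),1)] .nil (.node [(122,(.ofNat 1),1)] .nil .nil))) (.node [] .nil (.node [] .nil (.node [(160,(.negSucc 0),1)] .nil .nil)))) (.node [] (.node [] (.node [] .nil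 (.node [(76,(.ofNat 1),1)] .nil .nil)) .nil) (.node [(15,(.negSucc 0),1)] .nil (.node [(46,(.ofNat 1),1)] .nil .nil)))) .nil)) (.node [(55,(.ofNat 1),1)] (.node [] (.node [] .nil (.node [] (.node [] (.node [] .nil (.node [(74,(.negSucc 0),1)] .nil .nil)) .nil) (.node [] .nil (.node [(44,(.negSucc 0),1)] .nil (.node [(213,(.ofNat 1),1)] .nil .nil))))) (.node [] (.node [] .nil (.node [(13,(.negSucc 0),1)] .nil .nil)) (.node [] (.node [] .nil (.node [(24,(.negSucc 0),1)] .nil .nil)) .nil))) (.node [(55,(.negSucc 0),1)] (.node [] (.node [] (.node [] .nil (.node [] .nil (.node [(124,(.negSucc 0),1)] .nil .nil))) (.node [] .nil (.node [(34,(.ofNat 1),1)] .nil (.node [(162,(.ofNat 1),1)] .nil .nil)))) .nil) (.node [] (.node [] (.node [] .nil (.node [] .nil (.node [(138,(.negSucc 0),1)] .nil .nil))) (.node [] (.node [] .nil (.node [(96,(.ofNat 1),1)] .nil .nil)) (.node [] .nil (.node [(187,(.negSucc 0),1)] .nil .nil)))) (.node [] .nil (.node [] (.node [] .nil (.node [(112,(.negSucc 0),1)]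 .nil .nil)) (.node [(54,(.ofNat 1),1)] .nil .nil))))))) (.node [] (.node [] (.node [] (.node [] (.node [] (.node [] .nil (.node [] .nil (.node [(118,(.ofNat 1),1)] .nil .nil))) (.node [(10,(.negSucc 0),1)] .nil .nil)) (.node [] (.node [] .nil (.node [] .nil (.node [(139,(.negSucc 0),1)] .nil .nil))) .nil)) (.node [] (.node [] (.node [] (.node [] .nil (.node [(62,(.negSucc 0),1)] .nil .nil)) (.node [(20,(.negSucc 0),1)] .nil (.node [(129,(.negSucc 0),1)] .nil .nil))) (.node [] .nil (.node [(39,(.negSucc 0),1)] .nil .nil))) .nil)) (.node [(55,(.ofNat 1),1)] (.node [] (.node [] (.node [] (.node [] .nil (.node [(59,(.negSucc 0),1)] .nil .nil)) .nil) .nil) (.node [] .nil (.node [] (.node [] .nil (.node [(109,(.ofNat 1),1)] .nil .nil)) (.node [(49,(.ofNat 1),1)] .nil (.node [(222,(.ofNat 1),1)] .nil .nil))))) (.node [] (.node [] .nil (.node [] .nil (.node [] .nil (.node [(184,(.negSucc 0),1)] .nil .nil)))) (.node [] (.node [] (.node [] .nil (.node [(79,(.ofNat 1),1)] .nil .nil)) (.node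 [(25,(.negSucc 0),1)] .nil (.node [(153,(.negSucc 0),1)] .nil .nil))) .nil)))) (.node [(55,(.negSucc 0),1)] (.node [] (.node [] (.node [] (.node [] (.node [] .nil (.node [(57,(.ofNat 1),1)] .nil .nil)) (.node [] .nil (.node [(120,(.negSucc 0),1)] .nil .nil))) .nil) (.node [] (.node [] .nil (.node [] .nil (.node [(141,(.ofNat 1),1)] .nil .nil))) (.node [] (.node [] .nil (.node [(107,(.negSucc 0),1)] .nil .nil)) .nil))) (.node [] (.node [] .nil (.node [] (.node [] .nil (.node [(87,(.negSucc 0),1)] .nil .nil)) (.node [] .nil (.node [(182,(.ofNat 1),1)] .nil .nil)))) (.node [] (.node [] .nil (.node [] .nil (.node [(151,(.ofNat 1),1)] .nil .nil))) .nil))) (.node [(55,(.ofNat 1),1)] (.node [] (.node [] (.node [] (.node [] .nil (.node [(60,(.ofNat 1),1)] .nil .nil)) (.node [(18,(.ofNat 1),1)] .nil (.node [(127,(.negSucc 0),1)] .nil .nil))) (.node [] .nil (.node [] .nil (.node [(165,(.ofNat 1),1)] .nil .nil)))) (.node [] .nil (.node [] .nil (.node [] .nil (.node [(224,(.negSucc 0),1)]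 .nil .nil))))) (.node [] (.node [] (.node [] (.node [] .nil (.node [(65,(.ofNat 1),1)] .nil .nil)) .nil) .nil) (.node [(8,(.ofNat 1),1)] (.node [] (.node [] .nil (.node [(81,(.negSucc 0),1)] .nil .nil)) (.node [(27,(.ofNat 1),1)] .nil .nil)) .nil))))))
noncomputable def ex48 : Trie (List (ℕ × ℤ × ℕ)) := (.node [] (.node [] (.node [] (.node [] (.node [] (.node [] .nil (.node [(10,(.ofNat 1),1)] .nil .nil)) (.node [] (.node [] .nil (.node [] .nil (.node [(139,(.negSucc 0),1)] .nil .nil))) (.node [] .nil (.node [] .nil (.node [(204,(.negSucc 0),1)] .nil .nil))))) (.node [] (.node [] (.node [] (.node [] .nil (.node [(62,(.negSucc 0),1)] .nil .nil)) (.node [] .nil (.node [(128,(.negSucc 0),1)] .nil .nil))) (.node [] .nil (.node [(37,(.negSucc 0),1)] .nil .nil))) (.node [] .nil (.node [] .nil .nil)))) (.node [] (.node [] (.node [] (.node [] (.node [] .nil (.node [(59,(.negSucc 0),1)] .nil .nil)) (.node [] .nil (.node [(123,(.ofNat 1),1)] .nil .nil))) .nil) (.node [] .nil (.node [] (.node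 [] .nil (.node [(109,(.ofNat 1),1)] .nil .nil)) (.node [(47,(.ofNat 1),1)] .nil .nil)))) (.node [] .nil (.node [] (.node [] .nil (.node [(25,(.ofNat 1),1)] .nil .nil)) .nil)))) (.node [(56,(.ofNat 1),1)] (.node [] (.node [] (.node [] (.node [] .nil (.node [] .nil (.node [(120,(.negSucc 0),1)] .nil .nil))) .nil) (.node [] (.node [] (.node [] .nil (.node [(75,(.negSucc 0),1)] .nil .nil)) .nil) (.node [] .nil (.node [] .nil (.node [(214,(.negSucc 0),1)] .nil .nil))))) (.node [] (.node [] .nil (.node [] .nil (.node [] .nil (.node [(182,(.ofNat 1),1)] .nil .nil)))) (.node [] (.node [] .nil (.node [] .nil (.node [(151,(.ofNat 1),1)] .nil .nil))) .nil))) (.node [] (.node [] (.node [] (.node [] .nil (.node [(18,(.negSucc 0),1)] .nil .nil)) (.node [] .nil (.node [] .nil (.node [(163,(.negSucc 0),1)] .nil .nil)))) (.node [] .nil (.node [] .nil (.node [] .nil (.node [(224,(.negSucc 0),1)] .nil .nil))))) (.node [] (.node [] .nil (.node [] (.node [] .nil (.node [(97,(.ofNat 1),1)] .nil .nil))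 (.node [] .nil (.node [(188,(.ofNat 1),1)] .nil .nil)))) (.node [] (.node [] (.node [] .nil (.node [(81,(.negSucc 0),1)] .nil .nil)) .nil) .nil))))) (.node [] (.node [] (.node [] (.node [] (.node [] (.node [] .nil (.node [] .nil (.node [(119,(.ofNat 1),1)] .nil .nil))) .nil) (.node [] .nil (.node [] .nil (.node [(44,(.ofNat 1),1)] .nil .nil)))) (.node [] (.node [] (.node [] .nil (.node [(21,(.negSucc 0),1)] .nil (.node [(130,(.ofNat 1),1)] .nil .nil))) (.node [(13,(.ofNat 1),1)] .nil (.node [(40,(.negSucc 0),1)] .nil .nil))) (.node [] (.node [] .nil (.node [(24,(.ofNat 1),1)] .nil .nil)) .nil))) (.node [(56,(.ofNat 1),1)] (.node [] (.node [] (.node [] .nil (.node [] .nil (.node [(124,(.negSucc 0),1)] .nil .nil))) (.node [] .nil (.node [(34,(.negSucc 0),1)] .nil .nil))) (.node [] .nil (.node [] .nil (.node [(50,(.ofNat 1),1)] .nil (.node [(223,(.negSucc 0),1)] .nil .nil))))) (.node [] (.node [] (.node [] .nil (.node [] .nil (.node [(138,(.negSucc 0),1)] .nil .nil))) (.node [] .nil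 (.node [] .nil (.node [(185,(.ofNat 1),1)] .nil .nil)))) (.node [] (.node [] (.node [] .nil (.node [(80,(.ofNat 1),1)] .nil .nil)) (.node [] .nil (.node [(154,(.ofNat 1),1)] .nil .nil))) (.node [] (.node [] .nil (.node [(112,(.negSucc 0),1)] .nil .nil)) (.node [(54,(.negSucc 0),1)] .nil .nil)))))) (.node [(56,(.negSucc 0),1)] (.node [] (.node [] (.node [] (.node [] (.node [] .nil (.node [(58,(.ofNat 1),1)] .nil .nil)) (.node [(17,(.negSucc 0),1)] .nil .nil)) (.node [] .nil (.node [] .nil (.node [(160,(.negSucc 0),1)] .nil .nil)))) (.node [] (.node [] (.node [] .nil (.node [(76,(.ofNat 1),1)] .nil .nil)) (.node [] .nil (.node [(142,(.negSucc 0),1)] .nil .nil))) (.node [(15,(.ofNat 1),1)] (.node [] .nil (.node [(108,(.negSucc 0),1)] .nil .nil)) .nil))) (.node [] (.node [] .nil (.node [] (.node [] .nil (.node [(88,(.negSucc 0),1)] .nil .nil)) .nil)) .nil)) (.node [(56,(.negSucc 0),1)] (.node [] (.node [] (.node [] (.node [] .nil (.node [(61,(.ofNat 1),1)] .nil .nil)) (.node [] .nil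 (.node [(0,(.negSucc 0),1),(1,(.negSucc 0),1),(2,(.negSucc 1),1),(3,(.negSucc 1),1),(4,(.negSucc 1),1),(5,(.negSucc 1),1),(6,(.negSucc 0),1),(56,(.negSucc 0),2)] .nil .nil))) (.node [] (.node [] .nil (.node [(84,(.ofNat 1),1)] .nil .nil)) (.node [] .nil (.node [(166,(.negSucc 0),1)] .nil .nil)))) (.node [] (.node [] .nil (.node [] .nil (.node [(150,(.ofNat 1),1)] .nil .nil))) .nil)) (.node [] (.node [] (.node [] (.node [] .nil (.node [(66,(.ofNat 1),1)] .nil .nil)) .nil) (.node [] (.node [] .nil (.node [(98,(.negSucc 0),1)] .nil .nil)) .nil)) (.node [(9,(.ofNat 1),1)] (.node [] .nil (.node [(28,(.ofNat 1),1)] .nil .nil)) (.node [] .nil (.node [(55,(.ofNat 1),1)] .nil .nil))))))))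
noncomputable def ex49 : Trie (List (ℕ × ℤ × ℕ)) := (.node [] (.node [] (.node [] (.node [] (.node [] (.node [] (.node [] (.node [] .nil (.node [(58,(.ofNat 1),1)] .nil .nil)) (.node [] .nil (.node [(118,(.ofNat 1),1)] .nil .nil))) .nil) (.node [] .nil (.node [] (.node [] .nil (.node [(99,(.negSucc 0),1)] .nil .nil)) (.node [] .nil (.node [(205,(.negSucc 0),1)] .nil .nil))))) (.node [] (.node [] (.node [] .nil (.node [(20,(.ofNat 1),1)] .nil (.node [(131,(.negSucc 0),1)] .nil .nil))) (.node [(13,(.ofNat 1),1)] .nil .nil)) (.node [] (.node [] .nil (.node [(24,(.ofNat 1),1)] .nil .nil)) .nil))) (.node [(57,(.ofNat 1),1)] (.node [] (.node [] (.node [] .nil (.node [] .nil (.node [(125,(.negSucc 0),1)] .nil .nil))) (.node [] .nil (.node [] .nil (.node [(161,(.ofNat 1),1)] .nil .nil)))) (.node [] (.node [] (.node [] .nil (.node [(77,(.ofNat 1),1)] .nil .nil)) .nil) (.node [] .nil (.node [] .nil (.node [(222,(.ofNat 1),1)] .nil .nil))))) (.node [] (.node [] (.node [] .nil (.node [] .nil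 (.node [(138,(.negSucc 0),1)] .nil .nil))) (.node [] .nil (.node [] .nil (.node [(184,(.negSucc 0),1)] .nil .nil)))) (.node [] (.node [] (.node [] .nil (.node [(79,(.ofNat 1),1)] .nil .nil)) (.node [] .nil (.node [(153,(.negSucc 0),1)] .nil .nil))) (.node [] (.node [] .nil (.node [(112,(.negSucc 0),1)] .nil .nil)) (.node [(55,(.ofNat 1),1)] .nil .nil)))))) (.node [(57,(.ofNat 1),1)] (.node [] (.node [] (.node [] (.node [] (.node [] .nil (.node [(59,(.ofNat 1),1)] .nil .nil)) (.node [(17,(.negSucc 0),1)] .nil .nil)) .nil) (.node [] (.node [] .nil (.node [] .nil (.node [(141,(.ofNat 1),1)] .nil .nil))) (.node [(15,(.ofNat 1),1)] (.node [] .nil (.node [(107,(.negSucc 0),1)] .nil .nil)) (.node [(45,(.negSucc 0),1)] .nil (.node [(215,(.negSucc 0),1)] .nil .nil))))) .nil) (.node [] (.node [] (.node [] (.node [] (.node [] .nil (.node [(60,(.ofNat 1),1)] .nil .nil)) (.node [] .nil (.node [(0,(.negSucc 0),1),(1,(.negSucc 0),1),(2,(.negSucc 1),1),(3,(.negSucc 1),1),(4,(.negSucc 1),1),(5,(.negSucc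 0),1),(6,(.negSucc 0),1),(7,(.negSucc 0),1),(57,(.negSucc 0),2)] .nil .nil))) (.node [] (.node [] .nil (.node [(84,(.ofNat 1),1)] .nil .nil)) (.node [(35,(.ofNat 1),1)] .nil .nil))) (.node [] (.node [] .nil (.node [] .nil (.node [(150,(.ofNat 1),1)] .nil .nil))) .nil)) (.node [] (.node [] .nil (.node [] .nil (.node [] .nil (.node [(189,(.ofNat 1),1)] .nil .nil)))) (.node [(8,(.negSucc 0),1)] (.node [] .nil (.node [(27,(.negSucc 0),1)] .nil .nil)) .nil))))) (.node [] (.node [] (.node [] (.node [] (.node [] .nil (.node [(11,(.negSucc 0),1)] .nil .nil)) (.node [] (.node [] (.node [] .nil (.node [(74,(.negSucc 0),1)] .nil .nil)) (.node [] .nil (.node [(140,(.ofNat 1),1)] .nil .nil))) .nil)) (.node [] (.node [] (.node [] (.node [] .nil (.node [(63,(.negSucc 0),1)] .nil .nil)) (.node [] .nil (.node [(132,(.negSucc 0),1)] .nil .nil))) (.node [] .nil (.node [(41,(.negSucc 0),1)] .nil .nil))) (.node [] .nil (.node [] .nil .nil)))) (.node [(57,(.negSucc 0),1)] (.node [] (.node [] (.node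 [] .nil (.node [] .nil (.node [(127,(.negSucc 0),1)] .nil .nil))) (.node [] .nil (.node [] .nil (.node [(162,(.ofNat 1),1)] .nil .nil)))) (.node [] .nil (.node [] (.node [] .nil (.node [(110,(.ofNat 1),1)] .nil .nil)) (.node [(51,(.ofNat 1),1)] .nil .nil)))) (.node [] (.node [] .nil (.node [] (.node [] .nil (.node [(96,(.ofNat 1),1)] .nil .nil)) .nil)) (.node [] (.node [] .nil (.node [(26,(.negSucc 0),1)] .nil .nil)) .nil)))) (.node [(57,(.negSucc 0),1)] (.node [] (.node [] (.node [] (.node [] .nil (.node [] .nil (.node [(121,(.negSucc 0),1)] .nil .nil))) .nil) (.node [] .nil (.node [] .nil (.node [(46,(.negSucc 0),1)] .nil .nil)))) (.node [] (.node [] .nil (.node [] (.node [] .nil (.node [(89,(.negSucc 0),1)] .nil .nil)) (.node [] .nil (.node [(183,(.negSucc 0),1)] .nil .nil)))) (.node [] (.node [] .nil (.node [] .nil (.node [(152,(.negSucc 0),1)] .nil .nil))) (.node [] .nil (.node [(54,(.ofNat 1),1)] .nil .nil))))) (.node [(57,(.ofNat 1),1)] (.node [] (.node [] (.node [] .nil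 (.node [(19,(.ofNat 1),1)] .nil .nil)) (.node [] .nil (.node [(36,(.ofNat 1),1)] .nil (.node [(167,(.negSucc 0),1)] .nil .nil)))) (.node [] .nil (.node [] .nil (.node [] .nil (.node [(225,(.ofNat 1),1)] .nil .nil))))) (.node [] (.node [] (.node [] (.node [] .nil (.node [(67,(.ofNat 1),1)] .nil .nil)) .nil) .nil) (.node [] (.node [] (.node [] .nil (.node [(82,(.negSucc 0),1)] .nil .nil)) .nil) .nil))))))
noncomputable def ex50 : Trie (List (ℕ × ℤ × ℕ)) := (.node [] (.node [] (.node [] (.node [] (.node [] (.node [] (.node [] .nil (.node [] .nil (.node [(119,(.ofNat 1),1)] .nil .nil))) (.node [(11,(.ofNat 1),1)] .nil .nil)) (.node [] (.node [] .nil (.node [] .nil (.node [(140,(.ofNat 1),1)] .nil .nil))) (.node [] .nil (.node [] .nil (.node [(206,(.ofNat 1),1)] .nil .nil))))) (.node [] (.node [] (.node [] (.node [] .nil (.node [(63,(.negSucc 0),1)] .nil .nil)) (.node [(21,(.ofNat 1),1)] .nil .nil)) .nil) .nil)) (.node [(58,(.ofNat 1),1)] (.node [] (.node [] (.node [] .nil (.node []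 .nil (.node [(126,(.negSucc 0),1)] .nil .nil))) .nil) (.node [] .nil (.node [] (.node [] .nil (.node [(110,(.ofNat 1),1)] .nil .nil)) (.node [] .nil (.node [(223,(.negSucc 0),1)] .nil .nil))))) (.node [] (.node [] .nil (.node [] .nil (.node [] .nil (.node [(185,(.ofNat 1),1)] .nil .nil)))) (.node [] (.node [] (.node [] .nil (.node [(80,(.ofNat 1),1)] .nil .nil)) (.node [(26,(.ofNat 1),1)] .nil (.node [(154,(.ofNat 1),1)] .nil .nil))) (.node [] .nil (.node [(56,(.ofNat 1),1)] .nil .nil)))))) (.node [(58,(.ofNat 1),1)] (.node [] (.node [] (.node [] (.node [] .nil (.node [] .nil (.node [(121,(.negSucc 0),1)] .nil .nil))) .nil) (.node [] (.node [] .nil (.node [] .nil (.node [(142,(.negSucc 0),1)] .nil .nil))) (.node [] (.node [] .nil (.node [(108,(.negSucc 0),1)] .nil .nil)) (.node [] .nil (.node [(216,(.ofNat 1),1)] .nil .nil))))) (.node [] (.node [] .nil (.node [] .nil (.node [] .nil (.node [(183,(.negSucc 0),1)] .nil .nil)))) (.node [] (.node [] .nil (.node [] .nil (.node [(152,(.negSucc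 0),1)] .nil .nil))) (.node [] .nil (.node [(54,(.negSucc 0),1)] .nil .nil))))) (.node [(58,(.ofNat 1),1)] (.node [] (.node [] (.node [] (.node [] .nil (.node [(61,(.ofNat 1),1)] .nil .nil)) (.node [(19,(.negSucc 0),1)] .nil (.node [(128,(.negSucc 0),1)] .nil .nil))) .nil) (.node [] .nil (.node [] .nil (.node [] .nil (.node [(225,(.ofNat 1),1)] .nil .nil))))) (.node [] (.node [] .nil (.node [] .nil (.node [] .nil (.node [(190,(.negSucc 0),1)] .nil .nil)))) (.node [(9,(.negSucc 0),1)] (.node [] (.node [] .nil (.node [(82,(.negSucc 0),1)] .nil .nil)) (.node [(28,(.negSucc 0),1)] .nil .nil)) .nil))))) (.node [] (.node [] (.node [] (.node [] (.node [] (.node [] (.node [] .nil (.node [(59,(.ofNat 1),1)] .nil .nil)) (.node [(17,(.ofNat 1),1)] .nil .nil)) .nil) (.node [] (.node [] (.node [] .nil (.node [(75,(.negSucc 0),1)] .nil .nil)) .nil) (.node [(15,(.negSucc 0),1)] .nil (.node [(45,(.ofNat 1),1)] .nil .nil)))) (.node [] (.node [] (.node [] .nil (.node [] .nil (.node [(133,(.ofNat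 1),1)] .nil .nil))) (.node [] .nil (.node [(42,(.negSucc 0),1)] .nil .nil))) .nil)) (.node [(58,(.negSucc 0),1)] (.node [] (.node [] (.node [] .nil (.node [] .nil (.node [(0,(.negSucc 0),1),(1,(.negSucc 0),1),(2,(.negSucc 1),1),(3,(.negSucc 1),1),(4,(.negSucc 1),1),(5,(.negSucc 0),1),(6,(.negSucc 0),1),(58,(.negSucc 0),2)] .nil .nil))) (.node [] (.node [] .nil (.node [(84,(.ofNat 1),1)] .nil .nil)) (.node [(35,(.negSucc 0),1)] .nil (.node [(163,(.negSucc 0),1)] .nil .nil)))) (.node [] (.node [] .nil (.node [] .nil (.node [(150,(.ofNat 1),1)] .nil .nil))) (.node [] .nil (.node [(52,(.ofNat 1),1)] .nil .nil)))) (.node [] (.node [] .nil (.node [] (.node [] .nil (.node [(97,(.ofNat 1),1)] .nil .nil)) .nil)) .nil))) (.node [(58,(.negSucc 0),1)] (.node [] (.node [] (.node [] .nil (.node [] .nil (.node [] .nil (.node [(161,(.ofNat 1),1)] .nil .nil)))) (.node [] (.node [] (.node [] .nil (.node [(77,(.ofNat 1),1)] .nil .nil)) .nil) (.node [] .nil (.node [(47,(.negSucc 0),1)] .nil .nil))))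 (.node [] (.node [] (.node [] .nil (.node [] .nil (.node [(138,(.negSucc 0),1)] .nil .nil))) (.node [] (.node [] .nil (.node [(90,(.negSucc 0),1)] .nil .nil)) .nil)) (.node [] .nil (.node [] (.node [] .nil (.node [(112,(.negSucc 0),1)] .nil .nil)) .nil)))) (.node [(58,(.negSucc 0),1)] (.node [] (.node [] (.node [] .nil (.node [] .nil (.node [(131,(.negSucc 0),1)] .nil .nil))) (.node [(13,(.negSucc 0),1)] .nil (.node [(37,(.ofNat 1),1)] .nil (.node [(168,(.ofNat 1),1)] .nil .nil)))) (.node [] (.node [] .nil (.node [(24,(.negSucc 0),1)] .nil .nil)) .nil)) (.node [] (.node [] (.node [] (.node [] .nil (.node [(68,(.ofNat 1),1)] .nil .nil)) .nil) (.node [] (.node [] .nil (.node [(99,(.negSucc 0),1)] .nil .nil)) .nil)) (.node [] .nil (.node [] .nil (.node [(57,(.ofNat 1),1)] .nil .nil))))))))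
noncomputable def ex51 : Trie (List (ℕ × ℤ × ℕ)) := (.node [] (.node [] (.node [] (.node [] (.node [] (.node [] (.node [] .nil (.node [(17,(.negSucc 0),1)] .nil (.node [(120,(.ofNat 1),1)] .nil .nil))) .nil) (.node [] (.node [] .nil (.node [] .nil (.node [(141,(.negSucc 0),1)] .nil .nil))) (.node [(15,(.ofNat 1),1)] .nil (.node [] .nil (.node [(207,(.negSucc 0),1)] .nil .nil))))) (.node [] (.node [] (.node [] .nil (.node [] .nil (.node [(133,(.ofNat 1),1)] .nil .nil))) .nil) .nil)) (.node [(59,(.ofNat 1),1)] (.node [] (.node [] (.node [] .nil (.node [] .nil (.node [(0,(.negSucc 0),1),(1,(.negSucc 0),1),(2,(.negSucc 1),1),(3,(.negSucc 1),1),(4,(.negSucc 1),1),(5,(.negSucc 0),1),(59,(.negSucc 0),2)] .nil .nil))) (.node [] (.node [] .nil (.node [(84,(.ofNat 1),1)] .nil .nil)) (.node [] .nil (.node [(163,(.negSucc 0),1)] .nil .nil)))) (.node [] (.node [] .nil (.node [] .nil (.node [(150,(.ofNat 1),1)] .nil .nil))) (.node [] .nil (.node [] .nil (.node [(224,(.ofNat 1),1)] .nil .nil)))))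 (.node [] .nil (.node [] (.node [] (.node [] .nil (.node [(81,(.ofNat 1),1)] .nil .nil)) (.node [(27,(.ofNat 1),1)] .nil .nil)) .nil)))) (.node [(59,(.ofNat 1),1)] (.node [] (.node [] .nil (.node [] (.node [] (.node [] .nil (.node [(77,(.ofNat 1),1)] .nil .nil)) .nil) (.node [] (.node [] .nil (.node [(109,(.negSucc 0),1)] .nil .nil)) (.node [(47,(.ofNat 1),1)] .nil (.node [(217,(.negSucc 0),1)] .nil .nil))))) (.node [] (.node [] (.node [] .nil (.node [] .nil (.node [(138,(.negSucc 0),1)] .nil .nil))) (.node [] .nil (.node [] .nil (.node [(184,(.ofNat 1),1)] .nil .nil)))) (.node [] (.node [] .nil (.node [] .nil (.node [(153,(.ofNat 1),1)] .nil .nil))) (.node [] (.node [] .nil (.node [(112,(.negSucc 0),1)] .nil .nil)) (.node [(55,(.negSucc 0),1)] .nil .nil))))) (.node [(59,(.negSucc 0),1)] (.node [] (.node [] (.node [] (.node [] .nil (.node [(62,(.ofNat 1),1)] .nil .nil)) (.node [(20,(.negSucc 0),1)] .nil (.node [(130,(.negSucc 0),1)] .nil .nil))) (.node [(13,(.ofNat 1),1)] .nil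 (.node [(37,(.negSucc 0),1)] .nil .nil))) (.node [] (.node [] .nil (.node [(24,(.ofNat 1),1)] .nil .nil)) .nil)) (.node [] (.node [] .nil (.node [] (.node [] .nil (.node [(99,(.negSucc 0),1)] .nil .nil)) (.node [] .nil (.node [(191,(.ofNat 1),1)] .nil .nil)))) (.node [(10,(.negSucc 0),1)] .nil (.node [] .nil (.node [(58,(.ofNat 1),1)] .nil .nil))))))) (.node [] (.node [] (.node [] (.node [] (.node [] (.node [] .nil (.node [] .nil (.node [(121,(.negSucc 0),1)] .nil .nil))) .nil) (.node [] (.node [] (.node [] .nil (.node [(76,(.negSucc 0),1)] .nil .nil)) (.node [] .nil (.node [(142,(.negSucc 0),1)] .nil .nil))) (.node [] .nil (.node [(46,(.ofNat 1),1)] .nil .nil)))) (.node [] (.node [] .nil (.node [] .nil (.node [(43,(.negSucc 0),1)] .nil .nil))) .nil)) (.node [] (.node [] (.node [] (.node [] .nil (.node [] .nil (.node [(129,(.negSucc 0),1)] .nil .nil))) (.node [] .nil (.node [(36,(.negSucc 0),1)] .nil .nil))) (.node [] .nil (.node [] .nil (.node [(53,(.ofNat 1),1)] .nil (.node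 [(225,(.ofNat 1),1)] .nil .nil))))) (.node [] (.node [] .nil (.node [] (.node [] .nil (.node [(98,(.ofNat 1),1)] .nil .nil)) .nil)) (.node [] (.node [] (.node [] .nil (.node [(82,(.negSucc 0),1)] .nil .nil)) (.node [(28,(.ofNat 1),1)] .nil .nil)) (.node [] .nil (.node [(57,(.ofNat 1),1)] .nil .nil)))))) (.node [(59,(.negSucc 0),1)] (.node [] (.node [] (.node [] .nil (.node [] .nil (.node [] .nil (.node [(162,(.negSucc 0),1)] .nil .nil)))) (.node [] .nil (.node [] (.node [] .nil (.node [(110,(.ofNat 1),1)] .nil .nil)) .nil))) (.node [] (.node [] .nil (.node [] (.node [] .nil (.node [(91,(.negSucc 0),1)] .nil .nil)) (.node [] .nil (.node [(185,(.ofNat 1),1)] .nil .nil)))) (.node [] (.node [] .nil (.node [] .nil (.node [(154,(.ofNat 1),1)] .nil .nil))) (.node [] .nil (.node [(56,(.negSucc 0),1)] .nil .nil))))) (.node [] (.node [] (.node [] (.node [] (.node [] .nil (.node [(63,(.negSucc 0),1)] .nil .nil)) (.node [(21,(.negSucc 0),1)] .nil (.node [(132,(.ofNat 1),1)] .nil .nil))) (.node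 [] .nil (.node [] .nil (.node [(169,(.negSucc 0),1)] .nil .nil)))) .nil) (.node [] (.node [] (.node [] (.node [] .nil (.node [(69,(.ofNat 1),1)] .nil .nil)) .nil) .nil) (.node [(11,(.negSucc 0),1)] .nil .nil))))))
noncomputable def ex52 : Trie (List (ℕ × ℤ × ℕ)) := (.node [] (.node [] (.node [] (.node [] (.node [] (.node [] (.node [] (.node [] .nil (.node [(61,(.ofNat 1),1)] .nil .nil)) (.node [] .nil (.node [(122,(.negSucc 0),1)] .nil .nil))) .nil) (.node [] (.node [] (.node [] .nil (.node [(74,(.negSucc 0),1)] .nil .nil)) .nil) (.node [] (.node [] .nil (.node [(100,(.negSucc 0),1)] .nil .nil)) (.node [] .nil (.node [(208,(.ofNat 1),1)] .nil .nil))))) (.node [] (.node [] (.node [] .nil (.node [] .nil (.node [(135,(.negSucc 0),1)] .nil .nil))) (.node [] .nil (.node [(41,(.ofNat 1),1)] .nil .nil))) (.node [] (.node [] .nil (.node [(25,(.ofNat 1),1)] .nil (.node [(152,(.negSucc 0),1)] .nil .nil))) (.node [] .nil (.node [(55,(.ofNat 1),1)] .nil .nil))))) (.node [(60,(.negSucc 0),1)]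 (.node [] (.node [] (.node [] .nil (.node [(19,(.negSucc 0),1)] .nil .nil)) (.node [] .nil (.node [] .nil (.node [(164,(.negSucc 0),1)] .nil .nil)))) (.node [] (.node [] (.node [] .nil (.node [(78,(.ofNat 1),1)] .nil .nil)) .nil) (.node [] .nil (.node [(51,(.negSucc 0),1)] .nil .nil)))) (.node [] (.node [] (.node [] .nil (.node [] .nil (.node [(139,(.ofNat 1),1)] .nil .nil))) (.node [] (.node [] .nil (.node [(96,(.ofNat 1),1)] .nil .nil)) (.node [] .nil (.node [(187,(.ofNat 1),1)] .nil .nil)))) (.node [] .nil (.node [] .nil .nil))))) (.node [(60,(.ofNat 1),1)] (.node [] (.node [] (.node [] (.node [] (.node [] .nil (.node [(62,(.ofNat 1),1)] .nil .nil)) (.node [(18,(.negSucc 0),1)] .nil (.node [(127,(.negSucc 0),1)] .nil .nil))) .nil) (.node [] .nil (.node [] .nil (.node [(48,(.negSucc 0),1)] .nil (.node [(218,(.ofNat 1),1)] .nil .nil))))) (.node [] .nil (.node [] (.node [] .nil (.node [(26,(.ofNat 1),1)] .nil .nil)) .nil))) (.node [] (.node [] (.node [] (.node [] .nil (.node []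 .nil (.node [(134,(.negSucc 0),1)] .nil .nil))) (.node [] .nil (.node [(38,(.ofNat 1),1)] .nil (.node [(167,(.negSucc 0),1)] .nil .nil)))) (.node [] (.node [] .nil (.node [] .nil (.node [(151,(.negSucc 0),1)] .nil .nil))) .nil)) (.node [] (.node [] (.node [] .nil (.node [] .nil (.node [(140,(.ofNat 1),1)] .nil .nil))) .nil) .nil)))) (.node [] (.node [] (.node [] (.node [] (.node [] (.node [] .nil (.node [] .nil (.node [(125,(.negSucc 0),1)] .nil .nil))) (.node [(12,(.negSucc 0),1)] .nil .nil)) (.node [] .nil (.node [] (.node [] .nil (.node [(107,(.negSucc 0),1)] .nil .nil)) .nil))) (.node [] (.node [] (.node [] .nil (.node [] .nil (.node [(136,(.negSucc 0),1)] .nil .nil))) .nil) (.node [] (.node [] .nil (.node [] .nil (.node [(153,(.negSucc 0),1)] .nil .nil))) (.node [] (.node [] .nil (.node [(112,(.negSucc 0),1)] .nil .nil)) (.node [(57,(.ofNat 1),1)] .nil .nil))))) (.node [] (.node [] (.node [] (.node [] (.node [] .nil (.node [(63,(.ofNat 1),1)] .nil .nil)) (.node [(20,(.negSucc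 0),1)] .nil .nil)) (.node [(13,(.negSucc 0),1)] .nil (.node [] .nil (.node [(165,(.negSucc 0),1)] .nil .nil)))) (.node [] .nil (.node [] (.node [] .nil (.node [(111,(.ofNat 1),1)] .nil .nil)) .nil))) (.node [] (.node [] .nil (.node [] .nil (.node [] .nil (.node [(189,(.ofNat 1),1)] .nil .nil)))) (.node [(8,(.ofNat 1),1)] .nil .nil)))) (.node [] (.node [] (.node [] (.node [] (.node [] .nil (.node [] .nil (.node [(0,(.negSucc 0),1),(1,(.negSucc 0),1),(2,(.negSucc 1),1),(3,(.negSucc 1),1),(4,(.negSucc 0),1),(5,(.negSucc 0),1),(6,(.negSucc 0),1),(7,(.negSucc 0),1),(60,(.negSucc 0),2)] .nil .nil))) (.node [] (.node [] .nil (.node [(84,(.ofNat 1),1)] .nil .nil)) .nil)) (.node [] .nil (.node [] .nil (.node [(49,(.negSucc 0),1)] .nil (.node [(222,(.ofNat 1),1)] .nil .nil))))) (.node [] (.node [] .nil (.node [] (.node [] .nil (.node [(92,(.negSucc 0),1)] .nil .nil)) (.node [] .nil (.node [(186,(.ofNat 1),1)] .nil .nil)))) (.node [] (.node [] (.node [] .nil (.node [(79,(.ofNat 1),1)] .nil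 .nil)) (.node [(27,(.ofNat 1),1)] .nil .nil)) .nil))) (.node [(60,(.ofNat 1),1)] (.node [] (.node [] .nil (.node [] .nil (.node [(39,(.ofNat 1),1)] .nil .nil))) (.node [] .nil (.node [] .nil (.node [(54,(.ofNat 1),1)] .nil (.node [(226,(.negSucc 0),1)] .nil .nil))))) (.node [] (.node [] (.node [] (.node [] .nil (.node [(70,(.ofNat 1),1)] .nil .nil)) (.node [] .nil (.node [(141,(.ofNat 1),1)] .nil .nil))) (.node [(15,(.negSucc 0),1)] .nil .nil)) (.node [] (.node [] (.node [] .nil (.node [(83,(.negSucc 0),1)] .nil .nil)) .nil) .nil))))))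
noncomputable def ex53 : Trie (List (ℕ × ℤ × ℕ)) := (.node [] (.node [] (.node [] (.node [] (.node [] (.node [] (.node [] .nil (.node [] .nil (.node [(123,(.negSucc 0),1)] .nil .nil))) (.node [(12,(.ofNat 1),1)] .nil .nil)) (.node [] (.node [] (.node [] .nil (.node [(75,(.negSucc 0),1)] .nil .nil)) .nil) (.node [] .nil (.node [] .nil (.node [(209,(.negSucc 0),1)] .nil .nil))))) (.node [] (.node [] .nil (.node [] .nil (.node [(42,(.ofNat 1),1)] .nil .nil))) (.node [] .nil (.node [] (.node [] .nil (.node [(112,(.negSucc 0),1)] .nil .nil)) (.node [(56,(.ofNat 1),1)] .nil .nil))))) (.node [(61,(.negSucc 0),1)] (.node [] (.node [] (.node [] (.node [] .nil (.node [(63,(.ofNat 1),1)] .nil .nil)) .nil) (.node [(13,(.ofNat 1),1)] .nil .nil)) (.node [] .nil (.node [] (.node [] .nil (.node [(111,(.ofNat 1),1)] .nil .nil)) (.node [(52,(.negSucc 0),1)] .nil .nil)))) (.node [] (.node [] .nil (.node [] (.node [] .nil (.node [(97,(.ofNat 1),1)] .nil .nil)) (.node [] .nil (.node [(188,(.negSucc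 0),1)] .nil .nil)))) .nil))) (.node [(61,(.ofNat 1),1)] (.node [] (.node [] (.node [] (.node [] .nil (.node [] .nil (.node [(0,(.negSucc 0),1),(1,(.negSucc 0),1),(2,(.negSucc 1),1),(3,(.negSucc 1),1),(4,(.negSucc 0),1),(5,(.negSucc 0),1),(6,(.negSucc 0),1),(61,(.negSucc 0),2)] .nil .nil))) (.node [] (.node [] .nil (.node [(84,(.ofNat 1),1)] .nil .nil)) .nil)) (.node [] .nil (.node [] .nil (.node [] .nil (.node [(219,(.negSucc 0),1)] .nil .nil))))) (.node [] (.node [] .nil (.node [] .nil (.node [] .nil (.node [(186,(.ofNat 1),1)] .nil .nil)))) .nil)) (.node [(61,(.ofNat 1),1)] (.node [] (.node [] .nil (.node [] .nil (.node [] .nil (.node [(168,(.ofNat 1),1)] .nil .nil)))) (.node [] .nil (.node [] .nil (.node [(54,(.negSucc 0),1)] .nil (.node [(226,(.negSucc 0),1)] .nil .nil))))) (.node [] (.node [] .nil (.node [(15,(.ofNat 1),1)] .nil .nil)) (.node [] (.node [] (.node [] .nil (.node [(83,(.negSucc 0),1)] .nil .nil)) .nil) .nil))))) (.node [] (.node [] (.node [] (.node [] (.node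 [] (.node [] (.node [] .nil (.node [(62,(.ofNat 1),1)] .nil .nil)) (.node [(18,(.ofNat 1),1)] .nil (.node [(126,(.negSucc 0),1)] .nil .nil))) .nil) (.node [] .nil (.node [] (.node [] .nil (.node [(108,(.negSucc 0),1)] .nil .nil)) (.node [(48,(.ofNat 1),1)] .nil .nil)))) (.node [] (.node [] (.node [] .nil (.node [] .nil (.node [(137,(.ofNat 1),1)] .nil .nil))) .nil) (.node [] (.node [] .nil (.node [(26,(.negSucc 0),1)] .nil (.node [(154,(.ofNat 1),1)] .nil .nil))) (.node [] .nil (.node [(58,(.ofNat 1),1)] .nil .nil))))) (.node [] (.node [] (.node [] (.node [] .nil (.node [(21,(.negSucc 0),1)] .nil (.node [(134,(.negSucc 0),1)] .nil .nil))) (.node [] .nil (.node [(38,(.negSucc 0),1)] .nil (.node [(166,(.ofNat 1),1)] .nil .nil)))) (.node [] (.node [] .nil (.node [] .nil (.node [(151,(.negSucc 0),1)] .nil .nil))) .nil)) (.node [] (.node [] (.node [] .nil (.node [] .nil (.node [(140,(.ofNat 1),1)] .nil .nil))) (.node [] .nil (.node [] .nil (.node [(190,(.negSucc 0),1)] .nil .nil))))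 (.node [(9,(.ofNat 1),1)] .nil (.node [] .nil .nil))))) (.node [] (.node [] (.node [] (.node [] (.node [] .nil (.node [(19,(.ofNat 1),1)] .nil (.node [(128,(.negSucc 0),1)] .nil .nil))) (.node [] .nil (.node [] .nil (.node [(164,(.negSucc 0),1)] .nil .nil)))) (.node [] (.node [] (.node [] .nil (.node [(78,(.ofNat 1),1)] .nil .nil)) .nil) (.node [] .nil (.node [(50,(.negSucc 0),1)] .nil (.node [(223,(.negSucc 0),1)] .nil .nil))))) (.node [] (.node [] (.node [] .nil (.node [] .nil (.node [(139,(.ofNat 1),1)] .nil .nil))) (.node [] (.node [] .nil (.node [(93,(.negSucc 0),1)] .nil .nil)) .nil)) (.node [] (.node [] (.node [] .nil (.node [(80,(.ofNat 1),1)] .nil .nil)) (.node [(28,(.ofNat 1),1)] .nil .nil)) .nil))) (.node [(61,(.negSucc 0),1)] (.node [] (.node [] (.node [] .nil (.node [] .nil (.node [(135,(.negSucc 0),1)] .nil .nil))) (.node [] .nil (.node [(40,(.ofNat 1),1)] .nil .nil))) (.node [] (.node [] .nil (.node [(25,(.negSucc 0),1)] .nil (.node [(152,(.negSucc 0),1)] .nil .nil)))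 .nil)) (.node [] (.node [] (.node [] (.node [] .nil (.node [(71,(.ofNat 1),1)] .nil .nil)) (.node [] .nil (.node [(142,(.negSucc 0),1)] .nil .nil))) (.node [] (.node [] .nil (.node [(100,(.negSucc 0),1)] .nil .nil)) .nil)) (.node [] .nil (.node [] .nil (.node [(60,(.ofNat 1),1)] .nil .nil))))))))
noncomputable def ex54 : Trie (List (ℕ × ℤ × ℕ)) := (.node [] (.node [] (.node [] (.node [] (.node [] (.node [] (.node [] .nil (.node [(18,(.negSucc 0),1)] .nil (.node [(124,(.negSucc 0),1)] .nil .nil))) .nil) (.node [] (.node [] (.node [] .nil (.node [(76,(.negSucc 0),1)] .nil .nil)) .nil) (.node [] .nil (.node [] .nil (.node [(210,(.ofNat 1),1)] .nil .nil))))) (.node [] (.node [] (.node [] .nil (.node [] .nil (.node [(137,(.ofNat 1),1)] .nil .nil))) (.node [] .nil (.node [(43,(.ofNat 1),1)] .nil .nil))) (.node [] (.node [] .nil (.node [] .nil (.node [(154,(.ofNat 1),1)] .nil .nil))) .nil))) (.node [(62,(.negSucc 0),1)] (.node [] (.node [] (.node [] .nil (.node [(21,(.ofNat 1),1)] .nil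 (.node [(134,(.negSucc 0),1)] .nil .nil))) (.node [] .nil (.node [] .nil (.node [(166,(.ofNat 1),1)] .nil .nil)))) (.node [] (.node [] .nil (.node [] .nil (.node [(151,(.negSucc 0),1)] .nil .nil))) (.node [] .nil (.node [(53,(.negSucc 0),1)] .nil .nil)))) (.node [] (.node [] .nil (.node [] (.node [] .nil (.node [(98,(.ofNat 1),1)] .nil .nil)) .nil)) .nil))) (.node [(62,(.ofNat 1),1)] (.node [] (.node [] (.node [] (.node [] .nil (.node [] .nil (.node [(129,(.negSucc 0),1)] .nil .nil))) .nil) (.node [] (.node [] (.node [] .nil (.node [(78,(.ofNat 1),1)] .nil .nil)) .nil) (.node [] .nil (.node [(50,(.ofNat 1),1)] .nil (.node [(220,(.ofNat 1),1)] .nil .nil))))) (.node [] (.node [] (.node [] .nil (.node [] .nil (.node [(139,(.ofNat 1),1)] .nil .nil))) (.node [] .nil (.node [] .nil (.node [(187,(.negSucc 0),1)] .nil .nil)))) (.node [] (.node [] .nil (.node [(28,(.negSucc 0),1)] .nil .nil)) .nil))) (.node [(62,(.negSucc 0),1)] (.node [] (.node [] .nil (.node [] .nil (.node [(40,(.negSucc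 0),1)] .nil (.node [(169,(.negSucc 0),1)] .nil .nil)))) (.node [] (.node [] .nil (.node [(25,(.ofNat 1),1)] .nil .nil)) (.node [] .nil (.node [(55,(.negSucc 0),1)] .nil .nil)))) (.node [] (.node [] (.node [] .nil (.node [] .nil (.node [(142,(.negSucc 0),1)] .nil .nil))) (.node [] (.node [] .nil (.node [(100,(.negSucc 0),1)] .nil .nil)) .nil)) (.node [] .nil (.node [] .nil (.node [(61,(.ofNat 1),1)] .nil .nil))))))) (.node [] (.node [] (.node [] (.node [] (.node [] (.node [] .nil (.node [] .nil (.node [(0,(.negSucc 0),1),(1,(.negSucc 0),1),(2,(.negSucc 1),1),(3,(.negSucc 1),1),(4,(.negSucc 0),1),(5,(.negSucc 0),1),(62,(.negSucc 0),2)] .nil .nil))) (.node [] (.node [] .nil (.node [(84,(.ofNat 1),1)] .nil .nil)) .nil)) (.node [] .nil (.node [] (.node [] .nil (.node [(109,(.negSucc 0),1)] .nil .nil)) (.node [(49,(.ofNat 1),1)] .nil .nil)))) (.node [] .nil (.node [] (.node [] .nil (.node [(27,(.negSucc 0),1)] .nil .nil)) (.node [] .nil (.node [(59,(.ofNat 1),1)] .nil .nil))))) (.node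 [(62,(.ofNat 1),1)] (.node [] (.node [] .nil (.node [] .nil (.node [(39,(.negSucc 0),1)] .nil .nil))) (.node [] .nil (.node [] .nil (.node [] .nil (.node [(226,(.negSucc 0),1)] .nil .nil))))) (.node [] (.node [] (.node [] .nil (.node [] .nil (.node [(141,(.negSucc 0),1)] .nil .nil))) (.node [(15,(.negSucc 0),1)] .nil (.node [] .nil (.node [(191,(.ofNat 1),1)] .nil .nil)))) (.node [(10,(.ofNat 1),1)] (.node [] (.node [] .nil (.node [(83,(.negSucc 0),1)] .nil .nil)) .nil) (.node [] .nil (.node [(60,(.ofNat 1),1)] .nil .nil)))))) (.node [] (.node [] (.node [] (.node [] (.node [] (.node [] .nil (.node [(63,(.ofNat 1),1)] .nil .nil)) (.node [(20,(.ofNat 1),1)] .nil (.node [(130,(.negSucc 0),1)] .nil .nil))) (.node [(13,(.negSucc 0),1)] .nil (.node [] .nil (.node [(165,(.ofNat 1),1)] .nil .nil)))) (.node [] .nil (.node [] (.node [] .nil (.node [(111,(.ofNat 1),1)] .nil .nil)) (.node [] .nil (.node [(224,(.ofNat 1),1)] .nil .nil))))) (.node [] (.node [] .nil (.node [] (.node [] .nil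 (.node [(94,(.negSucc 0),1)] .nil .nil)) (.node [] .nil (.node [(188,(.negSucc 0),1)] .nil .nil)))) (.node [] (.node [] (.node [] .nil (.node [(81,(.ofNat 1),1)] .nil .nil)) .nil) .nil))) (.node [] (.node [] (.node [] (.node [] .nil (.node [] .nil (.node [(136,(.ofNat 1),1)] .nil .nil))) .nil) (.node [] (.node [] .nil (.node [] .nil (.node [(153,(.ofNat 1),1)] .nil .nil))) (.node [] (.node [] .nil (.node [(112,(.negSucc 0),1)] .nil .nil)) (.node [(56,(.negSucc 0),1)] .nil .nil)))) (.node [] (.node [] (.node [] (.node [] .nil (.node [(72,(.ofNat 1),1)] .nil .nil)) .nil) .nil) (.node [(12,(.negSucc 0),1)] .nil .nil))))))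
noncomputable def ex55 : Trie (List (ℕ × ℤ × ℕ)) := (.node [] (.node [] (.node [] (.node [] (.node [] (.node [] (.node [] .nil (.node [(19,(.negSucc 0),1)] .nil (.node [(0,(.negSucc 0),1),(1,(.negSucc 0),1),(2,(.negSucc 1),1),(3,(.negSucc 1),1),(4,(.negSucc 0),1),(63,(.negSucc 0),2)] .nil .nil))) (.node [] (.node [] .nil (.node [(84,(.ofNat 1),1)] .nil .nil)) .nil)) (.node [] (.node [] (.node [] .nil (.node [(77,(.negSucc 0),1)] .nil .nil)) .nil) (.node [] .nil (.node [] .nil (.node [(211,(.negSucc 0),1)] .nil .nil))))) (.node [] .nil (.node [] (.node [] .nil (.node [(28,(.ofNat 1),1)] .nil .nil)) (.node [] .nil (.node [(59,(.negSucc 0),1)] .nil .nil))))) (.node [] (.node [] (.node [] (.node [] .nil (.node [] .nil (.node [(135,(.ofNat 1),1)] .nil .nil))) (.node [] .nil (.node [] .nil (.node [(168,(.negSucc 0),1)] .nil .nil)))) (.node [] (.node [] .nil (.node [] .nil (.node [(152,(.ofNat 1),1)] .nil .nil))) (.node [] .nil (.node [] .nil (.node [(226,(.negSucc 0),1)] .nil .nil)))))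 (.node [] (.node [] (.node [] .nil (.node [] .nil (.node [(142,(.negSucc 0),1)] .nil .nil))) (.node [(15,(.ofNat 1),1)] (.node [] .nil (.node [(99,(.ofNat 1),1)] .nil .nil)) (.node [] .nil (.node [(191,(.ofNat 1),1)] .nil .nil)))) (.node [] (.node [] (.node [] .nil (.node [(83,(.negSucc 0),1)] .nil .nil)) .nil) (.node [] .nil (.node [(62,(.ofNat 1),1)] .nil .nil)))))) (.node [(63,(.ofNat 1),1)] (.node [] (.node [] (.node [] (.node [] .nil (.node [(21,(.negSucc 0),1)] .nil (.node [(132,(.negSucc 0),1)] .nil .nil))) (.node [(13,(.ofNat 1),1)] .nil .nil)) (.node [] .nil (.node [] (.node [] .nil (.node [(111,(.ofNat 1),1)] .nil .nil)) (.node [(52,(.ofNat 1),1)] .nil (.node [(221,(.negSucc 0),1)] .nil .nil))))) (.node [] (.node [] (.node [] .nil (.node [] .nil (.node [(140,(.negSucc 0),1)] .nil .nil))) (.node [] .nil (.node [] .nil (.node [(189,(.ofNat 1),1)] .nil .nil)))) (.node [] .nil (.node [] .nil (.node [(60,(.ofNat 1),1)] .nil .nil))))) (.node [] (.node [] (.node [] (.node []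 .nil (.node [] .nil (.node [(137,(.ofNat 1),1)] .nil .nil))) (.node [] .nil (.node [(42,(.negSucc 0),1)] .nil .nil))) (.node [] (.node [] .nil (.node [(26,(.ofNat 1),1)] .nil (.node [(154,(.ofNat 1),1)] .nil .nil))) (.node [] (.node [] .nil (.node [(112,(.negSucc 0),1)] .nil .nil)) (.node [(57,(.negSucc 0),1)] .nil .nil)))) (.node [] .nil (.node [(12,(.ofNat 1),1)] .nil .nil))))) (.node [] (.node [] (.node [] (.node [] (.node [] (.node [] .nil (.node [(20,(.negSucc 0),1)] .nil (.node [(131,(.negSucc 0),1)] .nil .nil))) .nil) (.node [] (.node [] (.node [] .nil (.node [(78,(.ofNat 1),1)] .nil .nil)) .nil) (.node [] (.node [] .nil (.node [(110,(.negSucc 0),1)] .nil .nil)) (.node [(51,(.ofNat 1),1)] .nil .nil)))) .nil) (.node [(63,(.negSucc 0),1)] (.node [] (.node [] (.node [] .nil (.node [] .nil (.node [(136,(.ofNat 1),1)] .nil .nil))) (.node [] .nil (.node [(41,(.negSucc 0),1)] .nil (.node [(169,(.negSucc 0),1)] .nil .nil)))) (.node [] (.node [] .nil (.node [] .nil (.node [(153,(.ofNat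 1),1)] .nil .nil))) .nil)) (.node [] (.node [] .nil (.node [] (.node [] .nil (.node [(100,(.negSucc 0),1)] .nil .nil)) .nil)) (.node [(11,(.ofNat 1),1)] .nil .nil)))) (.node [] (.node [] (.node [] (.node [] (.node [] .nil (.node [] .nil (.node [(133,(.negSucc 0),1)] .nil .nil))) (.node [] .nil (.node [] .nil (.node [(167,(.negSucc 0),1)] .nil .nil)))) (.node [] .nil (.node [] .nil (.node [(53,(.ofNat 1),1)] .nil (.node [(225,(.negSucc 0),1)] .nil .nil))))) (.node [] (.node [] (.node [] .nil (.node [] .nil (.node [(141,(.negSucc 0),1)] .nil .nil))) (.node [] (.node [] .nil (.node [(95,(.negSucc 0),1)] .nil .nil)) (.node [] .nil (.node [(190,(.ofNat 1),1)] .nil .nil)))) (.node [] (.node [] (.node [] .nil (.node [(82,(.ofNat 1),1)] .nil .nil)) .nil) (.node [] .nil (.node [(61,(.ofNat 1),1)] .nil .nil))))) (.node [] (.node [] (.node [] .nil (.node [] .nil (.node [(43,(.negSucc 0),1)] .nil .nil))) (.node [] (.node [] .nil (.node [(27,(.ofNat 1),1)] .nil .nil)) (.node [] .nil (.node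 [(58,(.negSucc 0),1)] .nil .nil)))) (.node [] (.node [] (.node [] (.node [] .nil (.node [(73,(.ofNat 1),1)] .nil .nil)) .nil) .nil) (.node [] .nil (.node [] .nil .nil)))))))
noncomputable def ex56 : Trie (List (ℕ × ℤ × ℕ)) := (.node [(64,(.ofNat 1),1)] (.node [] (.node [] (.node [] (.node [] (.node [] (.node [] .nil (.node [] .nil .nil)) (.node [] .nil (.node [] .nil (.node [(160,(.negSucc 0),1)] .nil .nil)))) (.node [] .nil (.node [] (.node [] .nil (.node [(102,(.negSucc 0),1)] .nil .nil)) (.node [(54,(.ofNat 1),1)] .nil .nil)))) (.node [] (.node [] (.node [] (.node [] .nil (.node [(70,(.ofNat 1),1)] .nil .nil)) .nil) .nil) (.node [] .nil (.node [] (.node [] .nil (.node [(118,(.ofNat 1),1)] .nil .nil)) .nil)))) (.node [] (.node [] (.node [] (.node [] (.node [] .nil (.node [(67,(.ofNat 1),1)] .nil .nil)) .nil) (.node [] .nil (.node [(38,(.ofNat 1),1)] .nil .nil))) (.node [] .nil (.node [] (.node [] .nil (.node [(113,(.ofNat 1),1)] .nil .nil)) .nil))) (.node [] (.node [] .nil (.node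 [] .nil (.node [] .nil (.node [(192,(.negSucc 0),1)] .nil .nil)))) (.node [(9,(.ofNat 1),1)] (.node [] .nil (.node [] .nil (.node [(156,(.negSucc 0),1)] .nil .nil))) (.node [] (.node [] .nil (.node [(123,(.negSucc 0),1)] .nil .nil)) .nil))))) (.node [(64,(.negSucc 0),1)] (.node [] (.node [] (.node [] (.node [] (.node [] .nil (.node [(66,(.negSucc 0),1)] .nil .nil)) .nil) (.node [] .nil (.node [(34,(.ofNat 1),1)] .nil (.node [(164,(.negSucc 0),1)] .nil .nil)))) (.node [] (.node [] .nil (.node [] .nil (.node [(145,(.negSucc 0),1)] .nil .nil))) .nil)) (.node [] (.node [] .nil (.node [] (.node [] .nil (.node [(86,(.negSucc 0),1)] .nil .nil)) .nil)) (.node [] (.node [] (.node [] .nil (.node [(80,(.negSucc 0),1)] .nil .nil)) .nil) .nil))) (.node [(64,(.ofNat 1),1)] (.node [] .nil (.node [] .nil (.node [] .nil (.node [] .nil (.node [(227,(.negSucc 0),1)] .nil .nil))))) (.node [] (.node [] (.node [] (.node [] .nil (.node [(75,(.negSucc 0),1)] .nil .nil)) .nil) (.node [] .nil (.node [(45,(.ofNat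 1),1)] .nil (.node [(196,(.negSucc 0),1)] .nil .nil)))) (.node [] (.node [] .nil (.node [(30,(.ofNat 1),1)] .nil .nil)) (.node [(18,(.ofNat 1),1)] (.node [] .nil (.node [(126,(.negSucc 0),1)] .nil .nil)) .nil)))))) (.node [] (.node [] (.node [] (.node [] (.node [] (.node [] (.node [] .nil (.node [(65,(.ofNat 1),1)] .nil .nil)) .nil) (.node [] .nil (.node [] .nil (.node [(161,(.negSucc 0),1)] .nil .nil)))) (.node [] .nil (.node [] .nil (.node [] .nil (.node [(212,(.negSucc 0),1)] .nil .nil))))) (.node [] (.node [] (.node [] (.node [] .nil (.node [(71,(.negSucc 0),1)] .nil .nil)) (.node [] .nil (.node [(143,(.negSucc 0),1)] .nil .nil))) (.node [] (.node [] .nil (.node [(85,(.ofNat 1),1)] .nil .nil)) .nil)) (.node [] (.node [] (.node [] .nil (.node [(79,(.ofNat 1),1)] .nil .nil)) (.node [] .nil (.node [(155,(.negSucc 0),1)] .nil .nil))) (.node [] (.node [] .nil (.node [(119,(.negSucc 0),1)] .nil .nil)) .nil)))) (.node [] (.node [] (.node [] (.node [] (.node [] .nil (.node [(68,(.negSucc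 0),1)] .nil .nil)) .nil) .nil) (.node [] .nil (.node [(16,(.ofNat 1),1)] (.node [] .nil (.node [(114,(.negSucc 0),1)] .nil .nil)) .nil))) (.node [] (.node [] (.node [] (.node [] .nil (.node [(74,(.ofNat 1),1)] .nil .nil)) .nil) (.node [] .nil (.node [(44,(.ofNat 1),1)] .nil (.node [(193,(.negSucc 0),1)] .nil .nil)))) (.node [] (.node [] .nil (.node [] .nil (.node [(157,(.negSucc 0),1)] .nil .nil))) (.node [] (.node [] .nil (.node [(125,(.ofNat 1),1)] .nil .nil)) .nil))))) (.node [] (.node [] (.node [] (.node [] .nil (.node [] .nil (.node [(35,(.ofNat 1),1)] .nil .nil))) (.node [] (.node [] .nil (.node [] .nil (.node [(146,(.negSucc 0),1)] .nil .nil))) .nil)) (.node [] (.node [] .nil (.node [(14,(.ofNat 1),1)] .nil .nil)) (.node [(8,(.ofNat 1),1)] (.node [] .nil (.node [(29,(.ofNat 1),1)] .nil .nil)) (.node [(17,(.ofNat 1),1)] (.node [] .nil (.node [(122,(.ofNat 1),1)] .nil .nil)) .nil)))) (.node [] (.node [] .nil (.node [] .nil (.node [] .nil (.node [] .nil (.node [(228,(.negSucc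 0),1)] .nil .nil))))) (.node [] (.node [] (.node [] .nil (.node [] .nil (.node [(144,(.negSucc 0),1)] .nil .nil))) (.node [] (.node [] .nil (.node [(101,(.ofNat 1),1)] .nil .nil)) (.node [(48,(.ofNat 1),1)] .nil (.node [(202,(.negSucc 0),1)] .nil .nil)))) (.node [] (.node [] .nil (.node [(31,(.ofNat 1),1)] .nil .nil)) (.node [(19,(.ofNat 1),1)] (.node [] .nil (.node [(0,(.negSucc 0),1),(1,(.negSucc 0),1),(2,(.negSucc 0),1),(3,(.negSucc 1),1),(4,(.negSucc 1),1),(5,(.negSucc 1),1),(6,(.negSucc 1),1),(7,(.negSucc 0),1),(64,(.negSucc 0),2)] .nil .nil)) .nil)))))))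
noncomputable def ex57 : Trie (List (ℕ × ℤ × ℕ)) := (.node [(65,(.ofNat 1),1)] (.node [] (.node [] (.node [] (.node [] (.node [] (.node [] (.node [] .nil (.node [(66,(.ofNat 1),1)] .nil .nil)) .nil) .nil) (.node [] .nil (.node [] (.node [] .nil (.node [(103,(.negSucc 0),1)] .nil .nil)) (.node [(55,(.ofNat 1),1)] .nil .nil)))) (.node [] (.node [] (.node [] .nil (.node [] .nil (.node [(143,(.negSucc 0),1)] .nil .nil))) (.node [] (.node [] .nil (.node [(85,(.ofNat 1),1)] .nil .nil)) .nil)) (.node [] (.node [] (.node [] .nil (.node [(79,(.ofNat 1),1)] .nil .nil)) (.node [] .nil (.node [(155,(.negSucc 0),1)] .nil .nil))) .nil))) (.node [] (.node [] (.node [] .nil (.node [] .nil (.node [(39,(.ofNat 1),1)] .nil .nil))) (.node [] .nil (.node [(16,(.negSucc 0),1)] .nil .nil))) (.node [] (.node [] (.node [] (.node [] .nil (.node [(74,(.ofNat 1),1)] .nil .nil)) .nil) (.node [] .nil (.node [(44,(.negSucc 0),1)] .nil .nil))) (.node [(10,(.ofNat 1),1)] .nil (.node [] (.node [] .nil (.node [(124,(.negSucc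 0),1)] .nil .nil)) .nil))))) (.node [(65,(.negSucc 0),1)] (.node [] (.node [] (.node [] .nil (.node [] .nil (.node [] .nil (.node [(165,(.ofNat 1),1)] .nil .nil)))) .nil) (.node [] (.node [] .nil (.node [(14,(.negSucc 0),1)] (.node [] .nil (.node [(87,(.negSucc 0),1)] .nil .nil)) .nil)) (.node [(8,(.negSucc 0),1)] (.node [] (.node [] .nil (.node [(81,(.negSucc 0),1)] .nil .nil)) (.node [(29,(.negSucc 0),1)] .nil .nil)) (.node [(17,(.negSucc 0),1)] (.node [] .nil (.node [(122,(.ofNat 1),1)] .nil .nil)) .nil)))) (.node [(65,(.negSucc 0),1)] .nil (.node [] (.node [] (.node [] (.node [] .nil (.node [(76,(.negSucc 0),1)] .nil .nil)) (.node [] .nil (.node [(144,(.negSucc 0),1)] .nil .nil))) (.node [] (.node [] .nil (.node [(101,(.ofNat 1),1)] .nil .nil)) (.node [(46,(.ofNat 1),1)] .nil (.node [(197,(.ofNat 1),1)] .nil .nil)))) (.node [] .nil (.node [] (.node [] .nil (.node [(0,(.negSucc 0),1),(1,(.negSucc 0),1),(2,(.negSucc 0),1),(3,(.negSucc 1),1),(4,(.negSucc 1),1),(5,(.negSucc 1),1),(6,(.negSucc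 0),1),(7,(.negSucc 0),1),(65,(.negSucc 0),2)] .nil .nil)) (.node [(64,(.ofNat 1),1)] .nil .nil))))))) (.node [] (.node [] (.node [] (.node [] (.node [] (.node [] .nil (.node [] .nil .nil)) (.node [] .nil (.node [(34,(.negSucc 0),1)] .nil (.node [(162,(.ofNat 1),1)] .nil .nil)))) (.node [] (.node [] .nil (.node [] .nil (.node [(145,(.negSucc 0),1)] .nil .nil))) (.node [] .nil (.node [] .nil (.node [(213,(.ofNat 1),1)] .nil .nil))))) (.node [] (.node [] (.node [] (.node [] .nil (.node [(72,(.negSucc 0),1)] .nil .nil)) .nil) .nil) (.node [] .nil (.node [] (.node [] .nil (.node [(120,(.negSucc 0),1)] .nil .nil)) .nil)))) (.node [(65,(.ofNat 1),1)] (.node [] (.node [] (.node [] (.node [] .nil (.node [(69,(.negSucc 0),1)] .nil .nil)) .nil) .nil) (.node [] .nil (.node [] (.node [] .nil (.node [(115,(.negSucc 0),1)] .nil .nil)) (.node [] .nil (.node [(227,(.negSucc 0),1)] .nil .nil))))) (.node [] (.node [] .nil (.node [] .nil (.node [] .nil (.node [(194,(.ofNat 1),1)] .nil .nil)))) (.node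 [] (.node [] .nil (.node [(30,(.negSucc 0),1)] .nil (.node [(158,(.ofNat 1),1)] .nil .nil))) (.node [(18,(.negSucc 0),1)] (.node [] .nil (.node [(127,(.negSucc 0),1)] .nil .nil)) .nil))))) (.node [] (.node [] (.node [] (.node [] (.node [] (.node [] .nil (.node [(67,(.ofNat 1),1)] .nil .nil)) .nil) (.node [] .nil (.node [(36,(.ofNat 1),1)] .nil .nil))) (.node [] (.node [] .nil (.node [] .nil (.node [(147,(.ofNat 1),1)] .nil .nil))) (.node [] (.node [] .nil (.node [(113,(.ofNat 1),1)] .nil .nil)) .nil))) (.node [] (.node [] .nil (.node [] .nil (.node [] .nil (.node [(192,(.negSucc 0),1)] .nil .nil)))) (.node [] (.node [] .nil (.node [] .nil (.node [(156,(.negSucc 0),1)] .nil .nil))) .nil))) (.node [(65,(.ofNat 1),1)] (.node [] (.node [] (.node [] (.node [] .nil (.node [(70,(.ofNat 1),1)] .nil .nil)) .nil) .nil) (.node [] .nil (.node [] (.node [] .nil (.node [(118,(.ofNat 1),1)] .nil .nil)) (.node [] .nil (.node [(229,(.ofNat 1),1)] .nil .nil))))) (.node [] (.node [] .nil (.node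 [] .nil (.node [(49,(.ofNat 1),1)] .nil (.node [(203,(.ofNat 1),1)] .nil .nil)))) (.node [] (.node [] .nil (.node [(32,(.ofNat 1),1)] .nil (.node [(160,(.negSucc 0),1)] .nil .nil))) (.node [(20,(.ofNat 1),1)] (.node [] .nil (.node [(129,(.negSucc 0),1)] .nil .nil)) .nil)))))))
noncomputable def ex58 : Trie (List (ℕ × ℤ × ℕ)) := (.node [(66,(.ofNat 1),1)] (.node [] (.node [] (.node [] (.node [] (.node [] .nil (.node [] .nil (.node [(34,(.ofNat 1),1)] .nil .nil))) (.node [] (.node [] .nil (.node [] .nil (.node [(145,(.negSucc 0),1)] .nil .nil))) (.node [] .nil (.node [(56,(.ofNat 1),1)] .nil .nil)))) (.node [] (.node [] (.node [] (.node [] .nil (.node [(72,(.negSucc 0),1)] .nil .nil)) .nil) .nil) (.node [] (.node [] (.node [] .nil (.node [(80,(.ofNat 1),1)] .nil .nil)) .nil) (.node [] (.node [] .nil (.node [(120,(.negSucc 0),1)] .nil .nil)) .nil)))) (.node [] (.node [] (.node [] (.node [] (.node [] .nil (.node [(69,(.negSucc 0),1)] .nil .nil)) .nil) (.node [] .nil (.node [(40,(.ofNat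 1),1)] .nil .nil))) (.node [] .nil (.node [] (.node [] .nil (.node [(115,(.negSucc 0),1)] .nil .nil)) .nil))) (.node [] (.node [] (.node [] (.node [] .nil (.node [(75,(.ofNat 1),1)] .nil .nil)) .nil) .nil) (.node [] (.node [] .nil (.node [(30,(.ofNat 1),1)] .nil .nil)) (.node [(18,(.ofNat 1),1)] .nil .nil))))) (.node [(66,(.negSucc 0),1)] (.node [] (.node [] (.node [] (.node [] .nil (.node [] .nil .nil)) (.node [] .nil (.node [] .nil (.node [(166,(.negSucc 0),1)] .nil .nil)))) .nil) (.node [] (.node [] .nil (.node [] (.node [] .nil (.node [(88,(.negSucc 0),1)] .nil .nil)) (.node [] .nil (.node [(192,(.negSucc 0),1)] .nil .nil)))) (.node [(9,(.negSucc 0),1)] (.node [] .nil (.node [] .nil (.node [(156,(.negSucc 0),1)] .nil .nil))) (.node [] (.node [] .nil (.node [(123,(.ofNat 1),1)] .nil .nil)) .nil)))) (.node [] (.node [] .nil (.node [] .nil (.node [] .nil (.node [] .nil (.node [(229,(.ofNat 1),1)] .nil .nil))))) (.node [] (.node [] .nil (.node [] (.node [] .nil (.node [(102,(.ofNat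 1),1)] .nil .nil)) (.node [(47,(.ofNat 1),1)] .nil (.node [(198,(.negSucc 0),1)] .nil .nil)))) (.node [] (.node [] .nil (.node [] .nil (.node [(160,(.negSucc 0),1)] .nil .nil))) (.node [] (.node [] .nil (.node [(128,(.negSucc 0),1)] .nil .nil)) .nil)))))) (.node [] (.node [] (.node [] (.node [] (.node [] .nil (.node [] .nil (.node [] .nil (.node [(163,(.negSucc 0),1)] .nil .nil)))) (.node [] .nil (.node [] .nil (.node [] .nil (.node [(214,(.negSucc 0),1)] .nil .nil))))) (.node [] (.node [] .nil (.node [(14,(.ofNat 1),1)] .nil .nil)) (.node [] (.node [] (.node [] .nil (.node [(81,(.negSucc 0),1)] .nil .nil)) (.node [(29,(.ofNat 1),1)] .nil .nil)) (.node [(17,(.ofNat 1),1)] .nil .nil)))) (.node [(66,(.ofNat 1),1)] (.node [] .nil (.node [] .nil (.node [] .nil (.node [] .nil (.node [(228,(.ofNat 1),1)] .nil .nil))))) (.node [] (.node [] (.node [] (.node [] .nil (.node [(76,(.negSucc 0),1)] .nil .nil)) (.node [] .nil (.node [(144,(.negSucc 0),1)] .nil .nil))) (.node [] .nil (.node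 [] .nil (.node [(195,(.negSucc 0),1)] .nil .nil)))) (.node [] (.node [] .nil (.node [] .nil (.node [(159,(.negSucc 0),1)] .nil .nil))) (.node [] (.node [] .nil (.node [(0,(.negSucc 0),1),(1,(.negSucc 0),1),(2,(.negSucc 0),1),(3,(.negSucc 1),1),(4,(.negSucc 1),1),(5,(.negSucc 1),1),(6,(.negSucc 0),1),(66,(.negSucc 0),2)] .nil .nil)) (.node [(64,(.negSucc 0),1)] .nil .nil)))))) (.node [] (.node [] (.node [] (.node [] (.node [] (.node [] .nil (.node [(68,(.ofNat 1),1)] .nil .nil)) .nil) (.node [] .nil (.node [(37,(.ofNat 1),1)] .nil .nil))) (.node [] (.node [] .nil (.node [] .nil (.node [(148,(.negSucc 0),1)] .nil .nil))) (.node [(16,(.ofNat 1),1)] (.node [] .nil (.node [(114,(.ofNat 1),1)] .nil .nil)) .nil))) (.node [] (.node [] .nil (.node [] .nil (.node [(44,(.ofNat 1),1)] .nil .nil))) (.node [(10,(.negSucc 0),1)] .nil (.node [] (.node [] .nil (.node [(124,(.negSucc 0),1)] .nil .nil)) .nil)))) (.node [(66,(.negSucc 0),1)] (.node [] (.node [] (.node [] (.node [] .nil (.node [(71,(.ofNat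 1),1)] .nil .nil)) (.node [] .nil (.node [(143,(.negSucc 0),1)] .nil .nil))) (.node [] (.node [] .nil (.node [(85,(.ofNat 1),1)] .nil .nil)) .nil)) (.node [] (.node [] .nil (.node [] .nil (.node [(155,(.negSucc 0),1)] .nil .nil))) (.node [] (.node [] .nil (.node [(119,(.ofNat 1),1)] .nil .nil)) .nil))) (.node [] (.node [] .nil (.node [] (.node [] .nil (.node [(103,(.negSucc 0),1)] .nil .nil)) (.node [(50,(.ofNat 1),1)] .nil (.node [(204,(.negSucc 0),1)] .nil .nil)))) (.node [] (.node [] .nil (.node [(33,(.ofNat 1),1)] .nil .nil)) (.node [(21,(.ofNat 1),1)] (.node [] .nil (.node [(130,(.ofNat 1),1)] .nil .nil)) (.node [(65,(.ofNat 1),1)] .nil .nil))))))))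
noncomputable def ex59 : Trie (List (ℕ × ℤ × ℕ)) := (.node [(67,(.ofNat 1),1)] (.node [] (.node [] (.node [] (.node [] (.node [] (.node [] (.node [] .nil (.node [(68,(.ofNat 1),1)] .nil .nil)) .nil) (.node [] .nil (.node [] .nil (.node [(162,(.ofNat 1),1)] .nil .nil)))) (.node [] .nil (.node [] (.node [] .nil (.node [(104,(.negSucc 0),1)] .nil .nil)) (.node [(57,(.ofNat 1),1)] .nil .nil)))) (.node [] (.node [] .nil (.node [(14,(.ofNat 1),1)] .nil .nil)) (.node [] (.node [] .nil (.node [(29,(.ofNat 1),1)] .nil .nil)) (.node [(17,(.ofNat 1),1)] .nil .nil)))) (.node [(67,(.ofNat 1),1)] (.node [] (.node [] .nil (.node [] .nil (.node [(41,(.ofNat 1),1)] .nil .nil))) (.node [] .nil (.node [] .nil (.node [] .nil (.node [(227,(.negSucc 0),1)] .nil .nil))))) (.node [] (.node [] (.node [] .nil (.node [] .nil (.node [(144,(.negSucc 0),1)] .nil .nil))) (.node [] .nil (.node [(45,(.negSucc 0),1)] .nil (.node [(194,(.ofNat 1),1)] .nil .nil)))) (.node [(11,(.ofNat 1),1)] (.node [] .nil (.node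 [] .nil (.node [(158,(.ofNat 1),1)] .nil .nil))) (.node [] (.node [] .nil (.node [(0,(.negSucc 0),1),(1,(.negSucc 0),1),(2,(.negSucc 0),1),(3,(.negSucc 1),1),(4,(.negSucc 1),1),(5,(.negSucc 0),1),(6,(.negSucc 0),1),(7,(.negSucc 0),1),(67,(.negSucc 0),2)] .nil .nil)) (.node [(65,(.ofNat 1),1)] .nil .nil)))))) (.node [(67,(.negSucc 0),1)] (.node [] (.node [] (.node [] (.node [] (.node [] .nil (.node [(69,(.ofNat 1),1)] .nil .nil)) .nil) (.node [] .nil (.node [(36,(.negSucc 0),1)] .nil (.node [(167,(.negSucc 0),1)] .nil .nil)))) (.node [] (.node [] .nil (.node [] .nil (.node [(147,(.ofNat 1),1)] .nil .nil))) (.node [(16,(.ofNat 1),1)] (.node [] .nil (.node [(113,(.ofNat 1),1)] .nil .nil)) .nil))) (.node [] (.node [] .nil (.node [] (.node [] .nil (.node [(89,(.negSucc 0),1)] .nil .nil)) .nil)) (.node [] (.node [] (.node [] .nil (.node [(82,(.negSucc 0),1)] .nil .nil)) .nil) (.node [] (.node [] .nil (.node [(125,(.negSucc 0),1)] .nil .nil)) .nil)))) (.node [] (.node [] (.node [] (.node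 [] (.node [] .nil (.node [(70,(.ofNat 1),1)] .nil .nil)) (.node [] .nil (.node [(143,(.negSucc 0),1)] .nil .nil))) (.node [] (.node [] .nil (.node [(85,(.ofNat 1),1)] .nil .nil)) .nil)) (.node [] (.node [] .nil (.node [] .nil (.node [(155,(.negSucc 0),1)] .nil .nil))) (.node [] (.node [] .nil (.node [(118,(.ofNat 1),1)] .nil .nil)) .nil))) (.node [] (.node [] (.node [] (.node [] .nil (.node [(77,(.negSucc 0),1)] .nil .nil)) .nil) (.node [] .nil (.node [] .nil (.node [(199,(.negSucc 0),1)] .nil .nil)))) (.node [] (.node [] .nil (.node [(32,(.negSucc 0),1)] .nil .nil)) (.node [(20,(.negSucc 0),1)] (.node [] .nil (.node [(131,(.negSucc 0),1)] .nil .nil)) .nil)))))) (.node [] (.node [] (.node [] (.node [] (.node [] .nil (.node [] .nil (.node [(35,(.negSucc 0),1)] .nil .nil))) (.node [] (.node [] .nil (.node [] .nil (.node [(146,(.ofNat 1),1)] .nil .nil))) (.node [] .nil (.node [] .nil (.node [(215,(.negSucc 0),1)] .nil .nil))))) (.node [] (.node [] (.node [] (.node [] .nil (.node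 [(73,(.negSucc 0),1)] .nil .nil)) .nil) .nil) (.node [(8,(.ofNat 1),1)] .nil (.node [] (.node [] .nil (.node [(121,(.negSucc 0),1)] .nil .nil)) .nil)))) (.node [(67,(.negSucc 0),1)] (.node [] .nil (.node [] .nil (.node [] (.node [] .nil (.node [(116,(.negSucc 0),1)] .nil .nil)) .nil))) (.node [] (.node [] .nil (.node [] (.node [] .nil (.node [(101,(.ofNat 1),1)] .nil .nil)) (.node [(46,(.negSucc 0),1)] .nil .nil))) (.node [] (.node [] .nil (.node [(31,(.negSucc 0),1)] .nil .nil)) (.node [(19,(.negSucc 0),1)] .nil .nil))))) (.node [] (.node [] (.node [] (.node [] (.node [] .nil (.node [] .nil .nil)) .nil) .nil) (.node [] (.node [] (.node [] (.node [] .nil (.node [(74,(.ofNat 1),1)] .nil .nil)) .nil) (.node [] .nil (.node [] .nil (.node [(193,(.ofNat 1),1)] .nil .nil)))) (.node [] (.node [] .nil (.node [] .nil (.node [(157,(.ofNat 1),1)] .nil .nil))) (.node [] (.node [] .nil (.node [(127,(.negSucc 0),1)] .nil .nil)) (.node [(64,(.ofNat 1),1)] .nil .nil))))) (.node [(67,(.ofNat 1),1)]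 (.node [] .nil (.node [] (.node [] (.node [] .nil (.node [(79,(.ofNat 1),1)] .nil .nil)) .nil) (.node [] .nil (.node [] .nil (.node [(230,(.negSucc 0),1)] .nil .nil))))) (.node [] (.node [] .nil (.node [] .nil (.node [(51,(.ofNat 1),1)] .nil (.node [(205,(.negSucc 0),1)] .nil .nil)))) (.node [] (.node [] .nil (.node [] .nil (.node [(161,(.ofNat 1),1)] .nil .nil))) (.node [] (.node [] .nil (.node [(132,(.negSucc 0),1)] .nil .nil)) .nil)))))))
noncomputable def ex60 : Trie (List (ℕ × ℤ × ℕ)) := (.node [(68,(.ofNat 1),1)] (.node [] (.node [] (.node [] (.node [] (.node [] .nil (.node [] .nil (.node [(35,(.ofNat 1),1)] .nil (.node [(163,(.negSucc 0),1)] .nil .nil)))) (.node [] (.node [] .nil (.node [] .nil (.node [(146,(.ofNat 1),1)] .nil .nil))) (.node [] .nil (.node [(58,(.ofNat 1),1)] .nil .nil)))) (.node [] (.node [] (.node [] (.node [] .nil (.node [(73,(.negSucc 0),1)] .nil .nil)) .nil) .nil) (.node [] .nil (.node [] (.node [] .nil (.node [(121,(.negSucc 0),1)] .nil .nil)) .nil))))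 (.node [(68,(.ofNat 1),1)] (.node [] (.node [] (.node [] .nil (.node [] .nil .nil)) (.node [] .nil (.node [(42,(.ofNat 1),1)] .nil .nil))) (.node [] .nil (.node [] (.node [] .nil (.node [(116,(.negSucc 0),1)] .nil .nil)) (.node [] .nil (.node [(228,(.ofNat 1),1)] .nil .nil))))) (.node [] (.node [] .nil (.node [] .nil (.node [] .nil (.node [(195,(.negSucc 0),1)] .nil .nil)))) (.node [] (.node [] .nil (.node [(31,(.ofNat 1),1)] .nil (.node [(159,(.negSucc 0),1)] .nil .nil))) (.node [(19,(.ofNat 1),1)] (.node [] .nil (.node [(128,(.negSucc 0),1)] .nil .nil)) (.node [(66,(.ofNat 1),1)] .nil .nil)))))) (.node [(68,(.negSucc 0),1)] (.node [] (.node [] (.node [] .nil (.node [] .nil (.node [(37,(.negSucc 0),1)] .nil (.node [(168,(.ofNat 1),1)] .nil .nil)))) (.node [] (.node [] .nil (.node [] .nil (.node [(148,(.negSucc 0),1)] .nil .nil))) (.node [] (.node [] .nil (.node [(114,(.ofNat 1),1)] .nil .nil)) .nil))) (.node [] (.node [] .nil (.node [] (.node [] .nil (.node [(90,(.negSucc 0),1)]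 .nil .nil)) (.node [] .nil (.node [(193,(.ofNat 1),1)] .nil .nil)))) (.node [] (.node [] .nil (.node [] .nil (.node [(157,(.ofNat 1),1)] .nil .nil))) (.node [] (.node [] .nil (.node [(126,(.negSucc 0),1)] .nil .nil)) (.node [(64,(.negSucc 0),1)] .nil .nil))))) (.node [(68,(.ofNat 1),1)] (.node [] (.node [] (.node [] (.node [] .nil (.node [(71,(.ofNat 1),1)] .nil .nil)) .nil) .nil) (.node [] .nil (.node [] (.node [] .nil (.node [(119,(.ofNat 1),1)] .nil .nil)) (.node [] .nil (.node [(230,(.negSucc 0),1)] .nil .nil))))) (.node [] (.node [] .nil (.node [] .nil (.node [] .nil (.node [(200,(.ofNat 1),1)] .nil .nil)))) (.node [] (.node [] .nil (.node [(33,(.negSucc 0),1)] .nil (.node [(161,(.ofNat 1),1)] .nil .nil))) (.node [(21,(.negSucc 0),1)] .nil .nil)))))) (.node [] (.node [] (.node [] (.node [] (.node [] (.node [] (.node [] .nil (.node [(69,(.ofNat 1),1)] .nil .nil)) .nil) .nil) (.node [] .nil (.node [(16,(.negSucc 0),1)] .nil (.node [] .nil (.node [(216,(.ofNat 1),1)] .nil .nil)))))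 (.node [] .nil (.node [(9,(.ofNat 1),1)] (.node [] (.node [] .nil (.node [(82,(.negSucc 0),1)] .nil .nil)) .nil) .nil))) (.node [(68,(.negSucc 0),1)] (.node [] (.node [] (.node [] .nil (.node [] .nil (.node [(143,(.negSucc 0),1)] .nil .nil))) (.node [] (.node [] .nil (.node [(85,(.ofNat 1),1)] .nil .nil)) .nil)) (.node [] (.node [] .nil (.node [] .nil (.node [(155,(.negSucc 0),1)] .nil .nil))) .nil)) (.node [] (.node [] (.node [] (.node [] .nil (.node [(77,(.negSucc 0),1)] .nil .nil)) .nil) (.node [] (.node [] .nil (.node [(102,(.ofNat 1),1)] .nil .nil)) (.node [(47,(.negSucc 0),1)] .nil .nil))) (.node [] .nil (.node [] (.node [] .nil (.node [(131,(.negSucc 0),1)] .nil .nil)) .nil))))) (.node [] (.node [] .nil (.node [] (.node [] (.node [] (.node [] .nil (.node [(75,(.ofNat 1),1)] .nil .nil)) (.node [] .nil (.node [(144,(.negSucc 0),1)] .nil .nil))) (.node [] .nil (.node [(45,(.ofNat 1),1)] .nil .nil))) (.node [(11,(.negSucc 0),1)] .nil (.node [] (.node [] .nil (.node [(0,(.negSucc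 0),1),(1,(.negSucc 0),1),(2,(.negSucc 0),1),(3,(.negSucc 1),1),(4,(.negSucc 1),1),(5,(.negSucc 0),1),(6,(.negSucc 0),1),(68,(.negSucc 0),2)] .nil .nil)) .nil)))) (.node [(68,(.negSucc 0),1)] (.node [] (.node [] .nil (.node [(14,(.negSucc 0),1)] .nil .nil)) (.node [] (.node [] (.node [] .nil (.node [(80,(.ofNat 1),1)] .nil .nil)) (.node [(29,(.negSucc 0),1)] .nil .nil)) (.node [(17,(.negSucc 0),1)] .nil .nil))) (.node [] (.node [] .nil (.node [] (.node [] .nil (.node [(104,(.negSucc 0),1)] .nil .nil)) (.node [(52,(.ofNat 1),1)] .nil (.node [(206,(.ofNat 1),1)] .nil .nil)))) (.node [] .nil (.node [] (.node [] .nil (.node [(133,(.ofNat 1),1)] .nil .nil)) (.node [(67,(.ofNat 1),1)] .nil .nil))))))))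
noncomputable def ex61 : Trie (List (ℕ × ℤ × ℕ)) := (.node [(69,(.ofNat 1),1)] (.node [] (.node [] (.node [] (.node [] (.node [] .nil (.node [] .nil (.node [(36,(.ofNat 1),1)] .nil .nil))) (.node [] (.node [] .nil (.node [] .nil (.node [(147,(.negSucc 0),1)] .nil .nil))) (.node [(16,(.ofNat 1),1)] .nil (.node [(59,(.ofNat 1),1)] .nil .nil)))) (.node [] .nil (.node [] (.node [] (.node [] .nil (.node [(82,(.negSucc 0),1)] .nil .nil)) .nil) .nil))) (.node [(69,(.ofNat 1),1)] (.node [] (.node [] (.node [] .nil (.node [] .nil (.node [(143,(.negSucc 0),1)] .nil .nil))) (.node [] (.node [] .nil (.node [(85,(.ofNat 1),1)] .nil .nil)) (.node [(43,(.ofNat 1),1)] .nil .nil))) (.node [] (.node [] .nil (.node [] .nil (.node [(155,(.negSucc 0),1)] .nil .nil))) (.node [] .nil (.node [] .nil (.node [(229,(.negSucc 0),1)] .nil .nil))))) (.node [] (.node [] (.node [] (.node [] .nil (.node [(77,(.negSucc 0),1)] .nil .nil)) .nil) (.node [] .nil (.node [(47,(.ofNat 1),1)] .nil .nil))) (.node [] (.node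 [] .nil (.node [(32,(.ofNat 1),1)] .nil .nil)) (.node [(20,(.ofNat 1),1)] (.node [] .nil (.node [(130,(.negSucc 0),1)] .nil .nil)) .nil))))) (.node [(69,(.negSucc 0),1)] (.node [] (.node [] (.node [] .nil (.node [] .nil (.node [] .nil (.node [(169,(.negSucc 0),1)] .nil .nil)))) (.node [] .nil (.node [] (.node [] .nil (.node [(115,(.ofNat 1),1)] .nil .nil)) .nil))) (.node [] (.node [] (.node [] .nil (.node [] .nil (.node [(144,(.negSucc 0),1)] .nil .nil))) (.node [] (.node [] .nil (.node [(91,(.negSucc 0),1)] .nil .nil)) (.node [] .nil (.node [(194,(.negSucc 0),1)] .nil .nil)))) (.node [(11,(.ofNat 1),1)] (.node [] .nil (.node [] .nil (.node [(158,(.negSucc 0),1)] .nil .nil))) (.node [] (.node [] .nil (.node [(0,(.negSucc 0),1),(1,(.negSucc 0),1),(2,(.negSucc 0),1),(3,(.negSucc 1),1),(4,(.negSucc 1),1),(5,(.negSucc 0),1),(69,(.negSucc 0),2)] .nil .nil)) (.node [(65,(.negSucc 0),1)] .nil .nil))))) (.node [(69,(.negSucc 0),1)] (.node [] (.node [] (.node [] (.node [] .nil (.node [(72,(.ofNat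 1),1)] .nil .nil)) .nil) (.node [(14,(.ofNat 1),1)] .nil .nil)) (.node [] (.node [] .nil (.node [(29,(.ofNat 1),1)] .nil .nil)) (.node [(17,(.ofNat 1),1)] (.node [] .nil (.node [(120,(.ofNat 1),1)] .nil .nil)) .nil))) (.node [] (.node [] .nil (.node [] (.node [] .nil (.node [(104,(.negSucc 0),1)] .nil .nil)) (.node [] .nil (.node [(201,(.negSucc 0),1)] .nil .nil)))) (.node [] (.node [] .nil (.node [] .nil (.node [(162,(.negSucc 0),1)] .nil .nil))) (.node [] (.node [] .nil (.node [(133,(.ofNat 1),1)] .nil .nil)) (.node [(68,(.ofNat 1),1)] .nil .nil))))))) (.node [] (.node [] (.node [] (.node [] (.node [] .nil (.node [] .nil (.node [(37,(.ofNat 1),1)] .nil .nil))) (.node [] (.node [] .nil (.node [] .nil (.node [(148,(.negSucc 0),1)] .nil .nil))) (.node [] .nil (.node [] .nil (.node [(217,(.negSucc 0),1)] .nil .nil))))) (.node [] .nil (.node [(10,(.ofNat 1),1)] .nil .nil))) (.node [] (.node [] (.node [] (.node [] .nil (.node [] .nil .nil)) .nil) (.node [] .nil (.node [] .nil (.node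 [] .nil (.node [(230,(.negSucc 0),1)] .nil .nil))))) (.node [] (.node [] .nil (.node [] (.node [] .nil (.node [(103,(.ofNat 1),1)] .nil .nil)) .nil)) (.node [] (.node [] .nil (.node [(33,(.ofNat 1),1)] .nil .nil)) (.node [(21,(.ofNat 1),1)] (.node [] .nil (.node [(132,(.ofNat 1),1)] .nil .nil)) (.node [(67,(.ofNat 1),1)] .nil .nil)))))) (.node [] (.node [] (.node [] .nil (.node [] .nil (.node [] (.node [] .nil (.node [(116,(.negSucc 0),1)] .nil .nil)) .nil))) (.node [] (.node [] (.node [] (.node [] .nil (.node [(76,(.ofNat 1),1)] .nil .nil)) .nil) (.node [] .nil (.node [(46,(.ofNat 1),1)] .nil (.node [(195,(.negSucc 0),1)] .nil .nil)))) (.node [] (.node [] .nil (.node [] .nil (.node [(159,(.negSucc 0),1)] .nil .nil))) (.node [] (.node [] .nil (.node [(129,(.negSucc 0),1)] .nil .nil)) (.node [(66,(.negSucc 0),1)] .nil .nil))))) (.node [] (.node [] (.node [] (.node [] (.node [] .nil (.node [(73,(.negSucc 0),1)] .nil .nil)) .nil) .nil) (.node [] (.node [] (.node [] .nil (.node [(81,(.ofNat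 1),1)] .nil .nil)) .nil) (.node [] (.node [] .nil (.node [(121,(.negSucc 0),1)] .nil .nil)) .nil))) (.node [] (.node [] .nil (.node [] .nil (.node [(53,(.ofNat 1),1)] .nil (.node [(207,(.negSucc 0),1)] .nil .nil)))) (.node [] (.node [] .nil (.node [] .nil (.node [(163,(.negSucc 0),1)] .nil .nil))) .nil))))))
noncomputable def ex62 : Trie (List (ℕ × ℤ × ℕ)) := (.node [(70,(.ofNat 1),1)] (.node [] (.node [] (.node [] (.node [] (.node [] (.node [] (.node [] .nil (.node [(71,(.ofNat 1),1)] .nil .nil)) .nil) (.node [] .nil (.node [] .nil (.node [(165,(.negSucc 0),1)] .nil .nil)))) (.node [] .nil (.node [] (.node [] .nil (.node [(105,(.negSucc 0),1)] .nil .nil)) (.node [(60,(.ofNat 1),1)] .nil .nil)))) (.node [] .nil (.node [(8,(.negSucc 0),1)] (.node [] .nil (.node [(30,(.ofNat 1),1)] .nil (.node [(157,(.ofNat 1),1)] .nil .nil))) (.node [(18,(.ofNat 1),1)] (.node [] .nil (.node [(127,(.negSucc 0),1)] .nil .nil)) (.node [(65,(.ofNat 1),1)] .nil .nil))))) (.node [(70,(.negSucc 0),1)]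 .nil (.node [] (.node [] (.node [] .nil (.node [] .nil (.node [(145,(.ofNat 1),1)] .nil .nil))) (.node [] (.node [] .nil (.node [(101,(.ofNat 1),1)] .nil .nil)) (.node [(48,(.negSucc 0),1)] .nil (.node [(197,(.negSucc 0),1)] .nil .nil)))) (.node [(12,(.ofNat 1),1)] .nil (.node [] (.node [] .nil (.node [(134,(.negSucc 0),1)] .nil .nil)) .nil))))) (.node [(70,(.negSucc 0),1)] (.node [] (.node [] (.node [] (.node [] (.node [] .nil (.node [(72,(.ofNat 1),1)] .nil .nil)) .nil) (.node [] .nil (.node [(39,(.negSucc 0),1)] .nil .nil))) .nil) (.node [] (.node [] (.node [] (.node [] .nil (.node [(74,(.ofNat 1),1)] .nil .nil)) .nil) (.node [] (.node [] .nil (.node [(92,(.negSucc 0),1)] .nil .nil)) .nil)) (.node [] (.node [] (.node [] .nil (.node [(83,(.negSucc 0),1)] .nil .nil)) (.node [(31,(.ofNat 1),1)] .nil .nil)) (.node [(19,(.ofNat 1),1)] .nil .nil)))) (.node [] (.node [] (.node [] (.node [] .nil (.node [] .nil .nil)) .nil) (.node [] (.node [] (.node [] .nil (.node [(79,(.ofNat 1),1)]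 .nil .nil)) (.node [] .nil (.node [(156,(.ofNat 1),1)] .nil .nil))) (.node [] (.node [] .nil (.node [(122,(.negSucc 0),1)] .nil .nil)) .nil))) (.node [] (.node [] (.node [] (.node [] .nil (.node [(78,(.negSucc 0),1)] .nil .nil)) (.node [] .nil (.node [(146,(.ofNat 1),1)] .nil .nil))) (.node [] .nil (.node [(51,(.negSucc 0),1)] .nil .nil))) (.node [] .nil (.node [] (.node [] .nil (.node [(135,(.negSucc 0),1)] .nil .nil)) .nil)))))) (.node [] (.node [] (.node [] (.node [] (.node [] .nil (.node [] .nil (.node [(38,(.negSucc 0),1)] .nil (.node [(167,(.negSucc 0),1)] .nil .nil)))) (.node [] .nil (.node [] (.node [] .nil (.node [(113,(.ofNat 1),1)] .nil .nil)) (.node [] .nil (.node [(218,(.ofNat 1),1)] .nil .nil))))) (.node [] .nil (.node [] (.node [] .nil (.node [] .nil (.node [(158,(.ofNat 1),1)] .nil .nil))) (.node [] (.node [] .nil (.node [(0,(.negSucc 0),1),(1,(.negSucc 0),1),(2,(.negSucc 0),1),(3,(.negSucc 1),1),(4,(.negSucc 0),1),(5,(.negSucc 0),1),(6,(.negSucc 0),1),(7,(.negSucc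 0),1),(70,(.negSucc 0),2)] .nil .nil)) (.node [(67,(.ofNat 1),1)] .nil .nil))))) (.node [] (.node [] (.node [] (.node [] (.node [] .nil (.node [(73,(.ofNat 1),1)] .nil .nil)) .nil) (.node [(14,(.negSucc 0),1)] .nil .nil)) (.node [] .nil (.node [] (.node [] .nil (.node [(117,(.negSucc 0),1)] .nil .nil)) .nil))) (.node [] (.node [] .nil (.node [] .nil (.node [(49,(.negSucc 0),1)] .nil (.node [(199,(.negSucc 0),1)] .nil .nil)))) .nil))) (.node [(70,(.ofNat 1),1)] (.node [] (.node [] (.node [] (.node [] .nil (.node [] .nil (.node [(143,(.negSucc 0),1)] .nil .nil))) (.node [] (.node [] .nil (.node [(85,(.ofNat 1),1)] .nil .nil)) (.node [(41,(.negSucc 0),1)] .nil .nil))) (.node [] .nil (.node [] .nil (.node [] .nil (.node [(227,(.negSucc 0),1)] .nil .nil))))) (.node [] (.node [] .nil (.node [] .nil (.node [] .nil (.node [(196,(.negSucc 0),1)] .nil .nil)))) (.node [] (.node [] .nil (.node [(32,(.ofNat 1),1)] .nil .nil)) (.node [(20,(.ofNat 1),1)] .nil .nil)))) (.node [(70,(.ofNat 1),1)]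 (.node [] .nil (.node [] .nil (.node [] (.node [] .nil (.node [(125,(.negSucc 0),1)] .nil .nil)) (.node [(64,(.ofNat 1),1)] .nil (.node [(231,(.ofNat 1),1)] .nil .nil))))) (.node [] (.node [] (.node [] .nil (.node [] .nil (.node [(147,(.ofNat 1),1)] .nil .nil))) (.node [(16,(.negSucc 0),1)] .nil (.node [] .nil (.node [(208,(.ofNat 1),1)] .nil .nil)))) (.node [] (.node [] .nil (.node [] .nil (.node [(164,(.negSucc 0),1)] .nil .nil))) (.node [] (.node [] .nil (.node [(136,(.negSucc 0),1)] .nil .nil)) .nil)))))))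
noncomputable def ex63 : Trie (List (ℕ × ℤ × ℕ)) := (.node [(71,(.ofNat 1),1)] (.node [] (.node [] (.node [] (.node [] (.node [] .nil (.node [] .nil (.node [(38,(.ofNat 1),1)] .nil (.node [(166,(.ofNat 1),1)] .nil .nil)))) (.node [] .nil (.node [] .nil (.node [(61,(.ofNat 1),1)] .nil .nil)))) (.node [] .nil (.node [(9,(.negSucc 0),1)] .nil (.node [] (.node [] .nil (.node [(0,(.negSucc 0),1),(1,(.negSucc 0),1),(2,(.negSucc 0),1),(3,(.negSucc 1),1),(4,(.negSucc 0),1),(5,(.negSucc 0),1),(6,(.negSucc 0),1),(71,(.negSucc 0),2)] .nil .nil)) (.node [(66,(.ofNat 1),1)] .nil .nil))))) (.node [(71,(.negSucc 0),1)] (.node [] (.node [] (.node [] (.node [] .nil (.node [(73,(.ofNat 1),1)] .nil .nil)) .nil) (.node [(14,(.ofNat 1),1)] .nil .nil)) (.node [] .nil (.node [] (.node [] .nil (.node [(117,(.negSucc 0),1)] .nil .nil)) .nil))) (.node [] (.node [] .nil (.node [] (.node [] .nil (.node [(102,(.ofNat 1),1)] .nil .nil)) (.node [] .nil (.node [(198,(.ofNat 1),1)] .nil .nil)))) .nil))) (.node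 [(71,(.negSucc 0),1)] (.node [] (.node [] (.node [] (.node [] .nil (.node [] .nil (.node [(143,(.negSucc 0),1)] .nil .nil))) (.node [] (.node [] .nil (.node [(85,(.ofNat 1),1)] .nil .nil)) (.node [(40,(.negSucc 0),1)] .nil .nil))) .nil) (.node [] (.node [] (.node [] (.node [] .nil (.node [(75,(.ofNat 1),1)] .nil .nil)) .nil) (.node [] (.node [] .nil (.node [(93,(.negSucc 0),1)] .nil .nil)) (.node [] .nil (.node [(196,(.negSucc 0),1)] .nil .nil)))) .nil)) (.node [(71,(.ofNat 1),1)] (.node [] .nil (.node [] (.node [] (.node [] .nil (.node [(80,(.ofNat 1),1)] .nil .nil)) .nil) (.node [] (.node [] .nil (.node [(123,(.negSucc 0),1)] .nil .nil)) (.node [(64,(.negSucc 0),1)] .nil (.node [(231,(.ofNat 1),1)] .nil .nil))))) (.node [] (.node [] .nil (.node [(16,(.ofNat 1),1)] .nil (.node [(52,(.negSucc 0),1)] .nil .nil))) (.node [] (.node [] .nil (.node [] .nil (.node [(164,(.negSucc 0),1)] .nil .nil))) .nil))))) (.node [] (.node [] (.node [] (.node [] (.node [] (.node [] (.node [] .nil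 (.node [(72,(.ofNat 1),1)] .nil .nil)) .nil) (.node [] .nil (.node [] .nil (.node [(168,(.ofNat 1),1)] .nil .nil)))) (.node [] .nil (.node [] (.node [] .nil (.node [(114,(.ofNat 1),1)] .nil .nil)) (.node [] .nil (.node [(219,(.negSucc 0),1)] .nil .nil))))) (.node [] .nil (.node [] (.node [] (.node [] .nil (.node [(83,(.negSucc 0),1)] .nil .nil)) (.node [(31,(.negSucc 0),1)] .nil (.node [(159,(.negSucc 0),1)] .nil .nil))) (.node [(19,(.negSucc 0),1)] (.node [] .nil (.node [(128,(.negSucc 0),1)] .nil .nil)) (.node [(68,(.ofNat 1),1)] .nil .nil))))) (.node [] (.node [] .nil (.node [] (.node [] .nil (.node [] .nil (.node [(156,(.ofNat 1),1)] .nil .nil))) .nil)) (.node [] (.node [] (.node [] (.node [] .nil (.node [(78,(.negSucc 0),1)] .nil .nil)) (.node [] .nil (.node [(146,(.ofNat 1),1)] .nil .nil))) (.node [] .nil (.node [(50,(.negSucc 0),1)] .nil (.node [(200,(.ofNat 1),1)] .nil .nil)))) (.node [] .nil (.node [] (.node [] .nil (.node [(135,(.negSucc 0),1)] .nil .nil)) .nil)))))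 (.node [(71,(.ofNat 1),1)] (.node [] (.node [] (.node [] .nil (.node [] .nil (.node [(42,(.negSucc 0),1)] .nil .nil))) (.node [] .nil (.node [] .nil (.node [] .nil (.node [(228,(.ofNat 1),1)] .nil .nil))))) (.node [] (.node [] (.node [] .nil (.node [] .nil (.node [(145,(.ofNat 1),1)] .nil .nil))) (.node [] .nil (.node [(48,(.ofNat 1),1)] .nil .nil))) (.node [(12,(.negSucc 0),1)] (.node [] .nil (.node [(33,(.ofNat 1),1)] .nil .nil)) (.node [(21,(.ofNat 1),1)] (.node [] .nil (.node [(134,(.negSucc 0),1)] .nil .nil)) .nil)))) (.node [(71,(.negSucc 0),1)] (.node [] (.node [] (.node [] .nil (.node [] .nil .nil)) .nil) (.node [] (.node [] .nil (.node [(30,(.negSucc 0),1)] .nil (.node [(157,(.ofNat 1),1)] .nil .nil))) (.node [(18,(.negSucc 0),1)] (.node [] .nil (.node [(126,(.negSucc 0),1)] .nil .nil)) .nil))) (.node [] (.node [] (.node [] .nil (.node [] .nil (.node [(148,(.negSucc 0),1)] .nil .nil))) (.node [] (.node [] .nil (.node [(105,(.negSucc 0),1)] .nil .nil)) (.node [] .nil (.node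 [(209,(.negSucc 0),1)] .nil .nil)))) (.node [] .nil (.node [] (.node [] .nil (.node [(137,(.ofNat 1),1)] .nil .nil)) (.node [(70,(.ofNat 1),1)] .nil .nil))))))))
noncomputable def ex64 : Trie (List (ℕ × ℤ × ℕ)) := (.node [(72,(.ofNat 1),1)] (.node [] (.node [] (.node [] (.node [] (.node [] .nil (.node [] .nil (.node [(39,(.ofNat 1),1)] .nil .nil))) (.node [] .nil (.node [] .nil (.node [(62,(.ofNat 1),1)] .nil .nil)))) (.node [] (.node [] (.node [] .nil (.node [] .nil .nil)) .nil) (.node [(10,(.negSucc 0),1)] (.node [] (.node [] .nil (.node [(83,(.negSucc 0),1)] .nil .nil)) (.node [] .nil (.node [(159,(.negSucc 0),1)] .nil .nil))) (.node [] (.node [] .nil (.node [(129,(.negSucc 0),1)] .nil .nil)) .nil)))) (.node [(72,(.negSucc 0),1)] (.node [] .nil (.node [] (.node [] .nil (.node [] .nil (.node [(156,(.ofNat 1),1)] .nil .nil))) .nil)) (.node [] (.node [] (.node [] (.node [] .nil (.node [(78,(.negSucc 0),1)] .nil .nil)) .nil) (.node [] (.node [] .nil (.node [(103,(.ofNat 1),1)]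 .nil .nil)) (.node [(50,(.ofNat 1),1)] .nil .nil))) .nil))) (.node [(72,(.negSucc 0),1)] (.node [] .nil (.node [] (.node [] (.node [] (.node [] .nil (.node [(76,(.ofNat 1),1)] .nil .nil)) (.node [] .nil (.node [(145,(.ofNat 1),1)] .nil .nil))) (.node [] (.node [] .nil (.node [(94,(.negSucc 0),1)] .nil .nil)) (.node [] .nil (.node [(197,(.ofNat 1),1)] .nil .nil)))) (.node [(12,(.ofNat 1),1)] (.node [] .nil (.node [(33,(.negSucc 0),1)] .nil .nil)) (.node [(21,(.negSucc 0),1)] (.node [] .nil (.node [(134,(.negSucc 0),1)] .nil .nil)) .nil)))) (.node [(72,(.negSucc 0),1)] (.node [] .nil (.node [] (.node [] (.node [] .nil (.node [(81,(.ofNat 1),1)] .nil .nil)) (.node [(30,(.ofNat 1),1)] .nil .nil)) (.node [(18,(.ofNat 1),1)] (.node [] .nil (.node [(124,(.negSucc 0),1)] .nil .nil)) (.node [(65,(.negSucc 0),1)] .nil .nil)))) (.node [] (.node [] (.node [] .nil (.node [] .nil (.node [(148,(.negSucc 0),1)] .nil .nil))) (.node [] (.node [] .nil (.node [(105,(.negSucc 0),1)] .nil .nil)) (.node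 [(53,(.negSucc 0),1)] .nil .nil))) (.node [] (.node [] .nil (.node [] .nil (.node [(165,(.ofNat 1),1)] .nil .nil))) (.node [] (.node [] .nil (.node [(137,(.ofNat 1),1)] .nil .nil)) (.node [(71,(.ofNat 1),1)] .nil .nil))))))) (.node [] (.node [] (.node [] (.node [] (.node [] (.node [] .nil (.node [] .nil (.node [(143,(.negSucc 0),1)] .nil .nil))) (.node [] (.node [] .nil (.node [(85,(.ofNat 1),1)] .nil .nil)) (.node [(40,(.ofNat 1),1)] .nil (.node [(169,(.negSucc 0),1)] .nil .nil)))) (.node [] .nil (.node [] (.node [] .nil (.node [(115,(.ofNat 1),1)] .nil .nil)) (.node [] .nil (.node [(220,(.ofNat 1),1)] .nil .nil))))) (.node [] .nil (.node [] (.node [] .nil (.node [(32,(.negSucc 0),1)] .nil .nil)) (.node [(20,(.negSucc 0),1)] (.node [] .nil (.node [(130,(.negSucc 0),1)] .nil .nil)) (.node [(69,(.ofNat 1),1)] .nil .nil))))) (.node [(72,(.ofNat 1),1)] (.node [] .nil (.node [] .nil (.node [] .nil (.node [] .nil (.node [(231,(.ofNat 1),1)] .nil .nil))))) (.node [] (.node [] (.node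 [] .nil (.node [] .nil (.node [(147,(.negSucc 0),1)] .nil .nil))) (.node [(16,(.negSucc 0),1)] .nil (.node [] .nil (.node [(201,(.negSucc 0),1)] .nil .nil)))) (.node [] .nil (.node [] (.node [] .nil (.node [(136,(.ofNat 1),1)] .nil .nil)) (.node [(70,(.ofNat 1),1)] .nil .nil)))))) (.node [(72,(.ofNat 1),1)] (.node [] (.node [] (.node [] (.node [] (.node [] .nil (.node [(73,(.ofNat 1),1)] .nil .nil)) .nil) (.node [(14,(.negSucc 0),1)] .nil (.node [(43,(.negSucc 0),1)] .nil .nil))) (.node [] .nil (.node [] (.node [] .nil (.node [(117,(.negSucc 0),1)] .nil .nil)) (.node [] .nil (.node [(229,(.negSucc 0),1)] .nil .nil))))) (.node [] (.node [] .nil (.node [] .nil (.node [(49,(.ofNat 1),1)] .nil (.node [(198,(.ofNat 1),1)] .nil .nil)))) .nil)) (.node [] (.node [] .nil (.node [] (.node [] .nil (.node [] .nil (.node [(158,(.negSucc 0),1)] .nil .nil))) (.node [] (.node [] .nil (.node [(0,(.negSucc 0),1),(1,(.negSucc 0),1),(2,(.negSucc 0),1),(3,(.negSucc 1),1),(4,(.negSucc 0),1),(5,(.negSucc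 0),1),(72,(.negSucc 0),2)] .nil .nil)) (.node [(66,(.negSucc 0),1)] .nil .nil)))) (.node [] (.node [] .nil (.node [] .nil (.node [] .nil (.node [(210,(.ofNat 1),1)] .nil .nil)))) (.node [] (.node [] .nil (.node [] .nil (.node [(166,(.ofNat 1),1)] .nil .nil))) .nil))))))
noncomputable def ex65 : Trie (List (ℕ × ℤ × ℕ)) := (.node [(73,(.ofNat 1),1)] (.node [] (.node [] (.node [] (.node [] (.node [] (.node [] .nil (.node [] .nil (.node [(143,(.negSucc 0),1)] .nil .nil))) (.node [] (.node [] .nil (.node [(85,(.ofNat 1),1)] .nil .nil)) (.node [(41,(.ofNat 1),1)] .nil (.node [(169,(.negSucc 0),1)] .nil .nil)))) (.node [] .nil (.node [] .nil (.node [(63,(.ofNat 1),1)] .nil .nil)))) (.node [] .nil (.node [(11,(.negSucc 0),1)] (.node [] .nil (.node [(33,(.ofNat 1),1)] .nil .nil)) (.node [(21,(.ofNat 1),1)] (.node [] .nil (.node [(132,(.negSucc 0),1)] .nil .nil)) (.node [(69,(.negSucc 0),1)] .nil .nil))))) (.node [] (.node [] .nil (.node [] (.node [] .nil (.node [] .nil (.node [(157,(.negSucc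 0),1)] .nil .nil))) (.node [] .nil (.node [] .nil (.node [(231,(.ofNat 1),1)] .nil .nil))))) (.node [] (.node [] (.node [] .nil (.node [] .nil (.node [(148,(.negSucc 0),1)] .nil .nil))) (.node [(16,(.ofNat 1),1)] (.node [] .nil (.node [(104,(.ofNat 1),1)] .nil .nil)) (.node [(52,(.ofNat 1),1)] .nil (.node [(201,(.negSucc 0),1)] .nil .nil)))) (.node [] .nil (.node [] (.node [] .nil (.node [(137,(.ofNat 1),1)] .nil .nil)) (.node [(72,(.ofNat 1),1)] .nil .nil)))))) (.node [(73,(.negSucc 0),1)] (.node [] (.node [] (.node [] .nil (.node [(14,(.ofNat 1),1)] .nil (.node [(43,(.ofNat 1),1)] .nil .nil))) (.node [] .nil (.node [] (.node [] .nil (.node [(117,(.negSucc 0),1)] .nil .nil)) .nil))) (.node [] (.node [] (.node [] (.node [] .nil (.node [(77,(.ofNat 1),1)] .nil .nil)) (.node [] .nil (.node [(146,(.negSucc 0),1)] .nil .nil))) (.node [] (.node [] .nil (.node [(95,(.negSucc 0),1)] .nil .nil)) (.node [] .nil (.node [(199,(.negSucc 0),1)] .nil .nil)))) (.node [] .nil (.node [] (.node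 [] .nil (.node [(135,(.ofNat 1),1)] .nil .nil)) (.node [(70,(.ofNat 1),1)] .nil .nil))))) (.node [] (.node [] .nil (.node [] (.node [] (.node [] .nil (.node [(82,(.ofNat 1),1)] .nil .nil)) (.node [(31,(.ofNat 1),1)] .nil (.node [(159,(.negSucc 0),1)] .nil .nil))) (.node [(19,(.ofNat 1),1)] (.node [] .nil (.node [(0,(.negSucc 0),1),(1,(.negSucc 0),1),(2,(.negSucc 0),1),(3,(.negSucc 1),1),(4,(.negSucc 0),1),(73,(.negSucc 0),2)] .nil .nil)) (.node [(67,(.negSucc 0),1)] .nil .nil)))) (.node [] .nil (.node [] (.node [] .nil (.node [] .nil (.node [(167,(.negSucc 0),1)] .nil .nil))) .nil))))) (.node [] (.node [] (.node [] (.node [] (.node [] .nil (.node [] .nil (.node [(42,(.ofNat 1),1)] .nil .nil))) (.node [] .nil (.node [] (.node [] .nil (.node [(116,(.ofNat 1),1)] .nil .nil)) (.node [] .nil (.node [(221,(.negSucc 0),1)] .nil .nil))))) (.node [] (.node [] (.node [] .nil (.node [] .nil .nil)) .nil) (.node [(12,(.negSucc 0),1)] .nil (.node [] (.node [] .nil (.node [(133,(.negSucc 0),1)]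 .nil .nil)) .nil)))) (.node [(73,(.negSucc 0),1)] (.node [] .nil (.node [] (.node [] .nil (.node [] .nil (.node [(158,(.negSucc 0),1)] .nil .nil))) .nil)) (.node [] (.node [] .nil (.node [] (.node [] .nil (.node [(105,(.negSucc 0),1)] .nil .nil)) (.node [(53,(.ofNat 1),1)] .nil .nil))) .nil))) (.node [(73,(.ofNat 1),1)] (.node [] (.node [] .nil (.node [] .nil (.node [] .nil (.node [] .nil (.node [(230,(.ofNat 1),1)] .nil .nil))))) (.node [] (.node [] (.node [] (.node [] .nil (.node [(78,(.negSucc 0),1)] .nil .nil)) (.node [] .nil (.node [(147,(.negSucc 0),1)] .nil .nil))) (.node [] .nil (.node [(51,(.ofNat 1),1)] .nil (.node [(200,(.negSucc 0),1)] .nil .nil)))) (.node [] .nil (.node [] (.node [] .nil (.node [(136,(.ofNat 1),1)] .nil .nil)) (.node [(71,(.ofNat 1),1)] .nil .nil))))) (.node [] (.node [] .nil (.node [] (.node [] (.node [] .nil (.node [(83,(.negSucc 0),1)] .nil .nil)) (.node [(32,(.ofNat 1),1)] .nil .nil)) (.node [(20,(.ofNat 1),1)] (.node [] .nil (.node [(131,(.negSucc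 0),1)] .nil .nil)) (.node [(68,(.negSucc 0),1)] .nil .nil)))) (.node [] (.node [] .nil (.node [] .nil (.node [] .nil (.node [(211,(.negSucc 0),1)] .nil .nil)))) (.node [] (.node [] .nil (.node [] .nil (.node [(168,(.negSucc 0),1)] .nil .nil))) .nil))))))
noncomputable def ex66 : Trie (List (ℕ × ℤ × ℕ)) := (.node [(74,(.ofNat 1),1)] (.node [] (.node [] (.node [] (.node [] (.node [] (.node [] (.node [] .nil (.node [(75,(.ofNat 1),1)] .nil .nil)) .nil) .nil) (.node [] .nil (.node [] (.node [] .nil (.node [(106,(.negSucc 0),1)] .nil .nil)) .nil))) (.node [] (.node [] (.node [] .nil (.node [] .nil (.node [(146,(.ofNat 1),1)] .nil .nil))) .nil) (.node [] (.node [] .nil (.node [(34,(.ofNat 1),1)] .nil (.node [(161,(.negSucc 0),1)] .nil .nil))) .nil))) (.node [] (.node [] .nil (.node [] .nil (.node [(19,(.negSucc 0),1)] (.node [] .nil (.node [(127,(.negSucc 0),1)] .nil .nil)) (.node [(67,(.ofNat 1),1)] .nil .nil)))) (.node [] (.node [] .nil (.node [] .nil (.node [(54,(.negSucc 0),1)]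 .nil (.node [(203,(.ofNat 1),1)] .nil .nil)))) (.node [(13,(.ofNat 1),1)] (.node [] .nil (.node [] .nil (.node [(165,(.negSucc 0),1)] .nil .nil))) (.node [] (.node [] .nil (.node [(139,(.negSucc 0),1)] .nil .nil)) .nil))))) (.node [] (.node [] (.node [] (.node [] (.node [] (.node [] .nil (.node [(76,(.ofNat 1),1)] .nil .nil)) .nil) .nil) (.node [] .nil (.node [(18,(.negSucc 0),1)] (.node [] .nil (.node [(122,(.negSucc 0),1)] .nil .nil)) (.node [(64,(.ofNat 1),1)] .nil (.node [(227,(.negSucc 0),1)] .nil .nil))))) (.node [] (.node [] (.node [] .nil (.node [] .nil .nil)) (.node [] (.node [] .nil (.node [(96,(.negSucc 0),1)] .nil .nil)) .nil)) (.node [] (.node [] (.node [] .nil (.node [(84,(.negSucc 0),1)] .nil .nil)) (.node [(35,(.ofNat 1),1)] .nil .nil)) .nil))) (.node [] (.node [] (.node [] (.node [] .nil (.node [] .nil (.node [(145,(.ofNat 1),1)] .nil .nil))) .nil) (.node [] (.node [] .nil (.node [] .nil (.node [(160,(.negSucc 0),1)] .nil .nil))) .nil)) (.node [] (.node [] .nil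 (.node [] .nil (.node [(57,(.negSucc 0),1)] .nil (.node [(208,(.ofNat 1),1)] .nil .nil)))) (.node [] (.node [] .nil (.node [(39,(.ofNat 1),1)] .nil .nil)) (.node [] (.node [] .nil (.node [(140,(.negSucc 0),1)] .nil .nil)) .nil)))))) (.node [(74,(.ofNat 1),1)] (.node [] (.node [] (.node [] (.node [] .nil (.node [(14,(.ofNat 1),1)] .nil .nil)) (.node [] .nil (.node [] (.node [] .nil (.node [(118,(.negSucc 0),1)] .nil .nil)) (.node [] .nil (.node [(222,(.negSucc 0),1)] .nil .nil))))) (.node [] (.node [] (.node [] (.node [] .nil (.node [(78,(.ofNat 1),1)] .nil .nil)) (.node [] .nil (.node [(147,(.ofNat 1),1)] .nil .nil))) .nil) (.node [] (.node [] .nil (.node [] .nil (.node [(162,(.negSucc 0),1)] .nil .nil))) (.node [] (.node [] .nil (.node [(138,(.negSucc 0),1)] .nil .nil)) .nil)))) (.node [] (.node [] (.node [] (.node [] (.node [] .nil (.node [(77,(.ofNat 1),1)] .nil .nil)) .nil) .nil) (.node [] (.node [] (.node [] .nil (.node [(79,(.ofNat 1),1)] .nil .nil)) .nil) (.node [(20,(.negSucc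 0),1)] (.node [] .nil (.node [(0,(.negSucc 0),1),(1,(.negSucc 0),1),(2,(.negSucc 0),1),(3,(.negSucc 0),1),(4,(.negSucc 0),1),(5,(.negSucc 0),1),(6,(.negSucc 0),1),(7,(.negSucc 0),1),(74,(.negSucc 0),2)] .nil .nil)) (.node [(70,(.ofNat 1),1)] .nil .nil)))) (.node [] (.node [] .nil (.node [] .nil (.node [(55,(.negSucc 0),1)] .nil (.node [(205,(.ofNat 1),1)] .nil .nil)))) (.node [] (.node [] .nil (.node [(38,(.ofNat 1),1)] .nil (.node [(167,(.negSucc 0),1)] .nil .nil))) .nil)))) (.node [(74,(.negSucc 0),1)] (.node [] (.node [] (.node [] (.node [] .nil (.node [] .nil (.node [(144,(.ofNat 1),1)] .nil .nil))) .nil) (.node [] .nil (.node [] (.node [] .nil (.node [(125,(.negSucc 0),1)] .nil .nil)) (.node [(65,(.ofNat 1),1)] .nil .nil)))) (.node [] (.node [] .nil (.node [] (.node [] .nil (.node [(101,(.ofNat 1),1)] .nil .nil)) (.node [] .nil (.node [(202,(.ofNat 1),1)] .nil .nil)))) (.node [] (.node [] .nil (.node [(36,(.ofNat 1),1)] .nil (.node [(164,(.negSucc 0),1)] .nil .nil))) .nil)))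 (.node [(74,(.ofNat 1),1)] (.node [] .nil (.node [(8,(.ofNat 1),1)] .nil (.node [] .nil (.node [] .nil (.node [(232,(.negSucc 0),1)] .nil .nil))))) (.node [] (.node [] .nil (.node [(17,(.negSucc 0),1)] .nil (.node [(60,(.negSucc 0),1)] .nil .nil))) (.node [] (.node [] (.node [] .nil (.node [(85,(.ofNat 1),1)] .nil .nil)) (.node [(41,(.ofNat 1),1)] .nil .nil)) (.node [] (.node [] .nil (.node [(141,(.negSucc 0),1)] .nil .nil)) .nil)))))))
noncomputable def ex67 : Trie (List (ℕ × ℤ × ℕ)) := (.node [(75,(.ofNat 1),1)] (.node [] (.node [] (.node [] (.node [] (.node [] .nil (.node [(14,(.negSucc 0),1)] .nil .nil)) .nil) (.node [] (.node [] (.node [] (.node [] .nil (.node [(78,(.ofNat 1),1)] .nil .nil)) .nil) .nil) (.node [] .nil (.node [] (.node [] .nil (.node [(138,(.negSucc 0),1)] .nil .nil)) .nil)))) (.node [] (.node [] (.node [] (.node [] (.node [] .nil (.node [(77,(.ofNat 1),1)] .nil .nil)) .nil) .nil) (.node [] .nil (.node [] (.node [] .nil (.node [(0,(.negSucc 0),1),(1,(.negSucc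 0),1),(2,(.negSucc 0),1),(3,(.negSucc 0),1),(4,(.negSucc 0),1),(5,(.negSucc 0),1),(6,(.negSucc 0),1),(75,(.negSucc 0),2)] .nil .nil)) (.node [(68,(.ofNat 1),1)] .nil .nil)))) (.node [] (.node [] .nil (.node [] .nil (.node [] .nil (.node [(204,(.negSucc 0),1)] .nil .nil)))) (.node [] (.node [] .nil (.node [(38,(.negSucc 0),1)] .nil (.node [(166,(.ofNat 1),1)] .nil .nil))) .nil)))) (.node [] (.node [] (.node [] (.node [] (.node [] .nil (.node [] .nil (.node [(144,(.ofNat 1),1)] .nil .nil))) .nil) (.node [] .nil (.node [] (.node [] .nil (.node [(123,(.negSucc 0),1)] .nil .nil)) (.node [] .nil (.node [(228,(.ofNat 1),1)] .nil .nil))))) (.node [] (.node [] .nil (.node [] (.node [] .nil (.node [(97,(.negSucc 0),1)] .nil .nil)) (.node [] .nil (.node [(202,(.ofNat 1),1)] .nil .nil)))) (.node [] (.node [] .nil (.node [] .nil (.node [(164,(.negSucc 0),1)] .nil .nil))) .nil))) (.node [(75,(.ofNat 1),1)] (.node [] .nil (.node [] .nil (.node [] .nil (.node [] .nil (.node [(232,(.negSucc 0),1)]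 .nil .nil))))) (.node [] (.node [] .nil (.node [(17,(.ofNat 1),1)] .nil (.node [(58,(.negSucc 0),1)] .nil (.node [(209,(.negSucc 0),1)] .nil .nil)))) (.node [] (.node [] (.node [] .nil (.node [(85,(.ofNat 1),1)] .nil .nil)) (.node [(40,(.ofNat 1),1)] .nil .nil)) .nil))))) (.node [(75,(.ofNat 1),1)] (.node [] (.node [] (.node [] (.node [] (.node [] (.node [] .nil (.node [(76,(.ofNat 1),1)] .nil .nil)) .nil) .nil) (.node [] .nil (.node [(18,(.ofNat 1),1)] (.node [] .nil (.node [(119,(.negSucc 0),1)] .nil .nil)) (.node [(64,(.negSucc 0),1)] .nil (.node [(223,(.ofNat 1),1)] .nil .nil))))) (.node [] (.node [] (.node [] .nil (.node [] .nil (.node [(148,(.negSucc 0),1)] .nil .nil))) .nil) (.node [] (.node [] (.node [] .nil (.node [(84,(.negSucc 0),1)] .nil .nil)) (.node [(35,(.negSucc 0),1)] .nil (.node [(163,(.ofNat 1),1)] .nil .nil))) .nil))) (.node [] (.node [] (.node [] (.node [] .nil (.node [] .nil (.node [(145,(.ofNat 1),1)] .nil .nil))) .nil) (.node [] (.node [] (.node [] .nil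 (.node [(80,(.ofNat 1),1)] .nil .nil)) (.node [] .nil (.node [(160,(.negSucc 0),1)] .nil .nil))) (.node [(21,(.negSucc 0),1)] (.node [] .nil (.node [(128,(.negSucc 0),1)] .nil .nil)) (.node [(71,(.ofNat 1),1)] .nil .nil)))) (.node [] (.node [] .nil (.node [] .nil (.node [(56,(.negSucc 0),1)] .nil (.node [(206,(.negSucc 0),1)] .nil .nil)))) (.node [] (.node [] .nil (.node [] .nil (.node [(168,(.ofNat 1),1)] .nil .nil))) (.node [] (.node [] .nil (.node [(140,(.negSucc 0),1)] .nil .nil)) .nil))))) (.node [(75,(.negSucc 0),1)] (.node [] (.node [] .nil (.node [] .nil (.node [(19,(.ofNat 1),1)] (.node [] .nil (.node [(126,(.negSucc 0),1)] .nil .nil)) (.node [(66,(.ofNat 1),1)] .nil .nil)))) (.node [] (.node [] (.node [] .nil (.node [] .nil .nil)) (.node [] (.node [] .nil (.node [(102,(.ofNat 1),1)] .nil .nil)) (.node [(54,(.ofNat 1),1)] .nil .nil))) (.node [(13,(.negSucc 0),1)] (.node [] .nil (.node [(37,(.ofNat 1),1)] .nil .nil)) (.node [] (.node [] .nil (.node [(139,(.negSucc 0),1)]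 .nil .nil)) .nil)))) (.node [(75,(.negSucc 0),1)] (.node [] (.node [] (.node [] .nil (.node [] .nil (.node [(146,(.ofNat 1),1)] .nil .nil))) .nil) (.node [(9,(.ofNat 1),1)] (.node [] .nil (.node [(34,(.negSucc 0),1)] .nil (.node [(161,(.negSucc 0),1)] .nil .nil))) .nil)) (.node [] (.node [] .nil (.node [] (.node [] .nil (.node [(106,(.negSucc 0),1)] .nil .nil)) (.node [(61,(.negSucc 0),1)] .nil .nil))) (.node [] (.node [] .nil (.node [(42,(.ofNat 1),1)] .nil .nil)) (.node [] (.node [] .nil (.node [(142,(.ofNat 1),1)] .nil .nil)) (.node [(74,(.ofNat 1),1)] .nil .nil))))))))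
noncomputable def ex68 : Trie (List (ℕ × ℤ × ℕ)) := (.node [(76,(.ofNat 1),1)] (.node [] (.node [] (.node [] (.node [] .nil (.node [] .nil (.node [(18,(.negSucc 0),1)] .nil .nil))) (.node [] (.node [] (.node [] .nil (.node [] .nil (.node [(148,(.negSucc 0),1)] .nil .nil))) .nil) (.node [] (.node [] (.node [] .nil (.node [(84,(.negSucc 0),1)] .nil .nil)) (.node [] .nil (.node [(163,(.ofNat 1),1)] .nil .nil))) .nil))) (.node [] (.node [] (.node [] (.node [] .nil (.node [] .nil (.node [(145,(.ofNat 1),1)] .nil .nil))) .nil) (.node [] (.node [] .nil (.node [] .nil (.node [(160,(.negSucc 0),1)] .nil .nil))) (.node [(21,(.ofNat 1),1)] (.node [] .nil (.node [(129,(.negSucc 0),1)] .nil .nil)) (.node [(69,(.ofNat 1),1)] .nil .nil)))) (.node [] (.node [] (.node [] .nil (.node [] .nil .nil)) (.node [] .nil (.node [(56,(.ofNat 1),1)] .nil .nil))) (.node [] (.node [] .nil (.node [(39,(.negSucc 0),1)] .nil .nil)) .nil)))) (.node [] (.node [] (.node [] .nil (.node [] .nil (.node [] (.node []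 .nil (.node [(124,(.negSucc 0),1)] .nil .nil)) (.node [(66,(.negSucc 0),1)] .nil (.node [(229,(.negSucc 0),1)] .nil .nil))))) (.node [] (.node [] .nil (.node [] (.node [] .nil (.node [(98,(.negSucc 0),1)] .nil .nil)) (.node [] .nil (.node [(203,(.negSucc 0),1)] .nil .nil)))) (.node [(13,(.ofNat 1),1)] (.node [] .nil (.node [(37,(.negSucc 0),1)] .nil (.node [(165,(.ofNat 1),1)] .nil .nil))) (.node [] (.node [] .nil (.node [(139,(.negSucc 0),1)] .nil .nil)) .nil)))) (.node [(76,(.negSucc 0),1)] (.node [] .nil (.node [] (.node [] .nil (.node [(34,(.ofNat 1),1)] .nil .nil)) .nil)) (.node [] (.node [] .nil (.node [] (.node [] .nil (.node [(106,(.negSucc 0),1)] .nil .nil)) (.node [(59,(.negSucc 0),1)] .nil (.node [(210,(.ofNat 1),1)] .nil .nil)))) (.node [] .nil (.node [] (.node [] .nil (.node [(142,(.ofNat 1),1)] .nil .nil)) (.node [(75,(.ofNat 1),1)] .nil .nil))))))) (.node [(76,(.ofNat 1),1)] (.node [] (.node [] (.node [] (.node [] (.node [] .nil (.node [] .nil (.node [(144,(.ofNat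 1),1)] .nil .nil))) .nil) (.node [] .nil (.node [] (.node [] .nil (.node [(120,(.negSucc 0),1)] .nil .nil)) (.node [(65,(.negSucc 0),1)] .nil (.node [(224,(.negSucc 0),1)] .nil .nil))))) (.node [] .nil (.node [] (.node [] .nil (.node [(36,(.negSucc 0),1)] .nil .nil)) .nil))) (.node [(76,(.ofNat 1),1)] (.node [] .nil (.node [] (.node [] (.node [] .nil (.node [(81,(.ofNat 1),1)] .nil .nil)) .nil) (.node [] (.node [] .nil (.node [(130,(.negSucc 0),1)] .nil .nil)) (.node [(72,(.ofNat 1),1)] .nil (.node [(232,(.negSucc 0),1)] .nil .nil))))) (.node [] (.node [] .nil (.node [(17,(.negSucc 0),1)] .nil (.node [] .nil (.node [(207,(.ofNat 1),1)] .nil .nil)))) (.node [] (.node [] (.node [] .nil (.node [(85,(.ofNat 1),1)] .nil .nil)) (.node [(40,(.negSucc 0),1)] .nil (.node [(169,(.negSucc 0),1)] .nil .nil))) (.node [] (.node [] .nil (.node [(141,(.ofNat 1),1)] .nil .nil)) (.node [(74,(.ofNat 1),1)] .nil .nil)))))) (.node [(76,(.negSucc 0),1)] (.node [] (.node [] (.node [] (.node [] (.node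 [] .nil (.node [(77,(.ofNat 1),1)] .nil .nil)) .nil) .nil) (.node [] .nil (.node [(20,(.ofNat 1),1)] (.node [] .nil (.node [(0,(.negSucc 0),1),(1,(.negSucc 0),1),(2,(.negSucc 0),1),(3,(.negSucc 0),1),(4,(.negSucc 0),1),(5,(.negSucc 0),1),(76,(.negSucc 0),2)] .nil .nil)) .nil))) (.node [] (.node [] .nil (.node [] (.node [] .nil (.node [(103,(.ofNat 1),1)] .nil .nil)) (.node [(55,(.ofNat 1),1)] .nil (.node [(204,(.negSucc 0),1)] .nil .nil)))) (.node [] (.node [] .nil (.node [] .nil (.node [(166,(.ofNat 1),1)] .nil .nil))) .nil))) (.node [] (.node [] (.node [] (.node [] (.node [] .nil (.node [(78,(.ofNat 1),1)] .nil .nil)) (.node [] .nil (.node [(147,(.negSucc 0),1)] .nil .nil))) .nil) (.node [(10,(.ofNat 1),1)] (.node [] .nil (.node [] .nil (.node [(162,(.ofNat 1),1)] .nil .nil))) (.node [] (.node [] .nil (.node [(138,(.negSucc 0),1)] .nil .nil)) .nil))) (.node [] (.node [] .nil (.node [] .nil (.node [(62,(.negSucc 0),1)] .nil .nil))) (.node [(14,(.ofNat 1),1)] (.node [] .nil (.node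 [(43,(.ofNat 1),1)] .nil .nil)) .nil))))))
noncomputable def ex69 : Trie (List (ℕ × ℤ × ℕ)) := (.node [(77,(.ofNat 1),1)] (.node [] (.node [] (.node [] (.node [] (.node [] (.node [] .nil (.node [] .nil (.node [(144,(.ofNat 1),1)] .nil .nil))) .nil) (.node [] .nil (.node [(19,(.negSucc 0),1)] .nil .nil))) (.node [] .nil (.node [] (.node [] .nil (.node [(37,(.ofNat 1),1)] .nil .nil)) .nil))) (.node [(77,(.ofNat 1),1)] (.node [] (.node [] (.node [] .nil (.node [] .nil (.node [(146,(.negSucc 0),1)] .nil .nil))) .nil) (.node [] (.node [] .nil (.node [] .nil (.node [(161,(.ofNat 1),1)] .nil .nil))) (.node [] (.node [] .nil (.node [(132,(.negSucc 0),1)] .nil .nil)) (.node [] .nil (.node [(232,(.negSucc 0),1)] .nil .nil))))) (.node [] (.node [] .nil (.node [(17,(.ofNat 1),1)] .nil (.node [(58,(.ofNat 1),1)] .nil (.node [(207,(.ofNat 1),1)] .nil .nil)))) (.node [] (.node [] (.node [] .nil (.node [(85,(.ofNat 1),1)] .nil .nil)) (.node [(41,(.negSucc 0),1)] .nil (.node [(169,(.negSucc 0),1)]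 .nil .nil))) (.node [] (.node [] .nil (.node [(142,(.ofNat 1),1)] .nil .nil)) (.node [(76,(.ofNat 1),1)] .nil .nil)))))) (.node [] (.node [] (.node [] .nil (.node [] .nil (.node [(21,(.negSucc 0),1)] (.node [] .nil (.node [(0,(.negSucc 0),1),(1,(.negSucc 0),1),(2,(.negSucc 0),1),(3,(.negSucc 0),1),(4,(.negSucc 0),1),(77,(.negSucc 0),2)] .nil .nil)) (.node [(68,(.negSucc 0),1)] .nil (.node [(230,(.ofNat 1),1)] .nil .nil))))) (.node [] (.node [] .nil (.node [] (.node [] .nil (.node [(99,(.negSucc 0),1)] .nil .nil)) (.node [] .nil (.node [(205,(.ofNat 1),1)] .nil .nil)))) (.node [] (.node [] .nil (.node [] .nil (.node [(167,(.negSucc 0),1)] .nil .nil))) (.node [] (.node [] .nil (.node [(140,(.ofNat 1),1)] .nil .nil)) (.node [(74,(.ofNat 1),1)] .nil .nil))))) (.node [] (.node [] (.node [] (.node [] (.node [] .nil (.node [(78,(.ofNat 1),1)] .nil .nil)) (.node [] .nil (.node [(148,(.negSucc 0),1)] .nil .nil))) .nil) (.node [] (.node [] .nil (.node [(35,(.ofNat 1),1)] .nil (.node [(163,(.ofNat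 1),1)] .nil .nil))) (.node [] (.node [] .nil (.node [(138,(.negSucc 0),1)] .nil .nil)) .nil))) (.node [] (.node [] .nil (.node [] .nil (.node [] .nil (.node [(211,(.negSucc 0),1)] .nil .nil)))) (.node [(14,(.negSucc 0),1)] (.node [] .nil (.node [(43,(.negSucc 0),1)] .nil .nil)) .nil))))) (.node [(77,(.ofNat 1),1)] (.node [] (.node [] (.node [] .nil (.node [] .nil (.node [(20,(.negSucc 0),1)] (.node [] .nil (.node [(121,(.negSucc 0),1)] .nil .nil)) (.node [(67,(.negSucc 0),1)] .nil (.node [(225,(.ofNat 1),1)] .nil .nil))))) (.node [] .nil (.node [(13,(.negSucc 0),1)] .nil .nil))) (.node [(77,(.negSucc 0),1)] (.node [] (.node [] (.node [] .nil (.node [] .nil (.node [(147,(.negSucc 0),1)] .nil .nil))) .nil) (.node [] (.node [] (.node [] .nil (.node [(82,(.ofNat 1),1)] .nil .nil)) (.node [] .nil (.node [(162,(.ofNat 1),1)] .nil .nil))) (.node [] (.node [] .nil (.node [(133,(.negSucc 0),1)] .nil .nil)) (.node [(73,(.ofNat 1),1)] .nil .nil)))) (.node [] (.node [] (.node [] .nil (.node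 [] .nil .nil)) (.node [] (.node [] .nil (.node [(106,(.negSucc 0),1)] .nil .nil)) (.node [(59,(.ofNat 1),1)] .nil .nil))) (.node [] (.node [] .nil (.node [(42,(.negSucc 0),1)] .nil .nil)) .nil)))) (.node [(77,(.negSucc 0),1)] (.node [] (.node [] .nil (.node [] .nil (.node [] (.node [] .nil (.node [(131,(.negSucc 0),1)] .nil .nil)) (.node [(69,(.negSucc 0),1)] .nil .nil)))) (.node [] (.node [] .nil (.node [] (.node [] .nil (.node [(104,(.ofNat 1),1)] .nil .nil)) (.node [(57,(.ofNat 1),1)] .nil (.node [(206,(.ofNat 1),1)] .nil .nil)))) (.node [] (.node [] .nil (.node [] .nil (.node [(168,(.negSucc 0),1)] .nil .nil))) (.node [] (.node [] .nil (.node [(141,(.ofNat 1),1)] .nil .nil)) (.node [(75,(.ofNat 1),1)] .nil .nil))))) (.node [] (.node [] .nil (.node [(11,(.ofNat 1),1)] (.node [] (.node [] .nil (.node [(84,(.negSucc 0),1)] .nil .nil)) (.node [(36,(.ofNat 1),1)] .nil .nil)) .nil)) (.node [] (.node [] .nil (.node [] .nil (.node [(63,(.negSucc 0),1)] .nil .nil))) .nil)))))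
noncomputable def ex70 : Trie (List (ℕ × ℤ × ℕ)) := (.node [(78,(.ofNat 1),1)] (.node [] (.node [] (.node [] (.node [] (.node [] (.node [] .nil (.node [] .nil (.node [(145,(.negSucc 0),1)] .nil .nil))) .nil) .nil) (.node [] .nil (.node [(13,(.ofNat 1),1)] (.node [] .nil (.node [(40,(.ofNat 1),1)] .nil (.node [(168,(.negSucc 0),1)] .nil .nil))) (.node [] (.node [] .nil (.node [(141,(.ofNat 1),1)] .nil .nil)) (.node [(76,(.ofNat 1),1)] .nil .nil))))) (.node [(78,(.negSucc 0),1)] (.node [] .nil (.node [] (.node [] .nil (.node [] .nil (.node [(164,(.negSucc 0),1)] .nil .nil))) (.node [] (.node [] .nil (.node [(136,(.negSucc 0),1)] .nil .nil)) (.node [(73,(.negSucc 0),1)] .nil .nil)))) (.node [] (.node [] .nil (.node [(18,(.ofNat 1),1)] (.node [] .nil (.node [(106,(.negSucc 0),1)] .nil .nil)) (.node [(61,(.ofNat 1),1)] .nil (.node [(210,(.negSucc 0),1)] .nil .nil)))) .nil))) (.node [] (.node [] (.node [] (.node [] (.node [] .nil (.node [] .nil (.node [(147,(.negSucc 0),1)] .nil .nil)))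 .nil) (.node [] .nil (.node [] (.node [] .nil (.node [(134,(.negSucc 0),1)] .nil .nil)) (.node [(71,(.negSucc 0),1)] .nil (.node [(231,(.negSucc 0),1)] .nil .nil))))) (.node [] (.node [] .nil (.node [] (.node [] .nil (.node [(100,(.negSucc 0),1)] .nil .nil)) (.node [] .nil (.node [(208,(.negSucc 0),1)] .nil .nil)))) (.node [] (.node [] .nil (.node [(42,(.ofNat 1),1)] .nil .nil)) .nil))) (.node [] (.node [] .nil (.node [] (.node [] (.node [] .nil (.node [(84,(.negSucc 0),1)] .nil .nil)) (.node [(38,(.ofNat 1),1)] .nil (.node [(166,(.negSucc 0),1)] .nil .nil))) (.node [] (.node [] .nil (.node [(139,(.ofNat 1),1)] .nil .nil)) (.node [(74,(.ofNat 1),1)] .nil .nil)))) (.node [] (.node [] (.node [] .nil (.node [] .nil .nil)) (.node [(20,(.ofNat 1),1)] .nil (.node [(63,(.ofNat 1),1)] .nil .nil))) .nil)))) (.node [(78,(.ofNat 1),1)] (.node [] (.node [] (.node [] (.node [] (.node [] .nil (.node [] .nil (.node [(146,(.negSucc 0),1)] .nil .nil))) .nil) (.node [] .nil (.node [] (.node []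 .nil (.node [(0,(.negSucc 0),1),(1,(.negSucc 0),1),(2,(.negSucc 0),1),(3,(.negSucc 0),1),(78,(.negSucc 0),2)] .nil .nil)) (.node [(70,(.negSucc 0),1)] .nil (.node [(226,(.negSucc 0),1)] .nil .nil))))) (.node [] .nil (.node [] (.node [] .nil (.node [(41,(.ofNat 1),1)] .nil (.node [(169,(.negSucc 0),1)] .nil .nil))) (.node [] (.node [] .nil (.node [(142,(.ofNat 1),1)] .nil .nil)) (.node [(77,(.ofNat 1),1)] .nil .nil))))) (.node [] (.node [] .nil (.node [] (.node [] (.node [] .nil (.node [(83,(.ofNat 1),1)] .nil .nil)) (.node [] .nil (.node [(165,(.negSucc 0),1)] .nil .nil))) (.node [] (.node [] .nil (.node [(137,(.negSucc 0),1)] .nil .nil)) .nil))) (.node [] (.node [] .nil (.node [(19,(.ofNat 1),1)] .nil (.node [(62,(.ofNat 1),1)] .nil (.node [(211,(.negSucc 0),1)] .nil .nil)))) (.node [(14,(.ofNat 1),1)] .nil .nil)))) (.node [] (.node [] (.node [] (.node [] (.node [] .nil (.node [] .nil (.node [(148,(.negSucc 0),1)] .nil .nil))) .nil) (.node [] .nil (.node [] (.node [] .nil (.node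 [(135,(.negSucc 0),1)] .nil .nil)) (.node [(72,(.negSucc 0),1)] .nil (.node [(232,(.negSucc 0),1)] .nil .nil))))) (.node [] (.node [] .nil (.node [] (.node [] .nil (.node [(105,(.ofNat 1),1)] .nil .nil)) (.node [(60,(.ofNat 1),1)] .nil (.node [(209,(.negSucc 0),1)] .nil .nil)))) (.node [] (.node [] (.node [] .nil (.node [(85,(.ofNat 1),1)] .nil .nil)) (.node [(43,(.ofNat 1),1)] .nil .nil)) .nil))) (.node [] (.node [] .nil (.node [(12,(.ofNat 1),1)] (.node [] .nil (.node [(39,(.ofNat 1),1)] .nil (.node [(167,(.negSucc 0),1)] .nil .nil))) (.node [] (.node [] .nil (.node [(140,(.ofNat 1),1)] .nil .nil)) (.node [(75,(.ofNat 1),1)] .nil .nil)))) (.node [] (.node [] .nil (.node [(21,(.ofNat 1),1)] .nil .nil)) .nil)))))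
noncomputable def ex71 : Trie (List (ℕ × ℤ × ℕ)) := (.node [(79,(.ofNat 1),1)] (.node [] (.node [] (.node [] (.node [] (.node [] (.node [] (.node [] .nil (.node [(80,(.ofNat 1),1)] .nil .nil)) .nil) .nil) (.node [] .nil (.node [] (.node [] .nil (.node [(0,(.negSucc 0),1),(2,(.negSucc 0),1),(3,(.negSucc 0),1),(4,(.negSucc 0),1),(5,(.negSucc 0),1),(6,(.negSucc 0),1),(7,(.negSucc 0),1),(79,(.negSucc 0),2)] .nil .nil)) (.node [] .nil (.node [(227,(.negSucc 0),1)] .nil .nil))))) (.node [] (.node [] (.node [] .nil (.node [] .nil (.node [(157,(.negSucc 0),1)] .nil .nil))) (.node [(18,(.ofNat 1),1)] .nil (.node [(67,(.ofNat 1),1)] .nil .nil))) (.node [] (.node [] .nil (.node [(44,(.ofNat 1),1)] .nil .nil)) .nil))) (.node [] (.node [] (.node [] .nil (.node [] .nil (.node [(60,(.ofNat 1),1)] .nil .nil))) (.node [] (.node [] (.node [] .nil (.node [(85,(.ofNat 1),1)] .nil .nil)) .nil) .nil)) (.node [] (.node [] (.node [] .nil (.node [] .nil (.node [(160,(.negSucc 0),1)] .nil .nil))) (.node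 [] (.node [] .nil (.node [(118,(.negSucc 0),1)] .nil .nil)) (.node [] .nil (.node [(213,(.negSucc 0),1)] .nil .nil)))) (.node [(15,(.ofNat 1),1)] .nil (.node [] (.node [] .nil (.node [(151,(.negSucc 0),1)] .nil .nil)) .nil))))) (.node [] (.node [] (.node [] (.node [] (.node [] (.node [] .nil (.node [(81,(.ofNat 1),1)] .nil .nil)) .nil) (.node [] .nil (.node [(55,(.ofNat 1),1)] .nil .nil))) (.node [] (.node [] .nil (.node [] .nil (.node [(165,(.negSucc 0),1)] .nil .nil))) .nil)) (.node [] (.node [] .nil (.node [(19,(.ofNat 1),1)] (.node [] .nil (.node [(107,(.negSucc 0),1)] .nil .nil)) (.node [(74,(.ofNat 1),1)] .nil .nil))) (.node [] (.node [] .nil (.node [(45,(.ofNat 1),1)] .nil .nil)) .nil))) (.node [] (.node [] (.node [] (.node [] .nil (.node [] .nil (.node [(156,(.negSucc 0),1)] .nil .nil))) (.node [] .nil (.node [(64,(.ofNat 1),1)] .nil .nil))) (.node [(8,(.negSucc 0),1)] .nil .nil)) (.node [] (.node [] (.node [] (.node [] .nil (.node [(84,(.ofNat 1),1)] .nil .nil)) (.node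 [] .nil (.node [(161,(.negSucc 0),1)] .nil .nil))) (.node [] (.node [] .nil (.node [(125,(.negSucc 0),1)] .nil .nil)) (.node [] .nil (.node [(218,(.negSucc 0),1)] .nil .nil)))) (.node [] (.node [] .nil (.node [(49,(.ofNat 1),1)] .nil .nil)) (.node [] (.node [] .nil (.node [(152,(.negSucc 0),1)] .nil .nil)) .nil)))))) (.node [(79,(.negSucc 0),1)] (.node [] (.node [] (.node [] (.node [] .nil (.node [(16,(.ofNat 1),1)] .nil (.node [(54,(.ofNat 1),1)] .nil .nil))) (.node [] (.node [] .nil (.node [] .nil (.node [(164,(.negSucc 0),1)] .nil .nil))) .nil)) (.node [] (.node [] (.node [] (.node [] .nil (.node [(83,(.ofNat 1),1)] .nil .nil)) (.node [] .nil (.node [(158,(.negSucc 0),1)] .nil .nil))) (.node [] .nil (.node [(70,(.ofNat 1),1)] .nil .nil))) (.node [] .nil (.node [] (.node [] .nil (.node [(150,(.negSucc 0),1)] .nil .nil)) .nil)))) (.node [] (.node [] (.node [] (.node [] (.node [] .nil (.node [(82,(.ofNat 1),1)] .nil .nil)) .nil) (.node [(17,(.ofNat 1),1)] .nil .nil)) (.node []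 .nil (.node [] (.node [] .nil (.node [(149,(.negSucc 0),1)] .nil .nil)) .nil))) (.node [] (.node [] .nil (.node [] (.node [] .nil (.node [(122,(.negSucc 0),1)] .nil .nil)) (.node [] .nil (.node [(215,(.negSucc 0),1)] .nil .nil)))) (.node [] (.node [] .nil (.node [(48,(.ofNat 1),1)] .nil .nil)) .nil)))) (.node [] (.node [] (.node [] (.node [] (.node [] .nil (.node [] .nil (.node [(155,(.negSucc 0),1)] .nil .nil))) (.node [] .nil (.node [(57,(.ofNat 1),1)] .nil .nil))) (.node [] (.node [] .nil (.node [] .nil (.node [(167,(.negSucc 0),1)] .nil .nil))) .nil)) (.node [] (.node [] .nil (.node [(20,(.ofNat 1),1)] (.node [] .nil (.node [(113,(.negSucc 0),1)] .nil .nil)) (.node [] .nil (.node [(212,(.negSucc 0),1)] .nil .nil)))) (.node [] (.node [] .nil (.node [(46,(.ofNat 1),1)] .nil .nil)) .nil))) (.node [(79,(.ofNat 1),1)] (.node [] (.node [] .nil (.node [] .nil (.node [(65,(.ofNat 1),1)] .nil .nil))) (.node [] .nil (.node [] .nil (.node [] .nil (.node [(233,(.ofNat 1),1)] .nil .nil)))))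 (.node [] (.node [] (.node [] .nil (.node [] .nil (.node [(162,(.negSucc 0),1)] .nil .nil))) (.node [] (.node [] .nil (.node [(127,(.negSucc 0),1)] .nil .nil)) (.node [] .nil (.node [(222,(.negSucc 0),1)] .nil .nil)))) (.node [] (.node [] .nil (.node [(51,(.ofNat 1),1)] .nil .nil)) (.node [] (.node [] .nil (.node [(153,(.negSucc 0),1)] .nil .nil)) .nil)))))))
noncomputable def ex72 : Trie (List (ℕ × ℤ × ℕ)) := (.node [(80,(.ofNat 1),1)] (.node [] (.node [] (.node [] (.node [] (.node [] .nil (.node [(16,(.negSucc 0),1)] .nil (.node [(54,(.negSucc 0),1)] .nil .nil))) (.node [] (.node [] .nil (.node [] .nil (.node [(164,(.negSucc 0),1)] .nil .nil))) (.node [] (.node [] .nil (.node [(128,(.negSucc 0),1)] .nil .nil)) (.node [] .nil (.node [(228,(.ofNat 1),1)] .nil .nil))))) (.node [] (.node [] (.node [] (.node [] .nil (.node [(83,(.ofNat 1),1)] .nil .nil)) .nil) (.node [] .nil (.node [(68,(.ofNat 1),1)] .nil .nil))) (.node [] .nil (.node [] (.node [] .nil (.node [(150,(.negSucc 0),1)]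 .nil .nil)) .nil)))) (.node [] (.node [] (.node [] (.node [] (.node [] .nil (.node [(82,(.ofNat 1),1)] .nil .nil)) .nil) (.node [(17,(.negSucc 0),1)] .nil (.node [(61,(.ofNat 1),1)] .nil .nil))) (.node [] .nil (.node [] (.node [] .nil (.node [(149,(.negSucc 0),1)] .nil .nil)) .nil))) (.node [] (.node [] .nil (.node [] (.node [] .nil (.node [(119,(.negSucc 0),1)] .nil .nil)) (.node [] .nil (.node [(214,(.ofNat 1),1)] .nil .nil)))) (.node [] (.node [] .nil (.node [(48,(.negSucc 0),1)] .nil .nil)) .nil)))) (.node [] (.node [] (.node [] (.node [] (.node [] .nil (.node [] .nil (.node [(155,(.negSucc 0),1)] .nil .nil))) (.node [] .nil (.node [(56,(.ofNat 1),1)] .nil .nil))) (.node [] (.node [] .nil (.node [] .nil (.node [(166,(.ofNat 1),1)] .nil .nil))) .nil)) (.node [] (.node [] .nil (.node [] (.node [] .nil (.node [(108,(.negSucc 0),1)] .nil .nil)) (.node [(75,(.ofNat 1),1)] .nil (.node [(212,(.negSucc 0),1)] .nil .nil)))) .nil)) (.node [(80,(.ofNat 1),1)] (.node [] .nil (.node [(9,(.negSucc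 0),1)] .nil (.node [] .nil (.node [] .nil (.node [(233,(.ofNat 1),1)] .nil .nil))))) (.node [] (.node [] .nil (.node [] (.node [] .nil (.node [(126,(.negSucc 0),1)] .nil .nil)) (.node [] .nil (.node [(219,(.ofNat 1),1)] .nil .nil)))) (.node [] (.node [] .nil (.node [(50,(.ofNat 1),1)] .nil .nil)) .nil))))) (.node [(80,(.negSucc 0),1)] (.node [] (.node [] (.node [] (.node [] (.node [] (.node [] .nil (.node [(81,(.ofNat 1),1)] .nil .nil)) .nil) .nil) .nil) (.node [] (.node [] (.node [] .nil (.node [] .nil (.node [(159,(.ofNat 1),1)] .nil .nil))) (.node [(19,(.negSucc 0),1)] .nil (.node [(71,(.ofNat 1),1)] .nil .nil))) (.node [] (.node [] .nil (.node [(45,(.negSucc 0),1)] .nil .nil)) .nil))) (.node [] (.node [] (.node [] (.node [] .nil (.node [] .nil (.node [(156,(.negSucc 0),1)] .nil .nil))) (.node [] .nil (.node [(64,(.negSucc 0),1)] .nil .nil))) .nil) (.node [] (.node [] (.node [] (.node [] .nil (.node [(84,(.ofNat 1),1)] .nil .nil)) (.node [] .nil (.node [(161,(.negSucc 0),1)]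 .nil .nil))) (.node [] (.node [] .nil (.node [(123,(.negSucc 0),1)] .nil .nil)) (.node [] .nil (.node [(216,(.ofNat 1),1)] .nil .nil)))) (.node [] .nil (.node [] (.node [] .nil (.node [(152,(.negSucc 0),1)] .nil .nil)) .nil))))) (.node [] (.node [] (.node [] (.node [] .nil (.node [] .nil (.node [(58,(.ofNat 1),1)] .nil .nil))) (.node [] (.node [] (.node [] .nil (.node [(85,(.ofNat 1),1)] .nil .nil)) (.node [] .nil (.node [(168,(.ofNat 1),1)] .nil .nil))) .nil)) (.node [] (.node [] (.node [] .nil (.node [] .nil (.node [(160,(.negSucc 0),1)] .nil .nil))) (.node [(21,(.ofNat 1),1)] (.node [] .nil (.node [(114,(.negSucc 0),1)] .nil .nil)) .nil)) (.node [(15,(.negSucc 0),1)] (.node [] .nil (.node [(47,(.ofNat 1),1)] .nil .nil)) (.node [] (.node [] .nil (.node [(151,(.negSucc 0),1)] .nil .nil)) .nil)))) (.node [(80,(.negSucc 0),1)] (.node [] (.node [] (.node [] .nil (.node [] .nil (.node [(157,(.negSucc 0),1)] .nil .nil))) (.node [(18,(.negSucc 0),1)] .nil (.node [(66,(.ofNat 1),1)]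 .nil .nil))) (.node [] (.node [] .nil (.node [(44,(.negSucc 0),1)] .nil .nil)) .nil)) (.node [] (.node [] (.node [] .nil (.node [] .nil (.node [(163,(.ofNat 1),1)] .nil .nil))) (.node [] (.node [] .nil (.node [(0,(.negSucc 0),1),(2,(.negSucc 0),1),(3,(.negSucc 0),1),(4,(.negSucc 0),1),(5,(.negSucc 0),1),(6,(.negSucc 0),1),(80,(.negSucc 0),2)] .nil .nil)) (.node [] .nil (.node [(223,(.ofNat 1),1)] .nil .nil)))) (.node [] (.node [] .nil (.node [(52,(.ofNat 1),1)] .nil .nil)) (.node [] (.node [] .nil (.node [(154,(.ofNat 1),1)] .nil .nil)) (.node [(79,(.ofNat 1),1)] .nil .nil))))))))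
noncomputable def ex73 : Trie (List (ℕ × ℤ × ℕ)) := (.node [(81,(.ofNat 1),1)] (.node [] (.node [] (.node [] (.node [] (.node [] .nil (.node [] .nil (.node [(55,(.negSucc 0),1)] .nil .nil))) (.node [] (.node [] .nil (.node [] .nil (.node [(165,(.ofNat 1),1)] .nil .nil))) (.node [] (.node [] .nil (.node [(130,(.negSucc 0),1)] .nil .nil)) (.node [] .nil (.node [(229,(.negSucc 0),1)] .nil .nil))))) (.node [] (.node [] (.node [] .nil (.node [] .nil (.node [(159,(.ofNat 1),1)] .nil .nil))) (.node [] .nil (.node [(69,(.ofNat 1),1)] .nil .nil))) .nil)) (.node [] (.node [] (.node [] (.node [] .nil (.node [] .nil (.node [(156,(.negSucc 0),1)] .nil .nil))) (.node [] .nil (.node [(62,(.ofNat 1),1)] .nil .nil))) .nil) (.node [] (.node [] (.node [] (.node [] .nil (.node [(84,(.ofNat 1),1)] .nil .nil)) .nil) (.node [] (.node [] .nil (.node [(120,(.negSucc 0),1)] .nil .nil)) .nil)) (.node [] (.node [] .nil (.node [(49,(.negSucc 0),1)] .nil .nil)) .nil)))) (.node [] (.node [] (.node [] .nil (.node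 [] (.node [] (.node [] .nil (.node [(85,(.ofNat 1),1)] .nil .nil)) .nil) .nil)) (.node [] (.node [] (.node [] .nil (.node [] .nil (.node [(160,(.negSucc 0),1)] .nil .nil))) (.node [(21,(.negSucc 0),1)] (.node [] .nil (.node [(109,(.negSucc 0),1)] .nil .nil)) (.node [(76,(.ofNat 1),1)] .nil (.node [(213,(.ofNat 1),1)] .nil .nil)))) (.node [(15,(.ofNat 1),1)] (.node [] .nil (.node [(47,(.negSucc 0),1)] .nil .nil)) (.node [] (.node [] .nil (.node [(151,(.negSucc 0),1)] .nil .nil)) .nil)))) (.node [(81,(.negSucc 0),1)] (.node [] (.node [] .nil (.node [(18,(.ofNat 1),1)] .nil (.node [(66,(.negSucc 0),1)] .nil .nil))) (.node [(10,(.negSucc 0),1)] (.node [] .nil (.node [(44,(.ofNat 1),1)] .nil .nil)) .nil)) (.node [] (.node [] (.node [] .nil (.node [] .nil (.node [(163,(.ofNat 1),1)] .nil .nil))) (.node [] (.node [] .nil (.node [(0,(.negSucc 0),1),(2,(.negSucc 0),1),(3,(.negSucc 0),1),(4,(.negSucc 0),1),(5,(.negSucc 0),1),(81,(.negSucc 0),2)] .nil .nil)) (.node [] .nil (.node [(220,(.negSucc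 0),1)] .nil .nil)))) (.node [] .nil (.node [] (.node [] .nil (.node [(154,(.ofNat 1),1)] .nil .nil)) (.node [(80,(.ofNat 1),1)] .nil .nil))))))) (.node [(81,(.negSucc 0),1)] (.node [] (.node [] (.node [] (.node [] (.node [] .nil (.node [] .nil (.node [(155,(.negSucc 0),1)] .nil .nil))) (.node [] .nil (.node [(56,(.negSucc 0),1)] .nil .nil))) (.node [] (.node [] .nil (.node [] .nil (.node [(166,(.ofNat 1),1)] .nil .nil))) .nil)) (.node [] (.node [] .nil (.node [(20,(.negSucc 0),1)] .nil (.node [(72,(.ofNat 1),1)] .nil .nil))) (.node [] (.node [] .nil (.node [(46,(.negSucc 0),1)] .nil .nil)) .nil))) (.node [(81,(.ofNat 1),1)] (.node [] (.node [] .nil (.node [] .nil (.node [(65,(.negSucc 0),1)] .nil .nil))) (.node [] .nil (.node [] .nil (.node [] .nil (.node [(233,(.ofNat 1),1)] .nil .nil))))) (.node [] (.node [] (.node [] .nil (.node [] .nil (.node [(162,(.ofNat 1),1)] .nil .nil))) (.node [] (.node [] .nil (.node [(124,(.negSucc 0),1)] .nil .nil)) (.node [] .nil (.node [(217,(.negSucc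 0),1)] .nil .nil)))) (.node [] (.node [] .nil (.node [(50,(.negSucc 0),1)] .nil .nil)) (.node [] (.node [] .nil (.node [(153,(.ofNat 1),1)] .nil .nil)) (.node [(79,(.ofNat 1),1)] .nil .nil)))))) (.node [] (.node [] (.node [] (.node [] (.node [] (.node [] .nil (.node [(82,(.ofNat 1),1)] .nil .nil)) .nil) (.node [(17,(.ofNat 1),1)] .nil (.node [(59,(.ofNat 1),1)] .nil .nil))) (.node [] (.node [] .nil (.node [] .nil (.node [(169,(.negSucc 0),1)] .nil .nil))) (.node [] (.node [] .nil (.node [(149,(.negSucc 0),1)] .nil .nil)) .nil))) (.node [] (.node [] .nil (.node [] (.node [] .nil (.node [(115,(.negSucc 0),1)] .nil .nil)) (.node [] .nil (.node [(214,(.ofNat 1),1)] .nil .nil)))) .nil)) (.node [] (.node [] (.node [] (.node [] (.node [] .nil (.node [(83,(.ofNat 1),1)] .nil .nil)) (.node [] .nil (.node [(158,(.ofNat 1),1)] .nil .nil))) .nil) (.node [] .nil (.node [] (.node [] .nil (.node [(150,(.negSucc 0),1)] .nil .nil)) .nil))) (.node [] (.node [] .nil (.node [] (.node [] .nil (.node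 [(129,(.negSucc 0),1)] .nil .nil)) (.node [] .nil (.node [(224,(.negSucc 0),1)] .nil .nil)))) (.node [(16,(.ofNat 1),1)] (.node [] .nil (.node [(53,(.ofNat 1),1)] .nil .nil)) .nil))))))
noncomputable def ex74 : Trie (List (ℕ × ℤ × ℕ)) := (.node [(82,(.ofNat 1),1)] (.node [] (.node [] (.node [] (.node [] (.node [] (.node [] .nil (.node [] .nil (.node [(155,(.negSucc 0),1)] .nil .nil))) (.node [] .nil (.node [(57,(.negSucc 0),1)] .nil .nil))) (.node [] (.node [] .nil (.node [] .nil (.node [(167,(.negSucc 0),1)] .nil .nil))) (.node [] (.node [] .nil (.node [(133,(.negSucc 0),1)] .nil .nil)) (.node [] .nil (.node [(230,(.ofNat 1),1)] .nil .nil))))) (.node [] (.node [] .nil (.node [(21,(.ofNat 1),1)] .nil .nil)) (.node [] (.node [] .nil (.node [(47,(.ofNat 1),1)] .nil .nil)) .nil))) (.node [(82,(.ofNat 1),1)] (.node [] (.node [] (.node [] .nil (.node [] .nil (.node [(157,(.ofNat 1),1)] .nil .nil))) (.node [] .nil (.node [(63,(.ofNat 1),1)] .nil .nil))) (.node [] .nil (.node [] .nil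 (.node [] .nil (.node [(233,(.ofNat 1),1)] .nil .nil))))) (.node [] (.node [] (.node [] .nil (.node [] .nil (.node [(163,(.ofNat 1),1)] .nil .nil))) (.node [] (.node [] .nil (.node [(121,(.negSucc 0),1)] .nil .nil)) (.node [] .nil (.node [(217,(.negSucc 0),1)] .nil .nil)))) (.node [] (.node [] .nil (.node [(51,(.negSucc 0),1)] .nil .nil)) (.node [] (.node [] .nil (.node [(154,(.ofNat 1),1)] .nil .nil)) (.node [(81,(.ofNat 1),1)] .nil .nil)))))) (.node [] (.node [] (.node [] (.node [] .nil (.node [(17,(.negSucc 0),1)] .nil (.node [(59,(.negSucc 0),1)] .nil .nil))) (.node [] (.node [] .nil (.node [] .nil (.node [(169,(.negSucc 0),1)] .nil .nil))) (.node [] (.node [] .nil (.node [(149,(.negSucc 0),1)] .nil .nil)) .nil))) (.node [] (.node [] (.node [] .nil (.node [] .nil (.node [(161,(.ofNat 1),1)] .nil .nil))) (.node [] (.node [] .nil (.node [(110,(.negSucc 0),1)] .nil .nil)) (.node [(77,(.ofNat 1),1)] .nil (.node [(215,(.negSucc 0),1)] .nil .nil)))) (.node [] .nil (.node [] (.node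 [] .nil (.node [(152,(.ofNat 1),1)] .nil .nil)) (.node [(79,(.ofNat 1),1)] .nil .nil))))) (.node [] (.node [] (.node [] (.node [] (.node [] .nil (.node [(83,(.ofNat 1),1)] .nil .nil)) (.node [] .nil (.node [(159,(.ofNat 1),1)] .nil .nil))) (.node [(19,(.ofNat 1),1)] .nil (.node [(68,(.negSucc 0),1)] .nil .nil))) (.node [(11,(.negSucc 0),1)] (.node [] .nil (.node [(45,(.ofNat 1),1)] .nil .nil)) (.node [] (.node [] .nil (.node [(150,(.negSucc 0),1)] .nil .nil)) .nil))) (.node [] (.node [] .nil (.node [] (.node [] .nil (.node [(131,(.negSucc 0),1)] .nil .nil)) (.node [] .nil (.node [(221,(.ofNat 1),1)] .nil .nil)))) (.node [(16,(.negSucc 0),1)] (.node [] .nil (.node [(53,(.negSucc 0),1)] .nil .nil)) .nil))))) (.node [(82,(.negSucc 0),1)] (.node [] (.node [] (.node [] (.node [] .nil (.node [] .nil (.node [(58,(.negSucc 0),1)] .nil .nil))) (.node [] (.node [] (.node [] .nil (.node [(85,(.ofNat 1),1)] .nil .nil)) (.node [] .nil (.node [(168,(.negSucc 0),1)] .nil .nil))) .nil)) (.node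 [] (.node [] .nil (.node [] .nil (.node [(73,(.ofNat 1),1)] .nil .nil))) (.node [(15,(.negSucc 0),1)] .nil .nil))) (.node [(82,(.negSucc 0),1)] (.node [] (.node [] (.node [] .nil (.node [] .nil (.node [(158,(.ofNat 1),1)] .nil .nil))) (.node [] .nil (.node [(67,(.negSucc 0),1)] .nil .nil))) .nil) (.node [] (.node [] .nil (.node [] (.node [] .nil (.node [(0,(.negSucc 0),1),(2,(.negSucc 0),1),(3,(.negSucc 0),1),(4,(.negSucc 0),1),(82,(.negSucc 0),2)] .nil .nil)) .nil)) (.node [] (.node [] .nil (.node [(52,(.negSucc 0),1)] .nil .nil)) .nil)))) (.node [] (.node [] .nil (.node [] (.node [] (.node [] (.node [] .nil (.node [(84,(.ofNat 1),1)] .nil .nil)) (.node [] .nil (.node [(162,(.ofNat 1),1)] .nil .nil))) (.node [] (.node [] .nil (.node [(116,(.negSucc 0),1)] .nil .nil)) (.node [] .nil (.node [(216,(.negSucc 0),1)] .nil .nil)))) (.node [] .nil (.node [] (.node [] .nil (.node [(153,(.ofNat 1),1)] .nil .nil)) (.node [(80,(.ofNat 1),1)] .nil .nil))))) (.node [] (.node [] (.node [] .nil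 (.node [(20,(.ofNat 1),1)] .nil (.node [(69,(.negSucc 0),1)] .nil .nil))) (.node [] (.node [] .nil (.node [(46,(.ofNat 1),1)] .nil .nil)) .nil)) (.node [] (.node [] .nil (.node [] (.node [] .nil (.node [(132,(.negSucc 0),1)] .nil .nil)) (.node [] .nil (.node [(225,(.ofNat 1),1)] .nil .nil)))) .nil)))))
noncomputable def ex75 : Trie (List (ℕ × ℤ × ℕ)) := (.node [(83,(.ofNat 1),1)] (.node [] (.node [] (.node [] (.node [] (.node [] (.node [] .nil (.node [] .nil (.node [(156,(.ofNat 1),1)] .nil .nil))) (.node [] .nil (.node [(60,(.negSucc 0),1)] .nil .nil))) (.node [] (.node [] (.node [] .nil (.node [(85,(.ofNat 1),1)] .nil .nil)) .nil) (.node [] (.node [] .nil (.node [(137,(.negSucc 0),1)] .nil .nil)) (.node [] .nil (.node [(231,(.negSucc 0),1)] .nil .nil))))) (.node [] (.node [] .nil (.node [] .nil (.node [(73,(.negSucc 0),1)] .nil .nil))) (.node [(15,(.ofNat 1),1)] (.node [] .nil (.node [(50,(.ofNat 1),1)] .nil .nil)) (.node [] (.node [] .nil (.node [(153,(.ofNat 1),1)] .nil .nil))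 (.node [(81,(.ofNat 1),1)] .nil .nil))))) (.node [(83,(.negSucc 0),1)] (.node [] (.node [] .nil (.node [(20,(.negSucc 0),1)] .nil .nil)) .nil) (.node [] (.node [] (.node [] .nil (.node [] .nil (.node [(166,(.negSucc 0),1)] .nil .nil))) (.node [] (.node [] .nil (.node [(0,(.negSucc 0),1),(2,(.negSucc 0),1),(3,(.negSucc 0),1),(83,(.negSucc 0),2)] .nil .nil)) (.node [] .nil (.node [(220,(.ofNat 1),1)] .nil .nil)))) .nil))) (.node [] (.node [] (.node [] (.node [] (.node [] .nil (.node [] .nil (.node [(158,(.ofNat 1),1)] .nil .nil))) (.node [(18,(.negSucc 0),1)] .nil (.node [(62,(.negSucc 0),1)] .nil .nil))) .nil) (.node [] (.node [] (.node [] (.node [] .nil (.node [(84,(.ofNat 1),1)] .nil .nil)) (.node [] .nil (.node [(164,(.negSucc 0),1)] .nil .nil))) (.node [] (.node [] .nil (.node [(111,(.negSucc 0),1)] .nil .nil)) (.node [(78,(.ofNat 1),1)] .nil (.node [(218,(.ofNat 1),1)] .nil .nil)))) (.node [] (.node [] .nil (.node [(52,(.ofNat 1),1)] .nil .nil)) .nil))) (.node [] (.node []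 (.node [] .nil (.node [] .nil (.node [(71,(.negSucc 0),1)] .nil .nil))) (.node [(12,(.negSucc 0),1)] (.node [] .nil (.node [(48,(.ofNat 1),1)] .nil .nil)) (.node [] (.node [] .nil (.node [(151,(.ofNat 1),1)] .nil .nil)) (.node [(79,(.ofNat 1),1)] .nil .nil)))) (.node [] (.node [] (.node [] .nil (.node [] .nil (.node [(168,(.negSucc 0),1)] .nil .nil))) (.node [] (.node [] .nil (.node [(135,(.negSucc 0),1)] .nil .nil)) .nil)) .nil)))) (.node [(83,(.negSucc 0),1)] (.node [] (.node [] (.node [] (.node [] (.node [] .nil (.node [] .nil (.node [(157,(.ofNat 1),1)] .nil .nil))) (.node [] .nil (.node [(61,(.negSucc 0),1)] .nil .nil))) (.node [] .nil (.node [] (.node [] .nil (.node [(149,(.negSucc 0),1)] .nil .nil)) .nil))) (.node [] .nil (.node [] (.node [] .nil (.node [(51,(.ofNat 1),1)] .nil .nil)) (.node [] (.node [] .nil (.node [(154,(.ofNat 1),1)] .nil .nil)) (.node [(82,(.ofNat 1),1)] .nil .nil))))) (.node [] (.node [] (.node [] .nil (.node [(21,(.negSucc 0),1)] .nil (.node [(70,(.negSucc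 0),1)] .nil .nil))) .nil) (.node [] (.node [] (.node [] .nil (.node [] .nil (.node [(167,(.negSucc 0),1)] .nil .nil))) (.node [] (.node [] .nil (.node [(134,(.negSucc 0),1)] .nil .nil)) (.node [] .nil (.node [(221,(.ofNat 1),1)] .nil .nil)))) (.node [(16,(.ofNat 1),1)] .nil .nil)))) (.node [(83,(.ofNat 1),1)] (.node [] (.node [] (.node [] (.node [] .nil (.node [] .nil (.node [(159,(.ofNat 1),1)] .nil .nil))) (.node [(19,(.negSucc 0),1)] .nil (.node [(63,(.negSucc 0),1)] .nil .nil))) (.node [] (.node [] .nil (.node [] .nil .nil)) (.node [] .nil (.node [] .nil (.node [(233,(.ofNat 1),1)] .nil .nil))))) (.node [] (.node [] (.node [] .nil (.node [] .nil (.node [(165,(.negSucc 0),1)] .nil .nil))) (.node [] (.node [] .nil (.node [(117,(.negSucc 0),1)] .nil .nil)) (.node [] .nil (.node [(219,(.ofNat 1),1)] .nil .nil)))) (.node [] (.node [] .nil (.node [(53,(.ofNat 1),1)] .nil .nil)) .nil))) (.node [] (.node [] (.node [] .nil (.node [] .nil (.node [(72,(.negSucc 0),1)] .nil .nil))) (.node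 [] (.node [] .nil (.node [(49,(.ofNat 1),1)] .nil .nil)) (.node [] (.node [] .nil (.node [(152,(.ofNat 1),1)] .nil .nil)) (.node [(80,(.ofNat 1),1)] .nil .nil)))) (.node [] (.node [] (.node [] .nil (.node [] .nil (.node [(169,(.negSucc 0),1)] .nil .nil))) (.node [] (.node [] .nil (.node [(136,(.negSucc 0),1)] .nil .nil)) (.node [] .nil (.node [(226,(.negSucc 0),1)] .nil .nil)))) .nil)))))
noncomputable def ex76 : Trie (List (ℕ × ℤ × ℕ)) := (.node [(84,(.ofNat 1),1)] (.node [] (.node [] (.node [] (.node [] (.node [] (.node [] .nil (.node [] .nil (.node [(160,(.negSucc 0),1)] .nil .nil))) (.node [(20,(.ofNat 1),1)] .nil .nil)) (.node [] .nil (.node [] (.node [] .nil (.node [(142,(.negSucc 0),1)] .nil .nil)) (.node [] .nil (.node [(232,(.ofNat 1),1)] .nil .nil))))) (.node [] (.node [] (.node [] .nil (.node [] .nil (.node [(168,(.negSucc 0),1)] .nil .nil))) (.node [] .nil (.node [(77,(.negSucc 0),1)] .nil .nil))) (.node [] (.node [] .nil (.node [(56,(.ofNat 1),1)] .nil .nil)) .nil)))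 (.node [] (.node [] (.node [] (.node [] .nil (.node [] .nil (.node [(164,(.negSucc 0),1)] .nil .nil))) .nil) (.node [] (.node [] .nil (.node [] .nil .nil)) (.node [] (.node [] .nil (.node [(153,(.ofNat 1),1)] .nil .nil)) (.node [(82,(.ofNat 1),1)] .nil .nil)))) (.node [] (.node [] .nil (.node [] (.node [] .nil (.node [(138,(.negSucc 0),1)] .nil .nil)) (.node [] .nil (.node [(224,(.negSucc 0),1)] .nil .nil)))) (.node [] (.node [] .nil (.node [(60,(.ofNat 1),1)] .nil .nil)) .nil)))) (.node [(84,(.ofNat 1),1)] (.node [] (.node [] (.node [] (.node [] .nil (.node [] .nil (.node [(162,(.negSucc 0),1)] .nil .nil))) .nil) (.node [] .nil (.node [] (.node [] .nil (.node [(151,(.ofNat 1),1)] .nil .nil)) (.node [(80,(.ofNat 1),1)] .nil (.node [(233,(.ofNat 1),1)] .nil .nil))))) (.node [] (.node [] .nil (.node [] (.node [] .nil (.node [(112,(.negSucc 0),1)] .nil .nil)) (.node [] .nil (.node [(222,(.negSucc 0),1)] .nil .nil)))) (.node [] (.node [] .nil (.node [(58,(.ofNat 1),1)] .nil .nil))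 .nil))) (.node [] (.node [] (.node [] (.node [] .nil (.node [] .nil (.node [(166,(.negSucc 0),1)] .nil .nil))) (.node [] .nil (.node [(75,(.negSucc 0),1)] .nil .nil))) (.node [(13,(.negSucc 0),1)] (.node [] .nil (.node [(54,(.ofNat 1),1)] .nil .nil)) .nil)) (.node [] (.node [] .nil (.node [] (.node [] .nil (.node [(140,(.negSucc 0),1)] .nil .nil)) (.node [] .nil (.node [(226,(.negSucc 0),1)] .nil .nil)))) (.node [(18,(.ofNat 1),1)] (.node [] .nil (.node [(62,(.ofNat 1),1)] .nil .nil)) .nil))))) (.node [] (.node [] (.node [] (.node [] (.node [] (.node [] .nil (.node [] .nil (.node [(161,(.negSucc 0),1)] .nil .nil))) (.node [(21,(.ofNat 1),1)] .nil .nil)) (.node [] .nil (.node [] (.node [] .nil (.node [(150,(.ofNat 1),1)] .nil .nil)) (.node [(79,(.ofNat 1),1)] .nil .nil)))) (.node [] (.node [] (.node [] .nil (.node [] .nil (.node [(169,(.negSucc 0),1)] .nil .nil))) (.node [] .nil (.node [(78,(.negSucc 0),1)] .nil .nil))) (.node [] (.node [] .nil (.node [(57,(.ofNat 1),1)] .nil .nil))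 .nil))) (.node [] (.node [] (.node [] (.node [] .nil (.node [] .nil (.node [(165,(.negSucc 0),1)] .nil .nil))) (.node [] .nil (.node [(74,(.negSucc 0),1)] .nil .nil))) (.node [] .nil (.node [] (.node [] .nil (.node [(154,(.ofNat 1),1)] .nil .nil)) (.node [(83,(.ofNat 1),1)] .nil .nil)))) (.node [] (.node [] .nil (.node [] (.node [] .nil (.node [(139,(.negSucc 0),1)] .nil .nil)) (.node [] .nil (.node [(225,(.negSucc 0),1)] .nil .nil)))) (.node [(17,(.ofNat 1),1)] (.node [] .nil (.node [(61,(.ofNat 1),1)] .nil .nil)) .nil)))) (.node [(84,(.negSucc 0),1)] (.node [] (.node [] (.node [] (.node [] .nil (.node [] .nil (.node [(163,(.negSucc 0),1)] .nil .nil))) .nil) (.node [] .nil (.node [] (.node [] .nil (.node [(152,(.ofNat 1),1)] .nil .nil)) (.node [(81,(.ofNat 1),1)] .nil .nil)))) (.node [] (.node [] .nil (.node [] (.node [] .nil (.node [(0,(.negSucc 0),1),(2,(.negSucc 0),1),(84,(.negSucc 0),2)] .nil .nil)) (.node [] .nil (.node [(223,(.negSucc 0),1)] .nil .nil)))) (.node [] (.node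 [] .nil (.node [(59,(.ofNat 1),1)] .nil .nil)) .nil))) (.node [] (.node [] (.node [] (.node [] .nil (.node [] .nil (.node [(167,(.negSucc 0),1)] .nil .nil))) (.node [] .nil (.node [(76,(.negSucc 0),1)] .nil .nil))) (.node [(15,(.negSucc 0),1)] (.node [] .nil (.node [(55,(.ofNat 1),1)] .nil .nil)) .nil)) (.node [] (.node [] (.node [] (.node [] .nil (.node [(85,(.ofNat 1),1)] .nil .nil)) .nil) (.node [] (.node [] .nil (.node [(141,(.negSucc 0),1)] .nil .nil)) .nil)) (.node [(19,(.ofNat 1),1)] (.node [] .nil (.node [(63,(.ofNat 1),1)] .nil .nil)) .nil))))))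
noncomputable def ex77 : Trie (List (ℕ × ℤ × ℕ)) := (.node [(85,(.ofNat 2),1)] (.node [] (.node [] (.node [] (.node [] (.node [] .nil (.node [] .nil (.node [(74,(.ofNat 1),1)] .nil .nil))) (.node [] .nil (.node [] (.node [] .nil (.node [(148,(.negSucc 0),1)] .nil .nil)) (.node [(84,(.ofNat 1),1)] .nil .nil)))) (.node [] .nil (.node [(17,(.negSucc 0),1)] (.node [] .nil (.node [(66,(.ofNat 1),1)] .nil .nil)) (.node [] (.node [] .nil (.node [(162,(.negSucc 0),1)] .nil .nil)) .nil)))) (.node [] (.node [] (.node [] .nil (.node [] .nil (.node [(78,(.ofNat 1),1)] .nil .nil))) (.node [] .nil (.node [] (.node [] .nil (.node [(158,(.negSucc 0),1)] .nil .nil)) .nil))) (.node [] (.node [] .nil (.node [] (.node [] .nil (.node [(144,(.negSucc 0),1)] .nil .nil)) (.node [(80,(.ofNat 1),1)] .nil (.node [(229,(.ofNat 1),1)] .nil .nil)))) (.node [(21,(.negSucc 0),1)] (.node [] .nil (.node [(70,(.ofNat 1),1)] .nil .nil)) (.node [] (.node [] .nil (.node [(166,(.negSucc 0),1)] .nil .nil)) .nil)))))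 (.node [(85,(.negSucc 0),1)] (.node [] (.node [] (.node [] .nil (.node [] .nil (.node [(76,(.ofNat 1),1)] .nil .nil))) (.node [] .nil (.node [] (.node [] .nil (.node [(156,(.negSucc 0),1)] .nil .nil)) .nil))) (.node [] (.node [] .nil (.node [] (.node [] .nil (.node [(0,(.negSucc 0),1),(85,(.negSucc 0),2)] .nil .nil)) (.node [] .nil (.node [(227,(.ofNat 1),1)] .nil .nil)))) (.node [(19,(.negSucc 0),1)] (.node [] .nil (.node [(68,(.ofNat 1),1)] .nil .nil)) (.node [] (.node [] .nil (.node [(164,(.negSucc 0),1)] .nil .nil)) .nil)))) (.node [] (.node [] .nil (.node [(14,(.negSucc 0),1)] (.node [] .nil (.node [(64,(.ofNat 1),1)] .nil .nil)) (.node [] (.node [] .nil (.node [(160,(.negSucc 0),1)] .nil .nil)) .nil))) (.node [] (.node [] .nil (.node [] (.node [] .nil (.node [(146,(.negSucc 0),1)] .nil .nil)) (.node [(82,(.ofNat 1),1)] .nil (.node [(231,(.ofNat 1),1)] .nil .nil)))) (.node [] (.node [] .nil (.node [(72,(.ofNat 1),1)] .nil .nil)) (.node [] (.node [] .nil (.node [(168,(.negSucc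 0),1)] .nil .nil)) .nil)))))) (.node [] (.node [] (.node [] (.node [] (.node [] .nil (.node [] .nil (.node [(75,(.ofNat 1),1)] .nil .nil))) (.node [] .nil (.node [] (.node [] .nil (.node [(155,(.negSucc 0),1)] .nil .nil)) (.node [] .nil (.node [(233,(.ofNat 1),1)] .nil .nil))))) (.node [] .nil (.node [(18,(.negSucc 0),1)] (.node [] .nil (.node [(67,(.ofNat 1),1)] .nil .nil)) (.node [] (.node [] .nil (.node [(163,(.negSucc 0),1)] .nil .nil)) .nil)))) (.node [] (.node [] .nil (.node [] (.node [] .nil (.node [] .nil .nil)) (.node [] (.node [] .nil (.node [(159,(.negSucc 0),1)] .nil .nil)) .nil))) (.node [] (.node [] .nil (.node [] (.node [] .nil (.node [(145,(.negSucc 0),1)] .nil .nil)) (.node [(81,(.ofNat 1),1)] .nil (.node [(230,(.ofNat 1),1)] .nil .nil)))) (.node [] (.node [] .nil (.node [(71,(.ofNat 1),1)] .nil .nil)) (.node [] (.node [] .nil (.node [(167,(.negSucc 0),1)] .nil .nil)) .nil))))) (.node [] (.node [] (.node [] (.node [] .nil (.node [] .nil (.node [(77,(.ofNat 1),1)]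 .nil .nil))) (.node [] .nil (.node [] (.node [] .nil (.node [(157,(.negSucc 0),1)] .nil .nil)) .nil))) (.node [] (.node [] .nil (.node [] (.node [] .nil (.node [(143,(.negSucc 0),1)] .nil .nil)) (.node [(79,(.ofNat 1),1)] .nil (.node [(228,(.ofNat 1),1)] .nil .nil)))) (.node [(20,(.negSucc 0),1)] (.node [] .nil (.node [(69,(.ofNat 1),1)] .nil .nil)) (.node [] (.node [] .nil (.node [(165,(.negSucc 0),1)] .nil .nil)) .nil)))) (.node [] (.node [] .nil (.node [(16,(.negSucc 0),1)] (.node [] .nil (.node [(65,(.ofNat 1),1)] .nil .nil)) (.node [] (.node [] .nil (.node [(161,(.negSucc 0),1)] .nil .nil)) .nil))) (.node [] (.node [] .nil (.node [] (.node [] .nil (.node [(147,(.negSucc 0),1)] .nil .nil)) (.node [(83,(.ofNat 1),1)] .nil (.node [(232,(.ofNat 1),1)] .nil .nil)))) (.node [] (.node [] .nil (.node [(73,(.ofNat 1),1)] .nil .nil)) (.node [] (.node [] .nil (.node [(169,(.negSucc 0),1)] .nil .nil)) .nil)))))))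
noncomputable def ex78 : Trie (List (ℕ × ℤ × ℕ)) := (.node [(86,(.negSucc 0),1)] (.node [] (.node [] (.node [] (.node [] (.node [] .nil (.node [] .nil (.node [] .nil (.node [(182,(.ofNat 1),1)] .nil .nil)))) .nil) (.node [] (.node [] (.node [] (.node [] .nil (.node [(92,(.ofNat 1),1)] .nil .nil)) (.node [(30,(.negSucc 0),1)] .nil .nil)) (.node [] (.node [] .nil (.node [(126,(.negSucc 0),1)] .nil .nil)) (.node [] .nil (.node [(202,(.ofNat 1),1)] .nil .nil)))) .nil)) (.node [] (.node [] (.node [] (.node [] (.node [] .nil (.node [(89,(.ofNat 1),1)] .nil .nil)) .nil) .nil) (.node [(8,(.ofNat 1),1)] (.node [] (.node [] .nil (.node [(102,(.negSucc 0),1)] .nil .nil)) (.node [(54,(.negSucc 0),1)] .nil .nil)) .nil)) (.node [] (.node [] (.node [] .nil (.node [(34,(.negSucc 0),1)] .nil .nil)) .nil) (.node [] (.node [] .nil (.node [] .nil (.node [(178,(.ofNat 1),1)] .nil .nil))) .nil)))) (.node [] (.node [] (.node [] (.node [] (.node [] (.node [] .nil (.node [(88,(.negSucc 0),1)] .nil .nil))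 .nil) (.node [] (.node [] .nil (.node [(118,(.ofNat 1),1)] .nil .nil)) (.node [] .nil (.node [(186,(.ofNat 1),1)] .nil .nil)))) (.node [] (.node [] .nil (.node [(45,(.negSucc 0),1)] .nil (.node [(173,(.ofNat 1),1)] .nil .nil))) .nil)) (.node [] .nil (.node [] (.node [] (.node [] .nil (.node [(108,(.negSucc 0),1)] .nil .nil)) .nil) .nil))) (.node [(86,(.ofNat 1),1)] (.node [] (.node [] .nil (.node [] (.node [] .nil (.node [(123,(.negSucc 0),1)] .nil .nil)) (.node [] .nil (.node [(193,(.ofNat 1),1)] .nil .nil)))) (.node [] (.node [] .nil (.node [] .nil .nil)) (.node [] .nil (.node [] .nil (.node [(234,(.negSucc 0),1)] .nil .nil))))) (.node [] (.node [] (.node [] (.node [] .nil (.node [(97,(.negSucc 0),1)] .nil .nil)) (.node [(38,(.negSucc 0),1)] .nil .nil)) .nil) (.node [] (.node [] (.node [] .nil (.node [(113,(.ofNat 1),1)] .nil .nil)) .nil) (.node [(25,(.negSucc 0),1)] .nil .nil)))))) (.node [] (.node [] (.node [] (.node [] (.node [] (.node [] (.node [] .nil (.node [(87,(.ofNat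 1),1)] .nil .nil)) .nil) (.node [] .nil (.node [] .nil (.node [(183,(.ofNat 1),1)] .nil .nil)))) (.node [] (.node [] .nil (.node [(44,(.negSucc 0),1)] .nil .nil)) .nil)) (.node [] (.node [] (.node [] (.node [] .nil (.node [(93,(.negSucc 0),1)] .nil .nil)) (.node [(31,(.negSucc 0),1)] .nil (.node [(171,(.ofNat 1),1)] .nil .nil))) (.node [] (.node [] .nil (.node [(1,(.negSucc 0),1),(2,(.negSucc 0),1),(3,(.negSucc 1),1),(4,(.negSucc 1),1),(5,(.negSucc 1),1),(6,(.negSucc 1),1),(7,(.negSucc 0),1),(86,(.negSucc 0),2)] .nil .nil)) (.node [] .nil (.node [(212,(.ofNat 1),1)] .nil .nil)))) (.node [] (.node [] (.node [] .nil (.node [(107,(.ofNat 1),1)] .nil .nil)) (.node [] .nil (.node [(177,(.ofNat 1),1)] .nil .nil))) .nil))) (.node [] (.node [] (.node [] (.node [] (.node [] .nil (.node [(90,(.negSucc 0),1)] .nil .nil)) (.node [(29,(.negSucc 0),1)] .nil .nil)) (.node [] (.node [] .nil (.node [(122,(.ofNat 1),1)] .nil .nil)) (.node [] .nil (.node [(192,(.ofNat 1),1)] .nil .nil)))) (.node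 [(9,(.ofNat 1),1)] (.node [] .nil (.node [(64,(.negSucc 0),1)] .nil .nil)) (.node [(23,(.negSucc 0),1)] .nil .nil))) (.node [] (.node [] (.node [] (.node [] .nil (.node [(96,(.ofNat 1),1)] .nil .nil)) (.node [(35,(.negSucc 0),1)] .nil .nil)) .nil) (.node [] (.node [] .nil (.node [] .nil (.node [(179,(.ofNat 1),1)] .nil .nil))) .nil)))) (.node [] (.node [] (.node [] (.node [] .nil (.node [] (.node [] .nil (.node [(119,(.negSucc 0),1)] .nil .nil)) .nil)) (.node [] (.node [] (.node [] .nil (.node [(101,(.ofNat 1),1)] .nil .nil)) (.node [(48,(.negSucc 0),1)] .nil (.node [(174,(.ofNat 1),1)] .nil .nil))) .nil)) (.node [] (.node [] .nil (.node [(22,(.negSucc 0),1)] .nil .nil)) (.node [] .nil (.node [(24,(.negSucc 0),1)] .nil .nil)))) (.node [] (.node [] (.node [] .nil (.node [] (.node [] .nil (.node [(125,(.ofNat 1),1)] .nil .nil)) (.node [] .nil (.node [(196,(.ofNat 1),1)] .nil .nil)))) (.node [] .nil (.node [] .nil (.node [] .nil (.node [(235,(.negSucc 0),1)] .nil .nil))))) (.node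 [] (.node [] (.node [] .nil (.node [] .nil (.node [(172,(.ofNat 1),1)] .nil .nil))) .nil) (.node [] (.node [] (.node [] .nil (.node [(114,(.negSucc 0),1)] .nil .nil)) .nil) (.node [(26,(.negSucc 0),1)] (.node [] .nil (.node [(170,(.ofNat 1),1)] .nil .nil)) .nil)))))))
noncomputable def ex79 : Trie (List (ℕ × ℤ × ℕ)) := (.node [(87,(.negSucc 0),1)] (.node [] (.node [] (.node [] (.node [] (.node [] (.node [] (.node [] .nil (.node [(88,(.ofNat 1),1)] .nil .nil)) .nil) .nil) (.node [] (.node [] .nil (.node [(44,(.ofNat 1),1)] .nil .nil)) .nil)) (.node [] (.node [] (.node [] .nil (.node [] .nil (.node [(171,(.ofNat 1),1)] .nil .nil))) (.node [] (.node [] .nil (.node [(1,(.negSucc 0),1),(2,(.negSucc 0),1),(3,(.negSucc 1),1),(4,(.negSucc 1),1),(5,(.negSucc 1),1),(6,(.negSucc 0),1),(7,(.negSucc 0),1),(87,(.negSucc 0),2)] .nil .nil)) (.node [] .nil (.node [(203,(.negSucc 0),1)] .nil .nil)))) (.node [] (.node [] (.node [] .nil (.node [(107,(.ofNat 1),1)] .nil .nil)) (.node [] .nil (.node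 [(177,(.ofNat 1),1)] .nil .nil))) .nil))) (.node [] (.node [] (.node [] (.node [] .nil (.node [(29,(.ofNat 1),1)] .nil .nil)) (.node [] (.node [] .nil (.node [(122,(.ofNat 1),1)] .nil .nil)) (.node [] .nil (.node [(192,(.ofNat 1),1)] .nil .nil)))) (.node [] (.node [] (.node [] .nil (.node [(103,(.negSucc 0),1)] .nil .nil)) (.node [(55,(.negSucc 0),1)] .nil .nil)) (.node [(23,(.ofNat 1),1)] .nil .nil))) (.node [] (.node [] (.node [] (.node [] .nil (.node [(96,(.ofNat 1),1)] .nil .nil)) .nil) .nil) .nil))) (.node [] (.node [] (.node [] (.node [] .nil (.node [] .nil (.node [] .nil (.node [(187,(.negSucc 0),1)] .nil .nil)))) (.node [] (.node [] (.node [] .nil (.node [(101,(.ofNat 1),1)] .nil .nil)) (.node [(46,(.negSucc 0),1)] .nil .nil)) .nil)) (.node [] (.node [] .nil (.node [(22,(.ofNat 1),1)] .nil .nil)) (.node [] (.node [] (.node [] .nil (.node [(109,(.negSucc 0),1)] .nil .nil)) .nil) (.node [(24,(.ofNat 1),1)] .nil .nil)))) (.node [(87,(.negSucc 0),1)] (.node [] (.node [] .nil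 (.node [] (.node [] .nil (.node [(124,(.negSucc 0),1)] .nil .nil)) (.node [] .nil (.node [(194,(.negSucc 0),1)] .nil .nil)))) .nil) (.node [] (.node [] (.node [] (.node [] .nil (.node [(98,(.negSucc 0),1)] .nil .nil)) (.node [(39,(.negSucc 0),1)] .nil (.node [(172,(.ofNat 1),1)] .nil .nil))) .nil) (.node [] .nil (.node [] (.node [] .nil (.node [(170,(.ofNat 1),1)] .nil .nil)) (.node [(86,(.ofNat 1),1)] .nil .nil))))))) (.node [] (.node [] (.node [] (.node [] (.node [] .nil (.node [] (.node [] .nil (.node [(118,(.ofNat 1),1)] .nil .nil)) (.node [] .nil (.node [(184,(.negSucc 0),1)] .nil .nil)))) (.node [] (.node [] .nil (.node [] .nil (.node [(173,(.ofNat 1),1)] .nil .nil))) .nil)) (.node [] (.node [] (.node [] (.node [] .nil (.node [(94,(.negSucc 0),1)] .nil .nil)) (.node [(32,(.negSucc 0),1)] .nil .nil)) (.node [] (.node [] .nil (.node [(129,(.negSucc 0),1)] .nil .nil)) (.node [] .nil (.node [(213,(.negSucc 0),1)] .nil .nil)))) .nil)) (.node [(87,(.ofNat 1),1)] (.node [] (.node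 [] (.node [] (.node [] .nil (.node [(91,(.negSucc 0),1)] .nil .nil)) .nil) .nil) (.node [(10,(.ofNat 1),1)] (.node [] .nil (.node [(65,(.negSucc 0),1)] .nil .nil)) (.node [] .nil (.node [] .nil (.node [(234,(.negSucc 0),1)] .nil .nil))))) (.node [] (.node [] (.node [] .nil (.node [(36,(.negSucc 0),1)] .nil .nil)) .nil) (.node [] (.node [] (.node [] .nil (.node [(113,(.ofNat 1),1)] .nil .nil)) (.node [] .nil (.node [(180,(.negSucc 0),1)] .nil .nil))) (.node [(25,(.ofNat 1),1)] .nil .nil))))) (.node [] (.node [] (.node [] (.node [] (.node [] (.node [] .nil (.node [(89,(.ofNat 1),1)] .nil .nil)) .nil) (.node [] (.node [] .nil (.node [(120,(.negSucc 0),1)] .nil .nil)) .nil)) (.node [(8,(.negSucc 0),1)] (.node [] .nil (.node [(49,(.negSucc 0),1)] .nil (.node [(175,(.negSucc 0),1)] .nil .nil))) .nil)) (.node [] (.node [] (.node [] .nil (.node [(34,(.ofNat 1),1)] .nil .nil)) .nil) (.node [] (.node [] .nil (.node [] .nil (.node [(178,(.ofNat 1),1)] .nil .nil))) .nil))) (.node [(87,(.ofNat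 1),1)] (.node [] (.node [] (.node [] (.node [] .nil (.node [(92,(.ofNat 1),1)] .nil .nil)) (.node [(30,(.ofNat 1),1)] .nil .nil)) (.node [] (.node [] .nil (.node [(127,(.negSucc 0),1)] .nil .nil)) (.node [] .nil (.node [(197,(.negSucc 0),1)] .nil .nil)))) (.node [] (.node [] .nil (.node [] .nil .nil)) (.node [] .nil (.node [] .nil (.node [(236,(.ofNat 1),1)] .nil .nil))))) (.node [] .nil (.node [] (.node [] (.node [] .nil (.node [(115,(.negSucc 0),1)] .nil .nil)) (.node [] .nil (.node [(182,(.ofNat 1),1)] .nil .nil))) (.node [(27,(.negSucc 0),1)] .nil .nil)))))))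
noncomputable def ex80 : Trie (List (ℕ × ℤ × ℕ)) := (.node [(88,(.negSucc 0),1)] (.node [] (.node [] (.node [] (.node [] .nil (.node [] (.node [] .nil (.node [] .nil (.node [(173,(.ofNat 1),1)] .nil .nil))) .nil)) (.node [] (.node [] (.node [] (.node [] .nil (.node [(94,(.negSucc 0),1)] .nil .nil)) .nil) (.node [] (.node [] .nil (.node [(128,(.negSucc 0),1)] .nil .nil)) (.node [] .nil (.node [(204,(.ofNat 1),1)] .nil .nil)))) (.node [] (.node [] (.node [] .nil (.node [(108,(.ofNat 1),1)] .nil .nil)) (.node [] .nil .nil)) .nil))) (.node [] (.node [] (.node [] (.node [] (.node [] .nil (.node [(91,(.negSucc 0),1)] .nil .nil)) .nil) (.node [] (.node [] .nil (.node [(123,(.ofNat 1),1)] .nil .nil)) .nil)) (.node [(10,(.negSucc 0),1)] (.node [] .nil (.node [(56,(.negSucc 0),1)] .nil .nil)) .nil)) (.node [] (.node [] (.node [] (.node [] .nil (.node [(97,(.ofNat 1),1)] .nil .nil)) .nil) .nil) (.node [] .nil (.node [(25,(.negSucc 0),1)] .nil .nil))))) (.node [] (.node [] (.node [] (.node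 [] .nil (.node [] (.node [] .nil (.node [(120,(.negSucc 0),1)] .nil .nil)) (.node [] .nil (.node [(188,(.ofNat 1),1)] .nil .nil)))) (.node [] (.node [] (.node [] .nil (.node [(102,(.ofNat 1),1)] .nil .nil)) (.node [(47,(.negSucc 0),1)] .nil .nil)) .nil)) (.node [] (.node [] (.node [] .nil (.node [(34,(.negSucc 0),1)] .nil .nil)) .nil) (.node [] (.node [] .nil (.node [] .nil (.node [(178,(.ofNat 1),1)] .nil .nil))) .nil))) (.node [] (.node [] (.node [] (.node [] .nil (.node [(30,(.negSucc 0),1)] .nil .nil)) (.node [] .nil (.node [] .nil (.node [(195,(.ofNat 1),1)] .nil .nil)))) (.node [] .nil (.node [] .nil (.node [] .nil (.node [(236,(.ofNat 1),1)] .nil .nil))))) (.node [] (.node [] (.node [] .nil (.node [(40,(.negSucc 0),1)] .nil .nil)) .nil) (.node [] (.node [] (.node [] .nil (.node [(115,(.negSucc 0),1)] .nil .nil)) (.node [] .nil (.node [(182,(.ofNat 1),1)] .nil .nil))) .nil))))) (.node [] (.node [] (.node [] (.node [] (.node [] .nil (.node [] (.node [] .nil (.node [(119,(.ofNat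 1),1)] .nil .nil)) (.node [] .nil (.node [(185,(.ofNat 1),1)] .nil .nil)))) .nil) (.node [] (.node [] (.node [] .nil (.node [(33,(.negSucc 0),1)] .nil .nil)) (.node [(22,(.negSucc 0),1)] (.node [] .nil (.node [(130,(.ofNat 1),1)] .nil .nil)) (.node [] .nil (.node [(214,(.ofNat 1),1)] .nil .nil)))) (.node [] (.node [] (.node [] .nil (.node [(109,(.negSucc 0),1)] .nil .nil)) .nil) (.node [(24,(.negSucc 0),1)] .nil .nil)))) (.node [(88,(.ofNat 1),1)] (.node [] (.node [] .nil (.node [] (.node [] .nil (.node [(124,(.negSucc 0),1)] .nil .nil)) .nil)) (.node [] (.node [] .nil (.node [(66,(.negSucc 0),1)] .nil .nil)) (.node [] .nil (.node [] .nil (.node [(235,(.ofNat 1),1)] .nil .nil))))) (.node [] (.node [] (.node [] (.node [] .nil (.node [(98,(.negSucc 0),1)] .nil .nil)) (.node [(37,(.negSucc 0),1)] .nil (.node [(172,(.ofNat 1),1)] .nil .nil))) .nil) (.node [] (.node [] (.node [] .nil (.node [(114,(.ofNat 1),1)] .nil .nil)) (.node [] .nil (.node [(181,(.ofNat 1),1)] .nil .nil))) (.node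 [] (.node [] .nil (.node [(170,(.ofNat 1),1)] .nil .nil)) (.node [(86,(.negSucc 0),1)] .nil .nil)))))) (.node [] (.node [] (.node [] (.node [] (.node [] (.node [] .nil (.node [(90,(.ofNat 1),1)] .nil .nil)) (.node [(29,(.negSucc 0),1)] .nil .nil)) (.node [] .nil (.node [] .nil (.node [(192,(.ofNat 1),1)] .nil .nil)))) (.node [(9,(.negSucc 0),1)] (.node [] (.node [] .nil (.node [(103,(.negSucc 0),1)] .nil .nil)) (.node [(50,(.negSucc 0),1)] .nil (.node [(176,(.ofNat 1),1)] .nil .nil))) (.node [(23,(.negSucc 0),1)] .nil .nil))) .nil) (.node [(88,(.negSucc 0),1)] (.node [] (.node [] (.node [] (.node [] .nil (.node [(93,(.ofNat 1),1)] .nil .nil)) (.node [] .nil (.node [(171,(.ofNat 1),1)] .nil .nil))) (.node [] (.node [] .nil (.node [(1,(.negSucc 0),1),(2,(.negSucc 0),1),(3,(.negSucc 1),1),(4,(.negSucc 1),1),(5,(.negSucc 1),1),(6,(.negSucc 0),1),(88,(.negSucc 0),2)] .nil .nil)) (.node [] .nil (.node [(198,(.ofNat 1),1)] .nil .nil)))) (.node [] (.node [] .nil (.node [] .nil (.node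 [(177,(.ofNat 1),1)] .nil .nil))) .nil)) (.node [] (.node [] (.node [] .nil (.node [(44,(.negSucc 0),1)] .nil .nil)) .nil) (.node [] .nil (.node [(28,(.negSucc 0),1)] .nil (.node [(87,(.ofNat 1),1)] .nil .nil))))))))
noncomputable def ex81 : Trie (List (ℕ × ℤ × ℕ)) := (.node [(89,(.negSucc 0),1)] (.node [] (.node [] (.node [] (.node [] (.node [] (.node [] (.node [] .nil (.node [(90,(.ofNat 1),1)] .nil .nil)) .nil) (.node [] (.node [] .nil (.node [(118,(.ofNat 1),1)] .nil .nil)) (.node [] .nil (.node [(184,(.negSucc 0),1)] .nil .nil)))) (.node [] (.node [] .nil (.node [(45,(.ofNat 1),1)] .nil .nil)) .nil)) (.node [] (.node [] (.node [] .nil (.node [(32,(.ofNat 1),1)] .nil .nil)) (.node [(22,(.negSucc 0),1)] (.node [] .nil (.node [(131,(.negSucc 0),1)] .nil .nil)) (.node [] .nil (.node [(205,(.ofNat 1),1)] .nil .nil)))) (.node [] .nil (.node [(24,(.negSucc 0),1)] .nil .nil)))) (.node [(89,(.ofNat 1),1)] (.node [] (.node [] .nil (.node [] (.node [] .nil (.node [(125,(.negSucc 0),1)]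 .nil .nil)) (.node [] .nil (.node [(193,(.negSucc 0),1)] .nil .nil)))) (.node [] (.node [] (.node [] .nil (.node [(104,(.negSucc 0),1)] .nil .nil)) (.node [(57,(.negSucc 0),1)] .nil .nil)) (.node [] .nil (.node [] .nil (.node [(234,(.negSucc 0),1)] .nil .nil))))) (.node [] (.node [] (.node [] .nil (.node [(36,(.ofNat 1),1)] .nil (.node [(172,(.ofNat 1),1)] .nil .nil))) .nil) (.node [] (.node [] (.node [] .nil (.node [(113,(.ofNat 1),1)] .nil .nil)) (.node [] .nil (.node [(180,(.negSucc 0),1)] .nil .nil))) (.node [] (.node [] .nil (.node [(170,(.ofNat 1),1)] .nil .nil)) (.node [(87,(.ofNat 1),1)] .nil .nil)))))) (.node [] (.node [] (.node [] (.node [] (.node [] (.node [] .nil (.node [(91,(.ofNat 1),1)] .nil .nil)) (.node [(29,(.negSucc 0),1)] .nil .nil)) (.node [] .nil (.node [] .nil (.node [(189,(.ofNat 1),1)] .nil .nil)))) (.node [(8,(.ofNat 1),1)] (.node [] .nil (.node [] .nil (.node [(175,(.negSucc 0),1)] .nil .nil))) (.node [(23,(.negSucc 0),1)] .nil .nil))) (.node [] .nil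 (.node [] (.node [] (.node [] .nil (.node [(110,(.negSucc 0),1)] .nil .nil)) .nil) .nil))) (.node [] (.node [] (.node [] (.node [] (.node [] .nil (.node [(92,(.ofNat 1),1)] .nil .nil)) (.node [] .nil (.node [(171,(.ofNat 1),1)] .nil .nil))) (.node [] (.node [] .nil (.node [(1,(.negSucc 0),1),(2,(.negSucc 0),1),(3,(.negSucc 1),1),(4,(.negSucc 1),1),(5,(.negSucc 0),1),(6,(.negSucc 0),1),(7,(.negSucc 0),1),(89,(.negSucc 0),2)] .nil .nil)) .nil)) (.node [] (.node [] .nil (.node [] .nil (.node [(177,(.ofNat 1),1)] .nil .nil))) .nil)) (.node [] (.node [] (.node [] (.node [] .nil (.node [(99,(.negSucc 0),1)] .nil .nil)) (.node [(41,(.negSucc 0),1)] .nil .nil)) .nil) (.node [] .nil (.node [(27,(.ofNat 1),1)] .nil .nil)))))) (.node [] (.node [] (.node [] (.node [] .nil (.node [] (.node [] (.node [] .nil (.node [(101,(.ofNat 1),1)] .nil .nil)) (.node [(46,(.ofNat 1),1)] .nil (.node [(174,(.negSucc 0),1)] .nil .nil))) .nil)) (.node [] (.node [] (.node [] (.node [] .nil (.node [(95,(.negSucc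 0),1)] .nil .nil)) .nil) (.node [] (.node [] .nil (.node [(132,(.negSucc 0),1)] .nil .nil)) (.node [] .nil (.node [(215,(.ofNat 1),1)] .nil .nil)))) (.node [] (.node [] .nil (.node [] .nil .nil)) .nil))) (.node [(89,(.negSucc 0),1)] (.node [] (.node [] .nil (.node [] (.node [] .nil (.node [(127,(.negSucc 0),1)] .nil .nil)) (.node [] .nil (.node [(194,(.negSucc 0),1)] .nil .nil)))) (.node [(11,(.ofNat 1),1)] (.node [] .nil (.node [(67,(.negSucc 0),1)] .nil .nil)) .nil)) (.node [] .nil (.node [] .nil (.node [(26,(.ofNat 1),1)] .nil .nil))))) (.node [] (.node [] (.node [] (.node [] .nil (.node [] (.node [] .nil (.node [(121,(.negSucc 0),1)] .nil .nil)) .nil)) (.node [] (.node [] .nil (.node [(51,(.negSucc 0),1)] .nil .nil)) .nil)) (.node [] (.node [] (.node [] (.node [] .nil (.node [(96,(.ofNat 1),1)] .nil .nil)) (.node [(35,(.ofNat 1),1)] .nil .nil)) .nil) (.node [] (.node [] .nil (.node [] .nil (.node [(179,(.negSucc 0),1)] .nil .nil))) (.node [] .nil (.node [(86,(.ofNat 1),1)]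 .nil .nil))))) (.node [(89,(.ofNat 1),1)] (.node [] (.node [] (.node [] .nil (.node [(31,(.ofNat 1),1)] .nil .nil)) (.node [] .nil (.node [] .nil (.node [(199,(.ofNat 1),1)] .nil .nil)))) (.node [] (.node [] (.node [] .nil (.node [(107,(.ofNat 1),1)] .nil .nil)) .nil) (.node [] .nil (.node [] .nil (.node [(237,(.negSucc 0),1)] .nil .nil))))) (.node [] .nil (.node [] (.node [] (.node [] .nil (.node [(116,(.negSucc 0),1)] .nil .nil)) (.node [] .nil (.node [(183,(.negSucc 0),1)] .nil .nil))) .nil))))))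
noncomputable def ex82 : Trie (List (ℕ × ℤ × ℕ)) := (.node [(90,(.negSucc 0),1)] (.node [] (.node [] (.node [] (.node [] (.node [] .nil (.node [] (.node [] .nil (.node [(119,(.ofNat 1),1)] .nil .nil)) (.node [] .nil (.node [(185,(.ofNat 1),1)] .nil .nil)))) (.node [] (.node [] .nil (.node [] .nil (.node [(174,(.negSucc 0),1)] .nil .nil))) .nil)) (.node [] (.node [] (.node [] (.node [] .nil (.node [(95,(.negSucc 0),1)] .nil .nil)) (.node [(33,(.ofNat 1),1)] .nil .nil)) (.node [] .nil (.node [] .nil (.node [(206,(.negSucc 0),1)] .nil .nil)))) .nil)) (.node [(90,(.ofNat 1),1)] (.node [] (.node [] .nil (.node [] (.node [] .nil (.node [(126,(.negSucc 0),1)] .nil .nil)) .nil)) (.node [(11,(.negSucc 0),1)] (.node [] .nil (.node [(58,(.negSucc 0),1)] .nil .nil)) (.node [] .nil (.node [] .nil (.node [(235,(.ofNat 1),1)] .nil .nil))))) (.node [] (.node [] (.node [] .nil (.node [(37,(.ofNat 1),1)] .nil .nil)) .nil) (.node [] (.node [] (.node [] .nil (.node [(114,(.ofNat 1),1)] .nil .nil))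 (.node [] .nil (.node [(181,(.ofNat 1),1)] .nil .nil))) (.node [(26,(.negSucc 0),1)] .nil (.node [(88,(.ofNat 1),1)] .nil .nil)))))) (.node [] (.node [] (.node [] (.node [] .nil (.node [] (.node [] .nil (.node [(121,(.negSucc 0),1)] .nil .nil)) (.node [] .nil (.node [(190,(.negSucc 0),1)] .nil .nil)))) (.node [(9,(.ofNat 1),1)] (.node [] .nil (.node [] .nil (.node [(176,(.ofNat 1),1)] .nil .nil))) .nil)) (.node [] (.node [] (.node [] .nil (.node [(35,(.negSucc 0),1)] .nil .nil)) .nil) (.node [] (.node [] .nil (.node [] .nil (.node [(179,(.negSucc 0),1)] .nil .nil))) (.node [] .nil (.node [(86,(.negSucc 0),1)] .nil .nil))))) (.node [(90,(.ofNat 1),1)] (.node [] (.node [] (.node [] (.node [] .nil (.node [(93,(.ofNat 1),1)] .nil .nil)) (.node [(31,(.negSucc 0),1)] .nil .nil)) (.node [] (.node [] .nil (.node [(128,(.negSucc 0),1)] .nil .nil)) .nil)) (.node [] .nil (.node [] .nil (.node [] .nil (.node [(237,(.negSucc 0),1)] .nil .nil))))) (.node [] (.node [] (.node [] .nil (.node [(42,(.negSucc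 0),1)] .nil .nil)) .nil) (.node [] (.node [] (.node [] .nil (.node [(116,(.negSucc 0),1)] .nil .nil)) (.node [] .nil (.node [(183,(.negSucc 0),1)] .nil .nil))) (.node [(28,(.ofNat 1),1)] .nil .nil)))))) (.node [] (.node [] (.node [] (.node [] (.node [] (.node [] (.node [] .nil (.node [(91,(.ofNat 1),1)] .nil .nil)) (.node [(29,(.ofNat 1),1)] .nil .nil)) .nil) (.node [] (.node [] (.node [] .nil (.node [(102,(.ofNat 1),1)] .nil .nil)) (.node [(47,(.ofNat 1),1)] .nil .nil)) (.node [(23,(.ofNat 1),1)] .nil .nil))) (.node [] (.node [] .nil (.node [] (.node [] .nil (.node [(133,(.ofNat 1),1)] .nil .nil)) (.node [] .nil (.node [(216,(.negSucc 0),1)] .nil .nil)))) (.node [] (.node [] (.node [] .nil (.node [(110,(.negSucc 0),1)] .nil .nil)) .nil) .nil))) (.node [(90,(.negSucc 0),1)] (.node [] (.node [] (.node [] .nil (.node [] .nil (.node [(171,(.ofNat 1),1)] .nil .nil))) (.node [] (.node [] .nil (.node [(1,(.negSucc 0),1),(2,(.negSucc 0),1),(3,(.negSucc 1),1),(4,(.negSucc 1),1),(5,(.negSucc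 0),1),(6,(.negSucc 0),1),(90,(.negSucc 0),2)] .nil .nil)) (.node [] .nil (.node [(195,(.ofNat 1),1)] .nil .nil)))) (.node [] (.node [] .nil (.node [(68,(.negSucc 0),1)] .nil (.node [(177,(.ofNat 1),1)] .nil .nil))) .nil)) (.node [] (.node [] (.node [] (.node [] .nil (.node [(99,(.negSucc 0),1)] .nil .nil)) .nil) .nil) .nil))) (.node [] (.node [] (.node [] (.node [] .nil (.node [] .nil (.node [] .nil (.node [(193,(.negSucc 0),1)] .nil .nil)))) (.node [] (.node [] (.node [] .nil (.node [(104,(.negSucc 0),1)] .nil .nil)) (.node [(52,(.negSucc 0),1)] .nil .nil)) .nil)) (.node [] (.node [] (.node [] (.node [] .nil (.node [(97,(.ofNat 1),1)] .nil .nil)) (.node [] .nil (.node [(172,(.ofNat 1),1)] .nil .nil))) .nil) (.node [] .nil (.node [] (.node [] .nil (.node [(170,(.ofNat 1),1)] .nil .nil)) .nil)))) (.node [(90,(.negSucc 0),1)] (.node [] (.node [] .nil (.node [(22,(.ofNat 1),1)] (.node [] .nil (.node [(131,(.negSucc 0),1)] .nil .nil)) (.node [] .nil (.node [(200,(.negSucc 0),1)] .nil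 .nil)))) (.node [] (.node [] (.node [] .nil (.node [(108,(.ofNat 1),1)] .nil .nil)) .nil) (.node [(24,(.ofNat 1),1)] .nil .nil))) (.node [] (.node [] (.node [] .nil (.node [(45,(.negSucc 0),1)] .nil .nil)) .nil) (.node [] .nil (.node [] .nil (.node [(89,(.ofNat 1),1)] .nil .nil))))))))
noncomputable def ex83 : Trie (List (ℕ × ℤ × ℕ)) := (.node [(91,(.negSucc 0),1)] (.node [] (.node [] (.node [] (.node [] (.node [] (.node [] .nil (.node [(29,(.negSucc 0),1)] .nil .nil)) (.node [] (.node [] .nil (.node [(120,(.ofNat 1),1)] .nil .nil)) .nil)) (.node [] (.node [] .nil (.node [(47,(.negSucc 0),1)] .nil (.node [(175,(.ofNat 1),1)] .nil .nil))) (.node [(23,(.negSucc 0),1)] .nil .nil))) (.node [] (.node [] .nil (.node [] (.node [] .nil (.node [(133,(.ofNat 1),1)] .nil .nil)) (.node [] .nil (.node [(207,(.ofNat 1),1)] .nil .nil)))) (.node [] (.node [] (.node [] .nil (.node [(110,(.negSucc 0),1)] .nil .nil)) .nil) .nil))) (.node [(91,(.ofNat 1),1)] (.node [] (.node [] (.node [] .nil (.node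 [] .nil (.node [(171,(.ofNat 1),1)] .nil .nil))) (.node [] (.node [] .nil (.node [(1,(.negSucc 0),1),(2,(.negSucc 0),1),(3,(.negSucc 1),1),(4,(.negSucc 1),1),(5,(.negSucc 0),1),(91,(.negSucc 0),2)] .nil .nil)) (.node [] .nil (.node [(195,(.ofNat 1),1)] .nil .nil)))) (.node [] (.node [] .nil (.node [(59,(.negSucc 0),1)] .nil (.node [(177,(.ofNat 1),1)] .nil .nil))) (.node [] .nil (.node [] .nil (.node [(236,(.negSucc 0),1)] .nil .nil))))) (.node [] (.node [] (.node [] (.node [] .nil (.node [(99,(.negSucc 0),1)] .nil .nil)) .nil) .nil) (.node [] (.node [] (.node [] .nil (.node [(115,(.ofNat 1),1)] .nil .nil)) .nil) (.node [(27,(.negSucc 0),1)] .nil .nil))))) (.node [] (.node [] (.node [] (.node [] .nil (.node [] .nil (.node [] .nil (.node [(191,(.ofNat 1),1)] .nil .nil)))) (.node [(10,(.ofNat 1),1)] (.node [] (.node [] .nil (.node [(104,(.negSucc 0),1)] .nil .nil)) .nil) .nil)) (.node [] (.node [] (.node [] .nil (.node [(36,(.negSucc 0),1)] .nil (.node [(172,(.ofNat 1),1)] .nil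 .nil))) .nil) (.node [] (.node [] .nil (.node [] .nil (.node [(180,(.ofNat 1),1)] .nil .nil))) (.node [] (.node [] .nil (.node [(170,(.ofNat 1),1)] .nil .nil)) (.node [(87,(.negSucc 0),1)] .nil .nil))))) (.node [(91,(.negSucc 0),1)] (.node [] (.node [] (.node [] (.node [] .nil (.node [(94,(.ofNat 1),1)] .nil .nil)) (.node [(32,(.negSucc 0),1)] .nil .nil)) (.node [(22,(.negSucc 0),1)] (.node [] .nil (.node [(130,(.negSucc 0),1)] .nil .nil)) .nil)) (.node [] .nil (.node [(24,(.negSucc 0),1)] .nil .nil))) (.node [] (.node [] (.node [] .nil (.node [(43,(.negSucc 0),1)] .nil .nil)) .nil) (.node [] (.node [] .nil (.node [] .nil (.node [(184,(.ofNat 1),1)] .nil .nil))) (.node [] .nil (.node [(90,(.ofNat 1),1)] .nil .nil))))))) (.node [] (.node [] (.node [] (.node [] (.node [] .nil (.node [] (.node [] .nil (.node [(121,(.negSucc 0),1)] .nil .nil)) .nil)) (.node [] (.node [] (.node [] .nil (.node [(103,(.ofNat 1),1)] .nil .nil)) (.node [] .nil (.node [(176,(.ofNat 1),1)] .nil .nil))) .nil))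 (.node [] (.node [] .nil (.node [] .nil (.node [] .nil (.node [(217,(.ofNat 1),1)] .nil .nil)))) .nil)) (.node [] (.node [] (.node [] .nil (.node [] (.node [] .nil (.node [(129,(.negSucc 0),1)] .nil .nil)) .nil)) (.node [] (.node [] .nil (.node [(69,(.negSucc 0),1)] .nil .nil)) (.node [] .nil (.node [] .nil (.node [(237,(.negSucc 0),1)] .nil .nil))))) (.node [] .nil (.node [] (.node [] (.node [] .nil (.node [(116,(.negSucc 0),1)] .nil .nil)) .nil) (.node [(28,(.negSucc 0),1)] .nil (.node [(89,(.ofNat 1),1)] .nil .nil)))))) (.node [] (.node [] (.node [] (.node [] .nil (.node [] .nil (.node [] .nil (.node [(194,(.ofNat 1),1)] .nil .nil)))) (.node [(11,(.ofNat 1),1)] (.node [] .nil (.node [(53,(.negSucc 0),1)] .nil .nil)) .nil)) (.node [] (.node [] (.node [] (.node [] .nil (.node [(98,(.ofNat 1),1)] .nil .nil)) (.node [(37,(.negSucc 0),1)] .nil .nil)) .nil) (.node [] (.node [] .nil (.node [] .nil (.node [(181,(.ofNat 1),1)] .nil .nil))) (.node [] .nil (.node [(88,(.negSucc 0),1)]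 .nil .nil))))) (.node [] (.node [] (.node [] (.node [] (.node [] .nil (.node [(95,(.negSucc 0),1)] .nil .nil)) (.node [(33,(.negSucc 0),1)] .nil .nil)) (.node [] (.node [] .nil (.node [(132,(.ofNat 1),1)] .nil .nil)) (.node [] .nil (.node [(201,(.ofNat 1),1)] .nil .nil)))) (.node [] (.node [] (.node [] .nil (.node [(109,(.ofNat 1),1)] .nil .nil)) .nil) .nil)) (.node [] (.node [] (.node [] .nil (.node [(46,(.negSucc 0),1)] .nil .nil)) .nil) (.node [] (.node [] .nil (.node [] .nil (.node [(185,(.ofNat 1),1)] .nil .nil))) .nil))))))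
noncomputable def ex84 : Trie (List (ℕ × ℤ × ℕ)) := (.node [(92,(.negSucc 0),1)] (.node [] (.node [] (.node [] (.node [] (.node [] (.node [] (.node [] .nil (.node [(93,(.ofNat 1),1)] .nil .nil)) .nil) (.node [] (.node [] .nil (.node [(122,(.negSucc 0),1)] .nil .nil)) (.node [] .nil (.node [(187,(.ofNat 1),1)] .nil .nil)))) (.node [] (.node [] (.node [] .nil (.node [(101,(.ofNat 1),1)] .nil .nil)) (.node [(48,(.ofNat 1),1)] .nil .nil)) .nil)) (.node [] (.node [] .nil (.node [] (.node [] .nil (.node [(135,(.negSucc 0),1)] .nil .nil)) (.node [] .nil (.node [(208,(.negSucc 0),1)] .nil .nil)))) (.node [] (.node [] .nil (.node [] .nil (.node [(179,(.negSucc 0),1)] .nil .nil))) (.node [(25,(.negSucc 0),1)] .nil (.node [(87,(.ofNat 1),1)] .nil .nil))))) (.node [(92,(.negSucc 0),1)] (.node [] (.node [] (.node [] .nil (.node [(31,(.negSucc 0),1)] .nil .nil)) (.node [] .nil (.node [] .nil (.node [(196,(.ofNat 1),1)] .nil .nil)))) (.node [] (.node [] (.node [] .nil (.node [(105,(.negSucc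 0),1)] .nil .nil)) (.node [(60,(.negSucc 0),1)] .nil .nil)) .nil)) (.node [] (.node [] (.node [] .nil (.node [(39,(.ofNat 1),1)] .nil (.node [(173,(.negSucc 0),1)] .nil .nil))) .nil) (.node [] (.node [] .nil (.node [] .nil .nil)) .nil)))) (.node [] (.node [] (.node [] (.node [] (.node [] (.node [] .nil (.node [(94,(.ofNat 1),1)] .nil .nil)) (.node [(30,(.negSucc 0),1)] .nil .nil)) (.node [] (.node [] .nil (.node [(127,(.negSucc 0),1)] .nil .nil)) .nil)) (.node [] (.node [] .nil (.node [(51,(.ofNat 1),1)] .nil .nil)) .nil)) (.node [] (.node [] (.node [] (.node [] .nil (.node [(96,(.ofNat 1),1)] .nil .nil)) .nil) .nil) (.node [] (.node [] (.node [] .nil (.node [(111,(.negSucc 0),1)] .nil .nil)) .nil) (.node [(26,(.negSucc 0),1)] .nil .nil)))) (.node [] (.node [] (.node [] .nil (.node [] (.node [] .nil (.node [(134,(.negSucc 0),1)] .nil .nil)) (.node [] .nil (.node [(199,(.ofNat 1),1)] .nil .nil)))) (.node [] (.node [] (.node [] .nil (.node [(107,(.ofNat 1),1)] .nil .nil)) (.node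 [] .nil (.node [(178,(.negSucc 0),1)] .nil .nil))) .nil)) (.node [] (.node [] (.node [] (.node [] .nil (.node [(100,(.negSucc 0),1)] .nil .nil)) (.node [] .nil (.node [(174,(.negSucc 0),1)] .nil .nil))) .nil) .nil)))) (.node [] (.node [] (.node [] (.node [] (.node [] .nil (.node [] (.node [] .nil (.node [(125,(.negSucc 0),1)] .nil .nil)) (.node [] .nil (.node [(189,(.ofNat 1),1)] .nil .nil)))) (.node [(8,(.negSucc 0),1)] (.node [] .nil (.node [(49,(.ofNat 1),1)] .nil .nil)) .nil)) (.node [] (.node [] .nil (.node [] (.node [] .nil (.node [(136,(.negSucc 0),1)] .nil .nil)) (.node [] .nil (.node [(218,(.negSucc 0),1)] .nil .nil)))) (.node [] (.node [] .nil (.node [] .nil (.node [(180,(.negSucc 0),1)] .nil .nil))) (.node [] (.node [] .nil (.node [(170,(.ofNat 1),1)] .nil .nil)) (.node [(89,(.ofNat 1),1)] .nil .nil))))) (.node [] (.node [] (.node [] (.node [] (.node [] .nil (.node [(95,(.ofNat 1),1)] .nil .nil)) (.node [(32,(.negSucc 0),1)] .nil .nil)) (.node [(22,(.ofNat 1),1)] .nil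 (.node [] .nil (.node [(197,(.ofNat 1),1)] .nil .nil)))) (.node [(12,(.ofNat 1),1)] (.node [] .nil (.node [(70,(.negSucc 0),1)] .nil .nil)) .nil)) (.node [] (.node [] (.node [] .nil (.node [(41,(.ofNat 1),1)] .nil .nil)) .nil) .nil))) (.node [(92,(.ofNat 1),1)] (.node [] (.node [] (.node [] (.node [] .nil (.node [] .nil (.node [(171,(.ofNat 1),1)] .nil .nil))) (.node [] (.node [] .nil (.node [(1,(.negSucc 0),1),(2,(.negSucc 0),1),(3,(.negSucc 1),1),(4,(.negSucc 0),1),(5,(.negSucc 0),1),(6,(.negSucc 0),1),(7,(.negSucc 0),1),(92,(.negSucc 0),2)] .nil .nil)) .nil)) (.node [] .nil (.node [] .nil (.node [] .nil (.node [(234,(.negSucc 0),1)] .nil .nil))))) (.node [] (.node [] (.node [] .nil (.node [(38,(.ofNat 1),1)] .nil .nil)) .nil) (.node [] (.node [] (.node [] .nil (.node [(113,(.ofNat 1),1)] .nil .nil)) .nil) (.node [(27,(.negSucc 0),1)] .nil .nil)))) (.node [(92,(.ofNat 1),1)] (.node [] .nil (.node [] .nil (.node [] .nil (.node [(86,(.ofNat 1),1)] .nil (.node [(238,(.ofNat 1),1)]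 .nil .nil))))) (.node [] (.node [] (.node [] .nil (.node [] .nil (.node [(175,(.negSucc 0),1)] .nil .nil))) (.node [(23,(.ofNat 1),1)] .nil .nil)) (.node [] (.node [] (.node [] .nil (.node [(117,(.negSucc 0),1)] .nil .nil)) (.node [] .nil (.node [(186,(.ofNat 1),1)] .nil .nil))) .nil))))))
noncomputable def ex85 : Trie (List (ℕ × ℤ × ℕ)) := (.node [(93,(.negSucc 0),1)] (.node [] (.node [] (.node [] (.node [] (.node [] .nil (.node [] (.node [] .nil (.node [(123,(.negSucc 0),1)] .nil .nil)) (.node [] .nil (.node [(188,(.negSucc 0),1)] .nil .nil)))) (.node [] (.node [] (.node [] .nil (.node [(102,(.ofNat 1),1)] .nil .nil)) .nil) .nil)) (.node [] (.node [] .nil (.node [] .nil (.node [] .nil (.node [(209,(.ofNat 1),1)] .nil .nil)))) (.node [] .nil (.node [] (.node [] .nil (.node [(170,(.ofNat 1),1)] .nil .nil)) (.node [(88,(.ofNat 1),1)] .nil .nil))))) (.node [(93,(.negSucc 0),1)] (.node [] (.node [] (.node [] (.node [] .nil (.node [(95,(.ofNat 1),1)] .nil .nil)) .nil) (.node [(22,(.negSucc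 0),1)] .nil .nil)) (.node [(12,(.negSucc 0),1)] (.node [] .nil (.node [(61,(.negSucc 0),1)] .nil .nil)) .nil)) (.node [] (.node [] (.node [] .nil (.node [(40,(.ofNat 1),1)] .nil .nil)) .nil) .nil))) (.node [] (.node [] (.node [] (.node [] (.node [] .nil (.node [] .nil (.node [(171,(.ofNat 1),1)] .nil .nil))) (.node [] (.node [] .nil (.node [(1,(.negSucc 0),1),(2,(.negSucc 0),1),(3,(.negSucc 1),1),(4,(.negSucc 0),1),(5,(.negSucc 0),1),(6,(.negSucc 0),1),(93,(.negSucc 0),2)] .nil .nil)) .nil)) (.node [] (.node [] .nil (.node [(52,(.ofNat 1),1)] .nil .nil)) .nil)) (.node [] (.node [] (.node [] (.node [] .nil (.node [(97,(.ofNat 1),1)] .nil .nil)) (.node [(38,(.negSucc 0),1)] .nil .nil)) .nil) .nil)) (.node [(93,(.ofNat 1),1)] (.node [] (.node [] .nil (.node [] .nil (.node [] .nil (.node [(200,(.negSucc 0),1)] .nil .nil)))) (.node [] (.node [] (.node [] .nil (.node [(108,(.ofNat 1),1)] .nil .nil)) .nil) (.node [] .nil (.node [(86,(.negSucc 0),1)] .nil (.node [(238,(.ofNat 1),1)] .nil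 .nil))))) (.node [] (.node [] .nil (.node [(23,(.negSucc 0),1)] .nil .nil)) (.node [] (.node [] (.node [] .nil (.node [(117,(.negSucc 0),1)] .nil .nil)) (.node [] .nil (.node [(186,(.ofNat 1),1)] .nil .nil))) .nil))))) (.node [] (.node [] (.node [] (.node [] (.node [] (.node [] (.node [] .nil (.node [(94,(.ofNat 1),1)] .nil .nil)) (.node [(30,(.ofNat 1),1)] .nil .nil)) (.node [] (.node [] .nil (.node [(126,(.negSucc 0),1)] .nil .nil)) (.node [] .nil (.node [(190,(.negSucc 0),1)] .nil .nil)))) (.node [(9,(.negSucc 0),1)] (.node [] .nil (.node [(50,(.ofNat 1),1)] .nil .nil)) .nil)) (.node [] (.node [] .nil (.node [] (.node [] .nil (.node [(137,(.ofNat 1),1)] .nil .nil)) (.node [] .nil (.node [(219,(.ofNat 1),1)] .nil .nil)))) (.node [] (.node [] (.node [] .nil (.node [(111,(.negSucc 0),1)] .nil .nil)) (.node [] .nil (.node [(181,(.ofNat 1),1)] .nil .nil))) (.node [(26,(.ofNat 1),1)] .nil (.node [(90,(.ofNat 1),1)] .nil .nil))))) (.node [] (.node [] (.node [] (.node [] .nil (.node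 [(33,(.negSucc 0),1)] .nil .nil)) (.node [] (.node [] .nil (.node [(134,(.negSucc 0),1)] .nil .nil)) (.node [] .nil (.node [(198,(.negSucc 0),1)] .nil .nil)))) (.node [] (.node [] .nil (.node [(71,(.negSucc 0),1)] .nil (.node [(178,(.negSucc 0),1)] .nil .nil))) .nil)) (.node [] (.node [] (.node [] (.node [] .nil (.node [(100,(.negSucc 0),1)] .nil .nil)) (.node [(42,(.ofNat 1),1)] .nil (.node [(174,(.negSucc 0),1)] .nil .nil))) .nil) (.node [] (.node [] .nil (.node [] .nil .nil)) .nil)))) (.node [(93,(.ofNat 1),1)] (.node [] (.node [] (.node [] (.node [] .nil (.node [(31,(.ofNat 1),1)] .nil .nil)) (.node [] (.node [] .nil (.node [(128,(.negSucc 0),1)] .nil .nil)) (.node [] .nil (.node [(196,(.ofNat 1),1)] .nil .nil)))) (.node [] (.node [] (.node [] .nil (.node [(105,(.negSucc 0),1)] .nil .nil)) .nil) (.node [] .nil (.node [] .nil (.node [(235,(.ofNat 1),1)] .nil .nil))))) (.node [] (.node [] (.node [] .nil (.node [] .nil (.node [(173,(.negSucc 0),1)] .nil .nil))) .nil) (.node []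 (.node [] (.node [] .nil (.node [(114,(.ofNat 1),1)] .nil .nil)) .nil) (.node [(28,(.negSucc 0),1)] .nil .nil)))) (.node [(93,(.negSucc 0),1)] (.node [] (.node [] .nil (.node [] (.node [] .nil (.node [(135,(.negSucc 0),1)] .nil .nil)) .nil)) (.node [] (.node [] .nil (.node [] .nil (.node [(179,(.negSucc 0),1)] .nil .nil))) (.node [(25,(.ofNat 1),1)] .nil .nil))) (.node [] (.node [] (.node [] .nil (.node [(48,(.negSucc 0),1)] .nil (.node [(176,(.ofNat 1),1)] .nil .nil))) .nil) (.node [] .nil (.node [] .nil (.node [(92,(.ofNat 1),1)] .nil .nil))))))))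
noncomputable def ex86 : Trie (List (ℕ × ℤ × ℕ)) := (.node [(94,(.negSucc 0),1)] (.node [] (.node [] (.node [] (.node [] (.node [] (.node [] .nil (.node [(30,(.negSucc 0),1)] .nil .nil)) (.node [] (.node [] .nil (.node [(124,(.negSucc 0),1)] .nil .nil)) .nil)) (.node [] (.node [] (.node [] .nil (.node [(103,(.ofNat 1),1)] .nil .nil)) (.node [(50,(.negSucc 0),1)] .nil .nil)) .nil)) (.node [] (.node [] .nil (.node [] (.node [] .nil (.node [(137,(.ofNat 1),1)] .nil .nil)) (.node [] .nil (.node [(210,(.negSucc 0),1)] .nil .nil)))) (.node [] (.node [] (.node [] .nil (.node [(111,(.negSucc 0),1)] .nil .nil)) (.node [] .nil (.node [(181,(.ofNat 1),1)] .nil .nil))) .nil))) (.node [(94,(.negSucc 0),1)] (.node [] (.node [] (.node [] .nil (.node [(33,(.ofNat 1),1)] .nil .nil)) (.node [] (.node [] .nil (.node [(134,(.negSucc 0),1)] .nil .nil)) (.node [] .nil (.node [(198,(.negSucc 0),1)] .nil .nil)))) (.node [] (.node [] .nil (.node [(62,(.negSucc 0),1)] .nil (.node [(178,(.negSucc 0),1)]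 .nil .nil))) .nil)) (.node [] (.node [] (.node [] (.node [] .nil (.node [(100,(.negSucc 0),1)] .nil .nil)) .nil) .nil) .nil))) (.node [] (.node [] (.node [] (.node [] .nil (.node [] (.node [] .nil (.node [(129,(.negSucc 0),1)] .nil .nil)) .nil)) (.node [] (.node [] (.node [] .nil (.node [(105,(.negSucc 0),1)] .nil .nil)) (.node [(53,(.ofNat 1),1)] .nil .nil)) .nil)) (.node [] (.node [] (.node [] (.node [] .nil (.node [(98,(.ofNat 1),1)] .nil .nil)) (.node [(39,(.negSucc 0),1)] .nil (.node [(173,(.negSucc 0),1)] .nil .nil))) .nil) (.node [] .nil (.node [(28,(.ofNat 1),1)] .nil .nil)))) (.node [(94,(.negSucc 0),1)] (.node [] (.node [] .nil (.node [] .nil (.node [] .nil (.node [(201,(.ofNat 1),1)] .nil .nil)))) (.node [] (.node [] (.node [] .nil (.node [(109,(.ofNat 1),1)] .nil .nil)) .nil) (.node [(25,(.negSucc 0),1)] .nil (.node [(87,(.negSucc 0),1)] .nil .nil)))) (.node [] (.node [] (.node [] .nil (.node [] .nil (.node [(176,(.ofNat 1),1)] .nil .nil))) .nil) (.node [] (.node []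 .nil (.node [] .nil (.node [(187,(.negSucc 0),1)] .nil .nil))) (.node [] .nil (.node [(93,(.ofNat 1),1)] .nil .nil))))))) (.node [] (.node [] (.node [] (.node [] (.node [] (.node [] .nil (.node [] .nil (.node [(171,(.ofNat 1),1)] .nil .nil))) (.node [] (.node [] .nil (.node [(1,(.negSucc 0),1),(2,(.negSucc 0),1),(3,(.negSucc 1),1),(4,(.negSucc 0),1),(5,(.negSucc 0),1),(94,(.negSucc 0),2)] .nil .nil)) (.node [] .nil (.node [(191,(.ofNat 1),1)] .nil .nil)))) (.node [(10,(.negSucc 0),1)] .nil .nil)) (.node [] (.node [] .nil (.node [] .nil (.node [] .nil (.node [(220,(.negSucc 0),1)] .nil .nil)))) (.node [] .nil (.node [(27,(.ofNat 1),1)] .nil (.node [(91,(.ofNat 1),1)] .nil .nil))))) (.node [(94,(.ofNat 1),1)] (.node [] .nil (.node [] (.node [] .nil (.node [(72,(.negSucc 0),1)] .nil .nil)) (.node [] .nil (.node [] .nil (.node [(238,(.ofNat 1),1)] .nil .nil))))) (.node [] (.node [] (.node [] .nil (.node [(43,(.ofNat 1),1)] .nil (.node [(175,(.ofNat 1),1)] .nil .nil))) (.node [(23,(.ofNat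 1),1)] .nil .nil)) (.node [] (.node [] (.node [] .nil (.node [(117,(.negSucc 0),1)] .nil .nil)) .nil) (.node [] .nil (.node [(92,(.ofNat 1),1)] .nil .nil)))))) (.node [(94,(.ofNat 1),1)] (.node [] (.node [] (.node [] (.node [] (.node [] .nil (.node [(95,(.ofNat 1),1)] .nil .nil)) (.node [(32,(.ofNat 1),1)] .nil .nil)) (.node [(22,(.ofNat 1),1)] (.node [] .nil (.node [(130,(.negSucc 0),1)] .nil .nil)) (.node [] .nil (.node [(197,(.negSucc 0),1)] .nil .nil)))) (.node [(12,(.ofNat 1),1)] .nil (.node [] .nil (.node [] .nil (.node [(236,(.negSucc 0),1)] .nil .nil))))) (.node [] (.node [] (.node [] .nil (.node [(40,(.negSucc 0),1)] .nil .nil)) .nil) (.node [] (.node [] (.node [] .nil (.node [(115,(.ofNat 1),1)] .nil .nil)) .nil) .nil))) (.node [] (.node [] (.node [] .nil (.node [] (.node [] .nil (.node [(136,(.ofNat 1),1)] .nil .nil)) .nil)) (.node [] (.node [] .nil (.node [] .nil (.node [(180,(.ofNat 1),1)] .nil .nil))) (.node [] (.node [] .nil (.node [(170,(.ofNat 1),1)] .nil .nil))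 (.node [(88,(.negSucc 0),1)] .nil .nil)))) (.node [] (.node [] (.node [] .nil (.node [(49,(.negSucc 0),1)] .nil .nil)) .nil) (.node [] (.node [] .nil (.node [] .nil (.node [(188,(.negSucc 0),1)] .nil .nil))) .nil))))))
noncomputable def ex87 : Trie (List (ℕ × ℤ × ℕ)) := (.node [(95,(.negSucc 0),1)] (.node [] (.node [] (.node [] (.node [] (.node [] (.node [] .nil (.node [(31,(.negSucc 0),1)] .nil (.node [(171,(.ofNat 1),1)] .nil .nil))) (.node [] (.node [] .nil (.node [(1,(.negSucc 0),1),(2,(.negSucc 0),1),(3,(.negSucc 1),1),(4,(.negSucc 0),1),(95,(.negSucc 0),2)] .nil .nil)) (.node [] .nil (.node [(191,(.ofNat 1),1)] .nil .nil)))) (.node [] (.node [] (.node [] .nil (.node [(104,(.ofNat 1),1)] .nil .nil)) (.node [(52,(.negSucc 0),1)] .nil .nil)) .nil)) (.node [] (.node [] .nil (.node [] .nil (.node [] .nil (.node [(211,(.ofNat 1),1)] .nil .nil)))) (.node [] .nil (.node [(28,(.negSucc 0),1)] .nil (.node [(91,(.negSucc 0),1)] .nil .nil))))) (.node [] (.node [] (.node [] .nil (.node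 [] (.node [] .nil (.node [(135,(.ofNat 1),1)] .nil .nil)) (.node [] .nil (.node [(200,(.ofNat 1),1)] .nil .nil)))) (.node [] (.node [] .nil (.node [(63,(.negSucc 0),1)] .nil (.node [(179,(.ofNat 1),1)] .nil .nil))) (.node [] .nil (.node [] .nil (.node [(238,(.ofNat 1),1)] .nil .nil))))) (.node [] (.node [] (.node [] .nil (.node [(43,(.negSucc 0),1)] .nil (.node [(176,(.ofNat 1),1)] .nil .nil))) (.node [(23,(.negSucc 0),1)] .nil .nil)) (.node [] (.node [] (.node [] .nil (.node [(117,(.negSucc 0),1)] .nil .nil)) .nil) (.node [] .nil (.node [(94,(.ofNat 1),1)] .nil .nil)))))) (.node [] (.node [] (.node [] (.node [] (.node [] .nil (.node [(33,(.negSucc 0),1)] .nil .nil)) (.node [(22,(.negSucc 0),1)] (.node [] .nil (.node [(132,(.negSucc 0),1)] .nil .nil)) .nil)) (.node [(12,(.negSucc 0),1)] .nil .nil)) (.node [] (.node [] (.node [] (.node [] .nil (.node [(99,(.ofNat 1),1)] .nil .nil)) (.node [(41,(.negSucc 0),1)] .nil (.node [(174,(.ofNat 1),1)] .nil .nil))) .nil) (.node [] .nil (.node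 [] .nil (.node [(92,(.ofNat 1),1)] .nil .nil))))) (.node [] (.node [] (.node [] .nil (.node [] (.node [] .nil (.node [(137,(.ofNat 1),1)] .nil .nil)) .nil)) (.node [] (.node [] (.node [] .nil (.node [(110,(.ofNat 1),1)] .nil .nil)) (.node [] .nil (.node [(181,(.ofNat 1),1)] .nil .nil))) (.node [(26,(.negSucc 0),1)] (.node [] .nil (.node [(170,(.ofNat 1),1)] .nil .nil)) (.node [(89,(.negSucc 0),1)] .nil .nil)))) (.node [] .nil (.node [] (.node [] .nil (.node [] .nil (.node [(189,(.ofNat 1),1)] .nil .nil))) .nil))))) (.node [] (.node [] (.node [] (.node [] (.node [] (.node [] .nil (.node [(32,(.negSucc 0),1)] .nil .nil)) (.node [] (.node [] .nil (.node [(131,(.negSucc 0),1)] .nil .nil)) .nil)) (.node [(11,(.negSucc 0),1)] (.node [] (.node [] .nil (.node [(105,(.negSucc 0),1)] .nil .nil)) (.node [(53,(.negSucc 0),1)] .nil .nil)) .nil)) (.node [] (.node [] .nil (.node [] .nil (.node [] .nil (.node [(221,(.ofNat 1),1)] .nil .nil)))) .nil)) (.node [(95,(.negSucc 0),1)] (.node [] (.node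 [] .nil (.node [] (.node [] .nil (.node [(136,(.ofNat 1),1)] .nil .nil)) (.node [] .nil (.node [(201,(.ofNat 1),1)] .nil .nil)))) (.node [] (.node [] .nil (.node [(73,(.negSucc 0),1)] .nil (.node [(180,(.ofNat 1),1)] .nil .nil))) .nil)) .nil)) (.node [(95,(.ofNat 1),1)] (.node [] (.node [] (.node [] .nil (.node [] (.node [] .nil (.node [(133,(.negSucc 0),1)] .nil .nil)) (.node [] .nil (.node [(199,(.ofNat 1),1)] .nil .nil)))) (.node [] .nil (.node [] .nil (.node [] .nil (.node [(237,(.ofNat 1),1)] .nil .nil))))) (.node [] (.node [] (.node [] (.node [] .nil (.node [(100,(.negSucc 0),1)] .nil .nil)) (.node [(42,(.negSucc 0),1)] .nil (.node [(175,(.ofNat 1),1)] .nil .nil))) .nil) (.node [] (.node [] (.node [] .nil (.node [(116,(.ofNat 1),1)] .nil .nil)) .nil) (.node [] .nil (.node [(93,(.ofNat 1),1)] .nil .nil))))) (.node [] (.node [] .nil (.node [] (.node [] (.node [] .nil (.node [(111,(.negSucc 0),1)] .nil .nil)) .nil) (.node [(27,(.negSucc 0),1)] .nil (.node [(90,(.negSucc 0),1)]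 .nil .nil)))) (.node [] (.node [] (.node [] .nil (.node [(51,(.negSucc 0),1)] .nil .nil)) .nil) (.node [] (.node [] .nil (.node [] .nil (.node [(190,(.ofNat 1),1)] .nil .nil))) .nil))))))
noncomputable def ex88 : Trie (List (ℕ × ℤ × ℕ)) := (.node [(96,(.negSucc 0),1)] (.node [] (.node [] (.node [] (.node [] (.node [] (.node [] (.node [] .nil (.node [(97,(.ofNat 1),1)] .nil .nil)) .nil) (.node [] .nil (.node [] .nil .nil))) (.node [(8,(.ofNat 1),1)] (.node [] .nil (.node [(54,(.ofNat 1),1)] .nil .nil)) .nil)) (.node [] (.node [] (.node [] .nil (.node [(39,(.negSucc 0),1)] .nil (.node [(174,(.negSucc 0),1)] .nil .nil))) (.node [] (.node [] .nil (.node [(140,(.negSucc 0),1)] .nil .nil)) .nil)) (.node [] (.node [] .nil (.node [] .nil (.node [(183,(.ofNat 1),1)] .nil .nil))) .nil))) (.node [] (.node [] (.node [] (.node [] .nil (.node [(35,(.negSucc 0),1)] .nil .nil)) (.node [] .nil (.node [] .nil (.node [(202,(.negSucc 0),1)] .nil .nil)))) (.node [] (.node [] (.node [] .nil (.node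 [(106,(.negSucc 0),1)] .nil .nil)) .nil) (.node [(26,(.ofNat 1),1)] .nil (.node [(89,(.ofNat 1),1)] .nil .nil)))) (.node [] .nil (.node [] (.node [] (.node [] .nil (.node [(122,(.negSucc 0),1)] .nil .nil)) (.node [] .nil (.node [(187,(.ofNat 1),1)] .nil .nil))) .nil)))) (.node [(96,(.ofNat 1),1)] (.node [] (.node [] (.node [] (.node [] (.node [] .nil (.node [(98,(.ofNat 1),1)] .nil .nil)) (.node [(34,(.negSucc 0),1)] .nil .nil)) .nil) (.node [] (.node [] .nil (.node [(57,(.ofNat 1),1)] .nil .nil)) (.node [(25,(.ofNat 1),1)] .nil (.node [(86,(.ofNat 1),1)] .nil (.node [(234,(.negSucc 0),1)] .nil .nil))))) (.node [] .nil (.node [] (.node [] (.node [] .nil (.node [(112,(.negSucc 0),1)] .nil .nil)) .nil) .nil))) (.node [] (.node [] (.node [] (.node [] .nil (.node [] .nil (.node [(173,(.negSucc 0),1)] .nil .nil))) (.node [] (.node [] .nil (.node [(139,(.negSucc 0),1)] .nil .nil)) (.node [] .nil (.node [(205,(.negSucc 0),1)] .nil .nil)))) (.node [] (.node [] .nil (.node [] .nil (.node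 [(182,(.ofNat 1),1)] .nil .nil))) .nil)) (.node [] .nil (.node [] (.node [] (.node [] .nil (.node [(127,(.negSucc 0),1)] .nil .nil)) .nil) .nil))))) (.node [(96,(.ofNat 1),1)] (.node [] (.node [] (.node [] (.node [] .nil (.node [(22,(.negSucc 0),1)] .nil .nil)) (.node [] (.node [] .nil (.node [(55,(.ofNat 1),1)] .nil .nil)) .nil)) (.node [] (.node [] (.node [] (.node [] .nil (.node [(100,(.ofNat 1),1)] .nil .nil)) (.node [(41,(.negSucc 0),1)] .nil (.node [(175,(.negSucc 0),1)] .nil .nil))) (.node [] (.node [] .nil (.node [(141,(.negSucc 0),1)] .nil .nil)) (.node [] .nil (.node [(222,(.ofNat 1),1)] .nil .nil)))) (.node [] (.node [] .nil (.node [] .nil (.node [(184,(.ofNat 1),1)] .nil .nil))) .nil))) (.node [] (.node [] (.node [] (.node [] (.node [] .nil (.node [(99,(.ofNat 1),1)] .nil .nil)) (.node [(36,(.negSucc 0),1)] .nil .nil)) (.node [] .nil (.node [] .nil (.node [(203,(.negSucc 0),1)] .nil .nil)))) (.node [(13,(.ofNat 1),1)] (.node [] (.node [] .nil (.node [(107,(.ofNat 1),1)]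 .nil .nil)) (.node [(74,(.negSucc 0),1)] .nil .nil)) (.node [(27,(.ofNat 1),1)] (.node [] .nil (.node [(170,(.ofNat 1),1)] .nil .nil)) (.node [(92,(.ofNat 1),1)] .nil .nil)))) (.node [] .nil (.node [] (.node [] (.node [] .nil (.node [(125,(.negSucc 0),1)] .nil .nil)) (.node [] .nil (.node [(189,(.ofNat 1),1)] .nil .nil))) .nil)))) (.node [(96,(.negSucc 0),1)] (.node [] (.node [] (.node [] (.node [] .nil (.node [] .nil (.node [(172,(.negSucc 0),1)] .nil .nil))) (.node [] (.node [] .nil (.node [(138,(.negSucc 0),1)] .nil .nil)) .nil)) (.node [] (.node [] .nil (.node [(60,(.ofNat 1),1)] .nil .nil)) (.node [] .nil (.node [(87,(.ofNat 1),1)] .nil .nil)))) (.node [] .nil (.node [] (.node [] (.node [] .nil (.node [(118,(.negSucc 0),1)] .nil .nil)) (.node [] .nil (.node [(186,(.ofNat 1),1)] .nil .nil))) .nil))) (.node [(96,(.ofNat 1),1)] (.node [] (.node [] (.node [] .nil (.node [(38,(.negSucc 0),1)] .nil .nil)) (.node [] .nil (.node [] .nil (.node [(208,(.negSucc 0),1)] .nil .nil))))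 (.node [] .nil (.node [] .nil (.node [] .nil (.node [(239,(.negSucc 0),1)] .nil .nil))))) (.node [] (.node [] (.node [] (.node [] .nil (.node [(101,(.ofNat 1),1)] .nil .nil)) .nil) (.node [(24,(.ofNat 1),1)] .nil .nil)) (.node [] (.node [] (.node [] .nil (.node [(1,(.negSucc 0),1),(2,(.negSucc 0),1),(3,(.negSucc 0),1),(4,(.negSucc 0),1),(5,(.negSucc 0),1),(6,(.negSucc 0),1),(7,(.negSucc 0),1),(96,(.negSucc 0),2)] .nil .nil)) .nil) .nil))))))
noncomputable def ex89 : Trie (List (ℕ × ℤ × ℕ)) := (.node [(97,(.negSucc 0),1)] (.node [] (.node [] (.node [] (.node [] (.node [] .nil (.node [(22,(.ofNat 1),1)] .nil .nil)) (.node [(9,(.ofNat 1),1)] .nil .nil)) (.node [] (.node [] (.node [] (.node [] .nil (.node [(100,(.ofNat 1),1)] .nil .nil)) (.node [(40,(.negSucc 0),1)] .nil .nil)) .nil) .nil)) (.node [] (.node [] (.node [] (.node [] (.node [] .nil (.node [(99,(.ofNat 1),1)] .nil .nil)) .nil) .nil) (.node [(13,(.negSucc 0),1)] .nil (.node [] (.node [] .nil (.node [(170,(.ofNat 1),1)]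 .nil .nil)) (.node [(90,(.ofNat 1),1)] .nil .nil)))) (.node [] .nil (.node [] (.node [] (.node [] .nil (.node [(123,(.negSucc 0),1)] .nil .nil)) (.node [] .nil (.node [(188,(.negSucc 0),1)] .nil .nil))) .nil)))) (.node [(97,(.ofNat 1),1)] (.node [] (.node [] (.node [] (.node [] .nil (.node [] .nil (.node [(172,(.negSucc 0),1)] .nil .nil))) (.node [] (.node [] .nil (.node [(138,(.negSucc 0),1)] .nil .nil)) .nil)) (.node [] (.node [] .nil (.node [(58,(.ofNat 1),1)] .nil .nil)) (.node [] .nil (.node [] .nil (.node [(235,(.ofNat 1),1)] .nil .nil))))) (.node [] .nil (.node [] (.node [] .nil (.node [] .nil (.node [(186,(.ofNat 1),1)] .nil .nil))) .nil))) (.node [(97,(.ofNat 1),1)] (.node [] (.node [] (.node [] .nil (.node [(38,(.ofNat 1),1)] .nil .nil)) (.node [] .nil (.node [] .nil (.node [(206,(.ofNat 1),1)] .nil .nil)))) (.node [] .nil (.node [] .nil (.node [] .nil (.node [(239,(.negSucc 0),1)] .nil .nil))))) (.node [] (.node [] .nil (.node [(24,(.negSucc 0),1)] .nil .nil)) (.node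 [] (.node [] (.node [] .nil (.node [(1,(.negSucc 0),1),(2,(.negSucc 0),1),(3,(.negSucc 0),1),(4,(.negSucc 0),1),(5,(.negSucc 0),1),(6,(.negSucc 0),1),(97,(.negSucc 0),2)] .nil .nil)) .nil) .nil))))) (.node [(97,(.ofNat 1),1)] (.node [] (.node [] (.node [] (.node [] (.node [] (.node [] .nil (.node [(98,(.ofNat 1),1)] .nil .nil)) (.node [(34,(.ofNat 1),1)] .nil .nil)) (.node [] .nil (.node [] .nil .nil))) (.node [] (.node [] .nil (.node [(56,(.ofNat 1),1)] .nil .nil)) (.node [(25,(.negSucc 0),1)] .nil (.node [(86,(.negSucc 0),1)] .nil .nil)))) (.node [] (.node [] (.node [] .nil (.node [(42,(.negSucc 0),1)] .nil (.node [(176,(.ofNat 1),1)] .nil .nil))) (.node [] (.node [] .nil (.node [(142,(.ofNat 1),1)] .nil .nil)) (.node [] .nil (.node [(223,(.negSucc 0),1)] .nil .nil)))) (.node [] (.node [] (.node [] .nil (.node [(112,(.negSucc 0),1)] .nil .nil)) (.node [] .nil (.node [(185,(.negSucc 0),1)] .nil .nil))) .nil))) (.node [] (.node [] (.node [] (.node [] .nil (.node [(37,(.negSucc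 0),1)] .nil (.node [(173,(.negSucc 0),1)] .nil .nil))) (.node [] (.node [] .nil (.node [(139,(.negSucc 0),1)] .nil .nil)) (.node [] .nil (.node [(204,(.ofNat 1),1)] .nil .nil)))) (.node [] (.node [] (.node [] .nil (.node [(108,(.ofNat 1),1)] .nil .nil)) (.node [(75,(.negSucc 0),1)] .nil (.node [(182,(.ofNat 1),1)] .nil .nil))) (.node [(28,(.ofNat 1),1)] .nil (.node [(93,(.ofNat 1),1)] .nil .nil)))) (.node [] .nil (.node [] (.node [] (.node [] .nil (.node [(126,(.negSucc 0),1)] .nil .nil)) (.node [] .nil (.node [(190,(.negSucc 0),1)] .nil .nil))) .nil)))) (.node [(97,(.negSucc 0),1)] (.node [] (.node [] (.node [] (.node [] .nil (.node [(35,(.ofNat 1),1)] .nil .nil)) (.node [] .nil (.node [] .nil (.node [(202,(.negSucc 0),1)] .nil .nil)))) (.node [] (.node [] (.node [] .nil (.node [(106,(.negSucc 0),1)] .nil .nil)) (.node [(61,(.ofNat 1),1)] .nil .nil)) (.node [(26,(.negSucc 0),1)] .nil (.node [(88,(.ofNat 1),1)] .nil .nil)))) (.node [] .nil (.node [] (.node [] (.node [] .nil (.node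 [(119,(.negSucc 0),1)] .nil .nil)) .nil) .nil))) (.node [(97,(.negSucc 0),1)] (.node [] (.node [] (.node [] .nil (.node [] .nil (.node [(174,(.negSucc 0),1)] .nil .nil))) (.node [] (.node [] .nil (.node [(140,(.negSucc 0),1)] .nil .nil)) (.node [] .nil (.node [(209,(.ofNat 1),1)] .nil .nil)))) (.node [] (.node [] .nil (.node [] .nil (.node [(183,(.ofNat 1),1)] .nil .nil))) .nil)) (.node [] (.node [] (.node [] (.node [] .nil (.node [(102,(.ofNat 1),1)] .nil .nil)) (.node [(54,(.negSucc 0),1)] .nil .nil)) .nil) (.node [] (.node [] (.node [] .nil (.node [(128,(.negSucc 0),1)] .nil .nil)) .nil) (.node [] .nil (.node [(96,(.ofNat 1),1)] .nil .nil))))))))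
noncomputable def ex90 : Trie (List (ℕ × ℤ × ℕ)) := (.node [(98,(.negSucc 0),1)] (.node [] (.node [] (.node [] (.node [] (.node [] (.node [] .nil (.node [(34,(.negSucc 0),1)] .nil .nil)) .nil) (.node [(10,(.ofNat 1),1)] (.node [] .nil (.node [(56,(.negSucc 0),1)] .nil .nil)) (.node [(25,(.ofNat 1),1)] .nil .nil))) (.node [] (.node [] (.node [] .nil (.node [] .nil (.node [(176,(.ofNat 1),1)] .nil .nil))) (.node [] (.node [] .nil (.node [(142,(.ofNat 1),1)] .nil .nil)) .nil)) (.node [] (.node [] (.node [] .nil (.node [(112,(.negSucc 0),1)] .nil .nil)) (.node [] .nil (.node [(185,(.negSucc 0),1)] .nil .nil))) .nil))) (.node [] (.node [] (.node [] (.node [] .nil (.node [(37,(.ofNat 1),1)] .nil (.node [(173,(.negSucc 0),1)] .nil .nil))) (.node [] (.node [] .nil (.node [(139,(.negSucc 0),1)] .nil .nil)) (.node [] .nil (.node [(204,(.ofNat 1),1)] .nil .nil)))) (.node [] (.node [] .nil (.node [] .nil (.node [(182,(.ofNat 1),1)] .nil .nil))) (.node [(28,(.negSucc 0),1)] .nil (.node [(91,(.ofNat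 1),1)] .nil .nil)))) (.node [] .nil (.node [] (.node [] (.node [] .nil (.node [(124,(.negSucc 0),1)] .nil .nil)) .nil) .nil)))) (.node [(98,(.ofNat 1),1)] (.node [] (.node [] (.node [] .nil (.node [] .nil (.node [] .nil .nil))) (.node [] (.node [] (.node [] .nil (.node [(106,(.negSucc 0),1)] .nil .nil)) (.node [(59,(.ofNat 1),1)] .nil .nil)) (.node [] .nil (.node [(88,(.negSucc 0),1)] .nil (.node [(236,(.negSucc 0),1)] .nil .nil))))) (.node [] .nil (.node [] (.node [] .nil (.node [] .nil (.node [(187,(.negSucc 0),1)] .nil .nil))) .nil))) (.node [(98,(.negSucc 0),1)] (.node [] (.node [] (.node [] .nil (.node [(39,(.ofNat 1),1)] .nil .nil)) (.node [] .nil (.node [] .nil (.node [(207,(.negSucc 0),1)] .nil .nil)))) .nil) (.node [] .nil (.node [] (.node [] (.node [] .nil (.node [(129,(.negSucc 0),1)] .nil .nil)) .nil) (.node [] .nil (.node [(97,(.ofNat 1),1)] .nil .nil))))))) (.node [(98,(.ofNat 1),1)] (.node [] (.node [] (.node [] (.node [] (.node [] .nil (.node [] .nil (.node [(172,(.negSucc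 0),1)] .nil .nil))) (.node [] (.node [] .nil (.node [(138,(.negSucc 0),1)] .nil .nil)) .nil)) (.node [] .nil (.node [] .nil (.node [(87,(.negSucc 0),1)] .nil .nil)))) (.node [] (.node [] (.node [] .nil (.node [(43,(.negSucc 0),1)] .nil .nil)) (.node [] .nil (.node [] .nil (.node [(224,(.ofNat 1),1)] .nil .nil)))) .nil)) (.node [(98,(.ofNat 1),1)] (.node [] .nil (.node [] (.node [] (.node [] .nil (.node [(109,(.ofNat 1),1)] .nil .nil)) (.node [(76,(.negSucc 0),1)] .nil .nil)) (.node [] .nil (.node [(94,(.ofNat 1),1)] .nil (.node [(239,(.negSucc 0),1)] .nil .nil))))) (.node [] (.node [] .nil (.node [(24,(.ofNat 1),1)] .nil .nil)) (.node [] (.node [] (.node [] .nil (.node [(1,(.negSucc 0),1),(2,(.negSucc 0),1),(3,(.negSucc 0),1),(4,(.negSucc 0),1),(5,(.negSucc 0),1),(98,(.negSucc 0),2)] .nil .nil)) (.node [] .nil (.node [(191,(.ofNat 1),1)] .nil .nil))) (.node [] .nil (.node [(96,(.ofNat 1),1)] .nil .nil)))))) (.node [(98,(.negSucc 0),1)] (.node [] (.node [] (.node [] (.node [] (.node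 [] .nil (.node [(99,(.ofNat 1),1)] .nil .nil)) (.node [(36,(.ofNat 1),1)] .nil .nil)) (.node [] .nil (.node [] .nil (.node [(203,(.ofNat 1),1)] .nil .nil)))) (.node [(13,(.ofNat 1),1)] (.node [] .nil (.node [(62,(.ofNat 1),1)] .nil .nil)) (.node [(27,(.negSucc 0),1)] (.node [] .nil (.node [(170,(.ofNat 1),1)] .nil .nil)) .nil))) (.node [] .nil (.node [] (.node [] (.node [] .nil (.node [(120,(.negSucc 0),1)] .nil .nil)) (.node [] .nil (.node [(188,(.negSucc 0),1)] .nil .nil))) .nil))) (.node [] (.node [] (.node [] (.node [] (.node [] .nil (.node [(100,(.ofNat 1),1)] .nil .nil)) (.node [(40,(.ofNat 1),1)] .nil (.node [(175,(.ofNat 1),1)] .nil .nil))) (.node [] (.node [] .nil (.node [(141,(.ofNat 1),1)] .nil .nil)) (.node [] .nil (.node [(210,(.negSucc 0),1)] .nil .nil)))) (.node [] (.node [] .nil (.node [] .nil (.node [(184,(.negSucc 0),1)] .nil .nil))) .nil)) (.node [] (.node [] (.node [] (.node [] .nil (.node [(103,(.ofNat 1),1)] .nil .nil)) (.node [(55,(.negSucc 0),1)] .nil .nil))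 .nil) (.node [(22,(.negSucc 0),1)] (.node [] (.node [] .nil (.node [(130,(.negSucc 0),1)] .nil .nil)) .nil) .nil))))))
noncomputable def ex91 : Trie (List (ℕ × ℤ × ℕ)) := (.node [(99,(.negSucc 0),1)] (.node [] (.node [] (.node [] (.node [] (.node [] (.node [] .nil (.node [(35,(.negSucc 0),1)] .nil (.node [(172,(.negSucc 0),1)] .nil .nil))) (.node [] (.node [] .nil (.node [(138,(.negSucc 0),1)] .nil .nil)) .nil)) (.node [(11,(.ofNat 1),1)] (.node [] .nil (.node [(58,(.negSucc 0),1)] .nil .nil)) (.node [(26,(.ofNat 1),1)] .nil .nil))) (.node [] (.node [] (.node [] .nil (.node [(43,(.ofNat 1),1)] .nil .nil)) .nil) .nil)) (.node [(99,(.ofNat 1),1)] (.node [] (.node [] (.node [] .nil (.node [] .nil (.node [(174,(.ofNat 1),1)] .nil .nil))) (.node [] (.node [] .nil (.node [(140,(.ofNat 1),1)] .nil .nil)) (.node [] .nil (.node [(206,(.negSucc 0),1)] .nil .nil)))) (.node [] (.node [] .nil (.node [] .nil (.node [(183,(.negSucc 0),1)] .nil .nil))) (.node [] .nil (.node [] .nil (.node [(239,(.negSucc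 0),1)] .nil .nil))))) (.node [] (.node [] .nil (.node [(24,(.negSucc 0),1)] .nil .nil)) (.node [] (.node [] (.node [] .nil (.node [(1,(.negSucc 0),1),(2,(.negSucc 0),1),(3,(.negSucc 0),1),(4,(.negSucc 0),1),(99,(.negSucc 0),2)] .nil .nil)) (.node [] .nil (.node [(191,(.ofNat 1),1)] .nil .nil))) (.node [] .nil (.node [(98,(.ofNat 1),1)] .nil .nil)))))) (.node [(99,(.ofNat 1),1)] (.node [] (.node [] (.node [] (.node [] .nil (.node [(37,(.negSucc 0),1)] .nil .nil)) .nil) (.node [(13,(.negSucc 0),1)] .nil (.node [(28,(.ofNat 1),1)] (.node [] .nil (.node [(170,(.ofNat 1),1)] .nil .nil)) (.node [(90,(.negSucc 0),1)] .nil (.node [(237,(.ofNat 1),1)] .nil .nil))))) (.node [] .nil (.node [] (.node [] .nil (.node [] .nil (.node [(189,(.ofNat 1),1)] .nil .nil))) (.node [] .nil (.node [(96,(.ofNat 1),1)] .nil .nil))))) (.node [] (.node [] (.node [] (.node [] (.node [] .nil (.node [(100,(.ofNat 1),1)] .nil .nil)) (.node [(41,(.ofNat 1),1)] .nil (.node [(176,(.ofNat 1),1)] .nil .nil))) (.node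 [] (.node [] .nil (.node [(142,(.ofNat 1),1)] .nil .nil)) .nil)) (.node [] (.node [] .nil (.node [] .nil (.node [(185,(.negSucc 0),1)] .nil .nil))) .nil)) (.node [] .nil (.node [(22,(.ofNat 1),1)] (.node [] (.node [] .nil (.node [(132,(.negSucc 0),1)] .nil .nil)) .nil) .nil))))) (.node [(99,(.ofNat 1),1)] (.node [] (.node [] (.node [] (.node [] (.node [] .nil (.node [(36,(.negSucc 0),1)] .nil .nil)) .nil) (.node [] (.node [] (.node [] .nil (.node [(106,(.negSucc 0),1)] .nil .nil)) (.node [(59,(.negSucc 0),1)] .nil .nil)) (.node [(27,(.ofNat 1),1)] .nil (.node [(89,(.negSucc 0),1)] .nil .nil)))) (.node [] (.node [] .nil (.node [] .nil (.node [] .nil (.node [(225,(.negSucc 0),1)] .nil .nil)))) .nil)) (.node [(99,(.negSucc 0),1)] (.node [] (.node [] (.node [] .nil (.node [] .nil (.node [(175,(.ofNat 1),1)] .nil .nil))) (.node [] (.node [] .nil (.node [(141,(.ofNat 1),1)] .nil .nil)) (.node [] .nil (.node [(207,(.negSucc 0),1)] .nil .nil)))) (.node [] (.node [] (.node [] .nil (.node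 [(110,(.ofNat 1),1)] .nil .nil)) (.node [(77,(.negSucc 0),1)] .nil (.node [(184,(.negSucc 0),1)] .nil .nil))) (.node [] .nil (.node [(95,(.ofNat 1),1)] .nil .nil)))) (.node [] .nil (.node [] (.node [] (.node [] .nil (.node [(131,(.negSucc 0),1)] .nil .nil)) .nil) .nil)))) (.node [(99,(.negSucc 0),1)] (.node [] (.node [] (.node [] .nil (.node [] .nil (.node [] .nil (.node [(205,(.negSucc 0),1)] .nil .nil)))) (.node [] (.node [] .nil (.node [(63,(.ofNat 1),1)] .nil .nil)) (.node [] .nil (.node [(91,(.negSucc 0),1)] .nil .nil)))) (.node [] .nil (.node [] (.node [] (.node [] .nil (.node [(121,(.negSucc 0),1)] .nil .nil)) (.node [] .nil (.node [(190,(.ofNat 1),1)] .nil .nil))) (.node [] .nil (.node [(97,(.ofNat 1),1)] .nil .nil))))) (.node [] (.node [] (.node [] (.node [] .nil (.node [(42,(.ofNat 1),1)] .nil .nil)) (.node [] .nil (.node [] .nil (.node [(211,(.ofNat 1),1)] .nil .nil)))) (.node [] (.node [] (.node [] .nil (.node [(112,(.negSucc 0),1)] .nil .nil)) .nil) .nil)) (.node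 [] (.node [] (.node [] (.node [] .nil (.node [(104,(.ofNat 1),1)] .nil .nil)) (.node [(57,(.negSucc 0),1)] .nil .nil)) .nil) (.node [] (.node [] (.node [] .nil (.node [(133,(.negSucc 0),1)] .nil .nil)) .nil) .nil))))))
noncomputable def ex92 : Trie (List (ℕ × ℤ × ℕ)) := (.node [(100,(.negSucc 0),1)] (.node [] (.node [] (.node [] (.node [] (.node [] (.node [] .nil (.node [(38,(.negSucc 0),1)] .nil (.node [(173,(.ofNat 1),1)] .nil .nil))) (.node [] (.node [] .nil (.node [(139,(.ofNat 1),1)] .nil .nil)) .nil)) (.node [(12,(.ofNat 1),1)] (.node [] (.node [] .nil (.node [(106,(.negSucc 0),1)] .nil .nil)) (.node [(61,(.negSucc 0),1)] .nil .nil)) .nil)) (.node [] .nil (.node [] (.node [] .nil (.node [] .nil (.node [(190,(.ofNat 1),1)] .nil .nil))) (.node [] .nil (.node [(98,(.ofNat 1),1)] .nil .nil))))) (.node [(100,(.negSucc 0),1)] (.node [] (.node [] (.node [] .nil (.node [(42,(.negSucc 0),1)] .nil .nil)) (.node [] .nil (.node [] .nil (.node [(209,(.ofNat 1),1)] .nil .nil)))) (.node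 [] (.node [] .nil (.node [] .nil (.node [(186,(.ofNat 1),1)] .nil .nil))) (.node [] .nil (.node [(95,(.negSucc 0),1)] .nil .nil)))) (.node [] (.node [] .nil (.node [(25,(.negSucc 0),1)] .nil .nil)) (.node [] (.node [] (.node [] .nil (.node [(134,(.negSucc 0),1)] .nil .nil)) .nil) .nil)))) (.node [(100,(.ofNat 1),1)] (.node [] (.node [] (.node [] (.node [] .nil (.node [(40,(.negSucc 0),1)] .nil (.node [(175,(.ofNat 1),1)] .nil .nil))) (.node [] (.node [] .nil (.node [(141,(.ofNat 1),1)] .nil .nil)) .nil)) (.node [] (.node [] .nil (.node [(63,(.negSucc 0),1)] .nil .nil)) (.node [] .nil (.node [(93,(.negSucc 0),1)] .nil (.node [(238,(.negSucc 0),1)] .nil .nil))))) .nil) (.node [] (.node [] (.node [] .nil (.node [] .nil (.node [] .nil (.node [(211,(.ofNat 1),1)] .nil .nil)))) (.node [] (.node [] (.node [] .nil (.node [(112,(.negSucc 0),1)] .nil .nil)) (.node [] .nil (.node [(188,(.ofNat 1),1)] .nil .nil))) (.node [] .nil (.node [(96,(.ofNat 1),1)] .nil .nil)))) (.node [] (.node []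 .nil (.node [(27,(.negSucc 0),1)] .nil .nil)) (.node [] (.node [] (.node [] .nil (.node [(136,(.negSucc 0),1)] .nil .nil)) .nil) .nil))))) (.node [(100,(.ofNat 1),1)] (.node [] (.node [] (.node [] (.node [] (.node [] .nil (.node [(39,(.negSucc 0),1)] .nil (.node [(174,(.ofNat 1),1)] .nil .nil))) (.node [] (.node [] .nil (.node [(140,(.ofNat 1),1)] .nil .nil)) .nil)) (.node [(13,(.ofNat 1),1)] (.node [] .nil (.node [(62,(.negSucc 0),1)] .nil .nil)) (.node [] (.node [] .nil (.node [(170,(.ofNat 1),1)] .nil .nil)) (.node [(92,(.negSucc 0),1)] .nil .nil)))) (.node [] (.node [] .nil (.node [] .nil (.node [] .nil (.node [(226,(.ofNat 1),1)] .nil .nil)))) (.node [] (.node [] .nil (.node [] .nil (.node [(191,(.ofNat 1),1)] .nil .nil))) (.node [] .nil (.node [(99,(.ofNat 1),1)] .nil .nil))))) (.node [] (.node [] (.node [] (.node [] .nil (.node [(43,(.negSucc 0),1)] .nil .nil)) (.node [] .nil (.node [] .nil (.node [(210,(.ofNat 1),1)] .nil .nil)))) (.node [] (.node [] (.node [] .nil (.node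 [(111,(.ofNat 1),1)] .nil .nil)) (.node [(78,(.negSucc 0),1)] .nil (.node [(187,(.ofNat 1),1)] .nil .nil))) .nil)) (.node [] (.node [] .nil (.node [(26,(.negSucc 0),1)] .nil .nil)) (.node [(22,(.negSucc 0),1)] (.node [] (.node [] .nil (.node [(135,(.negSucc 0),1)] .nil .nil)) .nil) .nil)))) (.node [] (.node [] (.node [] (.node [] (.node [] .nil (.node [(41,(.negSucc 0),1)] .nil (.node [(176,(.ofNat 1),1)] .nil .nil))) (.node [] (.node [] .nil (.node [(142,(.ofNat 1),1)] .nil .nil)) (.node [] .nil (.node [(208,(.ofNat 1),1)] .nil .nil)))) (.node [] .nil (.node [] .nil (.node [(94,(.negSucc 0),1)] .nil (.node [(239,(.negSucc 0),1)] .nil .nil))))) (.node [] .nil (.node [] (.node [] (.node [] .nil (.node [(1,(.negSucc 0),1),(2,(.negSucc 0),1),(3,(.negSucc 0),1),(100,(.negSucc 0),2)] .nil .nil)) .nil) .nil))) (.node [] (.node [] .nil (.node [] (.node [] .nil (.node [] .nil (.node [(189,(.ofNat 1),1)] .nil .nil))) (.node [] .nil (.node [(97,(.ofNat 1),1)] .nil .nil)))) (.node [] (.node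 [] (.node [] (.node [] .nil (.node [(105,(.ofNat 1),1)] .nil .nil)) (.node [(60,(.negSucc 0),1)] .nil .nil)) (.node [(28,(.negSucc 0),1)] .nil .nil)) (.node [] (.node [] (.node [] .nil (.node [(137,(.negSucc 0),1)] .nil .nil)) .nil) .nil))))))
noncomputable def ex93 : Trie (List (ℕ × ℤ × ℕ)) := (.node [] (.node [] (.node [] (.node [] (.node [] (.node [] (.node [] (.node [] .nil (.node [(102,(.ofNat 1),1)] .nil .nil)) .nil) (.node [] .nil (.node [] .nil (.node [(203,(.negSucc 0),1)] .nil .nil)))) (.node [] (.node [] .nil (.node [(64,(.ofNat 1),1)] .nil .nil)) (.node [] .nil (.node [(96,(.ofNat 1),1)] .nil .nil)))) (.node [] (.node [] .nil (.node [] (.node [] .nil (.node [(146,(.negSucc 0),1)] .nil .nil)) .nil)) (.node [] (.node [] (.node [] .nil (.node [(125,(.negSucc 0),1)] .nil .nil)) (.node [] .nil (.node [(193,(.negSucc 0),1)] .nil .nil))) (.node [(34,(.ofNat 1),1)] .nil .nil)))) (.node [] (.node [] .nil (.node [] (.node [] .nil (.node [(74,(.ofNat 1),1)] .nil .nil)) (.node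 [(31,(.ofNat 1),1)] .nil .nil))) (.node [] (.node [] .nil (.node [] .nil (.node [(86,(.ofNat 1),1)] .nil .nil))) (.node [(22,(.ofNat 1),1)] (.node [] .nil (.node [] .nil (.node [(197,(.negSucc 0),1)] .nil .nil))) (.node [] (.node [] .nil (.node [(173,(.negSucc 0),1)] .nil .nil)) .nil))))) (.node [(101,(.negSucc 0),1)] (.node [] (.node [] (.node [] (.node [] (.node [] .nil (.node [(103,(.ofNat 1),1)] .nil .nil)) .nil) (.node [] .nil (.node [] .nil (.node [(208,(.negSucc 0),1)] .nil .nil)))) (.node [] (.node [] .nil (.node [(67,(.ofNat 1),1)] .nil .nil)) (.node [(30,(.ofNat 1),1)] .nil .nil))) (.node [] .nil (.node [] (.node [] (.node [] .nil (.node [(1,(.negSucc 0),1),(3,(.negSucc 0),1),(4,(.negSucc 0),1),(5,(.negSucc 0),1),(6,(.negSucc 0),1),(7,(.negSucc 0),1),(101,(.negSucc 0),2)] .nil .nil)) .nil) (.node [(35,(.ofNat 1),1)] .nil .nil)))) (.node [] (.node [] (.node [] .nil (.node [] (.node [] .nil (.node [(145,(.negSucc 0),1)] .nil .nil)) .nil)) (.node [] (.node [] (.node []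 .nil (.node [(118,(.negSucc 0),1)] .nil .nil)) (.node [] .nil (.node [(192,(.negSucc 0),1)] .nil .nil))) .nil)) (.node [] (.node [] (.node [] (.node [] .nil (.node [(106,(.ofNat 1),1)] .nil .nil)) .nil) (.node [] .nil (.node [(89,(.ofNat 1),1)] .nil .nil))) (.node [] .nil (.node [(39,(.ofNat 1),1)] (.node [] .nil (.node [(174,(.negSucc 0),1)] .nil .nil)) .nil)))))) (.node [(101,(.ofNat 1),1)] (.node [] (.node [] (.node [] (.node [] .nil (.node [] .nil (.node [] .nil (.node [(205,(.negSucc 0),1)] .nil .nil)))) (.node [] (.node [] .nil (.node [(65,(.ofNat 1),1)] .nil .nil)) (.node [] .nil (.node [] .nil (.node [(234,(.negSucc 0),1)] .nil .nil))))) (.node [] (.node [] (.node [] (.node [] .nil (.node [(105,(.ofNat 1),1)] .nil .nil)) .nil) (.node [] (.node [] .nil (.node [(147,(.negSucc 0),1)] .nil .nil)) (.node [] .nil (.node [(227,(.negSucc 0),1)] .nil .nil)))) (.node [] (.node [] (.node [] .nil (.node [(127,(.negSucc 0),1)] .nil .nil)) (.node [] .nil (.node [(194,(.negSucc 0),1)]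 .nil .nil))) (.node [] (.node [] .nil (.node [(172,(.negSucc 0),1)] .nil .nil)) .nil)))) (.node [] (.node [] (.node [] (.node [] (.node [] .nil (.node [(104,(.ofNat 1),1)] .nil .nil)) .nil) (.node [] .nil (.node [] .nil .nil))) (.node [(14,(.ofNat 1),1)] (.node [] (.node [] .nil (.node [(113,(.negSucc 0),1)] .nil .nil)) .nil) (.node [(32,(.ofNat 1),1)] (.node [] .nil (.node [(171,(.negSucc 0),1)] .nil .nil)) .nil))) (.node [] (.node [] .nil (.node [] .nil (.node [(87,(.ofNat 1),1)] .nil .nil))) (.node [] (.node [] .nil (.node [] .nil (.node [(199,(.negSucc 0),1)] .nil .nil))) (.node [(38,(.ofNat 1),1)] .nil .nil))))) (.node [] (.node [] (.node [] (.node [] .nil (.node [] (.node [] .nil (.node [(144,(.negSucc 0),1)] .nil .nil)) .nil)) (.node [] (.node [] .nil (.node [(70,(.ofNat 1),1)] .nil .nil)) .nil)) (.node [] .nil (.node [] (.node [] .nil (.node [] .nil (.node [(196,(.negSucc 0),1)] .nil .nil))) (.node [(36,(.ofNat 1),1)] .nil .nil)))) (.node [(101,(.ofNat 1),1)] (.node []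 .nil (.node [] (.node [] (.node [] .nil (.node [(122,(.negSucc 0),1)] .nil .nil)) .nil) (.node [] .nil (.node [] .nil (.node [(240,(.ofNat 1),1)] .nil .nil))))) (.node [(8,(.negSucc 0),1)] (.node [] .nil (.node [(29,(.ofNat 1),1)] .nil (.node [(92,(.ofNat 1),1)] .nil .nil))) (.node [] (.node [] (.node [] .nil (.node [(143,(.negSucc 0),1)] .nil .nil)) (.node [] .nil (.node [(202,(.negSucc 0),1)] .nil .nil))) (.node [(41,(.ofNat 1),1)] (.node [] .nil (.node [(175,(.negSucc 0),1)] .nil .nil)) .nil)))))))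
noncomputable def ex94 : Trie (List (ℕ × ℤ × ℕ)) := (.node [] (.node [] (.node [] (.node [] (.node [] (.node [] .nil (.node [] .nil (.node [] .nil (.node [(204,(.ofNat 1),1)] .nil .nil)))) (.node [] .nil (.node [] .nil (.node [(97,(.ofNat 1),1)] .nil .nil)))) (.node [] (.node [] (.node [] (.node [] .nil (.node [(105,(.ofNat 1),1)] .nil .nil)) .nil) .nil) (.node [] (.node [] (.node [] .nil (.node [(126,(.negSucc 0),1)] .nil .nil)) .nil) (.node [] (.node [] .nil (.node [(172,(.negSucc 0),1)] .nil .nil)) .nil)))) (.node [] (.node [] (.node [] (.node [] (.node [] .nil (.node [(104,(.ofNat 1),1)] .nil .nil)) .nil) .nil) (.node [(14,(.negSucc 0),1)] (.node [] .nil (.node [(75,(.ofNat 1),1)] .nil .nil)) (.node [] (.node [] .nil (.node [(171,(.negSucc 0),1)] .nil .nil)) .nil))) (.node [] .nil (.node [] (.node [] .nil (.node [] .nil (.node [(198,(.ofNat 1),1)] .nil .nil))) (.node [(38,(.negSucc 0),1)] .nil .nil))))) (.node [(102,(.negSucc 0),1)] (.node [] (.node [] (.node [] .nil (.node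 [] (.node [] .nil (.node [(144,(.negSucc 0),1)] .nil .nil)) (.node [] .nil (.node [(209,(.ofNat 1),1)] .nil .nil)))) (.node [] (.node [] .nil (.node [(68,(.ofNat 1),1)] .nil .nil)) .nil)) (.node [] .nil (.node [] (.node [] (.node [] .nil (.node [(128,(.negSucc 0),1)] .nil .nil)) (.node [] .nil (.node [(196,(.negSucc 0),1)] .nil .nil))) .nil))) (.node [(102,(.ofNat 1),1)] (.node [] (.node [] .nil (.node [] .nil (.node [] .nil .nil))) (.node [] (.node [] (.node [] .nil (.node [(119,(.negSucc 0),1)] .nil .nil)) .nil) (.node [] .nil (.node [] .nil (.node [(240,(.ofNat 1),1)] .nil .nil))))) (.node [] (.node [] .nil (.node [(29,(.negSucc 0),1)] .nil (.node [(90,(.ofNat 1),1)] .nil .nil))) (.node [] (.node [] (.node [] .nil (.node [(143,(.negSucc 0),1)] .nil .nil)) (.node [] .nil (.node [(202,(.negSucc 0),1)] .nil .nil))) (.node [(40,(.ofNat 1),1)] .nil .nil)))))) (.node [(102,(.ofNat 1),1)] (.node [] (.node [] (.node [] (.node [] (.node [] (.node [] .nil (.node [(103,(.ofNat 1),1)]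 .nil .nil)) .nil) (.node [] .nil (.node [] .nil (.node [(206,(.ofNat 1),1)] .nil .nil)))) (.node [] (.node [] .nil (.node [(66,(.ofNat 1),1)] .nil .nil)) (.node [(30,(.negSucc 0),1)] .nil (.node [] .nil (.node [(235,(.ofNat 1),1)] .nil .nil))))) (.node [] (.node [] .nil (.node [] (.node [] .nil (.node [(148,(.ofNat 1),1)] .nil .nil)) (.node [] .nil (.node [(228,(.ofNat 1),1)] .nil .nil)))) (.node [] (.node [] (.node [] .nil (.node [(1,(.negSucc 0),1),(3,(.negSucc 0),1),(4,(.negSucc 0),1),(5,(.negSucc 0),1),(6,(.negSucc 0),1),(102,(.negSucc 0),2)] .nil .nil)) (.node [] .nil (.node [(195,(.ofNat 1),1)] .nil .nil))) (.node [(35,(.negSucc 0),1)] .nil .nil)))) (.node [] (.node [] (.node [] .nil (.node [] (.node [] .nil (.node [(145,(.negSucc 0),1)] .nil .nil)) .nil)) (.node [] (.node [] (.node [] .nil (.node [(114,(.negSucc 0),1)] .nil .nil)) (.node [] .nil (.node [(192,(.negSucc 0),1)] .nil .nil))) (.node [(33,(.ofNat 1),1)] .nil .nil))) (.node [] (.node [] (.node [] (.node [] .nil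 (.node [(106,(.ofNat 1),1)] .nil .nil)) .nil) (.node [] .nil (.node [(88,(.ofNat 1),1)] .nil .nil))) (.node [] (.node [] .nil (.node [] .nil (.node [(200,(.ofNat 1),1)] .nil .nil))) (.node [] (.node [] .nil (.node [(174,(.negSucc 0),1)] .nil .nil)) .nil))))) (.node [] (.node [] (.node [] .nil (.node [] (.node [] .nil (.node [(71,(.ofNat 1),1)] .nil .nil)) (.node [(31,(.negSucc 0),1)] .nil .nil))) (.node [] (.node [] .nil (.node [] .nil (.node [(86,(.negSucc 0),1)] .nil .nil))) (.node [(22,(.negSucc 0),1)] .nil (.node [(37,(.ofNat 1),1)] (.node [] .nil (.node [(173,(.negSucc 0),1)] .nil .nil)) .nil)))) (.node [(102,(.negSucc 0),1)] (.node [] (.node [] .nil (.node [] (.node [] .nil (.node [(146,(.negSucc 0),1)] .nil .nil)) .nil)) (.node [] (.node [] (.node [] .nil (.node [(123,(.negSucc 0),1)] .nil .nil)) (.node [] .nil (.node [(193,(.negSucc 0),1)] .nil .nil))) (.node [(34,(.negSucc 0),1)] .nil .nil))) (.node [(9,(.negSucc 0),1)] (.node [] (.node [] .nil (.node [(64,(.negSucc 0),1)]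 .nil .nil)) (.node [] .nil (.node [(93,(.ofNat 1),1)] .nil .nil))) (.node [] .nil (.node [(42,(.ofNat 1),1)] (.node [] .nil (.node [(176,(.ofNat 1),1)] .nil .nil)) (.node [(101,(.ofNat 1),1)] .nil .nil))))))))
noncomputable def ex95 : Trie (List (ℕ × ℤ × ℕ)) := (.node [] (.node [] (.node [] (.node [] (.node [] .nil (.node [] (.node [] .nil (.node [(66,(.negSucc 0),1)] .nil .nil)) (.node [(30,(.ofNat 1),1)] .nil (.node [(98,(.ofNat 1),1)] .nil .nil)))) (.node [] (.node [] .nil (.node [] (.node [] .nil (.node [(148,(.ofNat 1),1)] .nil .nil)) .nil)) (.node [] (.node [] (.node [] .nil (.node [(1,(.negSucc 0),1),(3,(.negSucc 0),1),(4,(.negSucc 0),1),(5,(.negSucc 0),1),(103,(.negSucc 0),2)] .nil .nil)) (.node [] .nil (.node [(195,(.ofNat 1),1)] .nil .nil))) .nil))) (.node [] (.node [] (.node [] .nil (.node [] (.node [] .nil (.node [(145,(.negSucc 0),1)] .nil .nil)) .nil)) (.node [] (.node [] .nil (.node [(76,(.ofNat 1),1)] .nil (.node [(192,(.negSucc 0),1)] .nil .nil))) (.node [(33,(.negSucc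 0),1)] .nil .nil))) (.node [] (.node [] (.node [] (.node [] .nil (.node [(106,(.ofNat 1),1)] .nil .nil)) .nil) (.node [] .nil (.node [(88,(.negSucc 0),1)] .nil .nil))) (.node [] .nil (.node [(39,(.negSucc 0),1)] .nil .nil))))) (.node [(103,(.negSucc 0),1)] (.node [] (.node [] (.node [] .nil (.node [] .nil (.node [] .nil (.node [(210,(.negSucc 0),1)] .nil .nil)))) (.node [] (.node [] .nil (.node [(69,(.ofNat 1),1)] .nil .nil)) .nil)) (.node [] .nil (.node [(22,(.ofNat 1),1)] (.node [] (.node [] .nil (.node [(130,(.negSucc 0),1)] .nil .nil)) (.node [] .nil (.node [(197,(.ofNat 1),1)] .nil .nil))) (.node [(37,(.negSucc 0),1)] (.node [] .nil (.node [(173,(.negSucc 0),1)] .nil .nil)) .nil)))) (.node [(103,(.negSucc 0),1)] (.node [] .nil (.node [] (.node [] (.node [] .nil (.node [(120,(.negSucc 0),1)] .nil .nil)) .nil) (.node [(34,(.ofNat 1),1)] .nil .nil))) (.node [] (.node [] .nil (.node [] .nil (.node [(91,(.ofNat 1),1)] .nil .nil))) (.node [] (.node [] .nil (.node [] .nil (.node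 [(203,(.ofNat 1),1)] .nil .nil))) (.node [] (.node [] .nil (.node [(176,(.ofNat 1),1)] .nil .nil)) (.node [(102,(.ofNat 1),1)] .nil .nil))))))) (.node [(103,(.ofNat 1),1)] (.node [] (.node [] (.node [] (.node [] .nil (.node [] (.node [] .nil (.node [(144,(.negSucc 0),1)] .nil .nil)) (.node [] .nil (.node [(207,(.negSucc 0),1)] .nil .nil)))) (.node [] .nil (.node [] .nil (.node [] .nil (.node [(236,(.negSucc 0),1)] .nil .nil))))) (.node [] (.node [] .nil (.node [] .nil (.node [] .nil (.node [(229,(.negSucc 0),1)] .nil .nil)))) (.node [] (.node [] (.node [] .nil (.node [(129,(.negSucc 0),1)] .nil .nil)) .nil) (.node [(36,(.negSucc 0),1)] .nil .nil)))) (.node [(103,(.ofNat 1),1)] (.node [] .nil (.node [] (.node [] (.node [] .nil (.node [(115,(.negSucc 0),1)] .nil .nil)) .nil) (.node [] .nil (.node [] .nil (.node [(240,(.ofNat 1),1)] .nil .nil))))) (.node [] (.node [] .nil (.node [(29,(.ofNat 1),1)] .nil .nil)) (.node [] (.node [] (.node [] .nil (.node [(143,(.negSucc 0),1)] .nil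 .nil)) (.node [] .nil (.node [(201,(.negSucc 0),1)] .nil .nil))) (.node [(40,(.negSucc 0),1)] (.node [] .nil (.node [(175,(.ofNat 1),1)] .nil .nil)) (.node [(101,(.ofNat 1),1)] .nil .nil)))))) (.node [] (.node [] (.node [] (.node [] (.node [] (.node [] .nil (.node [(104,(.ofNat 1),1)] .nil .nil)) .nil) .nil) (.node [(14,(.ofNat 1),1)] (.node [] .nil (.node [(72,(.ofNat 1),1)] .nil .nil)) (.node [(32,(.negSucc 0),1)] (.node [] .nil (.node [(171,(.negSucc 0),1)] .nil .nil)) .nil))) (.node [] (.node [] .nil (.node [] .nil (.node [(87,(.negSucc 0),1)] .nil .nil))) (.node [] (.node [] .nil (.node [] .nil (.node [(198,(.ofNat 1),1)] .nil .nil))) .nil))) (.node [] (.node [] (.node [] (.node [] (.node [] .nil (.node [(105,(.ofNat 1),1)] .nil .nil)) .nil) (.node [] (.node [] .nil (.node [(147,(.ofNat 1),1)] .nil .nil)) (.node [] .nil .nil))) (.node [] (.node [] (.node [] .nil (.node [(124,(.negSucc 0),1)] .nil .nil)) (.node [] .nil (.node [(194,(.ofNat 1),1)] .nil .nil))) (.node [] (.node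 [] .nil (.node [(172,(.negSucc 0),1)] .nil .nil)) .nil))) (.node [(10,(.negSucc 0),1)] (.node [] (.node [] .nil (.node [(65,(.negSucc 0),1)] .nil .nil)) (.node [] .nil (.node [(94,(.ofNat 1),1)] .nil .nil))) (.node [] (.node [] .nil (.node [] .nil (.node [(204,(.ofNat 1),1)] .nil .nil))) (.node [(43,(.ofNat 1),1)] .nil .nil)))))))
noncomputable def ex96 : Trie (List (ℕ × ℤ × ℕ)) := (.node [] (.node [] (.node [] (.node [] (.node [] (.node [] .nil (.node [] (.node [] .nil (.node [(144,(.negSucc 0),1)] .nil .nil)) (.node [] .nil (.node [(207,(.negSucc 0),1)] .nil .nil)))) (.node [] (.node [] .nil (.node [(68,(.negSucc 0),1)] .nil .nil)) (.node [(31,(.ofNat 1),1)] .nil (.node [(99,(.ofNat 1),1)] .nil .nil)))) (.node [] (.node [] .nil (.node [] .nil (.node [] .nil .nil))) (.node [] (.node [] (.node [] .nil (.node [(131,(.negSucc 0),1)] .nil .nil)) .nil) (.node [(37,(.ofNat 1),1)] .nil .nil)))) (.node [(104,(.ofNat 1),1)] (.node [] (.node [] .nil (.node [] (.node [] .nil (.node [(146,(.ofNat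 1),1)] .nil .nil)) .nil)) (.node [] (.node [] .nil (.node [(77,(.ofNat 1),1)] .nil (.node [(193,(.ofNat 1),1)] .nil .nil))) (.node [] .nil (.node [] .nil (.node [(240,(.ofNat 1),1)] .nil .nil))))) (.node [] (.node [] .nil (.node [(29,(.negSucc 0),1)] .nil (.node [(90,(.negSucc 0),1)] .nil .nil))) (.node [] (.node [] (.node [] .nil (.node [(143,(.negSucc 0),1)] .nil .nil)) (.node [] .nil (.node [(201,(.negSucc 0),1)] .nil .nil))) (.node [(41,(.negSucc 0),1)] (.node [] .nil (.node [(176,(.ofNat 1),1)] .nil .nil)) (.node [(103,(.ofNat 1),1)] .nil .nil)))))) (.node [(104,(.negSucc 0),1)] (.node [] (.node [] (.node [] .nil (.node [] .nil (.node [] .nil (.node [(211,(.ofNat 1),1)] .nil .nil)))) (.node [(14,(.negSucc 0),1)] .nil (.node [(33,(.ofNat 1),1)] (.node [] .nil (.node [(171,(.negSucc 0),1)] .nil .nil)) .nil))) (.node [] .nil (.node [] (.node [] (.node [] .nil (.node [(133,(.negSucc 0),1)] .nil .nil)) (.node [] .nil (.node [(199,(.negSucc 0),1)] .nil .nil))) (.node [] (.node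 [] .nil (.node [(174,(.ofNat 1),1)] .nil .nil)) (.node [(101,(.ofNat 1),1)] .nil .nil))))) (.node [] (.node [] (.node [] (.node [] (.node [] .nil (.node [(105,(.ofNat 1),1)] .nil .nil)) .nil) (.node [] (.node [] .nil (.node [(148,(.ofNat 1),1)] .nil .nil)) .nil)) (.node [] (.node [] (.node [] .nil (.node [(121,(.negSucc 0),1)] .nil .nil)) (.node [] .nil (.node [(195,(.ofNat 1),1)] .nil .nil))) (.node [(35,(.ofNat 1),1)] (.node [] .nil (.node [(172,(.negSucc 0),1)] .nil .nil)) .nil))) (.node [] .nil (.node [] (.node [] .nil (.node [] .nil (.node [(205,(.negSucc 0),1)] .nil .nil))) (.node [(43,(.negSucc 0),1)] .nil .nil)))))) (.node [(104,(.ofNat 1),1)] (.node [] (.node [] (.node [] .nil (.node [] (.node [] .nil (.node [(69,(.negSucc 0),1)] .nil .nil)) (.node [(32,(.ofNat 1),1)] .nil (.node [] .nil (.node [(237,(.ofNat 1),1)] .nil .nil))))) (.node [] (.node [] .nil (.node [] .nil (.node [] .nil (.node [(230,(.ofNat 1),1)] .nil .nil)))) (.node [(22,(.negSucc 0),1)] (.node [] (.node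 [] .nil (.node [(132,(.negSucc 0),1)] .nil .nil)) .nil) .nil))) (.node [(104,(.negSucc 0),1)] (.node [] (.node [] .nil (.node [] (.node [] .nil (.node [(147,(.ofNat 1),1)] .nil .nil)) .nil)) (.node [] (.node [] (.node [] .nil (.node [(116,(.negSucc 0),1)] .nil .nil)) (.node [] .nil (.node [(194,(.ofNat 1),1)] .nil .nil))) .nil)) (.node [] (.node [] .nil (.node [] .nil (.node [(91,(.negSucc 0),1)] .nil .nil))) (.node [] .nil (.node [(42,(.negSucc 0),1)] .nil .nil))))) (.node [] (.node [] (.node [] .nil (.node [] (.node [] .nil (.node [(73,(.ofNat 1),1)] .nil .nil)) .nil)) (.node [] (.node [] (.node [] (.node [] .nil (.node [(106,(.ofNat 1),1)] .nil .nil)) .nil) (.node [] .nil (.node [(89,(.negSucc 0),1)] .nil .nil))) (.node [] (.node [] .nil (.node [] .nil (.node [(200,(.negSucc 0),1)] .nil .nil))) (.node [] (.node [] .nil (.node [(175,(.ofNat 1),1)] .nil .nil)) (.node [(102,(.ofNat 1),1)] .nil .nil))))) (.node [] (.node [] .nil (.node [] (.node [] (.node [] .nil (.node [(1,(.negSucc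 0),1),(3,(.negSucc 0),1),(4,(.negSucc 0),1),(104,(.negSucc 0),2)] .nil .nil)) .nil) (.node [(36,(.ofNat 1),1)] .nil .nil))) (.node [(11,(.negSucc 0),1)] (.node [] (.node [] .nil (.node [(67,(.negSucc 0),1)] .nil .nil)) (.node [] .nil (.node [(95,(.ofNat 1),1)] .nil .nil))) (.node [] (.node [] .nil (.node [] .nil (.node [(206,(.negSucc 0),1)] .nil .nil))) .nil))))))
noncomputable def ex97 : Trie (List (ℕ × ℤ × ℕ)) := (.node [] (.node [] (.node [] (.node [] (.node [] (.node [] .nil (.node [] (.node [] .nil (.node [(145,(.ofNat 1),1)] .nil .nil)) (.node [] .nil (.node [(210,(.ofNat 1),1)] .nil .nil)))) (.node [] (.node [] .nil (.node [(71,(.negSucc 0),1)] .nil .nil)) (.node [] .nil (.node [(100,(.ofNat 1),1)] .nil .nil)))) (.node [] .nil (.node [(22,(.ofNat 1),1)] (.node [] (.node [] .nil (.node [(135,(.negSucc 0),1)] .nil .nil)) (.node [] .nil (.node [(200,(.negSucc 0),1)] .nil .nil))) (.node [(40,(.ofNat 1),1)] (.node [] .nil (.node [(175,(.ofNat 1),1)] .nil .nil)) (.node [(103,(.ofNat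 1),1)] .nil .nil))))) (.node [(105,(.negSucc 0),1)] (.node [] .nil (.node [] (.node [] .nil (.node [(78,(.ofNat 1),1)] .nil (.node [(196,(.negSucc 0),1)] .nil .nil))) .nil)) (.node [] (.node [] .nil (.node [(30,(.negSucc 0),1)] .nil (.node [(93,(.negSucc 0),1)] .nil .nil))) .nil))) (.node [(105,(.negSucc 0),1)] (.node [] (.node [] (.node [] .nil (.node [] (.node [] .nil (.node [(147,(.ofNat 1),1)] .nil .nil)) .nil)) (.node [] (.node [] .nil (.node [(73,(.negSucc 0),1)] .nil .nil)) .nil)) (.node [] (.node [] (.node [] (.node [] .nil (.node [(106,(.ofNat 1),1)] .nil .nil)) .nil) .nil) (.node [] (.node [] (.node [] .nil (.node [(137,(.negSucc 0),1)] .nil .nil)) .nil) (.node [(42,(.ofNat 1),1)] .nil .nil)))) (.node [] (.node [] .nil (.node [] (.node [] (.node [] .nil (.node [(1,(.negSucc 0),1),(3,(.negSucc 0),1),(105,(.negSucc 0),2)] .nil .nil)) (.node [] .nil (.node [(198,(.negSucc 0),1)] .nil .nil))) (.node [(38,(.ofNat 1),1)] (.node [] .nil (.node [(173,(.ofNat 1),1)] .nil .nil))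 (.node [(101,(.ofNat 1),1)] .nil .nil)))) (.node [] (.node [] .nil (.node [(32,(.negSucc 0),1)] .nil (.node [(95,(.negSucc 0),1)] .nil .nil))) (.node [] (.node [] .nil (.node [] .nil (.node [(208,(.ofNat 1),1)] .nil .nil))) .nil))))) (.node [(105,(.ofNat 1),1)] (.node [] (.node [] (.node [] (.node [] .nil (.node [] (.node [] .nil (.node [(146,(.ofNat 1),1)] .nil .nil)) (.node [] .nil (.node [(211,(.ofNat 1),1)] .nil .nil)))) (.node [(14,(.ofNat 1),1)] (.node [] .nil (.node [(72,(.negSucc 0),1)] .nil .nil)) (.node [] (.node [] .nil (.node [(171,(.negSucc 0),1)] .nil .nil)) (.node [] .nil (.node [(238,(.negSucc 0),1)] .nil .nil))))) (.node [] (.node [] .nil (.node [] .nil (.node [] .nil (.node [(231,(.negSucc 0),1)] .nil .nil)))) (.node [] (.node [] (.node [] .nil (.node [(136,(.negSucc 0),1)] .nil .nil)) (.node [] .nil (.node [(201,(.negSucc 0),1)] .nil .nil))) (.node [(41,(.ofNat 1),1)] (.node [] .nil (.node [(176,(.ofNat 1),1)] .nil .nil)) (.node [(104,(.ofNat 1),1)] .nil .nil)))))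 (.node [] (.node [] .nil (.node [] (.node [] (.node [] .nil (.node [(117,(.negSucc 0),1)] .nil .nil)) (.node [] .nil (.node [(197,(.negSucc 0),1)] .nil .nil))) .nil)) (.node [] (.node [] .nil (.node [(31,(.negSucc 0),1)] .nil (.node [(94,(.negSucc 0),1)] .nil .nil))) .nil))) (.node [(105,(.ofNat 1),1)] (.node [] (.node [] (.node [] .nil (.node [] (.node [] .nil (.node [(148,(.ofNat 1),1)] .nil .nil)) .nil)) (.node [] .nil (.node [] .nil (.node [] .nil (.node [(240,(.ofNat 1),1)] .nil .nil))))) (.node [] (.node [] .nil (.node [] .nil (.node [(92,(.negSucc 0),1)] .nil .nil))) (.node [] (.node [] (.node [] .nil (.node [(143,(.negSucc 0),1)] .nil .nil)) .nil) (.node [(43,(.ofNat 1),1)] .nil .nil)))) (.node [] (.node [] .nil (.node [] (.node [] (.node [] .nil (.node [(134,(.negSucc 0),1)] .nil .nil)) (.node [] .nil (.node [(199,(.negSucc 0),1)] .nil .nil))) (.node [(39,(.ofNat 1),1)] (.node [] .nil (.node [(174,(.ofNat 1),1)] .nil .nil)) (.node [(102,(.ofNat 1),1)] .nil .nil)))) (.node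 [(12,(.negSucc 0),1)] (.node [] (.node [] .nil (.node [(70,(.negSucc 0),1)] .nil .nil)) (.node [(33,(.negSucc 0),1)] .nil .nil)) (.node [] (.node [] .nil (.node [] .nil (.node [(209,(.ofNat 1),1)] .nil .nil))) .nil))))))
noncomputable def ex98 : Trie (List (ℕ × ℤ × ℕ)) := (.node [] (.node [] (.node [] (.node [] (.node [] .nil (.node [(14,(.negSucc 0),1)] (.node [] .nil (.node [(75,(.negSucc 0),1)] .nil .nil)) (.node [(38,(.negSucc 0),1)] .nil .nil))) (.node [] .nil (.node [] (.node [] (.node [] .nil (.node [(140,(.negSucc 0),1)] .nil .nil)) (.node [] .nil (.node [(206,(.ofNat 1),1)] .nil .nil))) .nil))) (.node [] (.node [] .nil (.node [] (.node [] .nil (.node [] .nil (.node [(202,(.ofNat 1),1)] .nil .nil))) (.node [(42,(.negSucc 0),1)] (.node [] .nil (.node [(175,(.ofNat 1),1)] .nil .nil)) (.node [(104,(.ofNat 1),1)] .nil .nil)))) (.node [] (.node [] .nil (.node [(34,(.negSucc 0),1)] .nil (.node [(97,(.negSucc 0),1)] .nil .nil))) (.node [] (.node [] (.node [] .nil (.node [(145,(.ofNat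 1),1)] .nil .nil)) (.node [] .nil (.node [(210,(.ofNat 1),1)] .nil .nil))) .nil)))) (.node [] (.node [] (.node [] .nil (.node [] (.node [] .nil (.node [(77,(.negSucc 0),1)] .nil .nil)) (.node [(40,(.negSucc 0),1)] (.node [] .nil (.node [(173,(.ofNat 1),1)] .nil .nil)) (.node [(102,(.ofNat 1),1)] .nil (.node [(240,(.ofNat 1),1)] .nil .nil))))) (.node [] (.node [] .nil (.node [] .nil (.node [] .nil .nil))) (.node [] (.node [] (.node [] .nil (.node [(142,(.negSucc 0),1)] .nil .nil)) (.node [] .nil (.node [(208,(.ofNat 1),1)] .nil .nil))) .nil))) (.node [] (.node [] .nil (.node [] (.node [] (.node [] .nil (.node [(138,(.negSucc 0),1)] .nil .nil)) (.node [] .nil (.node [(204,(.ofNat 1),1)] .nil .nil))) .nil)) (.node [] (.node [] .nil (.node [(36,(.negSucc 0),1)] .nil (.node [(99,(.negSucc 0),1)] .nil .nil))) (.node [] (.node [] (.node [] .nil (.node [(147,(.ofNat 1),1)] .nil .nil)) .nil) .nil))))) (.node [(106,(.ofNat 2),1)] (.node [] (.node [] (.node [] .nil (.node [] (.node [] .nil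 (.node [(76,(.negSucc 0),1)] .nil .nil)) (.node [(39,(.negSucc 0),1)] (.node [] .nil (.node [(172,(.ofNat 1),1)] .nil .nil)) (.node [(101,(.ofNat 1),1)] .nil (.node [(239,(.ofNat 1),1)] .nil .nil))))) (.node [] (.node [] .nil (.node [] .nil (.node [] .nil (.node [(232,(.ofNat 1),1)] .nil .nil)))) (.node [] (.node [] (.node [] .nil (.node [(141,(.negSucc 0),1)] .nil .nil)) (.node [] .nil (.node [(207,(.ofNat 1),1)] .nil .nil))) .nil))) (.node [] (.node [] .nil (.node [] (.node [] (.node [] .nil (.node [(1,(.negSucc 0),1),(106,(.negSucc 0),2)] .nil .nil)) (.node [] .nil (.node [(203,(.ofNat 1),1)] .nil .nil))) (.node [(43,(.negSucc 0),1)] (.node [] .nil (.node [(176,(.ofNat 1),1)] .nil .nil)) (.node [(105,(.ofNat 1),1)] .nil .nil)))) (.node [] (.node [] .nil (.node [(35,(.negSucc 0),1)] .nil (.node [(98,(.negSucc 0),1)] .nil .nil))) (.node [] (.node [] (.node [] .nil (.node [(146,(.ofNat 1),1)] .nil .nil)) (.node [] .nil (.node [(211,(.ofNat 1),1)] .nil .nil))) .nil)))) (.node [(106,(.negSucc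 0),1)] (.node [] (.node [] .nil (.node [] (.node [] .nil (.node [(78,(.negSucc 0),1)] .nil .nil)) (.node [(41,(.negSucc 0),1)] (.node [] .nil (.node [(174,(.ofNat 1),1)] .nil .nil)) (.node [(103,(.ofNat 1),1)] .nil .nil)))) (.node [] (.node [] .nil (.node [] .nil (.node [(96,(.negSucc 0),1)] .nil .nil))) (.node [] (.node [] (.node [] .nil (.node [(144,(.ofNat 1),1)] .nil .nil)) (.node [] .nil (.node [(209,(.ofNat 1),1)] .nil .nil))) .nil))) (.node [] (.node [] .nil (.node [(22,(.negSucc 0),1)] (.node [] (.node [] .nil (.node [(139,(.negSucc 0),1)] .nil .nil)) (.node [] .nil (.node [(205,(.ofNat 1),1)] .nil .nil))) .nil)) (.node [(13,(.negSucc 0),1)] (.node [] (.node [] .nil (.node [(74,(.negSucc 0),1)] .nil .nil)) (.node [(37,(.negSucc 0),1)] .nil (.node [(100,(.negSucc 0),1)] .nil .nil))) (.node [] (.node [] (.node [] .nil (.node [(148,(.ofNat 1),1)] .nil .nil)) .nil) .nil))))))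
noncomputable def ex99 : Trie (List (ℕ × ℤ × ℕ)) := (.node [(107,(.negSucc 0),1)] (.node [] (.node [] (.node [] (.node [] (.node [] (.node [] (.node [] .nil (.node [(108,(.ofNat 1),1)] .nil .nil)) .nil) .nil) (.node [] (.node [] (.node [] .nil (.node [(118,(.negSucc 0),1)] .nil .nil)) .nil) (.node [] (.node [] .nil (.node [(170,(.ofNat 1),1)] .nil .nil)) (.node [] .nil (.node [(234,(.negSucc 0),1)] .nil .nil))))) (.node [] (.node [] (.node [] .nil (.node [(49,(.negSucc 0),1)] .nil (.node [(179,(.ofNat 1),1)] .nil .nil))) (.node [(25,(.negSucc 0),1)] (.node [] .nil (.node [(152,(.negSucc 0),1)] .nil .nil)) (.node [(89,(.ofNat 1),1)] .nil (.node [(222,(.ofNat 1),1)] .nil .nil)))) .nil)) (.node [] (.node [] (.node [] (.node [] .nil (.node [(45,(.negSucc 0),1)] .nil .nil)) (.node [] .nil (.node [] .nil (.node [(212,(.ofNat 1),1)] .nil .nil)))) (.node [] (.node [] (.node [] .nil (.node [(2,(.negSucc 0),1),(3,(.negSucc 0),1),(4,(.negSucc 0),1),(5,(.negSucc 0),1),(6,(.negSucc 0),1),(7,(.negSucc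 0),1),(107,(.negSucc 0),2)] .nil .nil)) .nil) .nil)) (.node [] (.node [] (.node [] .nil (.node [(55,(.negSucc 0),1)] .nil (.node [(182,(.ofNat 1),1)] .nil .nil))) .nil) .nil))) (.node [(107,(.ofNat 1),1)] (.node [] (.node [] (.node [] (.node [] (.node [] .nil (.node [(109,(.ofNat 1),1)] .nil .nil)) (.node [(44,(.negSucc 0),1)] .nil .nil)) .nil) (.node [] (.node [] (.node [] .nil (.node [(125,(.negSucc 0),1)] .nil .nil)) (.node [] .nil (.node [(187,(.ofNat 1),1)] .nil .nil))) .nil)) (.node [] (.node [] .nil (.node [(26,(.negSucc 0),1)] .nil (.node [(96,(.ofNat 1),1)] .nil .nil))) .nil)) (.node [] (.node [] (.node [] (.node [] .nil (.node [] .nil (.node [(178,(.ofNat 1),1)] .nil .nil))) (.node [] (.node [] .nil (.node [(151,(.negSucc 0),1)] .nil .nil)) (.node [(86,(.ofNat 1),1)] .nil (.node [(215,(.ofNat 1),1)] .nil .nil)))) .nil) (.node [(8,(.negSucc 0),1)] (.node [] (.node [] (.node [] .nil (.node [(112,(.ofNat 1),1)] .nil .nil)) (.node [(60,(.negSucc 0),1)] .nil (.node [(183,(.ofNat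 1),1)] .nil .nil))) .nil) .nil)))) (.node [(107,(.negSucc 0),1)] (.node [] (.node [] (.node [] (.node [] .nil (.node [(23,(.negSucc 0),1)] .nil .nil)) (.node [] (.node [] (.node [] .nil (.node [(122,(.negSucc 0),1)] .nil .nil)) (.node [] .nil (.node [(186,(.ofNat 1),1)] .nil .nil))) .nil)) (.node [] (.node [] (.node [] (.node [] .nil (.node [(111,(.ofNat 1),1)] .nil .nil)) (.node [(51,(.negSucc 0),1)] .nil (.node [(180,(.ofNat 1),1)] .nil .nil))) (.node [] (.node [] .nil (.node [(153,(.negSucc 0),1)] .nil .nil)) (.node [(92,(.ofNat 1),1)] .nil .nil))) .nil)) (.node [] (.node [] (.node [] (.node [] (.node [] .nil (.node [(110,(.ofNat 1),1)] .nil .nil)) (.node [(46,(.negSucc 0),1)] .nil .nil)) (.node [(24,(.negSucc 0),1)] .nil (.node [] .nil (.node [(213,(.ofNat 1),1)] .nil .nil)))) (.node [(15,(.ofNat 1),1)] (.node [] .nil (.node [(79,(.negSucc 0),1)] .nil .nil)) .nil)) (.node [] (.node [] (.node [] .nil (.node [(57,(.negSucc 0),1)] .nil .nil)) .nil) .nil))) (.node [] (.node []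 (.node [] (.node [] (.node [] .nil (.node [] .nil (.node [(177,(.ofNat 1),1)] .nil .nil))) (.node [] (.node [] .nil (.node [(150,(.negSucc 0),1)] .nil .nil)) .nil)) (.node [] (.node [] (.node [] .nil (.node [(127,(.negSucc 0),1)] .nil .nil)) (.node [] .nil (.node [(189,(.ofNat 1),1)] .nil .nil))) .nil)) (.node [] (.node [] (.node [] .nil (.node [(54,(.negSucc 0),1)] .nil .nil)) (.node [(27,(.negSucc 0),1)] .nil (.node [] .nil .nil))) .nil)) (.node [(107,(.ofNat 1),1)] (.node [] (.node [] (.node [] .nil (.node [(48,(.negSucc 0),1)] .nil .nil)) (.node [] .nil (.node [(87,(.ofNat 1),1)] .nil (.node [(218,(.ofNat 1),1)] .nil .nil)))) (.node [] .nil (.node [] .nil (.node [] .nil (.node [(241,(.ofNat 1),1)] .nil .nil))))) (.node [] (.node [] (.node [] (.node [] .nil (.node [(113,(.negSucc 0),1)] .nil .nil)) (.node [] .nil (.node [(184,(.ofNat 1),1)] .nil .nil))) .nil) (.node [] (.node [] (.node [] .nil (.node [(149,(.negSucc 0),1)] .nil .nil)) .nil) .nil))))))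
noncomputable def ex100 : Trie (List (ℕ × ℤ × ℕ)) := (.node [(108,(.negSucc 0),1)] (.node [] (.node [] (.node [] (.node [] (.node [] .nil (.node [(23,(.ofNat 1),1)] .nil .nil)) (.node [] (.node [] (.node [] .nil (.node [(119,(.negSucc 0),1)] .nil .nil)) (.node [] .nil (.node [(186,(.ofNat 1),1)] .nil .nil))) (.node [] .nil (.node [] .nil (.node [(235,(.ofNat 1),1)] .nil .nil))))) (.node [] (.node [] (.node [] (.node [] .nil (.node [(111,(.ofNat 1),1)] .nil .nil)) (.node [(50,(.negSucc 0),1)] .nil .nil)) (.node [] .nil (.node [(90,(.ofNat 1),1)] .nil (.node [(223,(.negSucc 0),1)] .nil .nil)))) .nil)) (.node [] (.node [] (.node [] (.node [] (.node [] .nil (.node [(110,(.ofNat 1),1)] .nil .nil)) .nil) (.node [(24,(.ofNat 1),1)] .nil .nil)) (.node [(15,(.negSucc 0),1)] (.node [] (.node [] .nil (.node [(128,(.negSucc 0),1)] .nil .nil)) .nil) .nil)) (.node [] (.node [] (.node [] .nil (.node [(56,(.negSucc 0),1)] .nil .nil)) (.node [] .nil (.node [] .nil .nil))) .nil))) (.node [(108,(.ofNat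 1),1)] (.node [] (.node [] (.node [] (.node [] .nil (.node [] .nil (.node [(177,(.ofNat 1),1)] .nil .nil))) (.node [] (.node [] .nil (.node [(150,(.negSucc 0),1)] .nil .nil)) .nil)) (.node [] (.node [] (.node [] .nil (.node [(126,(.negSucc 0),1)] .nil .nil)) (.node [] .nil (.node [(188,(.negSucc 0),1)] .nil .nil))) .nil)) (.node [] (.node [] (.node [] .nil (.node [(54,(.ofNat 1),1)] .nil .nil)) (.node [] .nil (.node [(97,(.ofNat 1),1)] .nil .nil))) .nil)) (.node [(108,(.ofNat 1),1)] (.node [] (.node [] (.node [] .nil (.node [(48,(.ofNat 1),1)] .nil .nil)) (.node [] .nil (.node [] .nil (.node [(216,(.negSucc 0),1)] .nil .nil)))) (.node [] .nil (.node [] .nil (.node [] .nil (.node [(241,(.ofNat 1),1)] .nil .nil))))) (.node [(9,(.negSucc 0),1)] (.node [] (.node [] .nil (.node [(61,(.negSucc 0),1)] .nil .nil)) .nil) (.node [] (.node [] (.node [] .nil (.node [(149,(.negSucc 0),1)] .nil .nil)) .nil) .nil))))) (.node [(108,(.negSucc 0),1)] (.node [] (.node [] (.node [] (.node [] (.node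 [] (.node [] .nil (.node [(109,(.ofNat 1),1)] .nil .nil)) (.node [(44,(.ofNat 1),1)] .nil .nil)) .nil) (.node [] (.node [] (.node [] .nil (.node [(123,(.negSucc 0),1)] .nil .nil)) .nil) .nil)) (.node [] (.node [] (.node [] .nil (.node [(52,(.negSucc 0),1)] .nil (.node [(181,(.negSucc 0),1)] .nil .nil))) (.node [(26,(.ofNat 1),1)] (.node [] .nil (.node [(154,(.ofNat 1),1)] .nil .nil)) (.node [(93,(.ofNat 1),1)] .nil .nil))) .nil)) (.node [] (.node [] (.node [] (.node [] .nil (.node [(47,(.negSucc 0),1)] .nil (.node [(178,(.ofNat 1),1)] .nil .nil))) (.node [] (.node [] .nil (.node [(151,(.negSucc 0),1)] .nil .nil)) (.node [(86,(.negSucc 0),1)] .nil (.node [(214,(.negSucc 0),1)] .nil .nil)))) (.node [] (.node [] .nil (.node [(80,(.negSucc 0),1)] .nil .nil)) .nil)) (.node [] (.node [] (.node [] (.node [] .nil (.node [(112,(.ofNat 1),1)] .nil .nil)) (.node [(58,(.negSucc 0),1)] .nil (.node [(183,(.ofNat 1),1)] .nil .nil))) .nil) .nil))) (.node [] (.node [] (.node [] (.node [] (.node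 [] .nil (.node [(45,(.ofNat 1),1)] .nil .nil)) (.node [] .nil (.node [] .nil (.node [(212,(.ofNat 1),1)] .nil .nil)))) (.node [] (.node [] (.node [] .nil (.node [(2,(.negSucc 0),1),(3,(.negSucc 0),1),(4,(.negSucc 0),1),(5,(.negSucc 0),1),(6,(.negSucc 0),1),(108,(.negSucc 0),2)] .nil .nil)) (.node [] .nil (.node [(190,(.negSucc 0),1)] .nil .nil))) .nil)) (.node [] (.node [] (.node [] .nil (.node [] .nil (.node [(182,(.ofNat 1),1)] .nil .nil))) (.node [(28,(.negSucc 0),1)] .nil .nil)) .nil)) (.node [(108,(.negSucc 0),1)] (.node [] (.node [] (.node [] .nil (.node [] .nil (.node [(179,(.ofNat 1),1)] .nil .nil))) (.node [(25,(.ofNat 1),1)] (.node [] .nil (.node [(152,(.negSucc 0),1)] .nil .nil)) (.node [(88,(.ofNat 1),1)] .nil (.node [(219,(.negSucc 0),1)] .nil .nil)))) .nil) (.node [] (.node [] (.node [] (.node [] .nil (.node [(114,(.negSucc 0),1)] .nil .nil)) (.node [] .nil (.node [(185,(.negSucc 0),1)] .nil .nil))) (.node [] (.node [] .nil (.node [(170,(.ofNat 1),1)] .nil .nil))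 .nil)) (.node [] .nil (.node [] .nil (.node [(107,(.ofNat 1),1)] .nil .nil))))))))
noncomputable def ex101 : Trie (List (ℕ × ℤ × ℕ)) := (.node [(109,(.negSucc 0),1)] (.node [] (.node [] (.node [] (.node [] (.node [] (.node [] .nil (.node [(44,(.negSucc 0),1)] .nil .nil)) .nil) (.node [] (.node [] (.node [] .nil (.node [(120,(.negSucc 0),1)] .nil .nil)) (.node [] .nil (.node [(187,(.negSucc 0),1)] .nil .nil))) (.node [] .nil (.node [] .nil (.node [(236,(.negSucc 0),1)] .nil .nil))))) (.node [] (.node [] (.node [] .nil (.node [] .nil (.node [(181,(.negSucc 0),1)] .nil .nil))) (.node [] (.node [] .nil (.node [(154,(.ofNat 1),1)] .nil .nil)) (.node [(91,(.ofNat 1),1)] .nil (.node [(224,(.ofNat 1),1)] .nil .nil)))) .nil)) (.node [] (.node [] (.node [] (.node [] .nil (.node [(47,(.ofNat 1),1)] .nil (.node [(178,(.ofNat 1),1)] .nil .nil))) (.node [] (.node [] .nil (.node [(151,(.negSucc 0),1)] .nil .nil)) (.node [] .nil (.node [(214,(.negSucc 0),1)] .nil .nil)))) (.node [] (.node []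 (.node [] .nil (.node [(130,(.negSucc 0),1)] .nil .nil)) .nil) .nil)) (.node [] (.node [] (.node [] (.node [] .nil (.node [(112,(.ofNat 1),1)] .nil .nil)) .nil) .nil) .nil))) (.node [(109,(.ofNat 1),1)] (.node [] (.node [] .nil (.node [] (.node [] (.node [] .nil (.node [(2,(.negSucc 0),1),(3,(.negSucc 0),1),(4,(.negSucc 0),1),(5,(.negSucc 0),1),(109,(.negSucc 0),2)] .nil .nil)) .nil) .nil)) (.node [] (.node [] (.node [] .nil (.node [(55,(.ofNat 1),1)] .nil (.node [(182,(.ofNat 1),1)] .nil .nil))) (.node [(28,(.ofNat 1),1)] .nil (.node [(98,(.ofNat 1),1)] .nil .nil))) .nil)) (.node [(109,(.negSucc 0),1)] (.node [] (.node [] (.node [] .nil (.node [(49,(.ofNat 1),1)] .nil .nil)) (.node [(25,(.negSucc 0),1)] .nil (.node [(88,(.negSucc 0),1)] .nil (.node [(217,(.ofNat 1),1)] .nil .nil)))) .nil) (.node [(10,(.negSucc 0),1)] (.node [] (.node [] .nil (.node [(62,(.negSucc 0),1)] .nil (.node [(185,(.negSucc 0),1)] .nil .nil))) (.node [] (.node [] .nil (.node [(170,(.ofNat 1),1)] .nil .nil))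 .nil)) (.node [] .nil (.node [] .nil (.node [(108,(.ofNat 1),1)] .nil .nil))))))) (.node [(109,(.negSucc 0),1)] (.node [] (.node [] (.node [] (.node [] (.node [] .nil (.node [] .nil (.node [(177,(.ofNat 1),1)] .nil .nil))) (.node [] (.node [] .nil (.node [(150,(.negSucc 0),1)] .nil .nil)) .nil)) (.node [] (.node [] (.node [] .nil (.node [(124,(.negSucc 0),1)] .nil .nil)) (.node [] .nil (.node [(188,(.negSucc 0),1)] .nil .nil))) .nil)) (.node [] (.node [] (.node [] .nil (.node [(53,(.negSucc 0),1)] .nil .nil)) (.node [(27,(.ofNat 1),1)] .nil (.node [(94,(.ofNat 1),1)] .nil .nil))) .nil)) (.node [(109,(.ofNat 1),1)] (.node [] (.node [] .nil (.node [] .nil (.node [(87,(.negSucc 0),1)] .nil .nil))) (.node [] (.node [] .nil (.node [(81,(.negSucc 0),1)] .nil .nil)) (.node [] .nil (.node [] .nil (.node [(241,(.ofNat 1),1)] .nil .nil))))) (.node [] (.node [] (.node [] .nil (.node [(59,(.negSucc 0),1)] .nil (.node [(184,(.negSucc 0),1)] .nil .nil))) (.node [] .nil (.node [] .nil .nil)))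 (.node [] (.node [] (.node [] .nil (.node [(149,(.negSucc 0),1)] .nil .nil)) .nil) (.node [] .nil (.node [(107,(.ofNat 1),1)] .nil .nil)))))) (.node [] (.node [] (.node [] (.node [] (.node [] (.node [] .nil (.node [(110,(.ofNat 1),1)] .nil .nil)) (.node [(46,(.ofNat 1),1)] .nil .nil)) (.node [(24,(.negSucc 0),1)] .nil (.node [] .nil (.node [(213,(.negSucc 0),1)] .nil .nil)))) (.node [(15,(.ofNat 1),1)] (.node [] (.node [] .nil (.node [(129,(.negSucc 0),1)] .nil .nil)) (.node [] .nil (.node [(191,(.ofNat 1),1)] .nil .nil))) .nil)) (.node [] (.node [] (.node [] .nil (.node [(56,(.ofNat 1),1)] .nil .nil)) .nil) .nil)) (.node [] (.node [] (.node [] (.node [] (.node [] .nil (.node [(111,(.ofNat 1),1)] .nil .nil)) (.node [(50,(.ofNat 1),1)] .nil (.node [(180,(.negSucc 0),1)] .nil .nil))) (.node [] (.node [] .nil (.node [(153,(.ofNat 1),1)] .nil .nil)) (.node [] .nil (.node [(220,(.ofNat 1),1)] .nil .nil)))) .nil) (.node [] (.node [] (.node [] (.node [] .nil (.node [(115,(.negSucc 0),1)]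 .nil .nil)) .nil) .nil) (.node [(23,(.negSucc 0),1)] .nil .nil))))))
noncomputable def ex102 : Trie (List (ℕ × ℤ × ℕ)) := (.node [(110,(.negSucc 0),1)] (.node [] (.node [] (.node [] (.node [] (.node [] (.node [] .nil (.node [(45,(.negSucc 0),1)] .nil (.node [(177,(.ofNat 1),1)] .nil .nil))) (.node [] (.node [] .nil (.node [(150,(.negSucc 0),1)] .nil .nil)) .nil)) (.node [] (.node [] (.node [] .nil (.node [(121,(.negSucc 0),1)] .nil .nil)) (.node [] .nil (.node [(189,(.ofNat 1),1)] .nil .nil))) (.node [] .nil (.node [] .nil (.node [(237,(.ofNat 1),1)] .nil .nil))))) (.node [] (.node [] (.node [] .nil (.node [(53,(.ofNat 1),1)] .nil .nil)) (.node [(28,(.negSucc 0),1)] .nil (.node [] .nil (.node [(225,(.negSucc 0),1)] .nil .nil)))) .nil)) (.node [(110,(.ofNat 1),1)] (.node [] (.node [] (.node [] .nil (.node [] .nil (.node [(179,(.negSucc 0),1)] .nil .nil))) (.node [] (.node [] .nil (.node [(152,(.ofNat 1),1)] .nil .nil)) (.node [] .nil (.node [(216,(.ofNat 1),1)] .nil .nil)))) (.node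 [] (.node [] (.node [] .nil (.node [(133,(.negSucc 0),1)] .nil .nil)) .nil) (.node [] .nil (.node [] .nil (.node [(241,(.ofNat 1),1)] .nil .nil))))) (.node [] (.node [] (.node [] .nil (.node [(59,(.ofNat 1),1)] .nil (.node [(185,(.negSucc 0),1)] .nil .nil))) .nil) (.node [] (.node [] (.node [] .nil (.node [(149,(.negSucc 0),1)] .nil .nil)) .nil) (.node [] .nil (.node [(109,(.ofNat 1),1)] .nil .nil)))))) (.node [(110,(.ofNat 1),1)] (.node [] (.node [] (.node [] (.node [] .nil (.node [(47,(.negSucc 0),1)] .nil .nil)) (.node [(24,(.ofNat 1),1)] .nil .nil)) (.node [(15,(.negSucc 0),1)] (.node [] (.node [] .nil (.node [(131,(.negSucc 0),1)] .nil .nil)) (.node [] .nil (.node [(191,(.ofNat 1),1)] .nil .nil))) .nil)) (.node [] (.node [] (.node [] .nil (.node [(57,(.ofNat 1),1)] .nil (.node [(183,(.negSucc 0),1)] .nil .nil))) (.node [] .nil (.node [(99,(.ofNat 1),1)] .nil .nil))) (.node [] .nil (.node [] .nil (.node [(107,(.ofNat 1),1)] .nil .nil))))) (.node [] (.node [] (.node [] (.node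 [] (.node [] .nil (.node [(111,(.ofNat 1),1)] .nil .nil)) (.node [(51,(.ofNat 1),1)] .nil (.node [(181,(.negSucc 0),1)] .nil .nil))) (.node [(26,(.negSucc 0),1)] (.node [] .nil (.node [(154,(.ofNat 1),1)] .nil .nil)) (.node [(90,(.negSucc 0),1)] .nil .nil))) .nil) (.node [(11,(.negSucc 0),1)] (.node [] (.node [] .nil (.node [(63,(.negSucc 0),1)] .nil .nil)) (.node [] .nil (.node [] .nil .nil))) (.node [(23,(.ofNat 1),1)] .nil .nil))))) (.node [(110,(.negSucc 0),1)] (.node [] (.node [] (.node [] (.node [] (.node [] .nil (.node [(46,(.negSucc 0),1)] .nil .nil)) .nil) (.node [] (.node [] (.node [] .nil (.node [(2,(.negSucc 0),1),(3,(.negSucc 0),1),(4,(.negSucc 0),1),(110,(.negSucc 0),2)] .nil .nil)) (.node [] .nil (.node [(190,(.ofNat 1),1)] .nil .nil))) .nil)) (.node [] (.node [] .nil (.node [] .nil (.node [(95,(.ofNat 1),1)] .nil .nil))) .nil)) (.node [(110,(.negSucc 0),1)] (.node [] (.node [] (.node [] .nil (.node [] .nil (.node [(180,(.negSucc 0),1)] .nil .nil))) (.node [] (.node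 [] .nil (.node [(153,(.ofNat 1),1)] .nil .nil)) (.node [(89,(.negSucc 0),1)] .nil (.node [(217,(.ofNat 1),1)] .nil .nil)))) (.node [] (.node [] .nil (.node [(82,(.negSucc 0),1)] .nil .nil)) .nil)) (.node [] (.node [] .nil (.node [] (.node [] .nil (.node [(170,(.ofNat 1),1)] .nil .nil)) .nil)) .nil))) (.node [] (.node [] (.node [] (.node [] .nil (.node [] .nil (.node [] .nil (.node [(215,(.ofNat 1),1)] .nil .nil)))) (.node [] (.node [] (.node [] .nil (.node [(132,(.negSucc 0),1)] .nil .nil)) .nil) .nil)) (.node [] (.node [] (.node [] (.node [] .nil (.node [(112,(.ofNat 1),1)] .nil .nil)) (.node [(58,(.ofNat 1),1)] .nil (.node [(184,(.negSucc 0),1)] .nil .nil))) .nil) (.node [] .nil (.node [] .nil (.node [(108,(.ofNat 1),1)] .nil .nil))))) (.node [] (.node [] (.node [] (.node [] .nil (.node [(52,(.ofNat 1),1)] .nil .nil)) (.node [(27,(.negSucc 0),1)] .nil (.node [(91,(.negSucc 0),1)] .nil (.node [(221,(.negSucc 0),1)] .nil .nil)))) .nil) (.node [] (.node [] (.node [] (.node [] .nil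 (.node [(116,(.negSucc 0),1)] .nil .nil)) .nil) .nil) .nil)))))
noncomputable def ex103 : Trie (List (ℕ × ℤ × ℕ)) := (.node [(111,(.negSucc 0),1)] (.node [] (.node [] (.node [] (.node [] (.node [] (.node [] .nil (.node [(48,(.negSucc 0),1)] .nil (.node [(178,(.negSucc 0),1)] .nil .nil))) (.node [] (.node [] .nil (.node [(151,(.ofNat 1),1)] .nil .nil)) .nil)) (.node [] (.node [] (.node [] .nil (.node [(2,(.negSucc 0),1),(3,(.negSucc 0),1),(111,(.negSucc 0),2)] .nil .nil)) .nil) (.node [] .nil (.node [] .nil (.node [(238,(.negSucc 0),1)] .nil .nil))))) (.node [] (.node [] .nil (.node [] .nil (.node [(95,(.negSucc 0),1)] .nil (.node [(226,(.ofNat 1),1)] .nil .nil)))) (.node [] .nil (.node [] .nil (.node [(109,(.ofNat 1),1)] .nil .nil))))) (.node [(111,(.negSucc 0),1)] (.node [] (.node [] (.node [] .nil (.node [(52,(.negSucc 0),1)] .nil .nil)) (.node [(27,(.ofNat 1),1)] .nil (.node [] .nil (.node [(219,(.negSucc 0),1)] .nil .nil)))) (.node [] (.node [] (.node [] .nil (.node [(137,(.negSucc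 0),1)] .nil .nil)) .nil) .nil)) (.node [] (.node [] (.node [] .nil (.node [(62,(.ofNat 1),1)] .nil (.node [(188,(.ofNat 1),1)] .nil .nil))) (.node [] (.node [] .nil (.node [(170,(.ofNat 1),1)] .nil .nil)) .nil)) .nil))) (.node [(111,(.ofNat 1),1)] (.node [] (.node [] (.node [] (.node [] .nil (.node [(50,(.negSucc 0),1)] .nil (.node [(180,(.negSucc 0),1)] .nil .nil))) (.node [(25,(.ofNat 1),1)] (.node [] .nil (.node [(153,(.ofNat 1),1)] .nil .nil)) .nil)) (.node [] (.node [] (.node [] .nil (.node [(135,(.negSucc 0),1)] .nil .nil)) .nil) .nil)) (.node [] (.node [] (.node [] (.node [] .nil (.node [(112,(.ofNat 1),1)] .nil .nil)) (.node [(60,(.ofNat 1),1)] .nil (.node [(186,(.ofNat 1),1)] .nil .nil))) (.node [] .nil (.node [(100,(.ofNat 1),1)] .nil .nil))) .nil)) (.node [] (.node [] (.node [] .nil (.node [] .nil (.node [(93,(.negSucc 0),1)] .nil (.node [(221,(.negSucc 0),1)] .nil .nil)))) (.node [] .nil (.node [] .nil (.node [(107,(.ofNat 1),1)] .nil .nil)))) (.node [(12,(.negSucc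 0),1)] (.node [] (.node [] .nil (.node [] .nil (.node [(190,(.ofNat 1),1)] .nil .nil))) .nil) .nil)))) (.node [(111,(.negSucc 0),1)] (.node [] (.node [] (.node [] (.node [] (.node [] .nil (.node [(49,(.negSucc 0),1)] .nil (.node [(179,(.negSucc 0),1)] .nil .nil))) (.node [] (.node [] .nil (.node [(152,(.ofNat 1),1)] .nil .nil)) .nil)) (.node [(15,(.ofNat 1),1)] (.node [] (.node [] .nil (.node [(134,(.negSucc 0),1)] .nil .nil)) .nil) .nil)) (.node [] .nil (.node [] .nil (.node [] .nil (.node [(110,(.ofNat 1),1)] .nil .nil))))) (.node [] (.node [] (.node [] (.node [] .nil (.node [(53,(.negSucc 0),1)] .nil .nil)) (.node [(28,(.ofNat 1),1)] .nil (.node [(92,(.negSucc 0),1)] .nil (.node [(220,(.negSucc 0),1)] .nil .nil)))) (.node [] (.node [] .nil (.node [(83,(.negSucc 0),1)] .nil .nil)) .nil)) (.node [] (.node [] (.node [] .nil (.node [(63,(.ofNat 1),1)] .nil (.node [(189,(.ofNat 1),1)] .nil .nil))) .nil) (.node [(23,(.negSucc 0),1)] .nil .nil)))) (.node [(111,(.ofNat 1),1)] (.node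 [] (.node [] (.node [] (.node [] .nil (.node [(51,(.negSucc 0),1)] .nil (.node [(181,(.negSucc 0),1)] .nil .nil))) (.node [(26,(.ofNat 1),1)] (.node [] .nil (.node [(154,(.ofNat 1),1)] .nil .nil)) (.node [] .nil (.node [(218,(.negSucc 0),1)] .nil .nil)))) (.node [] (.node [] (.node [] .nil (.node [(136,(.negSucc 0),1)] .nil .nil)) .nil) (.node [] .nil (.node [] .nil (.node [(241,(.ofNat 1),1)] .nil .nil))))) (.node [] (.node [] (.node [] .nil (.node [(61,(.ofNat 1),1)] .nil (.node [(187,(.ofNat 1),1)] .nil .nil))) .nil) (.node [] (.node [] (.node [] .nil (.node [(149,(.negSucc 0),1)] .nil .nil)) .nil) .nil))) (.node [] (.node [] (.node [] .nil (.node [] .nil (.node [(94,(.negSucc 0),1)] .nil .nil))) (.node [] .nil (.node [] .nil (.node [(108,(.ofNat 1),1)] .nil .nil)))) (.node [] (.node [] (.node [] (.node [] .nil (.node [(117,(.negSucc 0),1)] .nil .nil)) (.node [] .nil (.node [(191,(.ofNat 1),1)] .nil .nil))) (.node [] .nil (.node [] .nil .nil))) .nil)))))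
noncomputable def ex104 : Trie (List (ℕ × ℤ × ℕ)) := (.node [(112,(.negSucc 0),1)] (.node [] (.node [] (.node [] (.node [] (.node [] (.node [] .nil (.node [(54,(.negSucc 0),1)] .nil (.node [(182,(.ofNat 1),1)] .nil .nil))) (.node [(27,(.negSucc 0),1)] .nil .nil)) (.node [(15,(.negSucc 0),1)] (.node [] (.node [] .nil (.node [(138,(.negSucc 0),1)] .nil .nil)) .nil) (.node [] .nil (.node [] .nil (.node [(239,(.ofNat 1),1)] .nil .nil))))) (.node [] (.node [] (.node [] .nil (.node [(62,(.negSucc 0),1)] .nil (.node [(190,(.ofNat 1),1)] .nil .nil))) (.node [] .nil (.node [(99,(.negSucc 0),1)] .nil .nil))) .nil)) (.node [] (.node [] (.node [] (.node [] .nil (.node [(58,(.negSucc 0),1)] .nil (.node [(186,(.ofNat 1),1)] .nil .nil))) (.node [] .nil (.node [] .nil (.node [(223,(.ofNat 1),1)] .nil .nil)))) (.node [] (.node [] (.node [] .nil (.node [(142,(.negSucc 0),1)] .nil .nil)) .nil) (.node [] .nil (.node [(110,(.ofNat 1),1)] .nil .nil)))) (.node [] .nil (.node [] (.node [] (.node [] .nil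 (.node [(151,(.ofNat 1),1)] .nil .nil)) .nil) .nil)))) (.node [(112,(.ofNat 2),1)] (.node [] (.node [] (.node [] (.node [] .nil (.node [(56,(.negSucc 0),1)] .nil (.node [(184,(.ofNat 1),1)] .nil .nil))) .nil) (.node [] (.node [] (.node [] .nil (.node [(140,(.negSucc 0),1)] .nil .nil)) .nil) (.node [] .nil (.node [(108,(.ofNat 1),1)] .nil (.node [(241,(.ofNat 1),1)] .nil .nil))))) .nil) (.node [] (.node [] (.node [] (.node [] .nil (.node [(60,(.negSucc 0),1)] .nil (.node [(188,(.ofNat 1),1)] .nil .nil))) (.node [] .nil (.node [(97,(.negSucc 0),1)] .nil (.node [(225,(.ofNat 1),1)] .nil .nil)))) .nil) (.node [(13,(.negSucc 0),1)] .nil (.node [(25,(.negSucc 0),1)] (.node [] (.node [] .nil (.node [(153,(.ofNat 1),1)] .nil .nil)) .nil) .nil))))) (.node [] (.node [] (.node [] (.node [] (.node [] (.node [] .nil (.node [(55,(.negSucc 0),1)] .nil (.node [(183,(.ofNat 1),1)] .nil .nil))) (.node [(28,(.negSucc 0),1)] .nil .nil)) (.node [] (.node [] (.node [] .nil (.node [(139,(.negSucc 0),1)]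 .nil .nil)) .nil) (.node [] .nil (.node [(107,(.ofNat 1),1)] .nil .nil)))) (.node [] (.node [] (.node [] .nil (.node [(63,(.negSucc 0),1)] .nil (.node [(191,(.ofNat 1),1)] .nil .nil))) (.node [] .nil (.node [(100,(.negSucc 0),1)] .nil .nil))) .nil)) (.node [] (.node [] (.node [] (.node [] .nil (.node [(59,(.negSucc 0),1)] .nil (.node [(187,(.ofNat 1),1)] .nil .nil))) (.node [] .nil (.node [(96,(.negSucc 0),1)] .nil (.node [(224,(.ofNat 1),1)] .nil .nil)))) (.node [] (.node [] .nil (.node [(84,(.negSucc 0),1)] .nil .nil)) (.node [] .nil (.node [(111,(.ofNat 1),1)] .nil .nil)))) (.node [] .nil (.node [(24,(.negSucc 0),1)] (.node [] (.node [] .nil (.node [(152,(.ofNat 1),1)] .nil .nil)) .nil) .nil)))) (.node [(112,(.negSucc 0),1)] (.node [] (.node [] (.node [] (.node [] .nil (.node [(57,(.negSucc 0),1)] .nil (.node [(185,(.ofNat 1),1)] .nil .nil))) (.node [] .nil (.node [] .nil (.node [(222,(.ofNat 1),1)] .nil .nil)))) (.node [] (.node [] (.node [] .nil (.node [(141,(.negSucc 0),1)]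 .nil .nil)) .nil) (.node [] .nil (.node [(109,(.ofNat 1),1)] .nil .nil)))) (.node [] (.node [] .nil (.node [] (.node [] .nil (.node [(170,(.ofNat 1),1)] .nil .nil)) .nil)) (.node [] (.node [] (.node [] .nil (.node [(150,(.ofNat 1),1)] .nil .nil)) .nil) .nil))) (.node [] (.node [] (.node [] (.node [] .nil (.node [(61,(.negSucc 0),1)] .nil (.node [(189,(.ofNat 1),1)] .nil .nil))) (.node [] .nil (.node [(98,(.negSucc 0),1)] .nil (.node [(226,(.ofNat 1),1)] .nil .nil)))) .nil) (.node [] (.node [] (.node [] (.node [] .nil (.node [(2,(.negSucc 0),1),(112,(.negSucc 0),2)] .nil .nil)) .nil) .nil) (.node [(26,(.negSucc 0),1)] (.node [] (.node [] .nil (.node [(154,(.ofNat 1),1)] .nil .nil)) .nil) .nil))))))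
noncomputable def ex105 : Trie (List (ℕ × ℤ × ℕ)) := (.node [] (.node [] (.node [] (.node [] (.node [] (.node [] (.node [] (.node [] .nil (.node [(114,(.ofNat 1),1)] .nil .nil)) .nil) (.node [] .nil (.node [] .nil (.node [(213,(.negSucc 0),1)] .nil .nil)))) (.node [] .nil (.node [] (.node [] .nil (.node [(171,(.ofNat 1),1)] .nil .nil)) (.node [(107,(.negSucc 0),1)] .nil .nil)))) (.node [] (.node [] .nil (.node [(30,(.ofNat 1),1)] (.node [] .nil (.node [(157,(.negSucc 0),1)] .nil .nil)) (.node [] .nil (.node [(227,(.ofNat 1),1)] .nil .nil)))) (.node [] .nil (.node [(44,(.negSucc 0),1)] .nil .nil)))) (.node [] (.node [] (.node [] .nil (.node [] .nil (.node [(92,(.ofNat 1),1)] .nil .nil))) (.node [] (.node [] (.node [] .nil (.node [(143,(.ofNat 1),1)] .nil .nil)) (.node [(79,(.negSucc 0),1)] .nil .nil)) .nil)) (.node [] (.node [] (.node [] (.node [] .nil (.node [(125,(.negSucc 0),1)] .nil .nil)) (.node [(65,(.ofNat 1),1)] .nil (.node [(192,(.ofNat 1),1)] .nil .nil))) .nil) (.node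 [(23,(.negSucc 0),1)] .nil (.node [] (.node [] .nil (.node [(178,(.negSucc 0),1)] .nil .nil)) .nil))))) (.node [(113,(.negSucc 0),1)] (.node [] (.node [] (.node [] (.node [] (.node [] .nil (.node [(115,(.ofNat 1),1)] .nil .nil)) .nil) (.node [] .nil (.node [(87,(.ofNat 1),1)] .nil (.node [(218,(.negSucc 0),1)] .nil .nil)))) (.node [] (.node [] .nil (.node [] .nil (.node [(197,(.ofNat 1),1)] .nil .nil))) .nil)) (.node [] (.node [] (.node [] (.node [] .nil (.node [(118,(.negSucc 0),1)] .nil .nil)) .nil) (.node [(31,(.ofNat 1),1)] .nil (.node [(101,(.negSucc 0),1)] .nil .nil))) (.node [] (.node [] (.node [] .nil (.node [(149,(.ofNat 1),1)] .nil .nil)) .nil) (.node [(45,(.negSucc 0),1)] .nil .nil)))) (.node [] (.node [] (.node [] .nil (.node [] (.node [] .nil (.node [(156,(.negSucc 0),1)] .nil .nil)) .nil)) .nil) (.node [] (.node [] (.node [] (.node [] .nil (.node [(3,(.negSucc 0),1),(4,(.negSucc 0),1),(5,(.negSucc 0),1),(6,(.negSucc 0),1),(7,(.negSucc 0),1),(113,(.negSucc 0),2)]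 .nil .nil)) (.node [(70,(.ofNat 1),1)] .nil (.node [(193,(.ofNat 1),1)] .nil .nil))) .nil) (.node [] .nil (.node [(49,(.negSucc 0),1)] (.node [] .nil (.node [(179,(.negSucc 0),1)] .nil .nil)) .nil)))))) (.node [(113,(.negSucc 0),1)] (.node [] (.node [] (.node [] (.node [] .nil (.node [] .nil (.node [(86,(.ofNat 1),1)] .nil (.node [(215,(.negSucc 0),1)] .nil .nil)))) (.node [] (.node [] .nil (.node [] .nil (.node [(196,(.ofNat 1),1)] .nil .nil))) (.node [] .nil (.node [] .nil .nil)))) (.node [] (.node [] (.node [] (.node [] .nil (.node [(117,(.ofNat 1),1)] .nil .nil)) .nil) (.node [] (.node [] .nil (.node [(158,(.negSucc 0),1)] .nil .nil)) .nil)) (.node [] .nil (.node [] (.node [] .nil (.node [(177,(.negSucc 0),1)] .nil .nil)) .nil)))) (.node [] (.node [] (.node [] (.node [] (.node [] .nil (.node [(116,(.ofNat 1),1)] .nil .nil)) .nil) (.node [(29,(.ofNat 1),1)] .nil .nil)) (.node [(16,(.negSucc 0),1)] .nil .nil)) (.node [(8,(.negSucc 0),1)] (.node [] (.node [] (.node [] .nil (.node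 [(127,(.negSucc 0),1)] .nil .nil)) (.node [(67,(.ofNat 1),1)] .nil .nil)) .nil) (.node [] .nil (.node [(48,(.negSucc 0),1)] .nil .nil))))) (.node [(113,(.ofNat 1),1)] (.node [] (.node [] (.node [] .nil (.node [] (.node [] .nil (.node [(155,(.negSucc 0),1)] .nil .nil)) (.node [(89,(.ofNat 1),1)] .nil .nil))) (.node [] (.node [] .nil (.node [] .nil (.node [(199,(.ofNat 1),1)] .nil .nil))) .nil)) (.node [] (.node [] (.node [] (.node [] .nil (.node [(122,(.negSucc 0),1)] .nil .nil)) (.node [(64,(.ofNat 1),1)] .nil .nil)) (.node [(32,(.ofNat 1),1)] .nil .nil)) (.node [] .nil (.node [(46,(.negSucc 0),1)] .nil .nil)))) (.node [(113,(.ofNat 1),1)] (.node [] .nil (.node [] .nil (.node [] .nil (.node [] .nil (.node [(242,(.ofNat 1),1)] .nil .nil))))) (.node [] (.node [] (.node [] .nil (.node [] .nil (.node [(194,(.ofNat 1),1)] .nil .nil))) (.node [] .nil (.node [] .nil (.node [(234,(.ofNat 1),1)] .nil .nil)))) (.node [] (.node [] .nil (.node [] .nil (.node [(212,(.negSucc 0),1)] .nil .nil)))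 (.node [(51,(.negSucc 0),1)] (.node [] .nil (.node [(180,(.negSucc 0),1)] .nil .nil)) .nil)))))))
noncomputable def ex106 : Trie (List (ℕ × ℤ × ℕ)) := (.node [] (.node [] (.node [] (.node [] (.node [] (.node [] .nil (.node [] .nil (.node [(86,(.negSucc 0),1)] .nil (.node [(214,(.ofNat 1),1)] .nil .nil)))) (.node [] (.node [] .nil (.node [] .nil (.node [(196,(.ofNat 1),1)] .nil .nil))) (.node [] .nil (.node [(108,(.negSucc 0),1)] .nil .nil)))) (.node [] (.node [] (.node [] (.node [] .nil (.node [(117,(.ofNat 1),1)] .nil .nil)) .nil) (.node [] .nil (.node [] .nil (.node [(228,(.negSucc 0),1)] .nil .nil)))) (.node [] .nil (.node [] (.node [] .nil (.node [(177,(.negSucc 0),1)] .nil .nil)) .nil)))) (.node [] (.node [] (.node [] (.node [] (.node [] .nil (.node [(116,(.ofNat 1),1)] .nil .nil)) .nil) (.node [(29,(.negSucc 0),1)] .nil (.node [(93,(.ofNat 1),1)] .nil .nil))) (.node [(16,(.ofNat 1),1)] (.node [] .nil (.node [(80,(.negSucc 0),1)] .nil .nil)) .nil)) (.node [] (.node [] (.node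 [] (.node [] .nil (.node [(126,(.negSucc 0),1)] .nil .nil)) (.node [(66,(.ofNat 1),1)] .nil .nil)) .nil) (.node [] .nil (.node [(48,(.ofNat 1),1)] .nil .nil))))) (.node [(114,(.negSucc 0),1)] (.node [] (.node [] (.node [] .nil (.node [] (.node [] .nil (.node [(155,(.negSucc 0),1)] .nil .nil)) (.node [(88,(.ofNat 1),1)] .nil (.node [(219,(.ofNat 1),1)] .nil .nil)))) (.node [] (.node [] .nil (.node [] .nil (.node [(198,(.negSucc 0),1)] .nil .nil))) (.node [] .nil (.node [] .nil .nil)))) (.node [] (.node [] (.node [] (.node [] .nil (.node [(119,(.negSucc 0),1)] .nil .nil)) (.node [(64,(.negSucc 0),1)] .nil .nil)) (.node [] .nil (.node [(102,(.negSucc 0),1)] .nil .nil))) .nil)) (.node [(114,(.ofNat 1),1)] (.node [] .nil (.node [] .nil (.node [] .nil (.node [] .nil (.node [(242,(.ofNat 1),1)] .nil .nil))))) (.node [] (.node [] (.node [] (.node [] .nil (.node [(128,(.negSucc 0),1)] .nil .nil)) (.node [(71,(.ofNat 1),1)] .nil .nil)) .nil) (.node [] (.node [] .nil (.node [] .nil (.node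 [(212,(.negSucc 0),1)] .nil .nil))) (.node [(50,(.negSucc 0),1)] .nil .nil)))))) (.node [(114,(.negSucc 0),1)] (.node [] (.node [] (.node [] (.node [] (.node [] (.node [] .nil (.node [(115,(.ofNat 1),1)] .nil .nil)) .nil) (.node [] .nil (.node [] .nil (.node [(216,(.ofNat 1),1)] .nil .nil)))) .nil) (.node [] (.node [] .nil (.node [(31,(.negSucc 0),1)] (.node [] .nil (.node [(159,(.ofNat 1),1)] .nil .nil)) .nil)) (.node [] (.node [] (.node [] .nil (.node [(149,(.ofNat 1),1)] .nil .nil)) .nil) (.node [(45,(.ofNat 1),1)] .nil .nil)))) (.node [] (.node [] (.node [] .nil (.node [] (.node [] .nil (.node [(156,(.negSucc 0),1)] .nil .nil)) .nil)) .nil) (.node [(9,(.negSucc 0),1)] (.node [] (.node [] (.node [] .nil (.node [(3,(.negSucc 0),1),(4,(.negSucc 0),1),(5,(.negSucc 0),1),(6,(.negSucc 0),1),(114,(.negSucc 0),2)] .nil .nil)) (.node [(68,(.ofNat 1),1)] .nil (.node [(193,(.ofNat 1),1)] .nil .nil))) .nil) (.node [] .nil (.node [] (.node [] .nil (.node [(179,(.negSucc 0),1)] .nil .nil))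 .nil))))) (.node [(114,(.ofNat 1),1)] (.node [] (.node [] (.node [] .nil (.node [] .nil (.node [(90,(.ofNat 1),1)] .nil .nil))) (.node [] (.node [] (.node [] .nil (.node [(143,(.ofNat 1),1)] .nil .nil)) (.node [] .nil (.node [(200,(.negSucc 0),1)] .nil .nil))) .nil)) (.node [] (.node [] (.node [] (.node [] .nil (.node [(123,(.negSucc 0),1)] .nil .nil)) (.node [] .nil (.node [(192,(.ofNat 1),1)] .nil .nil))) (.node [(33,(.ofNat 1),1)] .nil .nil)) (.node [(23,(.ofNat 1),1)] .nil (.node [(47,(.negSucc 0),1)] (.node [] .nil (.node [(178,(.negSucc 0),1)] .nil .nil)) .nil)))) (.node [(114,(.negSucc 0),1)] (.node [] (.node [] .nil (.node [(30,(.negSucc 0),1)] (.node [] .nil (.node [(157,(.negSucc 0),1)] .nil .nil)) .nil)) (.node [] .nil (.node [(44,(.ofNat 1),1)] .nil .nil))) (.node [] (.node [] (.node [] .nil (.node [] .nil (.node [(195,(.negSucc 0),1)] .nil .nil))) (.node [] (.node [] .nil (.node [(171,(.ofNat 1),1)] .nil .nil)) (.node [] .nil (.node [(235,(.negSucc 0),1)] .nil .nil))))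 (.node [] .nil (.node [(52,(.negSucc 0),1)] (.node [] .nil (.node [(181,(.ofNat 1),1)] .nil .nil)) (.node [(113,(.ofNat 1),1)] .nil .nil))))))))
noncomputable def ex107 : Trie (List (ℕ × ℤ × ℕ)) := (.node [] (.node [] (.node [] (.node [] (.node [] (.node [] .nil (.node [] .nil (.node [(87,(.negSucc 0),1)] .nil .nil))) (.node [] (.node [] .nil (.node [] .nil (.node [(197,(.negSucc 0),1)] .nil .nil))) (.node [] .nil (.node [(109,(.negSucc 0),1)] .nil .nil)))) (.node [] (.node [] .nil (.node [] (.node [] .nil (.node [(159,(.ofNat 1),1)] .nil .nil)) (.node [] .nil (.node [(229,(.ofNat 1),1)] .nil .nil)))) (.node [] (.node [] (.node [] .nil (.node [(149,(.ofNat 1),1)] .nil .nil)) .nil) .nil))) (.node [] (.node [] (.node [] .nil (.node [] (.node [] .nil (.node [(156,(.negSucc 0),1)] .nil .nil)) (.node [(94,(.ofNat 1),1)] .nil .nil))) (.node [] (.node [] .nil (.node [(81,(.negSucc 0),1)] .nil .nil)) .nil)) (.node [] (.node [] (.node [] (.node [] .nil (.node [(3,(.negSucc 0),1),(4,(.negSucc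 0),1),(5,(.negSucc 0),1),(115,(.negSucc 0),2)] .nil .nil)) .nil) .nil) (.node [] .nil (.node [(49,(.ofNat 1),1)] .nil .nil))))) (.node [(115,(.negSucc 0),1)] (.node [] (.node [] (.node [] .nil (.node [] .nil (.node [] .nil (.node [(220,(.negSucc 0),1)] .nil .nil)))) (.node [] (.node [] (.node [] .nil (.node [(143,(.ofNat 1),1)] .nil .nil)) .nil) .nil)) (.node [] (.node [] (.node [] (.node [] .nil (.node [(120,(.negSucc 0),1)] .nil .nil)) (.node [(65,(.negSucc 0),1)] .nil (.node [(192,(.ofNat 1),1)] .nil .nil))) (.node [(33,(.negSucc 0),1)] .nil (.node [(103,(.negSucc 0),1)] .nil .nil))) (.node [(23,(.negSucc 0),1)] .nil (.node [(47,(.ofNat 1),1)] (.node [] .nil (.node [(178,(.negSucc 0),1)] .nil .nil)) .nil)))) (.node [(115,(.negSucc 0),1)] (.node [] (.node [] .nil (.node [(30,(.ofNat 1),1)] .nil .nil)) (.node [] .nil (.node [(44,(.negSucc 0),1)] .nil .nil))) (.node [] (.node [] (.node [] (.node [] .nil (.node [(130,(.negSucc 0),1)] .nil .nil)) (.node [(72,(.ofNat 1),1)] .nil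 (.node [(195,(.negSucc 0),1)] .nil .nil))) (.node [] (.node [] .nil (.node [(171,(.ofNat 1),1)] .nil .nil)) .nil)) (.node [] (.node [] .nil (.node [] .nil (.node [(213,(.ofNat 1),1)] .nil .nil))) (.node [] (.node [] .nil (.node [(181,(.ofNat 1),1)] .nil .nil)) (.node [(114,(.ofNat 1),1)] .nil .nil))))))) (.node [(115,(.negSucc 0),1)] (.node [] (.node [] (.node [] (.node [] .nil (.node [] (.node [] .nil (.node [(155,(.negSucc 0),1)] .nil .nil)) (.node [(88,(.negSucc 0),1)] .nil (.node [(217,(.negSucc 0),1)] .nil .nil)))) (.node [] (.node [] .nil (.node [] .nil (.node [(198,(.negSucc 0),1)] .nil .nil))) .nil)) (.node [] (.node [] .nil (.node [(32,(.negSucc 0),1)] .nil .nil)) (.node [] .nil (.node [(46,(.ofNat 1),1)] .nil .nil)))) (.node [(115,(.ofNat 1),1)] (.node [] .nil (.node [] .nil (.node [] .nil (.node [] .nil (.node [(242,(.ofNat 1),1)] .nil .nil))))) (.node [(10,(.negSucc 0),1)] (.node [] (.node [] (.node [] .nil (.node [(129,(.negSucc 0),1)] .nil .nil)) (.node [(69,(.ofNat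 1),1)] .nil (.node [(194,(.negSucc 0),1)] .nil .nil))) .nil) (.node [] .nil (.node [(50,(.ofNat 1),1)] (.node [] .nil (.node [(180,(.ofNat 1),1)] .nil .nil)) (.node [(113,(.ofNat 1),1)] .nil .nil)))))) (.node [(115,(.ofNat 1),1)] (.node [] (.node [] (.node [] (.node [] (.node [] .nil (.node [(116,(.ofNat 1),1)] .nil .nil)) .nil) (.node [(29,(.ofNat 1),1)] .nil (.node [(91,(.ofNat 1),1)] .nil .nil))) (.node [(16,(.negSucc 0),1)] (.node [] .nil (.node [] .nil (.node [(201,(.ofNat 1),1)] .nil .nil))) (.node [] .nil (.node [] .nil .nil)))) (.node [] (.node [] (.node [] (.node [] .nil (.node [(124,(.negSucc 0),1)] .nil .nil)) (.node [(66,(.negSucc 0),1)] .nil .nil)) .nil) .nil)) (.node [] (.node [] (.node [] (.node [] (.node [] .nil (.node [(117,(.ofNat 1),1)] .nil .nil)) .nil) (.node [] (.node [] .nil (.node [(158,(.ofNat 1),1)] .nil .nil)) .nil)) (.node [] .nil (.node [] (.node [] .nil (.node [(177,(.negSucc 0),1)] .nil .nil)) .nil))) (.node [] (.node [] .nil (.node [] .nil (.node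 [] .nil (.node [(236,(.ofNat 1),1)] .nil .nil)))) (.node [] (.node [] .nil (.node [] .nil (.node [(214,(.ofNat 1),1)] .nil .nil))) (.node [(53,(.negSucc 0),1)] .nil .nil)))))))
noncomputable def ex108 : Trie (List (ℕ × ℤ × ℕ)) := (.node [] (.node [] (.node [] (.node [] (.node [] (.node [] .nil (.node [] (.node [] .nil (.node [(155,(.negSucc 0),1)] .nil .nil)) (.node [(89,(.negSucc 0),1)] .nil (.node [(217,(.negSucc 0),1)] .nil .nil)))) (.node [] (.node [] .nil (.node [] .nil (.node [(199,(.ofNat 1),1)] .nil .nil))) (.node [] .nil (.node [(110,(.negSucc 0),1)] .nil .nil)))) (.node [] (.node [] .nil (.node [(33,(.ofNat 1),1)] .nil (.node [] .nil (.node [(230,(.negSucc 0),1)] .nil .nil)))) (.node [] .nil (.node [(47,(.negSucc 0),1)] .nil .nil)))) (.node [(116,(.ofNat 1),1)] (.node [] (.node [] .nil (.node [] (.node [] .nil (.node [(157,(.ofNat 1),1)] .nil .nil)) (.node [(95,(.ofNat 1),1)] .nil .nil))) (.node [] (.node [] .nil (.node [(82,(.negSucc 0),1)] .nil .nil)) (.node [] .nil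 (.node [] .nil (.node [(242,(.ofNat 1),1)] .nil .nil))))) (.node [] (.node [] (.node [] (.node [] .nil (.node [(131,(.negSucc 0),1)] .nil .nil)) (.node [(69,(.negSucc 0),1)] .nil (.node [(195,(.negSucc 0),1)] .nil .nil))) .nil) (.node [] .nil (.node [(51,(.ofNat 1),1)] (.node [] .nil (.node [(181,(.ofNat 1),1)] .nil .nil)) (.node [(115,(.ofNat 1),1)] .nil .nil)))))) (.node [(116,(.negSucc 0),1)] (.node [] (.node [] (.node [] .nil (.node [(29,(.negSucc 0),1)] .nil (.node [(91,(.negSucc 0),1)] .nil (.node [(221,(.ofNat 1),1)] .nil .nil)))) (.node [(16,(.ofNat 1),1)] (.node [] .nil (.node [] .nil (.node [(201,(.ofNat 1),1)] .nil .nil))) .nil)) (.node [] (.node [] (.node [] (.node [] .nil (.node [(121,(.negSucc 0),1)] .nil .nil)) (.node [(67,(.negSucc 0),1)] .nil (.node [(193,(.negSucc 0),1)] .nil .nil))) (.node [] .nil (.node [(104,(.negSucc 0),1)] .nil .nil))) (.node [] .nil (.node [] (.node [] .nil (.node [(179,(.ofNat 1),1)] .nil .nil)) (.node [(113,(.ofNat 1),1)] .nil .nil)))))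 (.node [] (.node [] (.node [] (.node [] (.node [] .nil (.node [(117,(.ofNat 1),1)] .nil .nil)) .nil) (.node [(31,(.ofNat 1),1)] (.node [] .nil (.node [(159,(.ofNat 1),1)] .nil .nil)) .nil)) (.node [] .nil (.node [(45,(.negSucc 0),1)] (.node [] .nil (.node [(177,(.negSucc 0),1)] .nil .nil)) .nil))) (.node [] (.node [] (.node [] (.node [] .nil (.node [(133,(.negSucc 0),1)] .nil .nil)) (.node [(73,(.ofNat 1),1)] .nil .nil)) .nil) (.node [] (.node [] .nil (.node [] .nil (.node [(215,(.negSucc 0),1)] .nil .nil))) (.node [(53,(.ofNat 1),1)] .nil .nil)))))) (.node [(116,(.negSucc 0),1)] (.node [] (.node [] (.node [] (.node [] .nil (.node [] .nil (.node [(90,(.negSucc 0),1)] .nil .nil))) (.node [] (.node [] (.node [] .nil (.node [(143,(.ofNat 1),1)] .nil .nil)) (.node [] .nil (.node [(200,(.ofNat 1),1)] .nil .nil))) .nil)) (.node [] .nil (.node [(23,(.ofNat 1),1)] .nil .nil))) (.node [(116,(.negSucc 0),1)] (.node [] (.node [] .nil (.node [] (.node [] .nil (.node [(158,(.ofNat 1),1)] .nil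 .nil)) .nil)) .nil) (.node [(11,(.negSucc 0),1)] (.node [] (.node [] (.node [] .nil (.node [(132,(.negSucc 0),1)] .nil .nil)) .nil) (.node [] (.node [] .nil (.node [(171,(.ofNat 1),1)] .nil .nil)) .nil)) (.node [] .nil (.node [(52,(.ofNat 1),1)] .nil .nil))))) (.node [(116,(.ofNat 1),1)] (.node [] .nil (.node [] (.node [] (.node [] (.node [] .nil (.node [(3,(.negSucc 0),1),(4,(.negSucc 0),1),(116,(.negSucc 0),2)] .nil .nil)) (.node [(68,(.negSucc 0),1)] .nil (.node [(194,(.negSucc 0),1)] .nil .nil))) .nil) (.node [] .nil (.node [] (.node [] .nil (.node [(180,(.ofNat 1),1)] .nil .nil)) (.node [(114,(.ofNat 1),1)] .nil .nil))))) (.node [] (.node [] (.node [] .nil (.node [(32,(.ofNat 1),1)] .nil .nil)) (.node [] (.node [] (.node [] .nil (.node [(149,(.ofNat 1),1)] .nil .nil)) .nil) (.node [(46,(.negSucc 0),1)] .nil .nil))) (.node [] (.node [] .nil (.node [] .nil (.node [] .nil (.node [(237,(.negSucc 0),1)] .nil .nil)))) (.node [] (.node [] .nil (.node [] .nil (.node [(216,(.negSucc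 0),1)] .nil .nil))) .nil))))))
noncomputable def ex109 : Trie (List (ℕ × ℤ × ℕ)) := (.node [] (.node [] (.node [] (.node [] (.node [] (.node [] .nil (.node [] (.node [] .nil (.node [(156,(.ofNat 1),1)] .nil .nil)) (.node [(92,(.negSucc 0),1)] .nil (.node [(220,(.ofNat 1),1)] .nil .nil)))) (.node [] (.node [] (.node [] .nil (.node [(143,(.ofNat 1),1)] .nil .nil)) .nil) (.node [] .nil (.node [(111,(.negSucc 0),1)] .nil .nil)))) (.node [] (.node [] .nil (.node [] .nil (.node [] .nil (.node [(231,(.ofNat 1),1)] .nil .nil)))) (.node [(23,(.negSucc 0),1)] .nil (.node [(50,(.negSucc 0),1)] (.node [] .nil (.node [(180,(.ofNat 1),1)] .nil .nil)) (.node [(115,(.ofNat 1),1)] .nil .nil))))) (.node [(117,(.negSucc 0),1)] (.node [] (.node [] .nil (.node [(32,(.negSucc 0),1)] .nil .nil)) (.node [] (.node [] .nil (.node [(83,(.negSucc 0),1)] .nil .nil)) .nil)) (.node [] (.node [] (.node [] (.node [] .nil (.node [(135,(.negSucc 0),1)] .nil .nil)) (.node [(72,(.negSucc 0),1)] .nil (.node [(198,(.ofNat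 1),1)] .nil .nil))) (.node [] (.node [] .nil (.node [(171,(.ofNat 1),1)] .nil .nil)) .nil)) .nil))) (.node [(117,(.negSucc 0),1)] (.node [] (.node [] (.node [] .nil (.node [(30,(.negSucc 0),1)] (.node [] .nil (.node [(158,(.ofNat 1),1)] .nil .nil)) (.node [(94,(.negSucc 0),1)] .nil .nil))) .nil) (.node [] (.node [] (.node [] (.node [] .nil (.node [(3,(.negSucc 0),1),(117,(.negSucc 0),2)] .nil .nil)) (.node [(70,(.negSucc 0),1)] .nil (.node [(196,(.ofNat 1),1)] .nil .nil))) (.node [] .nil (.node [(105,(.negSucc 0),1)] .nil .nil))) (.node [] .nil (.node [(52,(.negSucc 0),1)] .nil .nil)))) (.node [] (.node [] .nil (.node [] (.node [] (.node [] .nil (.node [(149,(.ofNat 1),1)] .nil .nil)) .nil) (.node [(48,(.negSucc 0),1)] (.node [] .nil (.node [(178,(.ofNat 1),1)] .nil .nil)) (.node [(113,(.ofNat 1),1)] .nil .nil)))) (.node [] (.node [] (.node [] (.node [] .nil (.node [(137,(.negSucc 0),1)] .nil .nil)) (.node [] .nil (.node [(200,(.ofNat 1),1)] .nil .nil))) .nil) (.node [] (.node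 [] .nil (.node [] .nil (.node [(218,(.ofNat 1),1)] .nil .nil))) .nil))))) (.node [(117,(.negSucc 0),1)] (.node [] (.node [] (.node [] (.node [] .nil (.node [] (.node [] .nil (.node [(157,(.ofNat 1),1)] .nil .nil)) (.node [(93,(.negSucc 0),1)] .nil (.node [(221,(.ofNat 1),1)] .nil .nil)))) (.node [(16,(.negSucc 0),1)] .nil .nil)) (.node [] .nil (.node [] .nil (.node [(51,(.negSucc 0),1)] (.node [] .nil (.node [(181,(.ofNat 1),1)] .nil .nil)) (.node [(116,(.ofNat 1),1)] .nil .nil))))) (.node [] (.node [] (.node [] .nil (.node [(33,(.negSucc 0),1)] .nil .nil)) (.node [] .nil (.node [] .nil (.node [] .nil .nil)))) (.node [(12,(.negSucc 0),1)] (.node [] (.node [] (.node [] .nil (.node [(136,(.negSucc 0),1)] .nil .nil)) (.node [(73,(.negSucc 0),1)] .nil (.node [(199,(.ofNat 1),1)] .nil .nil))) .nil) .nil))) (.node [(117,(.ofNat 2),1)] (.node [] (.node [] (.node [] .nil (.node [(31,(.negSucc 0),1)] (.node [] .nil (.node [(159,(.ofNat 1),1)] .nil .nil)) (.node [(95,(.negSucc 0),1)] .nil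 .nil))) (.node [] .nil (.node [] .nil (.node [] .nil (.node [(242,(.ofNat 1),1)] .nil .nil))))) (.node [] (.node [] (.node [] (.node [] .nil (.node [(134,(.negSucc 0),1)] .nil .nil)) (.node [(71,(.negSucc 0),1)] .nil (.node [(197,(.ofNat 1),1)] .nil .nil))) .nil) (.node [] .nil (.node [(53,(.negSucc 0),1)] .nil .nil)))) (.node [] (.node [] .nil (.node [] .nil (.node [(49,(.negSucc 0),1)] (.node [] .nil (.node [(179,(.ofNat 1),1)] .nil .nil)) (.node [(114,(.ofNat 1),1)] .nil .nil)))) (.node [] (.node [] (.node [] .nil (.node [] .nil (.node [(201,(.ofNat 1),1)] .nil .nil))) (.node [] .nil (.node [] .nil (.node [(238,(.ofNat 1),1)] .nil .nil)))) (.node [] (.node [] .nil (.node [] .nil (.node [(219,(.ofNat 1),1)] .nil .nil))) .nil))))))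
noncomputable def ex110 : Trie (List (ℕ × ℤ × ℕ)) := (.node [] (.node [] (.node [] (.node [] (.node [] (.node [] (.node [] (.node [] .nil (.node [(119,(.ofNat 1),1)] .nil .nil)) .nil) .nil) (.node [] .nil (.node [] (.node [] .nil (.node [(172,(.ofNat 1),1)] .nil .nil)) .nil))) (.node [] (.node [] (.node [] (.node [] .nil (.node [(127,(.negSucc 0),1)] .nil .nil)) (.node [(65,(.ofNat 1),1)] .nil (.node [(193,(.negSucc 0),1)] .nil .nil))) (.node [(34,(.negSucc 0),1)] (.node [] .nil (.node [(161,(.negSucc 0),1)] .nil .nil)) .nil)) .nil)) (.node [(118,(.ofNat 1),1)] (.node [] (.node [] .nil (.node [] .nil (.node [(96,(.negSucc 0),1)] .nil .nil))) (.node [] (.node [] (.node [] .nil (.node [(144,(.ofNat 1),1)] .nil .nil)) .nil) (.node [(45,(.negSucc 0),1)] .nil .nil))) (.node [(8,(.negSucc 0),1)] .nil (.node [(24,(.ofNat 1),1)] (.node [] .nil (.node [] .nil (.node [(213,(.ofNat 1),1)] .nil .nil))) (.node [] (.node [] .nil (.node [(182,(.negSucc 0),1)] .nil .nil)) .nil))))) (.node []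 (.node [] (.node [] (.node [] (.node [] (.node [] .nil (.node [(120,(.ofNat 1),1)] .nil .nil)) .nil) (.node [] .nil (.node [] .nil (.node [(222,(.negSucc 0),1)] .nil .nil)))) (.node [] (.node [] .nil (.node [] .nil (.node [(203,(.ofNat 1),1)] .nil .nil))) (.node [(44,(.negSucc 0),1)] .nil .nil))) (.node [] (.node [] .nil (.node [(35,(.negSucc 0),1)] .nil .nil)) (.node [] (.node [] (.node [] .nil (.node [(150,(.ofNat 1),1)] .nil .nil)) .nil) .nil))) (.node [] (.node [] (.node [] (.node [] (.node [] .nil (.node [(122,(.negSucc 0),1)] .nil .nil)) (.node [] .nil (.node [(192,(.negSucc 0),1)] .nil .nil))) (.node [] (.node [] .nil (.node [(160,(.negSucc 0),1)] .nil .nil)) .nil)) (.node [] .nil (.node [] .nil (.node [] .nil .nil)))) (.node [] (.node [] (.node [] (.node [] .nil (.node [(138,(.ofNat 1),1)] .nil .nil)) (.node [(74,(.negSucc 0),1)] .nil .nil)) (.node [] .nil (.node [] .nil (.node [(234,(.negSucc 0),1)] .nil .nil)))) (.node [] (.node [] .nil (.node [(87,(.ofNat 1),1)] .nil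 .nil)) (.node [(55,(.ofNat 1),1)] (.node [] .nil (.node [(183,(.negSucc 0),1)] .nil .nil)) .nil)))))) (.node [] (.node [] (.node [] (.node [] (.node [] .nil (.node [(29,(.ofNat 1),1)] .nil .nil)) (.node [] (.node [] .nil (.node [] .nil (.node [(202,(.ofNat 1),1)] .nil .nil))) .nil)) (.node [] (.node [] (.node [] (.node [] .nil (.node [(4,(.negSucc 0),1),(5,(.negSucc 0),1),(6,(.negSucc 0),1),(7,(.negSucc 0),1),(118,(.negSucc 0),2)] .nil .nil)) (.node [(67,(.ofNat 1),1)] .nil (.node [(194,(.negSucc 0),1)] .nil .nil))) (.node [] (.node [] .nil (.node [(162,(.negSucc 0),1)] .nil .nil)) (.node [(101,(.negSucc 0),1)] .nil .nil))) .nil)) (.node [] (.node [] (.node [] (.node [] (.node [] .nil (.node [(121,(.ofNat 1),1)] .nil .nil)) .nil) .nil) (.node [(17,(.ofNat 1),1)] .nil (.node [(46,(.negSucc 0),1)] (.node [] .nil (.node [(177,(.ofNat 1),1)] .nil .nil)) (.node [(113,(.negSucc 0),1)] .nil .nil)))) (.node [] .nil (.node [] (.node [] .nil (.node [(86,(.ofNat 1),1)] .nil (.node [(215,(.ofNat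 1),1)] .nil .nil))) (.node [(54,(.ofNat 1),1)] .nil .nil))))) (.node [(118,(.negSucc 0),1)] (.node [] (.node [] .nil (.node [] (.node [] .nil (.node [(79,(.negSucc 0),1)] .nil (.node [(205,(.ofNat 1),1)] .nil .nil))) .nil)) (.node [] (.node [] .nil (.node [(36,(.negSucc 0),1)] .nil .nil)) (.node [] (.node [] .nil (.node [] .nil (.node [(212,(.ofNat 1),1)] .nil .nil))) .nil))) (.node [(118,(.ofNat 1),1)] (.node [] (.node [] (.node [] (.node [] .nil (.node [(125,(.negSucc 0),1)] .nil .nil)) (.node [(64,(.ofNat 1),1)] .nil .nil)) (.node [] .nil (.node [] .nil (.node [(227,(.negSucc 0),1)] .nil .nil)))) (.node [] .nil (.node [] .nil (.node [] .nil (.node [(243,(.ofNat 1),1)] .nil .nil))))) (.node [] (.node [] .nil (.node [] .nil (.node [(107,(.negSucc 0),1)] .nil .nil))) (.node [] (.node [] (.node [] .nil (.node [(155,(.ofNat 1),1)] .nil .nil)) (.node [(89,(.ofNat 1),1)] .nil .nil)) (.node [(57,(.ofNat 1),1)] (.node [] .nil (.node [(184,(.negSucc 0),1)] .nil .nil)) .nil)))))))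
noncomputable def ex111 : Trie (List (ℕ × ℤ × ℕ)) := (.node [] (.node [] (.node [] (.node [] (.node [] (.node [] .nil (.node [(29,(.negSucc 0),1)] .nil .nil)) (.node [] (.node [] .nil (.node [] .nil (.node [(202,(.ofNat 1),1)] .nil .nil))) .nil)) (.node [] (.node [] (.node [] (.node [] .nil (.node [(4,(.negSucc 0),1),(5,(.negSucc 0),1),(6,(.negSucc 0),1),(119,(.negSucc 0),2)] .nil .nil)) (.node [(66,(.ofNat 1),1)] .nil .nil)) .nil) .nil)) (.node [(119,(.ofNat 1),1)] (.node [] (.node [] (.node [] (.node [] .nil (.node [(121,(.ofNat 1),1)] .nil .nil)) .nil) (.node [] .nil (.node [(97,(.negSucc 0),1)] .nil .nil))) (.node [(17,(.negSucc 0),1)] .nil (.node [] (.node [] .nil (.node [(177,(.ofNat 1),1)] .nil .nil)) .nil))) (.node [(9,(.negSucc 0),1)] .nil (.node [] (.node [] .nil (.node [(86,(.negSucc 0),1)] .nil (.node [(214,(.negSucc 0),1)] .nil .nil))) (.node [(54,(.negSucc 0),1)] .nil .nil))))) (.node [] (.node [] (.node [] (.node [] .nil (.node [] .nil (.node [] .nil (.node [(223,(.ofNat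 1),1)] .nil .nil)))) (.node [] (.node [] .nil (.node [] .nil (.node [(204,(.negSucc 0),1)] .nil .nil))) .nil)) (.node [] .nil (.node [] (.node [] .nil (.node [] .nil (.node [(212,(.ofNat 1),1)] .nil .nil))) .nil))) (.node [(119,(.ofNat 1),1)] (.node [] (.node [] (.node [] (.node [] .nil (.node [(123,(.negSucc 0),1)] .nil .nil)) (.node [(64,(.negSucc 0),1)] .nil .nil)) .nil) (.node [] .nil (.node [] .nil (.node [] .nil (.node [(243,(.ofNat 1),1)] .nil .nil))))) (.node [] (.node [] (.node [] .nil (.node [(75,(.negSucc 0),1)] .nil .nil)) (.node [] .nil (.node [] .nil (.node [(235,(.ofNat 1),1)] .nil .nil)))) (.node [] (.node [] (.node [] .nil (.node [(155,(.ofNat 1),1)] .nil .nil)) (.node [(88,(.ofNat 1),1)] .nil .nil)) (.node [(56,(.ofNat 1),1)] .nil .nil)))))) (.node [] (.node [] (.node [] (.node [] (.node [] (.node [] (.node [] .nil (.node [(120,(.ofNat 1),1)] .nil .nil)) .nil) .nil) (.node [] .nil (.node [(44,(.ofNat 1),1)] .nil .nil))) (.node [] (.node [] (.node [] (.node []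 .nil (.node [(128,(.negSucc 0),1)] .nil .nil)) (.node [(68,(.ofNat 1),1)] .nil (.node [(195,(.ofNat 1),1)] .nil .nil))) (.node [(35,(.ofNat 1),1)] (.node [] .nil (.node [(163,(.ofNat 1),1)] .nil .nil)) (.node [(102,(.negSucc 0),1)] .nil .nil))) (.node [] (.node [] (.node [] .nil (.node [(150,(.ofNat 1),1)] .nil .nil)) .nil) .nil))) (.node [] (.node [] (.node [] (.node [] .nil (.node [] .nil (.node [(192,(.negSucc 0),1)] .nil .nil))) (.node [] (.node [] .nil (.node [(160,(.negSucc 0),1)] .nil .nil)) .nil)) (.node [] .nil (.node [(47,(.negSucc 0),1)] .nil (.node [(114,(.negSucc 0),1)] .nil .nil)))) (.node [] (.node [] (.node [] (.node [] .nil (.node [(138,(.ofNat 1),1)] .nil .nil)) .nil) .nil) (.node [] (.node [] .nil (.node [] .nil (.node [(216,(.negSucc 0),1)] .nil .nil))) (.node [] (.node [] .nil (.node [(183,(.negSucc 0),1)] .nil .nil)) .nil))))) (.node [(119,(.negSucc 0),1)] (.node [] (.node [] .nil (.node [] (.node [] (.node [] .nil (.node [(144,(.ofNat 1),1)] .nil .nil))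 (.node [(80,(.negSucc 0),1)] .nil (.node [(206,(.negSucc 0),1)] .nil .nil))) (.node [(45,(.ofNat 1),1)] .nil .nil))) (.node [] (.node [] .nil (.node [(37,(.negSucc 0),1)] .nil .nil)) (.node [(24,(.negSucc 0),1)] .nil (.node [] (.node [] .nil (.node [(182,(.negSucc 0),1)] .nil .nil)) .nil)))) (.node [(119,(.negSucc 0),1)] (.node [] (.node [] (.node [] (.node [] .nil (.node [(126,(.negSucc 0),1)] .nil .nil)) (.node [] .nil (.node [(193,(.negSucc 0),1)] .nil .nil))) (.node [(34,(.ofNat 1),1)] (.node [] .nil (.node [(161,(.negSucc 0),1)] .nil .nil)) (.node [] .nil (.node [(228,(.ofNat 1),1)] .nil .nil)))) (.node [] .nil (.node [] .nil (.node [] .nil .nil)))) (.node [] (.node [] .nil (.node [] (.node [] .nil (.node [(172,(.ofNat 1),1)] .nil .nil)) (.node [(108,(.negSucc 0),1)] .nil .nil))) (.node [] (.node [] .nil (.node [(90,(.ofNat 1),1)] .nil .nil)) (.node [(58,(.ofNat 1),1)] (.node [] .nil (.node [(185,(.ofNat 1),1)] .nil .nil)) (.node [(118,(.ofNat 1),1)] .nil .nil))))))))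
noncomputable def ex112 : Trie (List (ℕ × ℤ × ℕ)) := (.node [] (.node [] (.node [] (.node [] (.node [] .nil (.node [] (.node [] .nil (.node [] .nil (.node [(203,(.negSucc 0),1)] .nil .nil))) (.node [(44,(.negSucc 0),1)] .nil .nil))) (.node [] (.node [] (.node [] (.node [] .nil (.node [(129,(.negSucc 0),1)] .nil .nil)) (.node [] .nil (.node [(195,(.ofNat 1),1)] .nil .nil))) (.node [] (.node [] .nil (.node [(163,(.ofNat 1),1)] .nil .nil)) .nil)) (.node [] (.node [] (.node [] .nil (.node [(150,(.ofNat 1),1)] .nil .nil)) .nil) (.node [] .nil (.node [] .nil .nil))))) (.node [(120,(.ofNat 1),1)] (.node [] (.node [] (.node [] .nil (.node [] .nil (.node [(192,(.negSucc 0),1)] .nil .nil))) (.node [] (.node [] .nil (.node [(160,(.negSucc 0),1)] .nil .nil)) (.node [(98,(.negSucc 0),1)] .nil .nil))) (.node [] .nil (.node [(47,(.ofNat 1),1)] .nil .nil))) (.node [(10,(.negSucc 0),1)] (.node [] (.node [] (.node [] .nil (.node [(138,(.ofNat 1),1)] .nil .nil)) .nil) .nil) (.node [] (.node [] .nil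 (.node [(87,(.negSucc 0),1)] .nil .nil)) (.node [(55,(.negSucc 0),1)] .nil .nil))))) (.node [] (.node [] (.node [] (.node [] .nil (.node [] .nil (.node [] .nil (.node [(224,(.negSucc 0),1)] .nil .nil)))) (.node [] (.node [] (.node [] .nil (.node [(144,(.ofNat 1),1)] .nil .nil)) .nil) .nil)) (.node [] (.node [] .nil (.node [(37,(.ofNat 1),1)] .nil .nil)) (.node [(24,(.ofNat 1),1)] (.node [] .nil (.node [] .nil (.node [(213,(.negSucc 0),1)] .nil .nil))) (.node [] (.node [] .nil (.node [(182,(.negSucc 0),1)] .nil .nil)) .nil)))) (.node [(120,(.negSucc 0),1)] (.node [] (.node [] (.node [] (.node [] .nil (.node [(124,(.negSucc 0),1)] .nil .nil)) (.node [(65,(.negSucc 0),1)] .nil .nil)) (.node [(34,(.negSucc 0),1)] .nil .nil)) .nil) (.node [] (.node [] (.node [] .nil (.node [(76,(.negSucc 0),1)] .nil .nil)) (.node [] (.node [] .nil (.node [(172,(.ofNat 1),1)] .nil .nil)) (.node [] .nil (.node [(236,(.negSucc 0),1)] .nil .nil)))) (.node [] .nil (.node [] (.node [] .nil (.node [(185,(.ofNat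 1),1)] .nil .nil)) (.node [(119,(.ofNat 1),1)] .nil .nil))))))) (.node [] (.node [] (.node [] (.node [] .nil (.node [] (.node [] .nil (.node [] .nil (.node [(204,(.negSucc 0),1)] .nil .nil))) .nil)) (.node [] (.node [] (.node [] (.node [] .nil (.node [(130,(.negSucc 0),1)] .nil .nil)) (.node [(69,(.ofNat 1),1)] .nil .nil)) (.node [(36,(.ofNat 1),1)] .nil (.node [(103,(.negSucc 0),1)] .nil .nil))) .nil)) (.node [(120,(.ofNat 1),1)] (.node [] .nil (.node [] .nil (.node [] .nil (.node [(115,(.negSucc 0),1)] .nil (.node [(243,(.ofNat 1),1)] .nil .nil))))) (.node [] .nil (.node [] (.node [] (.node [] .nil (.node [(155,(.ofNat 1),1)] .nil .nil)) (.node [(88,(.negSucc 0),1)] .nil (.node [(217,(.ofNat 1),1)] .nil .nil))) (.node [(56,(.negSucc 0),1)] (.node [] .nil (.node [(184,(.ofNat 1),1)] .nil .nil)) (.node [(118,(.ofNat 1),1)] .nil .nil)))))) (.node [(120,(.negSucc 0),1)] (.node [] (.node [] (.node [] (.node [] (.node [] .nil (.node [(121,(.ofNat 1),1)] .nil .nil)) .nil) .nil) (.node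 [(17,(.ofNat 1),1)] (.node [] .nil (.node [(81,(.negSucc 0),1)] .nil (.node [(207,(.ofNat 1),1)] .nil .nil))) (.node [(46,(.ofNat 1),1)] (.node [] .nil (.node [(177,(.ofNat 1),1)] .nil .nil)) .nil))) (.node [] .nil (.node [] (.node [] .nil (.node [] .nil (.node [(214,(.negSucc 0),1)] .nil .nil))) .nil))) (.node [] (.node [] (.node [] (.node [] (.node [] .nil (.node [(4,(.negSucc 0),1),(5,(.negSucc 0),1),(120,(.negSucc 0),2)] .nil .nil)) (.node [(66,(.negSucc 0),1)] .nil (.node [(194,(.ofNat 1),1)] .nil .nil))) (.node [] (.node [] .nil (.node [(162,(.ofNat 1),1)] .nil .nil)) (.node [] .nil (.node [(229,(.negSucc 0),1)] .nil .nil)))) .nil) (.node [] (.node [] .nil (.node [] .nil (.node [(109,(.negSucc 0),1)] .nil .nil))) (.node [(29,(.ofNat 1),1)] (.node [] .nil (.node [(91,(.ofNat 1),1)] .nil .nil)) (.node [(59,(.ofNat 1),1)] .nil .nil)))))))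
noncomputable def ex113 : Trie (List (ℕ × ℤ × ℕ)) := (.node [] (.node [] (.node [] (.node [] (.node [] .nil (.node [] (.node [] .nil (.node [] .nil (.node [(205,(.ofNat 1),1)] .nil .nil))) (.node [(45,(.negSucc 0),1)] .nil .nil))) (.node [] (.node [] (.node [] (.node [] .nil (.node [(132,(.negSucc 0),1)] .nil .nil)) (.node [(69,(.negSucc 0),1)] .nil .nil)) (.node [(37,(.negSucc 0),1)] .nil .nil)) .nil)) (.node [(121,(.ofNat 2),1)] (.node [] (.node [] (.node [] .nil (.node [] .nil (.node [(193,(.ofNat 1),1)] .nil .nil))) (.node [] (.node [] .nil (.node [(161,(.ofNat 1),1)] .nil .nil)) (.node [(99,(.negSucc 0),1)] .nil .nil))) (.node [] .nil (.node [] .nil (.node [] .nil (.node [(243,(.ofNat 1),1)] .nil .nil))))) (.node [(11,(.negSucc 0),1)] .nil (.node [] (.node [] (.node [] .nil (.node [(155,(.ofNat 1),1)] .nil .nil)) (.node [(89,(.negSucc 0),1)] .nil (.node [(217,(.ofNat 1),1)] .nil .nil))) (.node [(57,(.negSucc 0),1)] (.node [] .nil (.node [(185,(.ofNat 1),1)] .nil .nil)) (.node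 [(120,(.ofNat 1),1)] .nil .nil)))))) (.node [] (.node [] (.node [] (.node [] .nil (.node [] .nil (.node [] .nil (.node [(225,(.ofNat 1),1)] .nil .nil)))) (.node [(17,(.negSucc 0),1)] (.node [] .nil (.node [] .nil (.node [(207,(.ofNat 1),1)] .nil .nil))) (.node [(47,(.negSucc 0),1)] (.node [] .nil (.node [(177,(.ofNat 1),1)] .nil .nil)) .nil))) (.node [] .nil (.node [] (.node [] .nil (.node [] .nil (.node [(215,(.ofNat 1),1)] .nil .nil))) (.node [] (.node [] .nil (.node [(183,(.ofNat 1),1)] .nil .nil)) (.node [(118,(.ofNat 1),1)] .nil .nil))))) (.node [] (.node [] (.node [] (.node [] (.node [] .nil (.node [(4,(.negSucc 0),1),(121,(.negSucc 0),2)] .nil .nil)) (.node [(67,(.negSucc 0),1)] .nil (.node [(195,(.ofNat 1),1)] .nil .nil))) (.node [(35,(.negSucc 0),1)] (.node [] .nil (.node [(163,(.ofNat 1),1)] .nil .nil)) .nil)) .nil) (.node [] (.node [] (.node [] .nil (.node [(77,(.negSucc 0),1)] .nil .nil)) (.node [] .nil (.node [] .nil (.node [(237,(.ofNat 1),1)] .nil .nil)))) (.node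 [(29,(.negSucc 0),1)] (.node [] .nil (.node [(91,(.negSucc 0),1)] .nil .nil)) (.node [(59,(.negSucc 0),1)] .nil .nil)))))) (.node [] (.node [] (.node [] (.node [] .nil (.node [] (.node [] (.node [] .nil (.node [(144,(.ofNat 1),1)] .nil .nil)) (.node [] .nil (.node [(206,(.ofNat 1),1)] .nil .nil))) (.node [(46,(.negSucc 0),1)] .nil .nil))) (.node [] (.node [] (.node [] (.node [] .nil (.node [(133,(.negSucc 0),1)] .nil .nil)) .nil) (.node [] .nil (.node [(104,(.negSucc 0),1)] .nil .nil))) (.node [(24,(.negSucc 0),1)] .nil (.node [] .nil (.node [] .nil .nil))))) (.node [(121,(.negSucc 0),1)] (.node [] (.node [] (.node [] .nil (.node [] .nil (.node [(194,(.ofNat 1),1)] .nil .nil))) (.node [] (.node [] .nil (.node [(162,(.ofNat 1),1)] .nil .nil)) .nil)) (.node [] .nil (.node [] .nil (.node [(116,(.negSucc 0),1)] .nil .nil)))) (.node [] (.node [] .nil (.node [] (.node [] .nil (.node [(172,(.ofNat 1),1)] .nil .nil)) .nil)) (.node [] (.node [] .nil (.node [(90,(.negSucc 0),1)] .nil .nil))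 (.node [(58,(.negSucc 0),1)] .nil .nil))))) (.node [(121,(.negSucc 0),1)] (.node [] (.node [] .nil (.node [] (.node [] .nil (.node [(82,(.negSucc 0),1)] .nil .nil)) .nil)) (.node [] (.node [] (.node [] (.node [] .nil (.node [(138,(.ofNat 1),1)] .nil .nil)) .nil) .nil) (.node [] (.node [] .nil (.node [] .nil (.node [(216,(.ofNat 1),1)] .nil .nil))) (.node [] (.node [] .nil (.node [(184,(.ofNat 1),1)] .nil .nil)) (.node [(119,(.ofNat 1),1)] .nil .nil))))) (.node [] (.node [] (.node [] (.node [] (.node [] .nil (.node [(131,(.negSucc 0),1)] .nil .nil)) (.node [(68,(.negSucc 0),1)] .nil .nil)) (.node [(36,(.negSucc 0),1)] .nil (.node [] .nil (.node [(230,(.ofNat 1),1)] .nil .nil)))) (.node [] (.node [] (.node [] .nil (.node [(150,(.ofNat 1),1)] .nil .nil)) .nil) .nil)) (.node [] (.node [] .nil (.node [] .nil (.node [(110,(.negSucc 0),1)] .nil .nil))) .nil)))))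
noncomputable def ex114 : Trie (List (ℕ × ℤ × ℕ)) := (.node [] (.node [] (.node [] (.node [] (.node [] (.node [] (.node [] (.node [] .nil (.node [(123,(.ofNat 1),1)] .nil .nil)) .nil) .nil) (.node [] .nil (.node [] (.node [] .nil (.node [(173,(.ofNat 1),1)] .nil .nil)) .nil))) (.node [] (.node [] (.node [] .nil (.node [] .nil (.node [(196,(.negSucc 0),1)] .nil .nil))) (.node [] (.node [] .nil (.node [(164,(.negSucc 0),1)] .nil .nil)) (.node [(101,(.negSucc 0),1)] .nil .nil))) (.node [] (.node [] .nil (.node [] .nil (.node [(212,(.negSucc 0),1)] .nil .nil))) .nil))) (.node [(122,(.negSucc 0),1)] (.node [] (.node [] (.node [] (.node [] .nil (.node [(127,(.negSucc 0),1)] .nil .nil)) (.node [(64,(.ofNat 1),1)] .nil .nil)) .nil) (.node [] (.node [] (.node [] .nil (.node [(145,(.ofNat 1),1)] .nil .nil)) .nil) (.node [(48,(.ofNat 1),1)] .nil (.node [(113,(.negSucc 0),1)] .nil .nil)))) (.node [] .nil (.node [(25,(.negSucc 0),1)] .nil .nil)))) (.node [] (.node [] (.node [] (.node [] (.node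 [] (.node [] .nil (.node [(124,(.ofNat 1),1)] .nil .nil)) .nil) .nil) (.node [] (.node [] .nil (.node [(79,(.negSucc 0),1)] .nil .nil)) .nil)) (.node [] (.node [] .nil (.node [(38,(.ofNat 1),1)] .nil .nil)) (.node [] (.node [] (.node [] .nil (.node [(151,(.ofNat 1),1)] .nil .nil)) (.node [(86,(.ofNat 1),1)] .nil .nil)) (.node [(54,(.ofNat 1),1)] .nil (.node [] .nil .nil))))) (.node [] (.node [] (.node [] .nil (.node [] .nil (.node [] .nil (.node [(227,(.ofNat 1),1)] .nil .nil)))) .nil) (.node [] (.node [] (.node [] (.node [] .nil (.node [(139,(.ofNat 1),1)] .nil .nil)) (.node [] .nil (.node [(202,(.negSucc 0),1)] .nil .nil))) (.node [] .nil (.node [(107,(.negSucc 0),1)] .nil .nil))) (.node [] .nil (.node [] (.node [] .nil (.node [(186,(.negSucc 0),1)] .nil .nil)) .nil)))))) (.node [] (.node [] (.node [] (.node [] (.node [] .nil (.node [(30,(.negSucc 0),1)] .nil (.node [] .nil (.node [(222,(.ofNat 1),1)] .nil .nil)))) .nil) (.node [] (.node [] (.node [] (.node [] .nil (.node [(134,(.ofNat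 1),1)] .nil .nil)) (.node [(70,(.negSucc 0),1)] .nil (.node [(197,(.negSucc 0),1)] .nil .nil))) (.node [] (.node [] .nil (.node [(165,(.negSucc 0),1)] .nil .nil)) .nil)) (.node [] (.node [] .nil (.node [] .nil (.node [(213,(.negSucc 0),1)] .nil .nil))) (.node [] (.node [] .nil (.node [(182,(.ofNat 1),1)] .nil .nil)) (.node [(118,(.negSucc 0),1)] .nil .nil))))) (.node [(122,(.ofNat 1),1)] (.node [] (.node [] (.node [] (.node [] .nil (.node [(5,(.negSucc 0),1),(6,(.negSucc 0),1),(7,(.negSucc 0),1),(122,(.negSucc 0),2)] .nil .nil)) (.node [(65,(.ofNat 1),1)] .nil .nil)) (.node [(34,(.negSucc 0),1)] .nil .nil)) (.node [(18,(.negSucc 0),1)] .nil (.node [(49,(.ofNat 1),1)] (.node [] .nil (.node [(178,(.ofNat 1),1)] .nil .nil)) .nil))) (.node [] (.node [] (.node [] .nil (.node [(74,(.negSucc 0),1)] .nil .nil)) (.node [] .nil (.node [] .nil (.node [(234,(.ofNat 1),1)] .nil .nil)))) (.node [] (.node [] .nil (.node [] .nil (.node [(218,(.ofNat 1),1)] .nil .nil))) .nil)))) (.node [] (.node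 [] (.node [] (.node [] (.node [] (.node [] .nil (.node [(125,(.negSucc 0),1)] .nil .nil)) (.node [] .nil (.node [(192,(.ofNat 1),1)] .nil .nil))) (.node [] (.node [] .nil (.node [(160,(.ofNat 1),1)] .nil .nil)) (.node [(96,(.negSucc 0),1)] .nil .nil))) (.node [] (.node [] .nil (.node [] .nil (.node [(208,(.ofNat 1),1)] .nil .nil))) .nil)) (.node [(8,(.negSucc 0),1)] (.node [] .nil (.node [(39,(.ofNat 1),1)] .nil .nil)) (.node [] (.node [] .nil (.node [(87,(.ofNat 1),1)] .nil .nil)) (.node [(55,(.ofNat 1),1)] .nil .nil)))) (.node [(122,(.ofNat 1),1)] (.node [] .nil (.node [] .nil (.node [] .nil (.node [] .nil (.node [(244,(.ofNat 1),1)] .nil .nil))))) (.node [] (.node [] (.node [] .nil (.node [] .nil (.node [(203,(.negSucc 0),1)] .nil .nil))) (.node [(44,(.negSucc 0),1)] .nil .nil)) (.node [] (.node [] (.node [] .nil (.node [(156,(.ofNat 1),1)] .nil .nil)) (.node [(92,(.negSucc 0),1)] .nil .nil)) (.node [(60,(.negSucc 0),1)] (.node [] .nil (.node [(187,(.negSucc 0),1)] .nil .nil))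 .nil)))))))
noncomputable def ex115 : Trie (List (ℕ × ℤ × ℕ)) := (.node [] (.node [] (.node [] (.node [] (.node [] (.node [] .nil (.node [(30,(.ofNat 1),1)] .nil .nil)) .nil) (.node [] (.node [] (.node [] (.node [] .nil (.node [(134,(.ofNat 1),1)] .nil .nil)) .nil) (.node [] .nil (.node [(102,(.negSucc 0),1)] .nil .nil))) (.node [] .nil (.node [] (.node [] .nil (.node [(182,(.ofNat 1),1)] .nil .nil)) .nil)))) (.node [(123,(.negSucc 0),1)] (.node [] (.node [] (.node [] (.node [] .nil (.node [(5,(.negSucc 0),1),(6,(.negSucc 0),1),(123,(.negSucc 0),2)] .nil .nil)) .nil) (.node [(34,(.ofNat 1),1)] .nil .nil)) (.node [(18,(.ofNat 1),1)] .nil (.node [] (.node [] .nil (.node [(178,(.ofNat 1),1)] .nil .nil)) (.node [(114,(.negSucc 0),1)] .nil .nil)))) .nil)) (.node [] (.node [] (.node [] (.node [] (.node [] .nil (.node [] .nil (.node [(192,(.ofNat 1),1)] .nil .nil))) (.node [] (.node [] .nil (.node [(160,(.ofNat 1),1)] .nil .nil)) .nil)) (.node [] (.node [] .nil (.node [(80,(.negSucc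 0),1)] .nil .nil)) .nil)) .nil) (.node [(123,(.ofNat 1),1)] (.node [] (.node [] .nil (.node [] .nil (.node [] .nil (.node [(228,(.negSucc 0),1)] .nil .nil)))) (.node [] .nil (.node [] .nil (.node [] .nil (.node [(244,(.ofNat 1),1)] .nil .nil))))) (.node [] (.node [] .nil (.node [(44,(.ofNat 1),1)] .nil (.node [(108,(.negSucc 0),1)] .nil .nil))) (.node [] (.node [] (.node [] .nil (.node [(156,(.ofNat 1),1)] .nil .nil)) .nil) .nil))))) (.node [] (.node [] (.node [] (.node [] (.node [] (.node [] (.node [] .nil (.node [(124,(.ofNat 1),1)] .nil .nil)) .nil) (.node [] .nil (.node [] .nil (.node [(223,(.negSucc 0),1)] .nil .nil)))) .nil) (.node [] (.node [] (.node [] .nil (.node [(71,(.negSucc 0),1)] .nil (.node [(198,(.ofNat 1),1)] .nil .nil))) (.node [(38,(.negSucc 0),1)] (.node [] .nil (.node [(166,(.ofNat 1),1)] .nil .nil)) .nil)) (.node [] (.node [] (.node [] .nil (.node [(151,(.ofNat 1),1)] .nil .nil)) (.node [(86,(.negSucc 0),1)] .nil (.node [(214,(.ofNat 1),1)] .nil .nil))) (.node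 [(54,(.negSucc 0),1)] .nil (.node [(119,(.negSucc 0),1)] .nil .nil))))) (.node [(123,(.ofNat 1),1)] (.node [] (.node [] (.node [] (.node [] .nil (.node [(128,(.negSucc 0),1)] .nil .nil)) (.node [(66,(.ofNat 1),1)] .nil .nil)) .nil) (.node [] .nil (.node [(50,(.ofNat 1),1)] .nil .nil))) (.node [] (.node [] (.node [] (.node [] .nil (.node [(139,(.ofNat 1),1)] .nil .nil)) (.node [(75,(.negSucc 0),1)] .nil (.node [(202,(.negSucc 0),1)] .nil .nil))) (.node [] .nil (.node [] .nil (.node [(235,(.negSucc 0),1)] .nil .nil)))) (.node [] (.node [] .nil (.node [] .nil (.node [(219,(.negSucc 0),1)] .nil .nil))) (.node [] (.node [] .nil (.node [(186,(.negSucc 0),1)] .nil .nil)) .nil))))) (.node [] (.node [] (.node [] (.node [] (.node [] (.node [] .nil (.node [(126,(.negSucc 0),1)] .nil .nil)) (.node [(64,(.negSucc 0),1)] .nil .nil)) (.node [] .nil (.node [(97,(.negSucc 0),1)] .nil .nil))) (.node [] (.node [] (.node [] .nil (.node [(145,(.ofNat 1),1)] .nil .nil)) (.node [] .nil (.node [(209,(.negSucc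 0),1)] .nil .nil))) (.node [(48,(.negSucc 0),1)] .nil .nil))) (.node [(9,(.negSucc 0),1)] (.node [] .nil (.node [(40,(.ofNat 1),1)] .nil .nil)) (.node [(25,(.ofNat 1),1)] (.node [] .nil (.node [(88,(.ofNat 1),1)] .nil .nil)) (.node [(56,(.ofNat 1),1)] .nil (.node [] .nil .nil))))) (.node [(123,(.negSucc 0),1)] (.node [] (.node [] (.node [] .nil (.node [] .nil (.node [(196,(.negSucc 0),1)] .nil .nil))) (.node [] (.node [] .nil (.node [(164,(.negSucc 0),1)] .nil .nil)) .nil)) (.node [] (.node [] .nil (.node [] .nil (.node [(212,(.negSucc 0),1)] .nil .nil))) .nil)) (.node [] (.node [] (.node [] .nil (.node [] .nil (.node [(204,(.ofNat 1),1)] .nil .nil))) (.node [] (.node [] .nil (.node [(173,(.ofNat 1),1)] .nil .nil)) .nil)) (.node [] (.node [] .nil (.node [(93,(.negSucc 0),1)] .nil .nil)) (.node [(61,(.negSucc 0),1)] (.node [] .nil (.node [(188,(.ofNat 1),1)] .nil .nil)) (.node [(122,(.ofNat 1),1)] .nil .nil))))))))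
noncomputable def ex116 : Trie (List (ℕ × ℤ × ℕ)) := (.node [] (.node [] (.node [] (.node [] .nil (.node [] (.node [] (.node [] .nil (.node [] .nil (.node [(198,(.ofNat 1),1)] .nil .nil))) (.node [] (.node [] .nil (.node [(166,(.ofNat 1),1)] .nil .nil)) (.node [(103,(.negSucc 0),1)] .nil .nil))) (.node [] (.node [] (.node [] .nil (.node [(151,(.ofNat 1),1)] .nil .nil)) (.node [] .nil (.node [(214,(.ofNat 1),1)] .nil .nil))) .nil))) (.node [(124,(.negSucc 0),1)] (.node [] (.node [] (.node [] (.node [] .nil (.node [(129,(.negSucc 0),1)] .nil .nil)) (.node [(66,(.negSucc 0),1)] .nil .nil)) .nil) (.node [] .nil (.node [(50,(.negSucc 0),1)] .nil (.node [(115,(.negSucc 0),1)] .nil .nil)))) (.node [] (.node [] (.node [] (.node [] .nil (.node [(139,(.ofNat 1),1)] .nil .nil)) .nil) .nil) (.node [] .nil (.node [] .nil (.node [] .nil .nil)))))) (.node [] (.node [] (.node [] .nil (.node [] (.node [] (.node [] .nil (.node [(145,(.ofNat 1),1)] .nil .nil)) (.node [(81,(.negSucc 0),1)] .nil .nil))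 .nil)) (.node [] (.node [] .nil (.node [(40,(.negSucc 0),1)] .nil .nil)) (.node [(25,(.negSucc 0),1)] (.node [] .nil (.node [(88,(.negSucc 0),1)] .nil .nil)) (.node [(56,(.negSucc 0),1)] .nil .nil)))) (.node [(124,(.negSucc 0),1)] (.node [] (.node [] .nil (.node [] .nil (.node [] .nil (.node [(229,(.ofNat 1),1)] .nil .nil)))) .nil) (.node [] (.node [] (.node [] .nil (.node [] .nil (.node [(204,(.ofNat 1),1)] .nil .nil))) (.node [] (.node [] .nil (.node [(173,(.ofNat 1),1)] .nil .nil)) (.node [(109,(.negSucc 0),1)] .nil .nil))) (.node [] .nil (.node [] (.node [] .nil (.node [(188,(.ofNat 1),1)] .nil .nil)) (.node [(123,(.ofNat 1),1)] .nil .nil))))))) (.node [] (.node [] (.node [] (.node [] (.node [] (.node [] .nil (.node [] .nil (.node [(192,(.ofNat 1),1)] .nil .nil))) (.node [] (.node [] .nil (.node [(160,(.ofNat 1),1)] .nil .nil)) (.node [] .nil (.node [(224,(.ofNat 1),1)] .nil .nil)))) .nil) (.node [] (.node [] (.node [] .nil (.node [(72,(.negSucc 0),1)] .nil .nil)) (.node [(39,(.negSucc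 0),1)] .nil .nil)) (.node [] (.node [] .nil (.node [(87,(.negSucc 0),1)] .nil .nil)) (.node [(55,(.negSucc 0),1)] .nil (.node [(120,(.negSucc 0),1)] .nil .nil))))) (.node [(124,(.ofNat 2),1)] (.node [] (.node [] (.node [] (.node [] .nil (.node [(130,(.negSucc 0),1)] .nil .nil)) .nil) .nil) (.node [] .nil (.node [] .nil (.node [] .nil (.node [(244,(.ofNat 1),1)] .nil .nil))))) (.node [] (.node [] (.node [] .nil (.node [(76,(.negSucc 0),1)] .nil (.node [(203,(.ofNat 1),1)] .nil .nil))) (.node [(44,(.negSucc 0),1)] .nil (.node [] .nil (.node [(236,(.ofNat 1),1)] .nil .nil)))) (.node [] (.node [] (.node [] .nil (.node [(156,(.ofNat 1),1)] .nil .nil)) (.node [] .nil (.node [(220,(.ofNat 1),1)] .nil .nil))) (.node [] (.node [] .nil (.node [(187,(.ofNat 1),1)] .nil .nil)) (.node [(122,(.ofNat 1),1)] .nil .nil)))))) (.node [] (.node [] (.node [] (.node [] (.node [] (.node [] .nil (.node [(5,(.negSucc 0),1),(124,(.negSucc 0),2)] .nil .nil)) (.node [(65,(.negSucc 0),1)] .nil .nil)) (.node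 [(34,(.negSucc 0),1)] .nil (.node [(98,(.negSucc 0),1)] .nil .nil))) (.node [(18,(.negSucc 0),1)] (.node [] .nil (.node [] .nil (.node [(210,(.ofNat 1),1)] .nil .nil))) (.node [(49,(.negSucc 0),1)] (.node [] .nil (.node [(178,(.ofNat 1),1)] .nil .nil)) .nil))) (.node [(10,(.negSucc 0),1)] .nil .nil)) (.node [] (.node [] (.node [] (.node [] (.node [] .nil (.node [(134,(.ofNat 1),1)] .nil .nil)) (.node [] .nil (.node [(197,(.ofNat 1),1)] .nil .nil))) (.node [] (.node [] .nil (.node [(165,(.ofNat 1),1)] .nil .nil)) .nil)) (.node [] (.node [] .nil (.node [] .nil (.node [(213,(.ofNat 1),1)] .nil .nil))) (.node [] (.node [] .nil (.node [(182,(.ofNat 1),1)] .nil .nil)) .nil))) (.node [] .nil (.node [(30,(.negSucc 0),1)] (.node [] .nil (.node [(94,(.negSucc 0),1)] .nil .nil)) (.node [(62,(.negSucc 0),1)] .nil .nil)))))))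
noncomputable def ex117 : Trie (List (ℕ × ℤ × ℕ)) := (.node [] (.node [] (.node [] (.node [] (.node [] (.node [] (.node [] (.node [] .nil (.node [(126,(.ofNat 1),1)] .nil .nil)) .nil) (.node [] .nil (.node [] .nil (.node [(222,(.negSucc 0),1)] .nil .nil)))) (.node [] .nil (.node [] (.node [] .nil (.node [(174,(.ofNat 1),1)] .nil .nil)) .nil))) (.node [] (.node [] (.node [] .nil (.node [(70,(.negSucc 0),1)] .nil .nil)) (.node [(38,(.ofNat 1),1)] .nil .nil)) (.node [] (.node [] .nil (.node [(86,(.ofNat 1),1)] .nil .nil)) (.node [(54,(.ofNat 1),1)] .nil (.node [(118,(.negSucc 0),1)] .nil .nil))))) (.node [] (.node [] .nil (.node [] (.node [] (.node [] .nil (.node [(146,(.ofNat 1),1)] .nil .nil)) .nil) .nil)) (.node [] (.node [] (.node [] .nil (.node [(74,(.negSucc 0),1)] .nil (.node [(202,(.ofNat 1),1)] .nil .nil))) (.node [] .nil (.node [] .nil (.node [(234,(.negSucc 0),1)] .nil .nil)))) (.node [(26,(.ofNat 1),1)] (.node [] .nil (.node [] .nil (.node [(218,(.negSucc 0),1)] .nil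 .nil))) (.node [] (.node [] .nil (.node [(186,(.ofNat 1),1)] .nil .nil)) (.node [(122,(.negSucc 0),1)] .nil .nil)))))) (.node [] (.node [] (.node [] (.node [] (.node [] (.node [] .nil (.node [(6,(.negSucc 0),1),(7,(.negSucc 0),1),(125,(.negSucc 0),2)] .nil .nil)) (.node [(64,(.ofNat 1),1)] .nil .nil)) (.node [] .nil (.node [(96,(.negSucc 0),1)] .nil .nil))) (.node [] (.node [] .nil (.node [] .nil (.node [(208,(.negSucc 0),1)] .nil .nil))) (.node [(48,(.ofNat 1),1)] .nil .nil))) (.node [(8,(.negSucc 0),1)] .nil (.node [] (.node [] (.node [] .nil (.node [(152,(.ofNat 1),1)] .nil .nil)) .nil) .nil))) (.node [(125,(.ofNat 1),1)] (.node [] (.node [] (.node [] .nil (.node [] .nil (.node [(196,(.ofNat 1),1)] .nil .nil))) (.node [] (.node [] .nil (.node [(164,(.ofNat 1),1)] .nil .nil)) .nil)) (.node [] (.node [] .nil (.node [] .nil (.node [(212,(.ofNat 1),1)] .nil .nil))) .nil)) (.node [] (.node [] (.node [] (.node [] .nil (.node [(140,(.ofNat 1),1)] .nil .nil)) .nil) .nil) (.node []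 (.node [] .nil (.node [(92,(.negSucc 0),1)] .nil .nil)) (.node [(60,(.negSucc 0),1)] .nil .nil)))))) (.node [] (.node [] (.node [] (.node [] (.node [] (.node [] (.node [] .nil (.node [(127,(.negSucc 0),1)] .nil .nil)) .nil) (.node [(31,(.ofNat 1),1)] .nil .nil)) (.node [] (.node [] .nil (.node [(79,(.negSucc 0),1)] .nil .nil)) .nil)) (.node [] (.node [] (.node [] (.node [] .nil (.node [(135,(.ofNat 1),1)] .nil .nil)) (.node [] .nil (.node [(199,(.negSucc 0),1)] .nil .nil))) (.node [] (.node [] .nil (.node [(167,(.negSucc 0),1)] .nil .nil)) .nil)) (.node [] (.node [] .nil (.node [] .nil (.node [(215,(.negSucc 0),1)] .nil .nil))) (.node [] (.node [] .nil (.node [(183,(.ofNat 1),1)] .nil .nil)) .nil)))) (.node [(125,(.negSucc 0),1)] (.node [] (.node [] (.node [] (.node [] .nil (.node [(131,(.ofNat 1),1)] .nil .nil)) (.node [(67,(.negSucc 0),1)] .nil .nil)) (.node [(35,(.ofNat 1),1)] .nil (.node [] .nil (.node [(227,(.negSucc 0),1)] .nil .nil)))) (.node [(19,(.ofNat 1),1)] .nil (.node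 [(51,(.negSucc 0),1)] (.node [] .nil (.node [(179,(.ofNat 1),1)] .nil .nil)) .nil))) (.node [] (.node [] .nil (.node [] .nil (.node [(107,(.negSucc 0),1)] .nil .nil))) (.node [] .nil (.node [] .nil (.node [] .nil .nil)))))) (.node [] (.node [] (.node [] (.node [] (.node [] .nil (.node [] .nil (.node [(193,(.ofNat 1),1)] .nil .nil))) (.node [] (.node [] .nil (.node [(161,(.ofNat 1),1)] .nil .nil)) .nil)) (.node [] .nil (.node [] .nil (.node [(113,(.negSucc 0),1)] .nil .nil)))) (.node [] (.node [] .nil (.node [(41,(.negSucc 0),1)] .nil .nil)) (.node [] (.node [] .nil (.node [(89,(.negSucc 0),1)] .nil .nil)) (.node [(57,(.negSucc 0),1)] .nil .nil)))) (.node [(125,(.ofNat 1),1)] (.node [] (.node [] .nil (.node [] .nil (.node [(101,(.negSucc 0),1)] .nil .nil))) (.node [] .nil (.node [] .nil (.node [] .nil (.node [(245,(.ofNat 1),1)] .nil .nil))))) (.node [] (.node [] (.node [] .nil (.node [] .nil (.node [(205,(.negSucc 0),1)] .nil .nil))) (.node [(45,(.ofNat 1),1)] .nil .nil)) (.node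 [] (.node [] (.node [] .nil (.node [(157,(.ofNat 1),1)] .nil .nil)) .nil) (.node [] (.node [] .nil (.node [(189,(.negSucc 0),1)] .nil .nil)) .nil)))))))
noncomputable def ex118 : Trie (List (ℕ × ℤ × ℕ)) := (.node [] (.node [] (.node [] (.node [] (.node [] (.node [] .nil (.node [(31,(.negSucc 0),1)] .nil (.node [] .nil (.node [(223,(.ofNat 1),1)] .nil .nil)))) .nil) (.node [] (.node [] (.node [] (.node [] .nil (.node [(135,(.ofNat 1),1)] .nil .nil)) (.node [(71,(.negSucc 0),1)] .nil .nil)) .nil) (.node [] .nil (.node [] (.node [] .nil (.node [(183,(.ofNat 1),1)] .nil .nil)) (.node [(119,(.negSucc 0),1)] .nil .nil))))) (.node [] (.node [] (.node [] (.node [] (.node [] .nil (.node [(131,(.ofNat 1),1)] .nil .nil)) .nil) (.node [(35,(.negSucc 0),1)] .nil .nil)) (.node [(19,(.negSucc 0),1)] .nil (.node [] (.node [] .nil (.node [(179,(.ofNat 1),1)] .nil .nil)) .nil))) (.node [] (.node [] (.node [] .nil (.node [(75,(.negSucc 0),1)] .nil .nil)) (.node [] .nil (.node [] .nil (.node [(235,(.ofNat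 1),1)] .nil .nil)))) (.node [] (.node [] .nil (.node [] .nil (.node [(219,(.ofNat 1),1)] .nil .nil))) (.node [] .nil (.node [(123,(.negSucc 0),1)] .nil .nil)))))) (.node [] (.node [] (.node [] (.node [] (.node [] (.node [] .nil (.node [(128,(.negSucc 0),1)] .nil .nil)) (.node [] .nil (.node [(193,(.ofNat 1),1)] .nil .nil))) (.node [] (.node [] .nil (.node [(161,(.ofNat 1),1)] .nil .nil)) (.node [(97,(.negSucc 0),1)] .nil .nil))) (.node [] (.node [] .nil (.node [] .nil (.node [(209,(.ofNat 1),1)] .nil .nil))) .nil)) (.node [(9,(.negSucc 0),1)] .nil .nil)) (.node [(126,(.ofNat 2),1)] (.node [] .nil (.node [] .nil (.node [] .nil (.node [] .nil (.node [(245,(.ofNat 1),1)] .nil .nil))))) (.node [] (.node [] .nil (.node [(45,(.negSucc 0),1)] .nil .nil)) (.node [] (.node [] (.node [] .nil (.node [(157,(.ofNat 1),1)] .nil .nil)) (.node [(93,(.negSucc 0),1)] .nil .nil)) (.node [(61,(.negSucc 0),1)] .nil (.node [] .nil .nil))))))) (.node [] (.node [] (.node [] (.node [] (.node [] (.node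 [] (.node [] .nil (.node [(6,(.negSucc 0),1),(126,(.negSucc 0),2)] .nil .nil)) (.node [(64,(.negSucc 0),1)] .nil .nil)) .nil) (.node [] (.node [] .nil (.node [(80,(.negSucc 0),1)] .nil .nil)) (.node [(48,(.negSucc 0),1)] .nil .nil))) (.node [] (.node [] (.node [] .nil (.node [] .nil (.node [(200,(.ofNat 1),1)] .nil .nil))) (.node [] (.node [] .nil (.node [(168,(.ofNat 1),1)] .nil .nil)) .nil)) (.node [] (.node [] (.node [] .nil (.node [(152,(.ofNat 1),1)] .nil .nil)) (.node [] .nil (.node [(216,(.ofNat 1),1)] .nil .nil))) .nil))) (.node [(126,(.negSucc 0),1)] (.node [] (.node [] (.node [] .nil (.node [(68,(.negSucc 0),1)] .nil (.node [(196,(.ofNat 1),1)] .nil .nil))) (.node [] (.node [] .nil (.node [(164,(.ofNat 1),1)] .nil .nil)) (.node [] .nil (.node [(228,(.ofNat 1),1)] .nil .nil)))) (.node [] (.node [] .nil (.node [] .nil (.node [(212,(.ofNat 1),1)] .nil .nil))) (.node [(52,(.negSucc 0),1)] .nil .nil))) (.node [] (.node [] (.node [] (.node [] .nil (.node [(140,(.ofNat 1),1)]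 .nil .nil)) .nil) (.node [] .nil (.node [(108,(.negSucc 0),1)] .nil .nil))) .nil))) (.node [] (.node [] (.node [] .nil (.node [] (.node [] (.node [] .nil (.node [(146,(.ofNat 1),1)] .nil .nil)) .nil) (.node [] .nil (.node [(114,(.negSucc 0),1)] .nil .nil)))) (.node [] (.node [] (.node [] .nil (.node [] .nil (.node [(202,(.ofNat 1),1)] .nil .nil))) (.node [(42,(.negSucc 0),1)] .nil .nil)) (.node [(26,(.negSucc 0),1)] (.node [] .nil (.node [(90,(.negSucc 0),1)] .nil .nil)) (.node [(58,(.negSucc 0),1)] (.node [] .nil (.node [(186,(.ofNat 1),1)] .nil .nil)) .nil)))) (.node [(126,(.negSucc 0),1)] (.node [] (.node [] .nil (.node [(38,(.negSucc 0),1)] .nil (.node [(102,(.negSucc 0),1)] .nil .nil))) (.node [] (.node [] .nil (.node [(86,(.negSucc 0),1)] .nil .nil)) (.node [(54,(.negSucc 0),1)] .nil .nil))) (.node [] (.node [] (.node [] .nil (.node [] .nil (.node [(206,(.ofNat 1),1)] .nil .nil))) (.node [] (.node [] .nil (.node [(174,(.ofNat 1),1)] .nil .nil)) .nil)) (.node [] .nil (.node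 [] (.node [] .nil (.node [(190,(.ofNat 1),1)] .nil .nil)) (.node [(125,(.ofNat 1),1)] .nil .nil))))))))
noncomputable def ex119 : Trie (List (ℕ × ℤ × ℕ)) := (.node [] (.node [] (.node [] (.node [] (.node [] (.node [] (.node [] (.node [] .nil (.node [(7,(.negSucc 0),1),(127,(.negSucc 0),2)] .nil .nil)) .nil) .nil) (.node [] (.node [] .nil (.node [(79,(.negSucc 0),1)] .nil .nil)) (.node [] (.node [] .nil (.node [(175,(.ofNat 1),1)] .nil .nil)) .nil))) (.node [] (.node [] (.node [] .nil (.node [] .nil (.node [(199,(.ofNat 1),1)] .nil .nil))) (.node [(39,(.negSucc 0),1)] (.node [] .nil (.node [(167,(.ofNat 1),1)] .nil .nil)) .nil)) (.node [] (.node [] .nil (.node [(87,(.negSucc 0),1)] .nil (.node [(215,(.ofNat 1),1)] .nil .nil))) (.node [(55,(.negSucc 0),1)] .nil .nil)))) (.node [] (.node [] (.node [] (.node [] .nil (.node [(67,(.negSucc 0),1)] .nil .nil)) (.node [] .nil (.node [] .nil (.node [(227,(.ofNat 1),1)] .nil .nil)))) (.node [] (.node [] (.node [] .nil (.node [(147,(.ofNat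 1),1)] .nil .nil)) .nil) (.node [(51,(.negSucc 0),1)] .nil .nil))) (.node [] (.node [] (.node [] .nil (.node [] .nil (.node [(203,(.ofNat 1),1)] .nil .nil))) (.node [] .nil (.node [(107,(.negSucc 0),1)] .nil .nil))) (.node [(27,(.negSucc 0),1)] .nil (.node [] (.node [] .nil (.node [(187,(.ofNat 1),1)] .nil .nil)) .nil))))) (.node [] (.node [] (.node [] (.node [] (.node [] (.node [] .nil (.node [(129,(.ofNat 1),1)] .nil .nil)) (.node [(65,(.negSucc 0),1)] .nil .nil)) .nil) (.node [] .nil (.node [(49,(.negSucc 0),1)] .nil (.node [(113,(.negSucc 0),1)] .nil .nil)))) (.node [] (.node [] .nil (.node [(41,(.negSucc 0),1)] .nil .nil)) (.node [] (.node [] (.node [] .nil (.node [(153,(.ofNat 1),1)] .nil .nil)) (.node [(89,(.negSucc 0),1)] .nil .nil)) (.node [(57,(.negSucc 0),1)] .nil .nil)))) (.node [(127,(.negSucc 0),1)] (.node [] (.node [] (.node [] .nil (.node [] .nil (.node [(197,(.ofNat 1),1)] .nil .nil))) (.node [] (.node [] .nil (.node [(165,(.ofNat 1),1)] .nil .nil)) (.node [(101,(.negSucc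 0),1)] .nil .nil))) (.node [] (.node [] .nil (.node [] .nil (.node [(213,(.ofNat 1),1)] .nil .nil))) .nil)) (.node [] (.node [] (.node [] (.node [] .nil (.node [(141,(.ofNat 1),1)] .nil .nil)) (.node [] .nil (.node [(205,(.ofNat 1),1)] .nil .nil))) .nil) (.node [] .nil (.node [] (.node [] .nil (.node [(189,(.ofNat 1),1)] .nil .nil)) (.node [(125,(.negSucc 0),1)] .nil .nil))))))) (.node [] (.node [] (.node [] (.node [] (.node [] .nil (.node [(32,(.negSucc 0),1)] .nil (.node [(96,(.negSucc 0),1)] .nil .nil))) (.node [] (.node [] .nil (.node [] .nil (.node [(208,(.ofNat 1),1)] .nil .nil))) .nil)) (.node [(8,(.negSucc 0),1)] (.node [] (.node [] (.node [] .nil (.node [(136,(.ofNat 1),1)] .nil .nil)) .nil) .nil) (.node [] .nil (.node [] (.node [] .nil (.node [(184,(.ofNat 1),1)] .nil .nil)) .nil)))) (.node [] (.node [] (.node [] (.node [] (.node [] .nil (.node [(132,(.ofNat 1),1)] .nil .nil)) .nil) (.node [(36,(.negSucc 0),1)] .nil .nil)) (.node [(20,(.negSucc 0),1)] .nil (.node []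 (.node [] .nil (.node [(180,(.ofNat 1),1)] .nil .nil)) .nil))) (.node [] .nil (.node [] (.node [] .nil (.node [(92,(.negSucc 0),1)] .nil .nil)) (.node [(60,(.negSucc 0),1)] .nil .nil))))) (.node [] (.node [] (.node [] (.node [] (.node [] .nil (.node [] .nil (.node [(194,(.ofNat 1),1)] .nil .nil))) (.node [] (.node [] .nil (.node [(162,(.ofNat 1),1)] .nil .nil)) .nil)) .nil) (.node [] (.node [] (.node [] .nil (.node [(74,(.negSucc 0),1)] .nil .nil)) (.node [] .nil (.node [] .nil (.node [(234,(.ofNat 1),1)] .nil .nil)))) (.node [] (.node [] .nil (.node [] .nil (.node [(218,(.ofNat 1),1)] .nil .nil))) (.node [] .nil (.node [(122,(.negSucc 0),1)] .nil .nil))))) (.node [(127,(.ofNat 2),1)] (.node [] (.node [] (.node [] .nil (.node [(70,(.negSucc 0),1)] .nil .nil)) .nil) (.node [] .nil (.node [] .nil (.node [(118,(.negSucc 0),1)] .nil (.node [(246,(.ofNat 1),1)] .nil .nil))))) (.node [] (.node [] .nil (.node [(46,(.negSucc 0),1)] .nil .nil)) (.node [] (.node [] (.node [] .nil (.node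 [(158,(.ofNat 1),1)] .nil .nil)) (.node [] .nil (.node [(222,(.ofNat 1),1)] .nil .nil))) (.node [] .nil (.node [] .nil .nil))))))))
noncomputable def ex120 : Trie (List (ℕ × ℤ × ℕ)) := (.node [] (.node [] (.node [] (.node [] (.node [] (.node [] (.node [] (.node [] .nil (.node [] .nil .nil)) .nil) (.node [(33,(.negSucc 0),1)] .nil (.node [(97,(.negSucc 0),1)] .nil .nil))) (.node [] (.node [] .nil (.node [] .nil (.node [(209,(.ofNat 1),1)] .nil .nil))) .nil)) (.node [(9,(.negSucc 0),1)] (.node [] (.node [] (.node [] .nil (.node [(137,(.ofNat 1),1)] .nil .nil)) .nil) .nil) (.node [] .nil (.node [] (.node [] .nil (.node [(185,(.ofNat 1),1)] .nil .nil)) .nil)))) (.node [] (.node [] (.node [] (.node [] (.node [] .nil (.node [(133,(.ofNat 1),1)] .nil .nil)) .nil) (.node [(37,(.negSucc 0),1)] .nil .nil)) (.node [(21,(.negSucc 0),1)] .nil (.node [] (.node [] .nil (.node [(181,(.ofNat 1),1)] .nil .nil)) .nil))) (.node [] .nil (.node [] (.node [] .nil (.node [(93,(.negSucc 0),1)] .nil .nil))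 (.node [(61,(.negSucc 0),1)] .nil .nil))))) (.node [] (.node [] (.node [] (.node [] (.node [] .nil (.node [] .nil (.node [(195,(.ofNat 1),1)] .nil .nil))) (.node [] (.node [] .nil (.node [(163,(.ofNat 1),1)] .nil .nil)) .nil)) .nil) (.node [] (.node [] (.node [] .nil (.node [(75,(.negSucc 0),1)] .nil .nil)) (.node [] .nil (.node [] .nil (.node [(235,(.ofNat 1),1)] .nil .nil)))) (.node [] (.node [] .nil (.node [] .nil (.node [(219,(.ofNat 1),1)] .nil .nil))) (.node [] .nil (.node [(123,(.negSucc 0),1)] .nil .nil))))) (.node [(128,(.ofNat 1),1)] (.node [] (.node [] (.node [] .nil (.node [(71,(.negSucc 0),1)] .nil .nil)) .nil) (.node [] .nil (.node [] .nil (.node [(119,(.negSucc 0),1)] .nil (.node [(247,(.ofNat 1),1)] .nil .nil))))) (.node [] (.node [] .nil (.node [(47,(.negSucc 0),1)] .nil .nil)) (.node [] (.node [] (.node [] .nil (.node [(159,(.ofNat 1),1)] .nil .nil)) (.node [] .nil (.node [(223,(.ofNat 1),1)] .nil .nil))) .nil))))) (.node [] (.node [] (.node [] (.node [] (.node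 [] (.node [] (.node [] .nil (.node [(130,(.ofNat 1),1)] .nil .nil)) (.node [(66,(.negSucc 0),1)] .nil .nil)) .nil) (.node [] .nil (.node [(50,(.negSucc 0),1)] .nil (.node [(114,(.negSucc 0),1)] .nil .nil)))) (.node [] (.node [] .nil (.node [(42,(.negSucc 0),1)] .nil .nil)) (.node [] (.node [] (.node [] .nil (.node [(154,(.ofNat 1),1)] .nil .nil)) (.node [(90,(.negSucc 0),1)] .nil .nil)) (.node [(58,(.negSucc 0),1)] .nil .nil)))) (.node [] (.node [] (.node [] (.node [] .nil (.node [] .nil (.node [(198,(.ofNat 1),1)] .nil .nil))) (.node [] (.node [] .nil (.node [(166,(.ofNat 1),1)] .nil .nil)) (.node [(102,(.negSucc 0),1)] .nil .nil))) (.node [] (.node [] .nil (.node [] .nil (.node [(214,(.ofNat 1),1)] .nil .nil))) .nil)) (.node [] (.node [] (.node [] (.node [] .nil (.node [(142,(.ofNat 1),1)] .nil .nil)) (.node [] .nil (.node [(206,(.ofNat 1),1)] .nil .nil))) .nil) (.node [] .nil (.node [] (.node [] .nil (.node [(190,(.ofNat 1),1)] .nil .nil)) (.node [(126,(.negSucc 0),1)] .nil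 .nil)))))) (.node [] (.node [] (.node [] (.node [] (.node [] .nil (.node [(68,(.negSucc 0),1)] .nil .nil)) (.node [] .nil (.node [] .nil (.node [(228,(.ofNat 1),1)] .nil .nil)))) (.node [] (.node [] (.node [] .nil (.node [(148,(.ofNat 1),1)] .nil .nil)) .nil) (.node [(52,(.negSucc 0),1)] .nil .nil))) (.node [] (.node [] (.node [] .nil (.node [] .nil (.node [(204,(.ofNat 1),1)] .nil .nil))) (.node [] .nil (.node [(108,(.negSucc 0),1)] .nil .nil))) (.node [(28,(.negSucc 0),1)] .nil (.node [] (.node [] .nil (.node [(188,(.ofNat 1),1)] .nil .nil)) .nil)))) (.node [(128,(.negSucc 1),1)] (.node [] (.node [] (.node [] .nil (.node [] .nil (.node [(200,(.ofNat 1),1)] .nil .nil))) (.node [(40,(.negSucc 0),1)] (.node [] .nil (.node [(168,(.ofNat 1),1)] .nil .nil)) .nil)) (.node [] (.node [] .nil (.node [(88,(.negSucc 0),1)] .nil (.node [(216,(.ofNat 1),1)] .nil .nil))) (.node [(56,(.negSucc 0),1)] .nil .nil))) (.node [] (.node [] (.node [] .nil (.node [(80,(.negSucc 0),1)] .nil .nil)) (.node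 [] (.node [] .nil (.node [(176,(.ofNat 1),1)] .nil .nil)) .nil)) (.node [] .nil (.node [] .nil (.node [(7,(.ofNat 1),1),(128,(.negSucc 0),2)] .nil .nil))))))))
noncomputable def ex121 : Trie (List (ℕ × ℤ × ℕ)) := (.node [] (.node [] (.node [] (.node [] (.node [] (.node [] (.node [] (.node [] .nil (.node [(130,(.negSucc 0),1)] .nil .nil)) (.node [(65,(.negSucc 0),1)] .nil .nil)) .nil) (.node [] (.node [] .nil (.node [(81,(.negSucc 0),1)] .nil .nil)) (.node [(49,(.negSucc 0),1)] .nil .nil))) (.node [] (.node [] (.node [] .nil (.node [] .nil (.node [(201,(.ofNat 1),1)] .nil .nil))) (.node [] (.node [] .nil (.node [(169,(.ofNat 1),1)] .nil .nil)) .nil)) (.node [] (.node [] (.node [] .nil (.node [(153,(.ofNat 1),1)] .nil .nil)) (.node [] .nil (.node [(217,(.ofNat 1),1)] .nil .nil))) .nil))) (.node [] (.node [] (.node [] (.node [] .nil (.node [(69,(.negSucc 0),1)] .nil (.node [(197,(.ofNat 1),1)] .nil .nil))) (.node [] (.node [] .nil (.node [(165,(.ofNat 1),1)] .nil .nil)) (.node []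 .nil (.node [(229,(.ofNat 1),1)] .nil .nil)))) (.node [] (.node [] .nil (.node [] .nil (.node [(213,(.ofNat 1),1)] .nil .nil))) (.node [(53,(.negSucc 0),1)] .nil .nil))) (.node [] (.node [] (.node [] (.node [] .nil (.node [(141,(.ofNat 1),1)] .nil .nil)) .nil) (.node [] .nil (.node [(109,(.negSucc 0),1)] .nil .nil))) .nil))) (.node [] (.node [] (.node [] .nil (.node [] (.node [] (.node [] .nil (.node [(147,(.ofNat 1),1)] .nil .nil)) .nil) (.node [] .nil (.node [(115,(.negSucc 0),1)] .nil .nil)))) (.node [] (.node [] (.node [] .nil (.node [] .nil (.node [(203,(.ofNat 1),1)] .nil .nil))) (.node [(43,(.negSucc 0),1)] .nil .nil)) (.node [(27,(.negSucc 0),1)] (.node [] .nil (.node [(91,(.negSucc 0),1)] .nil .nil)) (.node [(59,(.negSucc 0),1)] (.node [] .nil (.node [(187,(.ofNat 1),1)] .nil .nil)) .nil)))) (.node [(129,(.negSucc 1),1)] (.node [] (.node [] .nil (.node [(39,(.negSucc 0),1)] .nil (.node [(103,(.negSucc 0),1)] .nil .nil))) (.node [] (.node [] .nil (.node [(87,(.negSucc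 0),1)] .nil .nil)) (.node [(55,(.negSucc 0),1)] .nil .nil))) (.node [] (.node [] (.node [] .nil (.node [] .nil (.node [(207,(.ofNat 1),1)] .nil .nil))) (.node [] (.node [] .nil (.node [(175,(.ofNat 1),1)] .nil .nil)) .nil)) (.node [] .nil (.node [] (.node [] .nil (.node [(191,(.ofNat 1),1)] .nil .nil)) (.node [(6,(.ofNat 1),1),(129,(.negSucc 0),2)] .nil .nil))))))) (.node [] (.node [] (.node [] (.node [] (.node [] (.node [] (.node [] .nil (.node [] .nil .nil)) (.node [] .nil (.node [(194,(.ofNat 1),1)] .nil .nil))) (.node [] (.node [] .nil (.node [(162,(.ofNat 1),1)] .nil .nil)) (.node [(98,(.negSucc 0),1)] .nil .nil))) (.node [] (.node [] .nil (.node [] .nil (.node [(210,(.ofNat 1),1)] .nil .nil))) .nil)) (.node [(10,(.negSucc 0),1)] .nil .nil)) (.node [(129,(.ofNat 1),1)] (.node [] .nil (.node [] .nil (.node [] .nil (.node [] .nil (.node [(246,(.ofNat 1),1)] .nil .nil))))) (.node [] (.node [] .nil (.node [(46,(.negSucc 0),1)] .nil .nil)) (.node [] (.node [] (.node [] .nil (.node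 [(158,(.ofNat 1),1)] .nil .nil)) (.node [(94,(.negSucc 0),1)] .nil .nil)) (.node [(62,(.negSucc 0),1)] .nil (.node [(127,(.ofNat 1),1)] .nil .nil)))))) (.node [] (.node [] (.node [] (.node [] (.node [] (.node [] .nil (.node [(132,(.ofNat 1),1)] .nil .nil)) .nil) (.node [(36,(.negSucc 0),1)] .nil .nil)) (.node [(20,(.negSucc 0),1)] .nil (.node [] (.node [] .nil (.node [(180,(.ofNat 1),1)] .nil .nil)) .nil))) (.node [] (.node [] (.node [] .nil (.node [(76,(.negSucc 0),1)] .nil .nil)) (.node [] .nil (.node [] .nil (.node [(236,(.ofNat 1),1)] .nil .nil)))) (.node [] (.node [] .nil (.node [] .nil (.node [(220,(.ofNat 1),1)] .nil .nil))) (.node [] .nil (.node [(124,(.negSucc 0),1)] .nil .nil))))) (.node [(129,(.ofNat 1),1)] (.node [] (.node [] (.node [] (.node [] .nil (.node [(136,(.ofNat 1),1)] .nil .nil)) (.node [(72,(.negSucc 0),1)] .nil .nil)) .nil) (.node [] .nil (.node [] (.node [] .nil (.node [(184,(.ofNat 1),1)] .nil .nil)) (.node [(120,(.negSucc 0),1)] .nil .nil)))) (.node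 [] .nil (.node [(32,(.negSucc 0),1)] (.node [] .nil (.node [] .nil (.node [(224,(.ofNat 1),1)] .nil .nil))) .nil))))))
noncomputable def ex122 : Trie (List (ℕ × ℤ × ℕ)) := (.node [] (.node [] (.node [] (.node [] (.node [] (.node [] (.node [] .nil (.node [(66,(.ofNat 1),1)] .nil .nil)) (.node [] .nil (.node [(98,(.negSucc 0),1)] .nil .nil))) (.node [] (.node [] .nil (.node [] .nil (.node [(210,(.negSucc 0),1)] .nil .nil))) (.node [(50,(.ofNat 1),1)] .nil .nil))) (.node [(10,(.negSucc 0),1)] .nil (.node [] (.node [] (.node [] .nil (.node [(154,(.ofNat 1),1)] .nil .nil)) .nil) .nil))) (.node [] (.node [] (.node [] (.node [] .nil (.node [] .nil (.node [(198,(.ofNat 1),1)] .nil .nil))) (.node [] (.node [] .nil (.node [(166,(.ofNat 1),1)] .nil .nil)) .nil)) (.node [] (.node [] .nil (.node [] .nil (.node [(214,(.ofNat 1),1)] .nil .nil))) .nil)) (.node [] (.node [] (.node [] (.node [] .nil (.node [(142,(.ofNat 1),1)] .nil .nil)) .nil) .nil) (.node [] (.node [] .nil (.node [(94,(.negSucc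 0),1)] .nil .nil)) (.node [(62,(.negSucc 0),1)] .nil .nil))))) (.node [] (.node [] (.node [] (.node [] (.node [] (.node [] .nil (.node [] .nil .nil)) .nil) .nil) (.node [] (.node [] (.node [] .nil (.node [(148,(.ofNat 1),1)] .nil .nil)) .nil) .nil)) (.node [] (.node [] (.node [] .nil (.node [(76,(.negSucc 0),1)] .nil (.node [(204,(.ofNat 1),1)] .nil .nil))) (.node [] .nil (.node [] .nil (.node [(236,(.negSucc 0),1)] .nil .nil)))) (.node [(28,(.ofNat 1),1)] (.node [] .nil (.node [] .nil (.node [(220,(.negSucc 0),1)] .nil .nil))) (.node [] (.node [] .nil (.node [(188,(.ofNat 1),1)] .nil .nil)) (.node [(124,(.negSucc 0),1)] .nil .nil))))) (.node [(130,(.negSucc 0),1)] (.node [] (.node [] (.node [] .nil (.node [(72,(.negSucc 0),1)] .nil .nil)) (.node [(40,(.ofNat 1),1)] .nil .nil)) (.node [] (.node [] .nil (.node [(88,(.ofNat 1),1)] .nil .nil)) (.node [(56,(.ofNat 1),1)] .nil (.node [(120,(.negSucc 0),1)] .nil .nil)))) (.node [] (.node [] .nil (.node [] (.node [] .nil (.node [(176,(.ofNat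 1),1)] .nil .nil)) .nil)) (.node [] (.node [] .nil (.node [] .nil (.node [(224,(.negSucc 0),1)] .nil .nil))) (.node [] .nil (.node [(128,(.ofNat 1),1)] .nil .nil))))))) (.node [] (.node [] (.node [] (.node [] (.node [] (.node [] .nil (.node [] .nil (.node [(195,(.ofNat 1),1)] .nil .nil))) (.node [] (.node [] .nil (.node [(163,(.ofNat 1),1)] .nil .nil)) .nil)) (.node [] .nil (.node [] .nil (.node [(115,(.negSucc 0),1)] .nil .nil)))) (.node [] (.node [] .nil (.node [(43,(.negSucc 0),1)] .nil .nil)) (.node [] (.node [] .nil (.node [(91,(.negSucc 0),1)] .nil .nil)) (.node [(59,(.negSucc 0),1)] .nil .nil)))) (.node [(130,(.ofNat 1),1)] (.node [] (.node [] .nil (.node [] .nil (.node [(103,(.negSucc 0),1)] .nil .nil))) (.node [] .nil (.node [] .nil (.node [] .nil (.node [(247,(.ofNat 1),1)] .nil .nil))))) (.node [] (.node [] (.node [] .nil (.node [] .nil (.node [(207,(.negSucc 0),1)] .nil .nil))) (.node [(47,(.ofNat 1),1)] .nil .nil)) (.node [] (.node [] (.node [] .nil (.node [(159,(.ofNat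 1),1)] .nil .nil)) .nil) (.node [] (.node [] .nil (.node [(191,(.negSucc 0),1)] .nil .nil)) (.node [(6,(.ofNat 1),1),(7,(.ofNat 1),1),(130,(.negSucc 0),2)] .nil .nil)))))) (.node [] (.node [] (.node [] (.node [] (.node [] (.node [] .nil (.node [(133,(.ofNat 1),1)] .nil .nil)) (.node [(69,(.negSucc 0),1)] .nil .nil)) (.node [(37,(.ofNat 1),1)] .nil (.node [] .nil (.node [(229,(.negSucc 0),1)] .nil .nil)))) (.node [(21,(.ofNat 1),1)] .nil (.node [(53,(.negSucc 0),1)] (.node [] .nil (.node [(181,(.ofNat 1),1)] .nil .nil)) .nil))) (.node [] (.node [] .nil (.node [] .nil (.node [(109,(.negSucc 0),1)] .nil .nil))) .nil)) (.node [(130,(.negSucc 0),1)] (.node [] (.node [] (.node [] (.node [] .nil (.node [(137,(.ofNat 1),1)] .nil .nil)) (.node [] .nil (.node [(201,(.negSucc 0),1)] .nil .nil))) (.node [] (.node [] .nil (.node [(169,(.negSucc 0),1)] .nil .nil)) .nil)) (.node [] (.node [] .nil (.node [] .nil (.node [(217,(.negSucc 0),1)] .nil .nil))) (.node [] (.node [] .nil (.node [(185,(.ofNat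 1),1)] .nil .nil)) .nil))) (.node [] (.node [] (.node [] .nil (.node [(81,(.negSucc 0),1)] .nil .nil)) .nil) (.node [(33,(.ofNat 1),1)] .nil (.node [] .nil (.node [(129,(.negSucc 0),1)] .nil .nil))))))))
noncomputable def ex123 : Trie (List (ℕ × ℤ × ℕ)) := (.node [] (.node [] (.node [] (.node [] (.node [] (.node [] (.node [] .nil (.node [] .nil (.node [(193,(.ofNat 1),1)] .nil .nil))) (.node [] (.node [] .nil (.node [(161,(.ofNat 1),1)] .nil .nil)) (.node [] .nil (.node [(225,(.ofNat 1),1)] .nil .nil)))) .nil) (.node [] (.node [] (.node [] .nil (.node [(73,(.negSucc 0),1)] .nil .nil)) (.node [(42,(.negSucc 0),1)] .nil .nil)) (.node [] (.node [] .nil (.node [(90,(.negSucc 0),1)] .nil .nil)) (.node [(58,(.negSucc 0),1)] .nil (.node [(121,(.negSucc 0),1)] .nil .nil))))) (.node [(131,(.ofNat 1),1)] (.node [] .nil (.node [] .nil (.node [] .nil (.node [] .nil (.node [(245,(.ofNat 1),1)] .nil .nil))))) (.node [] (.node [] (.node [] .nil (.node [(77,(.negSucc 0),1)] .nil (.node [(206,(.ofNat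 1),1)] .nil .nil))) (.node [(45,(.negSucc 0),1)] .nil (.node [] .nil (.node [(237,(.ofNat 1),1)] .nil .nil)))) (.node [] (.node [] (.node [] .nil (.node [(157,(.ofNat 1),1)] .nil .nil)) (.node [] .nil (.node [(221,(.ofNat 1),1)] .nil .nil))) (.node [] (.node [] .nil (.node [(190,(.ofNat 1),1)] .nil .nil)) (.node [(5,(.ofNat 1),1),(131,(.negSucc 0),2)] .nil .nil)))))) (.node [] (.node [] (.node [] (.node [] (.node [] (.node [] .nil (.node [(133,(.negSucc 0),1)] .nil .nil)) (.node [(68,(.negSucc 0),1)] .nil .nil)) (.node [(35,(.negSucc 0),1)] .nil (.node [(99,(.negSucc 0),1)] .nil .nil))) (.node [(19,(.negSucc 0),1)] (.node [] .nil (.node [] .nil (.node [(211,(.ofNat 1),1)] .nil .nil))) (.node [(52,(.negSucc 0),1)] (.node [] .nil (.node [(179,(.ofNat 1),1)] .nil .nil)) .nil))) (.node [(11,(.negSucc 0),1)] .nil (.node [] .nil (.node [] .nil (.node [(125,(.ofNat 1),1)] .nil .nil))))) (.node [(131,(.ofNat 1),1)] (.node [] (.node [] (.node [] (.node [] .nil (.node [(135,(.ofNat 1),1)]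 .nil .nil)) (.node [] .nil (.node [(200,(.ofNat 1),1)] .nil .nil))) (.node [] (.node [] .nil (.node [(168,(.ofNat 1),1)] .nil .nil)) .nil)) (.node [] (.node [] .nil (.node [] .nil (.node [(216,(.ofNat 1),1)] .nil .nil))) (.node [] (.node [] .nil (.node [(183,(.ofNat 1),1)] .nil .nil)) .nil))) (.node [] .nil (.node [(31,(.negSucc 0),1)] (.node [] .nil (.node [(95,(.negSucc 0),1)] .nil .nil)) (.node [(63,(.negSucc 0),1)] .nil .nil)))))) (.node [] (.node [] (.node [] (.node [] (.node [] (.node [] (.node [] .nil (.node [(132,(.negSucc 0),1)] .nil .nil)) (.node [(67,(.negSucc 0),1)] .nil .nil)) .nil) (.node [] (.node [] (.node [] .nil (.node [(146,(.ofNat 1),1)] .nil .nil)) (.node [(82,(.negSucc 0),1)] .nil .nil)) (.node [(51,(.negSucc 0),1)] .nil .nil))) (.node [] .nil (.node [(26,(.negSucc 0),1)] .nil .nil))) (.node [(131,(.negSucc 1),1)] (.node [] (.node [] (.node [] .nil (.node [] .nil (.node [(199,(.ofNat 1),1)] .nil .nil))) (.node [] (.node [] .nil (.node [(167,(.ofNat 1),1)]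 .nil .nil)) (.node [] .nil (.node [(230,(.ofNat 1),1)] .nil .nil)))) (.node [] (.node [] .nil (.node [] .nil (.node [(215,(.ofNat 1),1)] .nil .nil))) .nil)) (.node [] (.node [] .nil (.node [] (.node [] .nil (.node [(174,(.ofNat 1),1)] .nil .nil)) (.node [(110,(.negSucc 0),1)] .nil .nil))) .nil))) (.node [] (.node [] (.node [] (.node [] (.node [] (.node [] .nil (.node [] .nil .nil)) .nil) .nil) (.node [] .nil (.node [] .nil (.node [(116,(.negSucc 0),1)] .nil .nil)))) (.node [] (.node [] (.node [] (.node [] .nil (.node [(140,(.ofNat 1),1)] .nil .nil)) (.node [] .nil (.node [(205,(.ofNat 1),1)] .nil .nil))) .nil) (.node [] .nil (.node [] (.node [] .nil (.node [(189,(.ofNat 1),1)] .nil .nil)) (.node [(126,(.ofNat 1),1)] .nil .nil))))) (.node [] (.node [] (.node [] .nil (.node [(41,(.negSucc 0),1)] .nil (.node [(104,(.negSucc 0),1)] .nil .nil))) (.node [] (.node [] (.node [] .nil (.node [(152,(.ofNat 1),1)] .nil .nil)) (.node [(89,(.negSucc 0),1)] .nil .nil)) (.node [(57,(.negSucc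 0),1)] .nil .nil))) .nil))))
noncomputable def ex124 : Trie (List (ℕ × ℤ × ℕ)) := (.node [] (.node [] (.node [] (.node [] (.node [] (.node [] (.node [] (.node [] .nil (.node [(133,(.negSucc 0),1)] .nil .nil)) (.node [(67,(.negSucc 0),1)] .nil (.node [(194,(.ofNat 1),1)] .nil .nil))) (.node [] (.node [] .nil (.node [(162,(.ofNat 1),1)] .nil .nil)) .nil)) (.node [] (.node [] .nil (.node [(82,(.negSucc 0),1)] .nil .nil)) (.node [(51,(.negSucc 0),1)] .nil .nil))) (.node [] (.node [] .nil (.node [(43,(.ofNat 1),1)] .nil .nil)) (.node [] (.node [] .nil (.node [(91,(.ofNat 1),1)] .nil .nil)) (.node [(59,(.ofNat 1),1)] .nil .nil)))) (.node [(132,(.ofNat 1),1)] (.node [] (.node [] (.node [] (.node [] .nil (.node [] .nil .nil)) (.node [] .nil (.node [(199,(.negSucc 0),1)] .nil .nil))) (.node [] (.node [] .nil (.node [(167,(.negSucc 0),1)] .nil .nil)) (.node [] .nil (.node [(230,(.negSucc 0),1)] .nil .nil)))) (.node [] (.node [] .nil (.node [] .nil (.node [(215,(.negSucc 0),1)] .nil .nil)))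 (.node [] .nil (.node [] .nil (.node [(246,(.ofNat 1),1)] .nil .nil))))) (.node [] (.node [] (.node [] .nil (.node [] .nil (.node [(207,(.ofNat 1),1)] .nil .nil))) (.node [(46,(.ofNat 1),1)] .nil (.node [(110,(.negSucc 0),1)] .nil .nil))) (.node [] (.node [] (.node [] .nil (.node [(158,(.ofNat 1),1)] .nil .nil)) .nil) (.node [] (.node [] .nil (.node [(191,(.ofNat 1),1)] .nil .nil)) (.node [(129,(.ofNat 1),1)] .nil .nil)))))) (.node [] (.node [] (.node [] (.node [] (.node [] .nil (.node [(69,(.ofNat 1),1)] .nil .nil)) (.node [(36,(.ofNat 1),1)] .nil .nil)) (.node [(20,(.ofNat 1),1)] .nil (.node [(53,(.ofNat 1),1)] (.node [] .nil (.node [(180,(.ofNat 1),1)] .nil .nil)) (.node [(116,(.negSucc 0),1)] .nil .nil)))) (.node [] (.node [] (.node [] .nil (.node [] .nil (.node [(205,(.negSucc 0),1)] .nil .nil))) .nil) (.node [] .nil (.node [] (.node [] .nil (.node [(189,(.negSucc 0),1)] .nil .nil)) (.node [(127,(.ofNat 1),1)] .nil .nil))))) (.node [(132,(.negSucc 0),1)] (.node [] (.node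 [] (.node [] (.node [] .nil (.node [(136,(.ofNat 1),1)] .nil .nil)) (.node [] .nil (.node [(201,(.ofNat 1),1)] .nil .nil))) (.node [(41,(.negSucc 0),1)] (.node [] .nil (.node [(169,(.ofNat 1),1)] .nil .nil)) (.node [(104,(.negSucc 0),1)] .nil .nil))) (.node [] (.node [] .nil (.node [(89,(.negSucc 0),1)] .nil (.node [(217,(.ofNat 1),1)] .nil .nil))) (.node [(57,(.negSucc 0),1)] (.node [] .nil (.node [(184,(.ofNat 1),1)] .nil .nil)) .nil))) (.node [] .nil (.node [(32,(.ofNat 1),1)] .nil (.node [] .nil (.node [(131,(.negSucc 0),1)] .nil .nil))))))) (.node [] (.node [] (.node [] (.node [] (.node [] .nil (.node [] .nil (.node [(99,(.negSucc 0),1)] .nil .nil))) (.node [] (.node [] (.node [] .nil (.node [(147,(.ofNat 1),1)] .nil .nil)) (.node [] .nil (.node [(211,(.negSucc 0),1)] .nil .nil))) .nil)) (.node [(11,(.negSucc 0),1)] .nil (.node [(27,(.ofNat 1),1)] .nil .nil))) (.node [(132,(.negSucc 0),1)] .nil (.node [] (.node [] .nil (.node [] (.node [] .nil (.node [(175,(.ofNat 1),1)]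 .nil .nil)) .nil)) (.node [] (.node [] .nil (.node [(95,(.negSucc 0),1)] .nil .nil)) (.node [(63,(.negSucc 0),1)] .nil .nil))))) (.node [] (.node [] .nil (.node [] (.node [] (.node [] (.node [] .nil (.node [(141,(.ofNat 1),1)] .nil .nil)) (.node [(77,(.negSucc 0),1)] .nil .nil)) (.node [] .nil (.node [] .nil (.node [(237,(.negSucc 0),1)] .nil .nil)))) (.node [] (.node [] .nil (.node [] .nil (.node [(221,(.negSucc 0),1)] .nil .nil))) (.node [] .nil (.node [(5,(.ofNat 1),1),(6,(.ofNat 1),1),(132,(.negSucc 0),2)] .nil .nil))))) (.node [(132,(.ofNat 1),1)] (.node [] (.node [] (.node [] .nil (.node [(73,(.negSucc 0),1)] .nil .nil)) .nil) (.node [] (.node [] (.node [] .nil (.node [(153,(.ofNat 1),1)] .nil .nil)) .nil) (.node [] .nil (.node [(121,(.negSucc 0),1)] .nil .nil)))) (.node [] .nil (.node [] (.node [] .nil (.node [] .nil (.node [(225,(.negSucc 0),1)] .nil .nil))) .nil))))))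
noncomputable def ex125 : Trie (List (ℕ × ℤ × ℕ)) := (.node [] (.node [] (.node [] (.node [] (.node [] (.node [] (.node [] .nil (.node [(68,(.ofNat 1),1)] .nil (.node [(195,(.ofNat 1),1)] .nil .nil))) (.node [] (.node [] .nil (.node [(163,(.ofNat 1),1)] .nil .nil)) (.node [(99,(.negSucc 0),1)] .nil .nil))) (.node [] (.node [] .nil (.node [] .nil (.node [(211,(.ofNat 1),1)] .nil .nil))) (.node [(52,(.ofNat 1),1)] .nil .nil))) (.node [(11,(.negSucc 0),1)] .nil .nil)) (.node [(133,(.ofNat 1),1)] (.node [] (.node [] (.node [] .nil (.node [] .nil (.node [(200,(.negSucc 0),1)] .nil .nil))) (.node [] (.node [] .nil (.node [(168,(.negSucc 0),1)] .nil .nil)) .nil)) (.node [] (.node [] .nil (.node [] .nil (.node [(216,(.negSucc 0),1)] .nil .nil))) (.node [] .nil (.node [] .nil (.node [(247,(.ofNat 1),1)] .nil .nil))))) (.node [] (.node [] .nil (.node [(47,(.negSucc 0),1)] .nil .nil)) (.node [] (.node [] (.node [] .nil (.node [(159,(.ofNat 1),1)] .nil .nil)) (.node [(95,(.negSucc 0),1)]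 .nil .nil)) (.node [(63,(.negSucc 0),1)] .nil (.node [(130,(.ofNat 1),1)] .nil .nil)))))) (.node [] (.node [] (.node [] (.node [] .nil (.node [(37,(.negSucc 0),1)] .nil .nil)) (.node [(21,(.negSucc 0),1)] .nil (.node [] (.node [] .nil (.node [(181,(.ofNat 1),1)] .nil .nil)) .nil))) (.node [] (.node [] (.node [] .nil (.node [(77,(.negSucc 0),1)] .nil (.node [(206,(.negSucc 0),1)] .nil .nil))) (.node [] .nil (.node [] .nil (.node [(237,(.ofNat 1),1)] .nil .nil)))) (.node [] (.node [] .nil (.node [] .nil (.node [(221,(.ofNat 1),1)] .nil .nil))) (.node [] (.node [] .nil (.node [(190,(.negSucc 0),1)] .nil .nil)) (.node [(5,(.ofNat 1),1),(6,(.ofNat 1),1),(7,(.ofNat 1),1),(133,(.negSucc 0),2)] .nil .nil))))) (.node [] (.node [] (.node [] (.node [] (.node [] .nil (.node [(137,(.ofNat 1),1)] .nil .nil)) (.node [(73,(.negSucc 0),1)] .nil .nil)) (.node [(42,(.ofNat 1),1)] .nil .nil)) (.node [] (.node [] .nil (.node [(90,(.ofNat 1),1)] .nil .nil)) (.node [(58,(.ofNat 1),1)] (.node [] .nil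 (.node [(185,(.ofNat 1),1)] .nil .nil)) (.node [(121,(.negSucc 0),1)] .nil .nil)))) (.node [] .nil (.node [(33,(.negSucc 0),1)] (.node [] .nil (.node [] .nil (.node [(225,(.ofNat 1),1)] .nil .nil))) .nil))))) (.node [] (.node [] (.node [] (.node [] (.node [] (.node [] .nil (.node [(69,(.ofNat 1),1)] .nil .nil)) .nil) (.node [] (.node [] (.node [] .nil (.node [(148,(.ofNat 1),1)] .nil .nil)) .nil) (.node [(53,(.ofNat 1),1)] .nil (.node [(116,(.negSucc 0),1)] .nil .nil)))) (.node [] .nil (.node [(28,(.negSucc 0),1)] .nil .nil))) (.node [(133,(.negSucc 0),1)] (.node [] (.node [] (.node [] (.node [] .nil (.node [] .nil .nil)) (.node [] .nil (.node [(201,(.negSucc 0),1)] .nil .nil))) (.node [] (.node [] .nil (.node [(169,(.negSucc 0),1)] .nil .nil)) (.node [(104,(.negSucc 0),1)] .nil .nil))) (.node [] (.node [] .nil (.node [] .nil (.node [(217,(.negSucc 0),1)] .nil .nil))) .nil)) (.node [] (.node [] .nil (.node [] (.node [] .nil (.node [(176,(.ofNat 1),1)] .nil .nil)) .nil)) (.node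 [] .nil (.node [] .nil (.node [(131,(.negSucc 0),1)] .nil .nil)))))) (.node [] (.node [] (.node [] (.node [] .nil (.node [] .nil (.node [] .nil (.node [(230,(.ofNat 1),1)] .nil .nil)))) .nil) (.node [] (.node [] (.node [] (.node [] .nil (.node [(142,(.ofNat 1),1)] .nil .nil)) (.node [] .nil (.node [(207,(.negSucc 0),1)] .nil .nil))) (.node [] .nil (.node [(110,(.negSucc 0),1)] .nil .nil))) (.node [] .nil (.node [] (.node [] .nil (.node [(191,(.negSucc 0),1)] .nil .nil)) (.node [(128,(.ofNat 1),1)] .nil .nil))))) (.node [(133,(.negSucc 0),1)] (.node [] (.node [] .nil (.node [(43,(.ofNat 1),1)] .nil .nil)) (.node [] (.node [] (.node [] .nil (.node [(154,(.ofNat 1),1)] .nil .nil)) (.node [(91,(.ofNat 1),1)] .nil .nil)) (.node [(59,(.ofNat 1),1)] .nil .nil))) (.node [] (.node [] (.node [] .nil (.node [(82,(.negSucc 0),1)] .nil .nil)) .nil) (.node [] .nil (.node [] .nil (.node [(132,(.negSucc 0),1)] .nil .nil))))))))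
noncomputable def ex126 : Trie (List (ℕ × ℤ × ℕ)) := (.node [] (.node [] (.node [] (.node [] (.node [] .nil (.node [] (.node [] (.node [] .nil (.node [(145,(.ofNat 1),1)] .nil .nil)) .nil) .nil)) (.node [] (.node [] .nil (.node [] .nil (.node [(105,(.negSucc 0),1)] .nil .nil))) (.node [(25,(.negSucc 0),1)] (.node [] .nil (.node [] .nil (.node [(219,(.ofNat 1),1)] .nil .nil))) (.node [] (.node [] .nil (.node [(187,(.ofNat 1),1)] .nil .nil)) (.node [(124,(.ofNat 1),1)] .nil .nil))))) (.node [(134,(.negSucc 1),1)] (.node [] (.node [] (.node [] (.node [] .nil (.node [(136,(.negSucc 0),1)] .nil .nil)) (.node [(71,(.negSucc 0),1)] .nil .nil)) (.node [(39,(.negSucc 0),1)] .nil .nil)) (.node [] .nil (.node [] .nil (.node [(117,(.negSucc 0),1)] .nil .nil)))) (.node [] (.node [] .nil (.node [] (.node [] .nil (.node [(173,(.ofNat 1),1)] .nil .nil)) .nil)) .nil))) (.node [] (.node [] (.node [] (.node [] (.node [] .nil (.node [] .nil (.node [(197,(.ofNat 1),1)] .nil .nil))) (.node [] (.node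 [] .nil (.node [(165,(.ofNat 1),1)] .nil .nil)) .nil)) (.node [] (.node [] .nil (.node [(83,(.negSucc 0),1)] .nil .nil)) .nil)) (.node [] (.node [] (.node [] (.node [] .nil (.node [(139,(.ofNat 1),1)] .nil .nil)) .nil) .nil) (.node [] (.node [] .nil (.node [(93,(.negSucc 0),1)] .nil .nil)) (.node [(61,(.negSucc 0),1)] .nil .nil)))) (.node [] (.node [] (.node [] (.node [] (.node [] .nil (.node [] .nil .nil)) .nil) (.node [] .nil (.node [] .nil (.node [(231,(.ofNat 1),1)] .nil .nil)))) (.node [] (.node [] (.node [] .nil (.node [(151,(.ofNat 1),1)] .nil .nil)) .nil) (.node [] .nil (.node [(122,(.ofNat 1),1)] .nil .nil)))) (.node [] (.node [] (.node [] .nil (.node [] .nil (.node [(209,(.ofNat 1),1)] .nil .nil))) (.node [(49,(.negSucc 0),1)] .nil (.node [(111,(.negSucc 0),1)] .nil .nil))) .nil)))) (.node [] (.node [] (.node [] (.node [] (.node [] (.node [] .nil (.node [] .nil (.node [(196,(.ofNat 1),1)] .nil .nil))) (.node [] (.node [] .nil (.node [(164,(.ofNat 1),1)] .nil .nil)) (.node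 [] .nil (.node [(226,(.ofNat 1),1)] .nil .nil)))) (.node [(18,(.negSucc 0),1)] .nil (.node [] (.node [] .nil (.node [(178,(.ofNat 1),1)] .nil .nil)) .nil))) (.node [] .nil (.node [] (.node [] .nil (.node [(92,(.negSucc 0),1)] .nil (.node [(220,(.ofNat 1),1)] .nil .nil))) (.node [(60,(.negSucc 0),1)] (.node [] .nil (.node [(188,(.ofNat 1),1)] .nil .nil)) (.node [(4,(.ofNat 1),1),(134,(.negSucc 0),2)] .nil .nil))))) (.node [(134,(.ofNat 1),1)] (.node [] (.node [] (.node [] (.node [] .nil (.node [(137,(.negSucc 0),1)] .nil .nil)) (.node [(72,(.negSucc 0),1)] .nil .nil)) (.node [(40,(.negSucc 0),1)] .nil .nil)) .nil) (.node [] (.node [] (.node [] .nil (.node [(78,(.negSucc 0),1)] .nil (.node [(208,(.ofNat 1),1)] .nil .nil))) (.node [(48,(.negSucc 0),1)] .nil (.node [] .nil (.node [(238,(.ofNat 1),1)] .nil .nil)))) (.node [(30,(.negSucc 0),1)] .nil .nil)))) (.node [(134,(.ofNat 1),1)] (.node [] (.node [] (.node [] (.node [] (.node [] .nil (.node [(135,(.negSucc 0),1)] .nil .nil)) (.node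 [(70,(.negSucc 0),1)] .nil (.node [(198,(.ofNat 1),1)] .nil .nil))) (.node [(38,(.negSucc 0),1)] (.node [] .nil (.node [(166,(.ofNat 1),1)] .nil .nil)) (.node [(100,(.negSucc 0),1)] .nil .nil))) (.node [] .nil (.node [] .nil (.node [] .nil (.node [(244,(.ofNat 1),1)] .nil .nil))))) (.node [(12,(.negSucc 0),1)] .nil (.node [] (.node [] (.node [] .nil (.node [(156,(.ofNat 1),1)] .nil .nil)) (.node [(94,(.negSucc 0),1)] .nil .nil)) (.node [(62,(.negSucc 0),1)] .nil .nil)))) (.node [] (.node [] .nil (.node [] (.node [] .nil (.node [] .nil (.node [(218,(.ofNat 1),1)] .nil .nil))) (.node [] (.node [] .nil (.node [(186,(.ofNat 1),1)] .nil .nil)) (.node [(123,(.ofNat 1),1)] .nil .nil)))) (.node [] (.node [] (.node [] .nil (.node [] .nil (.node [(210,(.ofNat 1),1)] .nil .nil))) (.node [(50,(.negSucc 0),1)] .nil .nil)) .nil)))))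
noncomputable def ex127 : Trie (List (ℕ × ℤ × ℕ)) := (.node [] (.node [] (.node [] (.node [] (.node [] (.node [] (.node [] .nil (.node [] .nil (.node [(196,(.negSucc 0),1)] .nil .nil))) (.node [] (.node [] .nil (.node [(164,(.negSucc 0),1)] .nil .nil)) (.node [] .nil (.node [(226,(.negSucc 0),1)] .nil .nil)))) (.node [] (.node [] (.node [] .nil (.node [(146,(.ofNat 1),1)] .nil .nil)) .nil) .nil)) (.node [] .nil (.node [(26,(.ofNat 1),1)] (.node [] .nil (.node [(93,(.negSucc 0),1)] .nil .nil)) (.node [(61,(.negSucc 0),1)] (.node [] .nil (.node [(189,(.ofNat 1),1)] .nil .nil)) (.node [(4,(.ofNat 1),1),(5,(.ofNat 1),1),(135,(.negSucc 0),2)] .nil .nil))))) (.node [(135,(.negSucc 0),1)] (.node [] (.node [] .nil (.node [(41,(.ofNat 1),1)] .nil .nil)) .nil) (.node [] (.node [] (.node [] .nil (.node [(78,(.negSucc 0),1)] .nil (.node [(209,(.negSucc 0),1)] .nil .nil))) (.node [(48,(.negSucc 0),1)] (.node [] .nil (.node [(174,(.ofNat 1),1)] .nil .nil)) (.node [] .nil (.node [(238,(.negSucc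 0),1)] .nil .nil)))) (.node [] .nil (.node [] .nil (.node [(134,(.negSucc 0),1)] .nil .nil)))))) (.node [] (.node [] (.node [] (.node [] (.node [] (.node [] .nil (.node [(137,(.negSucc 0),1)] .nil .nil)) (.node [(71,(.negSucc 0),1)] .nil (.node [(199,(.ofNat 1),1)] .nil .nil))) (.node [(38,(.negSucc 0),1)] (.node [] .nil (.node [(167,(.ofNat 1),1)] .nil .nil)) (.node [(100,(.negSucc 0),1)] .nil .nil))) .nil) (.node [(12,(.negSucc 0),1)] (.node [] (.node [] (.node [] .nil (.node [(140,(.ofNat 1),1)] .nil .nil)) .nil) .nil) .nil)) (.node [(135,(.ofNat 1),1)] (.node [] .nil (.node [] (.node [] (.node [] .nil (.node [(152,(.ofNat 1),1)] .nil .nil)) (.node [] .nil (.node [(219,(.negSucc 0),1)] .nil .nil))) (.node [] (.node [] .nil (.node [(186,(.negSucc 0),1)] .nil .nil)) (.node [(125,(.ofNat 1),1)] .nil .nil)))) (.node [] (.node [] .nil (.node [(51,(.ofNat 1),1)] .nil .nil)) .nil)))) (.node [] (.node [] (.node [] (.node [] (.node [] (.node [] (.node [] .nil (.node [(136,(.negSucc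 0),1)] .nil .nil)) (.node [(70,(.negSucc 0),1)] .nil .nil)) .nil) (.node [(19,(.ofNat 1),1)] (.node [] .nil (.node [(83,(.negSucc 0),1)] .nil .nil)) (.node [] (.node [] .nil (.node [(179,(.ofNat 1),1)] .nil .nil)) .nil))) (.node [] .nil (.node [] (.node [] .nil (.node [] .nil (.node [(221,(.ofNat 1),1)] .nil .nil))) (.node [] (.node [] .nil (.node [(190,(.ofNat 1),1)] .nil .nil)) (.node [(131,(.ofNat 1),1)] .nil .nil))))) (.node [(135,(.negSucc 0),1)] (.node [] (.node [] (.node [] .nil (.node [(73,(.ofNat 1),1)] .nil .nil)) (.node [(42,(.ofNat 1),1)] .nil (.node [] .nil (.node [(231,(.negSucc 0),1)] .nil .nil)))) (.node [] (.node [] .nil (.node [] .nil (.node [(218,(.negSucc 0),1)] .nil .nil))) .nil)) (.node [] (.node [] .nil (.node [] .nil (.node [(111,(.negSucc 0),1)] .nil .nil))) (.node [(31,(.ofNat 1),1)] .nil .nil)))) (.node [(135,(.ofNat 1),1)] (.node [] (.node [] (.node [] (.node [] .nil (.node [] .nil (.node [(200,(.ofNat 1),1)] .nil .nil))) (.node [] (.node [] .nil (.node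 [(168,(.ofNat 1),1)] .nil .nil)) .nil)) (.node [] .nil (.node [] .nil (.node [(117,(.negSucc 0),1)] .nil (.node [(245,(.ofNat 1),1)] .nil .nil))))) (.node [] (.node [] (.node [] .nil (.node [] .nil (.node [(208,(.negSucc 0),1)] .nil .nil))) .nil) (.node [] (.node [] (.node [] .nil (.node [(157,(.ofNat 1),1)] .nil .nil)) (.node [(95,(.ofNat 1),1)] .nil .nil)) (.node [(63,(.ofNat 1),1)] .nil .nil)))) (.node [] (.node [] (.node [] (.node [] (.node [] .nil (.node [] .nil .nil)) .nil) (.node [] .nil (.node [(105,(.negSucc 0),1)] .nil .nil))) (.node [] (.node [] .nil (.node [(92,(.negSucc 0),1)] .nil .nil)) (.node [(60,(.negSucc 0),1)] .nil (.node [(126,(.ofNat 1),1)] .nil .nil)))) (.node [] (.node [] (.node [] .nil (.node [] .nil (.node [(211,(.ofNat 1),1)] .nil .nil))) (.node [(52,(.ofNat 1),1)] .nil .nil)) .nil)))))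
noncomputable def ex128 : Trie (List (ℕ × ℤ × ℕ)) := (.node [] (.node [] (.node [] (.node [] (.node [] (.node [] (.node [] (.node [] .nil (.node [(137,(.negSucc 0),1)] .nil .nil)) (.node [(70,(.negSucc 0),1)] .nil (.node [(197,(.negSucc 0),1)] .nil .nil))) (.node [] (.node [] .nil (.node [(165,(.negSucc 0),1)] .nil .nil)) .nil)) (.node [] (.node [] (.node [] .nil (.node [(147,(.ofNat 1),1)] .nil .nil)) (.node [(83,(.negSucc 0),1)] .nil .nil)) .nil)) (.node [] (.node [] (.node [] (.node [] .nil (.node [] .nil .nil)) .nil) .nil) (.node [(27,(.negSucc 0),1)] (.node [] .nil (.node [(94,(.ofNat 1),1)] .nil (.node [(221,(.negSucc 0),1)] .nil .nil))) (.node [(62,(.ofNat 1),1)] .nil (.node [(129,(.ofNat 1),1)] .nil .nil))))) (.node [(136,(.negSucc 0),1)] (.node [] (.node [] (.node [] .nil (.node [(73,(.ofNat 1),1)] .nil .nil)) (.node [] .nil (.node [] .nil (.node [(231,(.ofNat 1),1)] .nil .nil)))) (.node [] (.node [] .nil (.node [] .nil (.node [(218,(.ofNat 1),1)] .nil .nil))) .nil))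 (.node [] (.node [] (.node [] .nil (.node [] .nil (.node [(210,(.negSucc 0),1)] .nil .nil))) (.node [(49,(.ofNat 1),1)] (.node [] .nil (.node [(175,(.ofNat 1),1)] .nil .nil)) (.node [(111,(.negSucc 0),1)] .nil .nil))) .nil))) (.node [] (.node [] (.node [] (.node [] (.node [] .nil (.node [(72,(.ofNat 1),1)] .nil .nil)) (.node [(39,(.ofNat 1),1)] .nil .nil)) (.node [] .nil (.node [] .nil (.node [(117,(.negSucc 0),1)] .nil .nil)))) (.node [] (.node [] (.node [] (.node [] .nil (.node [(141,(.ofNat 1),1)] .nil .nil)) (.node [] .nil (.node [(208,(.ofNat 1),1)] .nil .nil))) .nil) (.node [] (.node [] .nil (.node [(95,(.ofNat 1),1)] .nil .nil)) (.node [(63,(.ofNat 1),1)] .nil .nil)))) (.node [(136,(.negSucc 0),1)] (.node [] (.node [] .nil (.node [] .nil (.node [(105,(.negSucc 0),1)] .nil .nil))) (.node [] (.node [] (.node [] .nil (.node [(153,(.ofNat 1),1)] .nil .nil)) (.node [(92,(.negSucc 0),1)] .nil (.node [(220,(.negSucc 0),1)] .nil .nil))) (.node [(60,(.negSucc 0),1)] (.node [] .nil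 (.node [(187,(.negSucc 0),1)] .nil .nil)) (.node [(127,(.ofNat 1),1)] .nil .nil)))) (.node [] (.node [] (.node [] .nil (.node [] .nil (.node [(211,(.negSucc 0),1)] .nil .nil))) .nil) (.node [] .nil (.node [] .nil (.node [(135,(.negSucc 0),1)] .nil .nil))))))) (.node [] (.node [] (.node [] (.node [] (.node [] (.node [] .nil (.node [] .nil (.node [(199,(.negSucc 0),1)] .nil .nil))) (.node [] (.node [] .nil (.node [(167,(.negSucc 0),1)] .nil .nil)) (.node [(100,(.negSucc 0),1)] .nil .nil))) (.node [(20,(.negSucc 0),1)] .nil (.node [] (.node [] .nil (.node [(180,(.ofNat 1),1)] .nil .nil)) .nil))) (.node [(12,(.negSucc 0),1)] .nil (.node [] .nil (.node [] (.node [] .nil (.node [(191,(.ofNat 1),1)] .nil .nil)) (.node [(132,(.ofNat 1),1)] .nil .nil))))) (.node [] (.node [] (.node [] .nil (.node [(43,(.negSucc 0),1)] .nil .nil)) .nil) (.node [] (.node [] .nil (.node [(51,(.ofNat 1),1)] .nil .nil)) (.node [(32,(.negSucc 0),1)] .nil .nil)))) (.node [(136,(.ofNat 1),1)] (.node [] (.node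 [] (.node [] (.node [] .nil (.node [] .nil (.node [(201,(.ofNat 1),1)] .nil .nil))) (.node [(41,(.ofNat 1),1)] (.node [] .nil (.node [(169,(.ofNat 1),1)] .nil .nil)) .nil)) (.node [] .nil (.node [] .nil (.node [] .nil (.node [(246,(.ofNat 1),1)] .nil .nil))))) (.node [] (.node [] (.node [] .nil (.node [(78,(.negSucc 0),1)] .nil .nil)) (.node [] .nil (.node [] .nil (.node [(238,(.ofNat 1),1)] .nil .nil)))) (.node [] (.node [] (.node [] .nil (.node [(158,(.ofNat 1),1)] .nil .nil)) .nil) (.node [] .nil (.node [(134,(.negSucc 0),1)] .nil .nil))))) (.node [(136,(.ofNat 1),1)] (.node [] .nil (.node [] .nil (.node [] (.node [] .nil (.node [(189,(.negSucc 0),1)] .nil .nil)) (.node [(4,(.ofNat 1),1),(5,(.ofNat 1),1),(6,(.ofNat 1),1),(136,(.negSucc 0),2)] .nil .nil)))) (.node [] (.node [] .nil (.node [(53,(.negSucc 0),1)] .nil .nil)) (.node [] (.node [] .nil (.node [] .nil (.node [(226,(.ofNat 1),1)] .nil .nil))) .nil))))))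
noncomputable def ex129 : Trie (List (ℕ × ℤ × ℕ)) := (.node [] (.node [] (.node [] (.node [] (.node [] (.node [] (.node [] .nil (.node [(71,(.ofNat 1),1)] .nil (.node [(198,(.negSucc 0),1)] .nil .nil))) (.node [] (.node [] .nil (.node [(166,(.negSucc 0),1)] .nil .nil)) (.node [(100,(.negSucc 0),1)] .nil .nil))) (.node [] (.node [] (.node [] .nil (.node [(148,(.ofNat 1),1)] .nil .nil)) .nil) .nil)) (.node [(12,(.negSucc 0),1)] .nil (.node [(28,(.ofNat 1),1)] .nil (.node [] (.node [] .nil (.node [(191,(.negSucc 0),1)] .nil .nil)) (.node [(130,(.ofNat 1),1)] .nil .nil))))) (.node [(137,(.negSucc 0),1)] (.node [] (.node [] .nil (.node [(43,(.negSucc 0),1)] .nil .nil)) (.node [] (.node [] .nil (.node [] .nil (.node [(219,(.ofNat 1),1)] .nil .nil))) .nil)) (.node [] (.node [] .nil (.node [(50,(.negSucc 0),1)] (.node [] .nil (.node [(176,(.ofNat 1),1)] .nil .nil)) .nil)) .nil))) (.node [] (.node [] (.node [] (.node [] (.node [] .nil (.node [] .nil (.node [(201,(.negSucc 0),1)] .nil .nil)))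 (.node [(40,(.negSucc 0),1)] (.node [] .nil (.node [(169,(.negSucc 0),1)] .nil .nil)) .nil)) .nil) (.node [] (.node [] (.node [] (.node [] .nil (.node [(142,(.ofNat 1),1)] .nil .nil)) (.node [(78,(.negSucc 0),1)] .nil (.node [(209,(.ofNat 1),1)] .nil .nil))) (.node [] .nil (.node [] .nil (.node [(238,(.negSucc 0),1)] .nil .nil)))) (.node [] .nil (.node [] .nil (.node [(134,(.negSucc 0),1)] .nil .nil))))) (.node [] (.node [] .nil (.node [] (.node [] (.node [] .nil (.node [(154,(.ofNat 1),1)] .nil .nil)) (.node [(93,(.ofNat 1),1)] .nil .nil)) (.node [(61,(.ofNat 1),1)] (.node [] .nil (.node [(188,(.negSucc 0),1)] .nil .nil)) (.node [(4,(.ofNat 1),1),(5,(.ofNat 1),1),(6,(.ofNat 1),1),(7,(.ofNat 1),1),(137,(.negSucc 0),2)] .nil .nil)))) (.node [] (.node [] .nil (.node [(53,(.negSucc 0),1)] .nil .nil)) (.node [] (.node [] .nil (.node [] .nil (.node [(226,(.negSucc 0),1)] .nil .nil))) .nil))))) (.node [] (.node [] (.node [] (.node [] (.node [] (.node [] .nil (.node [(72,(.ofNat 1),1)]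 .nil (.node [(200,(.negSucc 0),1)] .nil .nil))) (.node [] (.node [] .nil (.node [(168,(.negSucc 0),1)] .nil .nil)) .nil)) (.node [(21,(.ofNat 1),1)] .nil (.node [] (.node [] .nil (.node [(181,(.ofNat 1),1)] .nil .nil)) (.node [(117,(.negSucc 0),1)] .nil .nil)))) (.node [] (.node [] (.node [] (.node [] .nil (.node [] .nil .nil)) .nil) .nil) (.node [] (.node [] .nil (.node [(95,(.ofNat 1),1)] .nil .nil)) (.node [(63,(.ofNat 1),1)] .nil (.node [(133,(.ofNat 1),1)] .nil .nil))))) (.node [] (.node [] (.node [] .nil (.node [] .nil (.node [(105,(.negSucc 0),1)] .nil .nil))) (.node [] (.node [] .nil (.node [] .nil (.node [(220,(.ofNat 1),1)] .nil .nil))) .nil)) (.node [] (.node [] (.node [] .nil (.node [] .nil (.node [(211,(.ofNat 1),1)] .nil .nil))) (.node [(52,(.negSucc 0),1)] .nil .nil)) (.node [(33,(.ofNat 1),1)] .nil (.node [] .nil (.node [(135,(.negSucc 0),1)] .nil .nil)))))) (.node [(137,(.ofNat 1),1)] (.node [] (.node [] (.node [] (.node [] .nil (.node [(73,(.ofNat 1),1)] .nil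 .nil)) (.node [(42,(.negSucc 0),1)] .nil (.node [] .nil (.node [(231,(.negSucc 0),1)] .nil .nil)))) (.node [] .nil (.node [] .nil (.node [] .nil (.node [(247,(.ofNat 1),1)] .nil .nil))))) (.node [] (.node [] (.node [] .nil (.node [] .nil (.node [(210,(.ofNat 1),1)] .nil .nil))) (.node [] .nil (.node [(111,(.negSucc 0),1)] .nil .nil))) (.node [] (.node [] (.node [] .nil (.node [(159,(.ofNat 1),1)] .nil .nil)) .nil) .nil))) (.node [(137,(.negSucc 0),1)] (.node [] .nil (.node [] (.node [] .nil (.node [(94,(.ofNat 1),1)] .nil (.node [(221,(.ofNat 1),1)] .nil .nil))) (.node [(62,(.ofNat 1),1)] (.node [] .nil (.node [(190,(.negSucc 0),1)] .nil .nil)) (.node [(128,(.ofNat 1),1)] .nil .nil)))) (.node [] (.node [] (.node [] .nil (.node [(83,(.negSucc 0),1)] .nil .nil)) .nil) (.node [] .nil (.node [] .nil (.node [(136,(.negSucc 0),1)] .nil .nil))))))))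
noncomputable def ex130 : Trie (List (ℕ × ℤ × ℕ)) := (.node [] (.node [] (.node [] (.node [] (.node [] (.node [] .nil (.node [(36,(.negSucc 0),1)] .nil .nil)) (.node [(17,(.negSucc 0),1)] .nil (.node [(54,(.negSucc 0),1)] .nil .nil))) (.node [] (.node [] (.node [] (.node [] .nil (.node [(141,(.negSucc 0),1)] .nil .nil)) (.node [(76,(.negSucc 0),1)] .nil (.node [(206,(.ofNat 1),1)] .nil .nil))) .nil) .nil)) (.node [(138,(.ofNat 1),1)] (.node [] (.node [] (.node [] .nil (.node [] .nil (.node [(202,(.ofNat 1),1)] .nil .nil))) .nil) (.node [] .nil (.node [(58,(.negSucc 0),1)] (.node [] .nil (.node [(184,(.ofNat 1),1)] .nil .nil)) (.node [(121,(.ofNat 1),1)] .nil .nil)))) (.node [(13,(.negSucc 0),1)] .nil (.node [] (.node [] (.node [] .nil (.node [(160,(.ofNat 1),1)] .nil .nil)) (.node [(96,(.negSucc 0),1)] .nil (.node [(224,(.ofNat 1),1)] .nil .nil))) .nil)))) (.node [(138,(.ofNat 1),1)] (.node [] (.node [] .nil (.node [] .nil (.node [(56,(.negSucc 0),1)] (.node [] .nil (.node [(182,(.ofNat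 1),1)] .nil .nil)) (.node [(119,(.ofNat 1),1)] .nil (.node [(243,(.ofNat 1),1)] .nil .nil))))) (.node [] (.node [] (.node [] (.node [] .nil (.node [] .nil .nil)) .nil) .nil) (.node [] (.node [] .nil (.node [] .nil (.node [(222,(.ofNat 1),1)] .nil .nil))) .nil))) (.node [] (.node [] (.node [] (.node [] (.node [] .nil (.node [(139,(.negSucc 0),1)] .nil .nil)) (.node [(74,(.negSucc 0),1)] .nil (.node [(204,(.ofNat 1),1)] .nil .nil))) .nil) .nil) (.node [] (.node [] .nil (.node [] .nil (.node [] .nil (.node [(239,(.ofNat 1),1)] .nil .nil)))) (.node [(34,(.negSucc 0),1)] (.node [] (.node [] .nil (.node [(162,(.ofNat 1),1)] .nil .nil)) (.node [(98,(.negSucc 0),1)] .nil .nil)) .nil))))) (.node [(138,(.ofNat 1),1)] (.node [] (.node [] (.node [] (.node [] .nil (.node [(37,(.negSucc 0),1)] .nil .nil)) (.node [] .nil (.node [(55,(.negSucc 0),1)] .nil (.node [(118,(.ofNat 1),1)] .nil .nil)))) (.node [] (.node [] (.node [] (.node [] .nil (.node [(142,(.negSucc 0),1)] .nil .nil)) (.node [(77,(.negSucc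 0),1)] .nil (.node [(207,(.ofNat 1),1)] .nil .nil))) (.node [] .nil (.node [(106,(.negSucc 0),1)] .nil .nil))) .nil)) (.node [] (.node [] (.node [] (.node [] .nil (.node [] .nil (.node [(203,(.ofNat 1),1)] .nil .nil))) .nil) (.node [] (.node [] (.node [] .nil (.node [(150,(.ofNat 1),1)] .nil .nil)) .nil) (.node [(59,(.negSucc 0),1)] (.node [] .nil (.node [(185,(.ofNat 1),1)] .nil .nil)) (.node [(3,(.ofNat 1),1),(138,(.negSucc 0),2)] .nil .nil)))) (.node [] .nil (.node [] (.node [] (.node [] .nil (.node [(161,(.ofNat 1),1)] .nil .nil)) (.node [(97,(.negSucc 0),1)] .nil (.node [(225,(.ofNat 1),1)] .nil .nil))) .nil)))) (.node [(138,(.negSucc 1),1)] (.node [] (.node [] .nil (.node [] (.node [] .nil (.node [(84,(.negSucc 0),1)] .nil .nil)) (.node [(57,(.negSucc 0),1)] (.node [] .nil (.node [(183,(.ofNat 1),1)] .nil .nil)) (.node [(120,(.ofNat 1),1)] .nil .nil)))) (.node [] (.node [] .nil (.node [] (.node [] .nil (.node [(172,(.ofNat 1),1)] .nil .nil)) .nil)) (.node [] (.node [] .nil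 (.node [] .nil (.node [(223,(.ofNat 1),1)] .nil .nil))) .nil))) (.node [] (.node [] (.node [] (.node [] (.node [] .nil (.node [(140,(.negSucc 0),1)] .nil .nil)) (.node [(75,(.negSucc 0),1)] .nil (.node [(205,(.ofNat 1),1)] .nil .nil))) (.node [] .nil (.node [] .nil (.node [(232,(.ofNat 1),1)] .nil .nil)))) (.node [(24,(.negSucc 0),1)] .nil .nil)) (.node [] (.node [] (.node [] (.node [] .nil (.node [(144,(.ofNat 1),1)] .nil .nil)) .nil) (.node [] .nil (.node [(112,(.negSucc 0),1)] .nil .nil))) (.node [(35,(.negSucc 0),1)] (.node [] (.node [] .nil (.node [(163,(.ofNat 1),1)] .nil .nil)) (.node [(99,(.negSucc 0),1)] .nil .nil)) .nil))))))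
noncomputable def ex131 : Trie (List (ℕ × ℤ × ℕ)) := (.node [] (.node [] (.node [] (.node [] (.node [] (.node [] .nil (.node [(39,(.ofNat 1),1)] .nil .nil)) (.node [(18,(.ofNat 1),1)] .nil .nil)) (.node [] (.node [] (.node [] .nil (.node [] .nil (.node [(209,(.ofNat 1),1)] .nil .nil))) (.node [] .nil (.node [(106,(.negSucc 0),1)] .nil .nil))) (.node [] (.node [] .nil (.node [] .nil (.node [(223,(.negSucc 0),1)] .nil .nil))) .nil))) (.node [(139,(.negSucc 0),1)] (.node [] (.node [] (.node [] (.node [] .nil (.node [(141,(.negSucc 0),1)] .nil .nil)) (.node [(75,(.negSucc 0),1)] .nil .nil)) .nil) (.node [] .nil (.node [(61,(.ofNat 1),1)] (.node [] .nil (.node [(187,(.ofNat 1),1)] .nil .nil)) (.node [(3,(.ofNat 1),1),(4,(.ofNat 1),1),(139,(.negSucc 0),2)] .nil .nil)))) .nil)) (.node [(139,(.ofNat 1),1)] (.node [] (.node [] (.node [] (.node [] .nil (.node [] .nil (.node [(203,(.negSucc 0),1)] .nil .nil))) .nil) (.node [] (.node [] .nil (.node [(84,(.negSucc 0),1)] .nil .nil)) (.node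 [] .nil (.node [(123,(.ofNat 1),1)] .nil (.node [(244,(.ofNat 1),1)] .nil .nil))))) (.node [] .nil (.node [] (.node [] .nil (.node [(97,(.negSucc 0),1)] .nil .nil)) .nil))) (.node [] (.node [] (.node [] .nil (.node [] .nil (.node [] .nil (.node [(232,(.negSucc 0),1)] .nil .nil)))) .nil) (.node [] (.node [] .nil (.node [(55,(.negSucc 0),1)] .nil (.node [(112,(.negSucc 0),1)] .nil .nil))) (.node [] (.node [] (.node [] .nil (.node [(165,(.ofNat 1),1)] .nil .nil)) .nil) .nil))))) (.node [(139,(.ofNat 1),1)] (.node [] (.node [] (.node [] (.node [] (.node [] .nil (.node [] .nil (.node [(202,(.negSucc 0),1)] .nil .nil))) (.node [(40,(.ofNat 1),1)] .nil .nil)) (.node [] .nil (.node [] (.node [] .nil (.node [(182,(.negSucc 0),1)] .nil .nil)) (.node [(122,(.ofNat 1),1)] .nil .nil)))) (.node [] (.node [] (.node [] .nil (.node [(78,(.ofNat 1),1)] .nil (.node [(210,(.ofNat 1),1)] .nil .nil))) .nil) (.node [] (.node [] .nil (.node [(96,(.negSucc 0),1)] .nil (.node [(224,(.negSucc 0),1)] .nil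 .nil))) (.node [] .nil (.node [(138,(.negSucc 0),1)] .nil .nil))))) (.node [(139,(.ofNat 1),1)] (.node [] (.node [] (.node [] (.node [] .nil (.node [(142,(.negSucc 0),1)] .nil .nil)) (.node [(76,(.negSucc 0),1)] .nil .nil)) .nil) (.node [] (.node [] (.node [] .nil (.node [(151,(.ofNat 1),1)] .nil .nil)) .nil) (.node [(62,(.ofNat 1),1)] (.node [] .nil (.node [(188,(.ofNat 1),1)] .nil .nil)) (.node [(134,(.ofNat 1),1)] .nil .nil)))) (.node [] (.node [] .nil (.node [(54,(.negSucc 0),1)] .nil (.node [] .nil (.node [(239,(.negSucc 0),1)] .nil .nil)))) (.node [(34,(.negSucc 0),1)] (.node [] (.node [] .nil (.node [(164,(.ofNat 1),1)] .nil .nil)) (.node [] .nil (.node [(226,(.ofNat 1),1)] .nil .nil))) .nil)))) (.node [(139,(.negSucc 0),1)] (.node [] (.node [] (.node [] (.node [] (.node [] .nil (.node [(140,(.negSucc 0),1)] .nil .nil)) (.node [(74,(.negSucc 0),1)] .nil (.node [(204,(.negSucc 0),1)] .nil .nil))) .nil) (.node [] .nil (.node [(60,(.ofNat 1),1)] (.node [] .nil (.node [(186,(.ofNat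 1),1)] .nil .nil)) (.node [(124,(.ofNat 1),1)] .nil .nil)))) (.node [(13,(.negSucc 0),1)] (.node [] (.node [] (.node [] .nil (.node [] .nil .nil)) .nil) (.node [] (.node [] .nil (.node [(173,(.ofNat 1),1)] .nil .nil)) .nil)) (.node [] (.node [] (.node [] .nil (.node [(160,(.negSucc 0),1)] .nil .nil)) (.node [(98,(.negSucc 0),1)] .nil .nil)) .nil))) (.node [] (.node [] (.node [] (.node [] .nil (.node [] .nil (.node [(208,(.ofNat 1),1)] .nil .nil))) .nil) (.node [(25,(.ofNat 1),1)] (.node [] .nil (.node [] .nil (.node [(222,(.negSucc 0),1)] .nil .nil))) .nil)) (.node [] (.node [] (.node [] (.node [] .nil (.node [(145,(.ofNat 1),1)] .nil .nil)) .nil) (.node [(56,(.negSucc 0),1)] .nil .nil)) (.node [(38,(.ofNat 1),1)] (.node [] (.node [] .nil (.node [(166,(.ofNat 1),1)] .nil .nil)) (.node [(100,(.ofNat 1),1)] .nil .nil)) .nil))))))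
noncomputable def ex132 : Trie (List (ℕ × ℤ × ℕ)) := (.node [] (.node [] (.node [] (.node [] (.node [] (.node [] (.node [] .nil (.node [] .nil (.node [(202,(.ofNat 1),1)] .nil .nil))) (.node [(41,(.negSucc 0),1)] .nil .nil)) (.node [(19,(.negSucc 0),1)] .nil .nil)) (.node [] (.node [] (.node [] .nil (.node [(78,(.ofNat 1),1)] .nil .nil)) .nil) (.node [] (.node [] .nil (.node [(97,(.negSucc 0),1)] .nil .nil)) (.node [] .nil (.node [(138,(.negSucc 0),1)] .nil .nil))))) (.node [] (.node [] .nil (.node [] .nil (.node [] (.node [] .nil (.node [(189,(.ofNat 1),1)] .nil .nil)) (.node [(131,(.ofNat 1),1)] .nil .nil)))) (.node [] (.node [] (.node [] (.node [] .nil (.node [] .nil .nil)) .nil) (.node [(54,(.negSucc 0),1)] .nil (.node [] .nil (.node [(239,(.ofNat 1),1)] .nil .nil)))) (.node [] (.node [] (.node [] .nil (.node [(164,(.negSucc 0),1)] .nil .nil)) (.node [] .nil (.node [(226,(.negSucc 0),1)] .nil .nil))) (.node [] .nil (.node [(139,(.negSucc 0),1)] .nil .nil)))))) (.node [(140,(.ofNat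 1),1)] (.node [] (.node [] (.node [] (.node [] (.node [] .nil (.node [(142,(.negSucc 0),1)] .nil .nil)) (.node [(75,(.negSucc 0),1)] .nil (.node [(205,(.negSucc 0),1)] .nil .nil))) .nil) (.node [] .nil (.node [(61,(.ofNat 1),1)] (.node [] .nil (.node [(186,(.negSucc 0),1)] .nil .nil)) (.node [(126,(.ofNat 1),1)] .nil (.node [(245,(.ofNat 1),1)] .nil .nil))))) (.node [(13,(.negSucc 0),1)] .nil .nil)) (.node [(140,(.ofNat 1),1)] (.node [] (.node [] (.node [] .nil (.node [] .nil (.node [(209,(.negSucc 0),1)] .nil .nil))) .nil) (.node [] (.node [] .nil (.node [] .nil (.node [(223,(.ofNat 1),1)] .nil .nil))) .nil)) (.node [] (.node [] .nil (.node [(57,(.ofNat 1),1)] .nil .nil)) (.node [(38,(.ofNat 1),1)] (.node [] (.node [] .nil (.node [(167,(.ofNat 1),1)] .nil .nil)) (.node [(100,(.ofNat 1),1)] .nil .nil)) .nil))))) (.node [(140,(.ofNat 1),1)] (.node [] (.node [] (.node [] (.node [] (.node [] (.node [] .nil (.node [(141,(.negSucc 0),1)] .nil .nil)) (.node [(74,(.negSucc 0),1)] .nil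 .nil)) (.node [(42,(.negSucc 0),1)] .nil .nil)) (.node [] (.node [] .nil (.node [(84,(.negSucc 0),1)] .nil .nil)) (.node [(60,(.ofNat 1),1)] (.node [] .nil (.node [(183,(.negSucc 0),1)] .nil .nil)) (.node [(125,(.ofNat 1),1)] .nil .nil)))) (.node [] (.node [] (.node [] .nil (.node [] .nil (.node [(211,(.ofNat 1),1)] .nil .nil))) .nil) (.node [] (.node [] .nil (.node [] .nil (.node [(225,(.negSucc 0),1)] .nil .nil))) .nil))) (.node [(140,(.negSucc 0),1)] (.node [] (.node [] (.node [] .nil (.node [(77,(.ofNat 1),1)] .nil (.node [(208,(.negSucc 0),1)] .nil .nil))) (.node [] .nil (.node [] .nil (.node [(232,(.ofNat 1),1)] .nil .nil)))) (.node [] (.node [] (.node [] .nil (.node [(152,(.ofNat 1),1)] .nil .nil)) (.node [] .nil (.node [(222,(.ofNat 1),1)] .nil .nil))) (.node [(63,(.negSucc 0),1)] (.node [] .nil (.node [(190,(.ofNat 1),1)] .nil .nil)) (.node [(135,(.ofNat 1),1)] .nil .nil)))) (.node [] (.node [] .nil (.node [] .nil (.node [(112,(.negSucc 0),1)] .nil .nil))) (.node [(35,(.ofNat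 1),1)] .nil .nil)))) (.node [(140,(.negSucc 0),1)] (.node [] (.node [] (.node [] (.node [] .nil (.node [] .nil (.node [(206,(.negSucc 0),1)] .nil .nil))) .nil) (.node [] .nil (.node [] .nil (.node [(3,(.ofNat 1),1),(4,(.ofNat 1),1),(5,(.ofNat 1),1),(140,(.negSucc 0),2)] .nil .nil)))) (.node [] (.node [] .nil (.node [] (.node [] .nil (.node [(174,(.ofNat 1),1)] .nil .nil)) .nil)) (.node [] (.node [] (.node [] .nil (.node [(161,(.negSucc 0),1)] .nil .nil)) (.node [(99,(.ofNat 1),1)] .nil .nil)) .nil))) (.node [] (.node [] (.node [] .nil (.node [] .nil (.node [(106,(.negSucc 0),1)] .nil .nil))) (.node [(26,(.negSucc 0),1)] (.node [] .nil (.node [(96,(.negSucc 0),1)] .nil .nil)) .nil)) (.node [] (.node [] (.node [] (.node [] .nil (.node [(146,(.ofNat 1),1)] .nil .nil)) .nil) (.node [(58,(.ofNat 1),1)] .nil .nil)) (.node [] (.node [] (.node [] .nil (.node [(168,(.ofNat 1),1)] .nil .nil)) .nil) .nil))))))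
noncomputable def ex133 : Trie (List (ℕ × ℤ × ℕ)) := (.node [] (.node [] (.node [] (.node [] (.node [] (.node [] (.node [] (.node [] .nil (.node [(142,(.negSucc 0),1)] .nil .nil)) (.node [(74,(.negSucc 0),1)] .nil (.node [(203,(.ofNat 1),1)] .nil .nil))) .nil) (.node [(20,(.ofNat 1),1)] (.node [] .nil (.node [(84,(.negSucc 0),1)] .nil .nil)) (.node [(60,(.ofNat 1),1)] .nil .nil))) (.node [] (.node [] (.node [] .nil (.node [] .nil (.node [(211,(.negSucc 0),1)] .nil .nil))) .nil) (.node [] (.node [] .nil (.node [(98,(.ofNat 1),1)] .nil (.node [(225,(.ofNat 1),1)] .nil .nil))) .nil))) (.node [] (.node [] (.node [] (.node [] .nil (.node [(77,(.ofNat 1),1)] .nil (.node [(208,(.ofNat 1),1)] .nil .nil))) (.node [] .nil (.node [] .nil (.node [(232,(.negSucc 0),1)] .nil .nil)))) (.node [] (.node [] .nil (.node [] .nil (.node [(222,(.negSucc 0),1)] .nil .nil))) (.node [(63,(.negSucc 0),1)] .nil (.node [(132,(.ofNat 1),1)] .nil .nil)))) (.node [] (.node [] .nil (.node [(55,(.ofNat 1),1)]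 .nil (.node [(112,(.negSucc 0),1)] .nil .nil))) (.node [] (.node [] (.node [] .nil (.node [(165,(.negSucc 0),1)] .nil .nil)) .nil) .nil)))) (.node [(141,(.ofNat 1),1)] (.node [] (.node [] (.node [] (.node [] .nil (.node [(76,(.ofNat 1),1)] .nil .nil)) .nil) (.node [] .nil (.node [(62,(.negSucc 0),1)] (.node [] .nil (.node [(187,(.negSucc 0),1)] .nil .nil)) (.node [(3,(.ofNat 1),1),(4,(.ofNat 1),1),(5,(.ofNat 1),1),(6,(.ofNat 1),1),(141,(.negSucc 0),2)] .nil (.node [(246,(.ofNat 1),1)] .nil .nil))))) (.node [] .nil (.node [] (.node [] .nil (.node [(99,(.ofNat 1),1)] .nil .nil)) .nil))) (.node [(141,(.negSucc 0),1)] (.node [] (.node [] (.node [] .nil (.node [] .nil (.node [(210,(.negSucc 0),1)] .nil .nil))) (.node [] .nil (.node [(106,(.negSucc 0),1)] .nil .nil))) (.node [] (.node [] .nil (.node [(96,(.negSucc 0),1)] .nil (.node [(224,(.ofNat 1),1)] .nil .nil))) .nil)) (.node [] .nil (.node [(39,(.negSucc 0),1)] .nil (.node [] .nil (.node [(140,(.negSucc 0),1)] .nil .nil)))))))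 (.node [(141,(.ofNat 1),1)] (.node [] (.node [] (.node [] (.node [] (.node [] .nil (.node [] .nil (.node [(205,(.ofNat 1),1)] .nil .nil))) (.node [(43,(.ofNat 1),1)] .nil .nil)) (.node [] .nil (.node [] (.node [] .nil (.node [(184,(.negSucc 0),1)] .nil .nil)) (.node [(127,(.ofNat 1),1)] .nil .nil)))) (.node [(13,(.negSucc 0),1)] .nil .nil)) (.node [] (.node [] .nil (.node [] (.node [] (.node [] .nil (.node [(153,(.ofNat 1),1)] .nil .nil)) .nil) (.node [] (.node [] .nil (.node [(191,(.ofNat 1),1)] .nil .nil)) (.node [(136,(.ofNat 1),1)] .nil .nil)))) (.node [] (.node [] (.node [] (.node [] .nil (.node [] .nil .nil)) .nil) (.node [(57,(.ofNat 1),1)] .nil .nil)) (.node [(36,(.negSucc 0),1)] (.node [] (.node [] .nil (.node [(167,(.negSucc 0),1)] .nil .nil)) (.node [(100,(.ofNat 1),1)] .nil .nil)) .nil)))) (.node [(141,(.negSucc 0),1)] (.node [] (.node [] (.node [] (.node [] .nil (.node [] .nil (.node [(207,(.negSucc 0),1)] .nil .nil))) .nil) (.node [] .nil (.node [] (.node [] .nil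 (.node [(189,(.negSucc 0),1)] .nil .nil)) (.node [(129,(.ofNat 1),1)] .nil .nil)))) (.node [] (.node [] .nil (.node [] (.node [] .nil (.node [(175,(.ofNat 1),1)] .nil .nil)) (.node [] .nil (.node [(239,(.negSucc 0),1)] .nil .nil)))) (.node [] (.node [] (.node [] .nil (.node [(162,(.negSucc 0),1)] .nil .nil)) (.node [] .nil (.node [(226,(.ofNat 1),1)] .nil .nil))) (.node [] .nil (.node [(139,(.negSucc 0),1)] .nil .nil))))) (.node [(141,(.ofNat 1),1)] (.node [] (.node [] (.node [] .nil (.node [(78,(.ofNat 1),1)] .nil .nil)) .nil) (.node [(27,(.ofNat 1),1)] .nil (.node [] .nil (.node [(138,(.negSucc 0),1)] .nil .nil)))) (.node [] (.node [] (.node [] (.node [] .nil (.node [(147,(.ofNat 1),1)] .nil .nil)) .nil) (.node [(59,(.negSucc 0),1)] .nil .nil)) (.node [(41,(.negSucc 0),1)] (.node [] (.node [] .nil (.node [(169,(.ofNat 1),1)] .nil .nil)) .nil) .nil))))))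
noncomputable def ex134 : Trie (List (ℕ × ℤ × ℕ)) := (.node [] (.node [] (.node [] (.node [] (.node [] (.node [] (.node [] .nil (.node [(75,(.ofNat 1),1)] .nil (.node [(204,(.ofNat 1),1)] .nil .nil))) (.node [(43,(.ofNat 1),1)] .nil .nil)) (.node [(21,(.negSucc 0),1)] .nil (.node [(61,(.negSucc 0),1)] .nil .nil))) (.node [(13,(.negSucc 0),1)] .nil .nil)) (.node [] (.node [] (.node [] (.node [] .nil (.node [] .nil (.node [(209,(.ofNat 1),1)] .nil .nil))) .nil) (.node [] (.node [] .nil (.node [] .nil (.node [(223,(.negSucc 0),1)] .nil .nil))) (.node [] (.node [] .nil (.node [(191,(.negSucc 0),1)] .nil .nil)) (.node [(133,(.ofNat 1),1)] .nil .nil)))) (.node [] (.node [] .nil (.node [(56,(.negSucc 0),1)] .nil .nil)) (.node [] (.node [] (.node [] .nil (.node [(166,(.negSucc 0),1)] .nil .nil)) (.node [(100,(.ofNat 1),1)] .nil .nil)) .nil)))) (.node [(142,(.ofNat 1),1)] (.node [] (.node [] (.node [] (.node [] .nil (.node [] .nil (.node [(207,(.ofNat 1),1)] .nil .nil))) .nil) (.node []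 .nil (.node [] (.node [] .nil (.node [(188,(.negSucc 0),1)] .nil .nil)) (.node [(128,(.ofNat 1),1)] .nil (.node [(247,(.ofNat 1),1)] .nil .nil))))) (.node [] (.node [] .nil (.node [] .nil (.node [] .nil (.node [(239,(.ofNat 1),1)] .nil .nil)))) (.node [] (.node [] .nil (.node [] .nil (.node [(226,(.negSucc 0),1)] .nil .nil))) (.node [] .nil (.node [(139,(.negSucc 0),1)] .nil .nil))))) (.node [] (.node [] (.node [] (.node [] .nil (.node [(78,(.ofNat 1),1)] .nil .nil)) .nil) (.node [] (.node [] .nil (.node [(97,(.ofNat 1),1)] .nil .nil)) (.node [] .nil (.node [(138,(.negSucc 0),1)] .nil .nil)))) (.node [] (.node [] (.node [] (.node [] .nil (.node [] .nil .nil)) .nil) (.node [(59,(.negSucc 0),1)] .nil .nil)) (.node [(40,(.ofNat 1),1)] (.node [] (.node [] .nil (.node [(169,(.negSucc 0),1)] .nil .nil)) .nil) .nil))))) (.node [(142,(.ofNat 1),1)] (.node [] (.node [] (.node [] (.node [] (.node [] .nil (.node [(76,(.ofNat 1),1)] .nil (.node [(206,(.ofNat 1),1)] .nil .nil))) .nil) (.node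 [] .nil (.node [(62,(.negSucc 0),1)] (.node [] .nil (.node [(185,(.negSucc 0),1)] .nil .nil)) (.node [(3,(.ofNat 1),1),(4,(.ofNat 1),1),(5,(.ofNat 1),1),(6,(.ofNat 1),1),(7,(.ofNat 1),1),(142,(.negSucc 0),2)] .nil .nil)))) (.node [] .nil (.node [] (.node [] .nil (.node [(99,(.ofNat 1),1)] .nil .nil)) .nil))) (.node [] (.node [] (.node [] (.node [] .nil (.node [] .nil (.node [(210,(.ofNat 1),1)] .nil .nil))) (.node [] .nil (.node [(106,(.negSucc 0),1)] .nil .nil))) (.node [] (.node [] (.node [] .nil (.node [(154,(.ofNat 1),1)] .nil .nil)) (.node [] .nil (.node [(224,(.negSucc 0),1)] .nil .nil))) (.node [] .nil (.node [(137,(.ofNat 1),1)] .nil .nil)))) (.node [] (.node [] .nil (.node [(58,(.negSucc 0),1)] .nil .nil)) (.node [(37,(.ofNat 1),1)] (.node [] (.node [] .nil (.node [(168,(.negSucc 0),1)] .nil .nil)) .nil) (.node [] .nil (.node [(140,(.negSucc 0),1)] .nil .nil)))))) (.node [(142,(.negSucc 0),1)] (.node [] (.node [] (.node [] (.node [] .nil (.node [(77,(.ofNat 1),1)] .nil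 .nil)) (.node [] .nil (.node [] .nil (.node [(232,(.ofNat 1),1)] .nil .nil)))) (.node [] .nil (.node [(63,(.negSucc 0),1)] (.node [] .nil (.node [(190,(.negSucc 0),1)] .nil .nil)) (.node [(130,(.ofNat 1),1)] .nil .nil)))) (.node [] (.node [] .nil (.node [] (.node [] .nil (.node [(176,(.ofNat 1),1)] .nil .nil)) (.node [(112,(.negSucc 0),1)] .nil .nil))) (.node [] (.node [] (.node [] .nil (.node [(163,(.negSucc 0),1)] .nil .nil)) .nil) .nil))) (.node [(142,(.negSucc 0),1)] (.node [] (.node [] (.node [] .nil (.node [] .nil (.node [(211,(.ofNat 1),1)] .nil .nil))) .nil) (.node [(28,(.negSucc 0),1)] (.node [] .nil (.node [(98,(.ofNat 1),1)] .nil (.node [(225,(.negSucc 0),1)] .nil .nil))) .nil)) (.node [] (.node [] (.node [] (.node [] .nil (.node [(148,(.ofNat 1),1)] .nil .nil)) (.node [(84,(.negSucc 0),1)] .nil .nil)) .nil) (.node [(42,(.ofNat 1),1)] .nil (.node [] .nil (.node [(141,(.negSucc 0),1)] .nil .nil))))))))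
noncomputable def ex135 : Trie (List (ℕ × ℤ × ℕ)) := (.node [(143,(.ofNat 1),1)] (.node [] (.node [] (.node [] (.node [] (.node [] .nil (.node [] .nil (.node [(101,(.negSucc 0),1)] .nil (.node [(229,(.ofNat 1),1)] .nil .nil)))) (.node [] .nil (.node [] .nil (.node [(2,(.ofNat 1),1),(143,(.negSucc 0),2)] .nil .nil)))) (.node [] .nil (.node [(29,(.negSucc 0),1)] (.node [] (.node [] .nil (.node [(157,(.ofNat 1),1)] .nil .nil)) .nil) (.node [(66,(.negSucc 0),1)] (.node [] .nil (.node [(194,(.ofNat 1),1)] .nil .nil)) .nil)))) (.node [] (.node [] (.node [] .nil (.node [] .nil (.node [(105,(.negSucc 0),1)] .nil .nil))) (.node [] (.node [] .nil (.node [(85,(.negSucc 0),1)] .nil .nil)) .nil)) (.node [] (.node [] (.node [] (.node [] .nil (.node [(146,(.negSucc 0),1)] .nil .nil)) .nil) (.node [] .nil (.node [(114,(.ofNat 1),1)] .nil .nil))) (.node [(33,(.negSucc 0),1)] .nil (.node [(70,(.negSucc 0),1)] (.node [] .nil (.node [(198,(.ofNat 1),1)] .nil .nil)) .nil))))) (.node [(143,(.negSucc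 1),1)] (.node [] (.node [] (.node [] .nil (.node [] .nil (.node [(103,(.negSucc 0),1)] .nil (.node [(231,(.ofNat 1),1)] .nil .nil)))) .nil) (.node [] (.node [] (.node [] (.node [] .nil (.node [(144,(.negSucc 0),1)] .nil .nil)) .nil) (.node [] (.node [] .nil (.node [(171,(.ofNat 1),1)] .nil .nil)) .nil)) (.node [(31,(.negSucc 0),1)] (.node [] (.node [] .nil (.node [(159,(.ofNat 1),1)] .nil .nil)) .nil) (.node [(68,(.negSucc 0),1)] (.node [] .nil (.node [(196,(.ofNat 1),1)] .nil .nil)) .nil)))) (.node [] (.node [] .nil (.node [] (.node [] (.node [] .nil (.node [(155,(.ofNat 1),1)] .nil .nil)) .nil) (.node [(64,(.negSucc 0),1)] (.node [] .nil (.node [(192,(.ofNat 1),1)] .nil .nil)) .nil))) (.node [] (.node [] (.node [] (.node [] .nil (.node [(148,(.negSucc 0),1)] .nil .nil)) .nil) (.node [] .nil (.node [(116,(.ofNat 1),1)] .nil .nil))) (.node [] (.node [] .nil (.node [] .nil (.node [(227,(.ofNat 1),1)] .nil .nil))) (.node [(72,(.negSucc 0),1)] (.node [] .nil (.node [(200,(.ofNat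 1),1)] .nil .nil)) .nil)))))) (.node [] (.node [] (.node [] (.node [] (.node [] .nil (.node [] .nil (.node [(102,(.negSucc 0),1)] .nil (.node [(230,(.ofNat 1),1)] .nil .nil)))) (.node [] .nil (.node [] .nil (.node [] .nil (.node [(242,(.ofNat 1),1)] .nil .nil))))) (.node [] .nil (.node [(30,(.negSucc 0),1)] (.node [] (.node [] .nil (.node [(158,(.ofNat 1),1)] .nil .nil)) .nil) (.node [(67,(.negSucc 0),1)] (.node [] .nil (.node [(195,(.ofNat 1),1)] .nil .nil)) .nil)))) (.node [] .nil (.node [(14,(.negSucc 0),1)] (.node [] (.node [] (.node [] .nil (.node [(147,(.negSucc 0),1)] .nil .nil)) .nil) (.node [] .nil (.node [(115,(.ofNat 1),1)] .nil .nil))) (.node [] .nil (.node [(71,(.negSucc 0),1)] (.node [] .nil (.node [(199,(.ofNat 1),1)] .nil .nil)) .nil))))) (.node [(143,(.ofNat 1),1)] (.node [] (.node [] (.node [] .nil (.node [] .nil (.node [(104,(.negSucc 0),1)] .nil .nil))) .nil) (.node [] (.node [] (.node [] (.node [] .nil (.node [(145,(.negSucc 0),1)] .nil .nil)) .nil) (.node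 [] .nil (.node [(113,(.ofNat 1),1)] .nil .nil))) (.node [(32,(.negSucc 0),1)] .nil (.node [(69,(.negSucc 0),1)] (.node [] .nil (.node [(197,(.ofNat 1),1)] .nil .nil)) .nil)))) (.node [] (.node [] .nil (.node [] (.node [] (.node [] .nil (.node [(156,(.ofNat 1),1)] .nil .nil)) .nil) (.node [(65,(.negSucc 0),1)] (.node [] .nil (.node [(193,(.ofNat 1),1)] .nil .nil)) .nil))) (.node [(16,(.negSucc 0),1)] (.node [] (.node [] (.node [] .nil (.node [] .nil .nil)) .nil) (.node [] .nil (.node [(117,(.ofNat 1),1)] .nil (.node [(240,(.ofNat 1),1)] .nil .nil)))) (.node [] (.node [] .nil (.node [] .nil (.node [(228,(.ofNat 1),1)] .nil .nil))) (.node [(73,(.negSucc 0),1)] (.node [] .nil (.node [(201,(.ofNat 1),1)] .nil .nil)) .nil)))))))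
noncomputable def ex136 : Trie (List (ℕ × ℤ × ℕ)) := (.node [(144,(.ofNat 1),1)] (.node [] (.node [] (.node [] (.node [] .nil (.node [] (.node [] (.node [] .nil (.node [] .nil .nil)) .nil) (.node [(64,(.negSucc 0),1)] .nil (.node [(138,(.ofNat 1),1)] .nil .nil)))) (.node [] (.node [] (.node [] (.node [] .nil (.node [(147,(.negSucc 0),1)] .nil .nil)) .nil) .nil) (.node [] (.node [] (.node [] .nil (.node [(161,(.ofNat 1),1)] .nil .nil)) .nil) .nil))) (.node [(144,(.ofNat 1),1)] (.node [] (.node [] .nil (.node [] .nil (.node [(106,(.ofNat 1),1)] .nil .nil))) (.node [] .nil (.node [(68,(.negSucc 0),1)] (.node [] .nil (.node [(194,(.negSucc 0),1)] .nil .nil)) .nil))) (.node [(14,(.negSucc 0),1)] (.node [] .nil (.node [] .nil (.node [(119,(.ofNat 1),1)] .nil .nil))) (.node [(37,(.ofNat 1),1)] (.node [] .nil (.node [(101,(.negSucc 0),1)] .nil (.node [(229,(.negSucc 0),1)] .nil .nil))) (.node [(74,(.ofNat 1),1)] (.node [] .nil (.node [(204,(.ofNat 1),1)] .nil .nil)) .nil))))) (.node [(144,(.negSucc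 0),1)] (.node [] (.node [] (.node [] .nil (.node [] .nil (.node [] .nil (.node [(232,(.ofNat 1),1)] .nil .nil)))) (.node [] .nil (.node [(66,(.negSucc 0),1)] (.node [] .nil (.node [(192,(.negSucc 0),1)] .nil .nil)) .nil))) (.node [] (.node [] .nil (.node [] (.node [] .nil (.node [(172,(.ofNat 1),1)] .nil .nil)) .nil)) (.node [(35,(.ofNat 1),1)] (.node [] (.node [] .nil (.node [(163,(.ofNat 1),1)] .nil .nil)) (.node [] .nil (.node [(227,(.negSucc 0),1)] .nil .nil))) (.node [] (.node [] .nil (.node [(202,(.ofNat 1),1)] .nil .nil)) .nil)))) (.node [] (.node [] (.node [] (.node [] (.node [] .nil (.node [(145,(.negSucc 0),1)] .nil .nil)) .nil) .nil) .nil) (.node [] (.node [] .nil (.node [] .nil (.node [(121,(.ofNat 1),1)] .nil (.node [(240,(.negSucc 0),1)] .nil .nil)))) (.node [] (.node [] .nil (.node [(103,(.negSucc 0),1)] .nil .nil)) (.node [(76,(.ofNat 1),1)] (.node [] .nil (.node [(206,(.ofNat 1),1)] .nil .nil)) .nil)))))) (.node [(144,(.ofNat 1),1)] (.node [] (.node [] (.node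 [] .nil (.node [] .nil (.node [(65,(.negSucc 0),1)] .nil (.node [] .nil (.node [(243,(.ofNat 1),1)] .nil .nil))))) (.node [] (.node [] (.node [] (.node [] .nil (.node [(148,(.negSucc 0),1)] .nil .nil)) .nil) .nil) (.node [(34,(.ofNat 1),1)] (.node [] (.node [] .nil (.node [(162,(.ofNat 1),1)] .nil .nil)) .nil) .nil))) (.node [] (.node [] .nil (.node [] (.node [] (.node [] .nil (.node [(155,(.negSucc 0),1)] .nil .nil)) .nil) (.node [(69,(.negSucc 0),1)] (.node [] .nil (.node [(195,(.negSucc 0),1)] .nil .nil)) (.node [(143,(.negSucc 0),1)] .nil .nil)))) (.node [] (.node [] .nil (.node [] .nil (.node [(120,(.ofNat 1),1)] .nil .nil))) (.node [] (.node [] .nil (.node [(102,(.negSucc 0),1)] .nil (.node [(230,(.negSucc 0),1)] .nil .nil))) (.node [(75,(.ofNat 1),1)] (.node [] .nil (.node [(205,(.ofNat 1),1)] .nil .nil)) .nil))))) (.node [(144,(.negSucc 0),1)] (.node [] (.node [] .nil (.node [] (.node [] .nil (.node [(85,(.negSucc 0),1)] .nil .nil)) (.node [(67,(.negSucc 0),1)] (.node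 [] .nil (.node [(193,(.negSucc 0),1)] .nil .nil)) .nil))) (.node [] (.node [] .nil (.node [] .nil (.node [(118,(.ofNat 1),1)] .nil .nil))) (.node [(36,(.ofNat 1),1)] (.node [] .nil (.node [] .nil (.node [(228,(.negSucc 0),1)] .nil .nil))) (.node [] (.node [] .nil (.node [(203,(.ofNat 1),1)] .nil .nil)) .nil)))) (.node [] (.node [] (.node [] (.node [] (.node [] .nil (.node [(146,(.negSucc 0),1)] .nil .nil)) .nil) .nil) (.node [(29,(.negSucc 0),1)] (.node [] (.node [] .nil (.node [(160,(.ofNat 1),1)] .nil .nil)) .nil) .nil)) (.node [(17,(.ofNat 1),1)] (.node [] .nil (.node [] .nil (.node [(2,(.ofNat 1),1),(3,(.ofNat 1),1),(144,(.negSucc 0),2)] .nil .nil))) (.node [] (.node [] .nil (.node [(104,(.negSucc 0),1)] .nil .nil)) (.node [(77,(.ofNat 1),1)] (.node [] .nil (.node [(207,(.ofNat 1),1)] .nil .nil)) .nil)))))))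
noncomputable def ex137 : Trie (List (ℕ × ℤ × ℕ)) := (.node [(145,(.ofNat 1),1)] (.node [] (.node [] (.node [] (.node [] .nil (.node [] .nil (.node [] .nil (.node [(139,(.ofNat 1),1)] .nil .nil)))) (.node [] .nil (.node [(34,(.ofNat 1),1)] (.node [] (.node [] .nil (.node [(164,(.ofNat 1),1)] .nil .nil)) (.node [] .nil (.node [(228,(.ofNat 1),1)] .nil .nil))) (.node [] (.node [] .nil (.node [(203,(.negSucc 0),1)] .nil .nil)) .nil)))) (.node [(145,(.negSucc 0),1)] (.node [] (.node [] (.node [] (.node [] .nil (.node [(147,(.negSucc 0),1)] .nil .nil)) .nil) .nil) (.node [] .nil (.node [(71,(.ofNat 1),1)] (.node [] .nil (.node [(197,(.negSucc 0),1)] .nil .nil)) (.node [(143,(.negSucc 0),1)] .nil .nil)))) (.node [] (.node [] .nil (.node [] .nil (.node [(123,(.ofNat 1),1)] .nil .nil))) (.node [(40,(.negSucc 0),1)] .nil .nil)))) (.node [(145,(.negSucc 0),1)] (.node [] (.node [] .nil (.node [] (.node [] .nil (.node [(85,(.negSucc 0),1)] .nil .nil)) .nil)) (.node [] (.node [] .nil (.node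 [] (.node [] .nil (.node [(173,(.ofNat 1),1)] .nil .nil)) .nil)) (.node [(38,(.negSucc 0),1)] (.node [] (.node [] .nil (.node [(166,(.ofNat 1),1)] .nil .nil)) (.node [(102,(.negSucc 0),1)] .nil .nil)) (.node [(75,(.ofNat 1),1)] .nil .nil)))) (.node [] (.node [] .nil (.node [] (.node [] (.node [] .nil (.node [(160,(.negSucc 0),1)] .nil .nil)) .nil) .nil)) (.node [] (.node [] .nil (.node [(65,(.negSucc 0),1)] .nil (.node [(2,(.ofNat 1),1),(3,(.ofNat 1),1),(4,(.ofNat 1),1),(145,(.negSucc 0),2)] .nil .nil))) (.node [] .nil (.node [] (.node [] .nil (.node [(209,(.ofNat 1),1)] .nil .nil)) .nil)))))) (.node [(145,(.ofNat 1),1)] (.node [] (.node [] (.node [] (.node [] .nil (.node [] .nil (.node [] .nil (.node [(232,(.negSucc 0),1)] .nil .nil)))) (.node [] (.node [] (.node [] .nil (.node [] .nil .nil)) .nil) (.node [] (.node [] .nil (.node [(192,(.ofNat 1),1)] .nil .nil)) (.node [] .nil (.node [(244,(.ofNat 1),1)] .nil .nil))))) (.node [] .nil (.node [] (.node [] (.node [] .nil (.node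 [(165,(.ofNat 1),1)] .nil .nil)) (.node [(101,(.negSucc 0),1)] .nil (.node [(229,(.ofNat 1),1)] .nil .nil))) (.node [(74,(.ofNat 1),1)] (.node [] .nil (.node [(204,(.negSucc 0),1)] .nil .nil)) (.node [(144,(.negSucc 0),1)] .nil .nil))))) (.node [(145,(.ofNat 1),1)] (.node [] (.node [] (.node [] (.node [] .nil (.node [(148,(.negSucc 0),1)] .nil .nil)) .nil) .nil) (.node [] (.node [] (.node [] .nil (.node [(156,(.negSucc 0),1)] .nil .nil)) .nil) (.node [(72,(.ofNat 1),1)] (.node [] .nil (.node [(198,(.negSucc 0),1)] .nil .nil)) .nil))) (.node [] (.node [] .nil (.node [(64,(.negSucc 0),1)] .nil (.node [(124,(.ofNat 1),1)] .nil (.node [(240,(.ofNat 1),1)] .nil .nil)))) (.node [] (.node [] .nil (.node [] .nil (.node [(231,(.negSucc 0),1)] .nil .nil))) (.node [] (.node [] .nil (.node [(208,(.ofNat 1),1)] .nil .nil)) .nil))))) (.node [] (.node [] (.node [] (.node [] (.node [] (.node [] .nil (.node [(146,(.negSucc 0),1)] .nil .nil)) .nil) (.node [] .nil (.node [(106,(.ofNat 1),1)] .nil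 .nil))) (.node [] .nil (.node [(70,(.ofNat 1),1)] (.node [] .nil (.node [(196,(.negSucc 0),1)] .nil .nil)) .nil))) (.node [(14,(.negSucc 0),1)] (.node [] .nil (.node [] .nil (.node [(122,(.ofNat 1),1)] .nil .nil))) (.node [(39,(.negSucc 0),1)] (.node [] .nil (.node [(103,(.negSucc 0),1)] .nil .nil)) (.node [(76,(.ofNat 1),1)] .nil .nil)))) (.node [] (.node [] .nil (.node [(30,(.ofNat 1),1)] (.node [] .nil (.node [] .nil (.node [(227,(.ofNat 1),1)] .nil .nil))) (.node [] (.node [] .nil (.node [(202,(.negSucc 0),1)] .nil .nil)) .nil))) (.node [(18,(.negSucc 0),1)] (.node [] .nil (.node [(66,(.negSucc 0),1)] .nil (.node [(134,(.ofNat 1),1)] .nil .nil))) (.node [] (.node [] .nil (.node [(105,(.ofNat 1),1)] .nil .nil)) (.node [(78,(.negSucc 0),1)] (.node [] .nil (.node [(210,(.ofNat 1),1)] .nil .nil)) .nil)))))))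
noncomputable def ex138 : Trie (List (ℕ × ℤ × ℕ)) := (.node [(146,(.ofNat 1),1)] (.node [] (.node [] (.node [] (.node [] (.node [] .nil (.node [] .nil (.node [] .nil (.node [(232,(.ofNat 1),1)] .nil .nil)))) (.node [] .nil (.node [] .nil (.node [(140,(.ofNat 1),1)] .nil .nil)))) (.node [] .nil (.node [(35,(.negSucc 0),1)] (.node [] .nil (.node [(102,(.negSucc 0),1)] .nil .nil)) (.node [(75,(.ofNat 1),1)] (.node [] .nil (.node [(205,(.negSucc 0),1)] .nil .nil)) (.node [(144,(.negSucc 0),1)] .nil .nil))))) (.node [] (.node [] .nil (.node [] .nil (.node [] (.node [] .nil (.node [(199,(.negSucc 0),1)] .nil .nil)) .nil))) (.node [] (.node [] .nil (.node [(64,(.negSucc 0),1)] .nil (.node [(126,(.ofNat 1),1)] .nil (.node [(240,(.negSucc 0),1)] .nil .nil)))) (.node [(42,(.ofNat 1),1)] (.node [] .nil (.node [] .nil (.node [(231,(.ofNat 1),1)] .nil .nil))) (.node [] (.node [] .nil (.node [(209,(.negSucc 0),1)] .nil .nil)) (.node [(145,(.negSucc 0),1)] .nil .nil)))))) (.node [(146,(.negSucc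 0),1)] (.node [] (.node [] (.node [] (.node [] (.node [] .nil (.node [(148,(.negSucc 0),1)] .nil .nil)) .nil) (.node [] .nil (.node [(106,(.ofNat 1),1)] .nil .nil))) (.node [] (.node [] (.node [] .nil (.node [] .nil .nil)) .nil) (.node [(71,(.ofNat 1),1)] (.node [] .nil (.node [(196,(.ofNat 1),1)] .nil .nil)) .nil))) (.node [(14,(.negSucc 0),1)] (.node [] .nil (.node [] (.node [] .nil (.node [(174,(.ofNat 1),1)] .nil .nil)) .nil)) (.node [] (.node [] (.node [] .nil (.node [(168,(.ofNat 1),1)] .nil .nil)) .nil) .nil))) (.node [(146,(.ofNat 1),1)] (.node [] .nil (.node [] (.node [] (.node [] .nil (.node [(161,(.negSucc 0),1)] .nil .nil)) (.node [] .nil (.node [(228,(.negSucc 0),1)] .nil .nil))) (.node [] (.node [] .nil (.node [(202,(.ofNat 1),1)] .nil .nil)) .nil))) (.node [] (.node [] .nil (.node [(67,(.ofNat 1),1)] .nil (.node [(131,(.ofNat 1),1)] .nil .nil))) (.node [] (.node [] .nil (.node [(105,(.ofNat 1),1)] .nil .nil)) (.node [(78,(.negSucc 0),1)] .nil .nil)))))) (.node [(146,(.ofNat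 1),1)] (.node [] (.node [] (.node [] (.node [] (.node [] (.node [] .nil (.node [(147,(.negSucc 0),1)] .nil .nil)) .nil) .nil) (.node [] (.node [] .nil (.node [(85,(.negSucc 0),1)] .nil .nil)) (.node [(70,(.ofNat 1),1)] (.node [] .nil (.node [(193,(.ofNat 1),1)] .nil .nil)) (.node [] .nil (.node [(245,(.ofNat 1),1)] .nil .nil))))) (.node [] .nil (.node [(38,(.negSucc 0),1)] (.node [] (.node [] .nil (.node [(167,(.ofNat 1),1)] .nil .nil)) (.node [] .nil (.node [(230,(.ofNat 1),1)] .nil .nil))) (.node [] (.node [] .nil (.node [(206,(.negSucc 0),1)] .nil .nil)) .nil)))) (.node [(146,(.negSucc 0),1)] (.node [] .nil (.node [] (.node [] (.node [] .nil (.node [(157,(.negSucc 0),1)] .nil .nil)) (.node [] .nil (.node [(227,(.negSucc 0),1)] .nil .nil))) (.node [(73,(.negSucc 0),1)] (.node [] .nil (.node [(200,(.negSucc 0),1)] .nil .nil)) .nil))) (.node [] (.node [] .nil (.node [] .nil (.node [(2,(.ofNat 1),1),(3,(.ofNat 1),1),(4,(.ofNat 1),1),(5,(.ofNat 1),1),(146,(.negSucc 0),2)] .nil .nil)))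 .nil))) (.node [] (.node [] (.node [] .nil (.node [] .nil (.node [] .nil (.node [(143,(.negSucc 0),1)] .nil .nil)))) (.node [] (.node [] .nil (.node [] .nil (.node [(125,(.ofNat 1),1)] .nil .nil))) (.node [(41,(.ofNat 1),1)] (.node [] .nil (.node [(104,(.ofNat 1),1)] .nil .nil)) (.node [(77,(.negSucc 0),1)] (.node [] .nil (.node [(208,(.negSucc 0),1)] .nil .nil)) .nil)))) (.node [] (.node [] .nil (.node [(31,(.negSucc 0),1)] (.node [] (.node [] .nil (.node [(164,(.negSucc 0),1)] .nil .nil)) (.node [(101,(.negSucc 0),1)] .nil .nil)) (.node [(74,(.ofNat 1),1)] .nil .nil))) (.node [(19,(.ofNat 1),1)] (.node [] .nil (.node [(68,(.ofNat 1),1)] .nil (.node [(135,(.ofNat 1),1)] .nil .nil))) (.node [] .nil (.node [] (.node [] .nil (.node [(211,(.ofNat 1),1)] .nil .nil)) .nil)))))))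
noncomputable def ex139 : Trie (List (ℕ × ℤ × ℕ)) := (.node [(147,(.ofNat 1),1)] (.node [] (.node [] (.node [] (.node [] (.node [] (.node [] (.node [] .nil (.node [(148,(.negSucc 0),1)] .nil .nil)) .nil) .nil) (.node [] (.node [] .nil (.node [(85,(.negSucc 0),1)] .nil .nil)) (.node [(70,(.ofNat 1),1)] .nil (.node [(141,(.ofNat 1),1)] .nil .nil)))) (.node [] .nil (.node [(36,(.ofNat 1),1)] (.node [] (.node [] .nil (.node [(167,(.negSucc 0),1)] .nil .nil)) (.node [(103,(.ofNat 1),1)] .nil (.node [(230,(.negSucc 0),1)] .nil .nil))) (.node [(76,(.negSucc 0),1)] .nil .nil)))) (.node [] (.node [] .nil (.node [] (.node [] .nil (.node [] .nil (.node [(227,(.ofNat 1),1)] .nil .nil))) (.node [(73,(.negSucc 0),1)] .nil .nil))) (.node [] (.node [] .nil (.node [(65,(.ofNat 1),1)] .nil (.node [(2,(.ofNat 1),1),(3,(.ofNat 1),1),(4,(.ofNat 1),1),(5,(.ofNat 1),1),(6,(.ofNat 1),1),(147,(.negSucc 0),2)] .nil .nil))) (.node [(43,(.negSucc 0),1)] .nil (.node [] (.node [] .nil (.node [(210,(.negSucc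 0),1)] .nil .nil)) .nil))))) (.node [(147,(.negSucc 0),1)] (.node [] (.node [] .nil (.node [] .nil (.node [(72,(.negSucc 0),1)] (.node [] .nil (.node [(197,(.ofNat 1),1)] .nil .nil)) (.node [(143,(.negSucc 0),1)] .nil .nil)))) (.node [] (.node [] .nil (.node [] (.node [] .nil (.node [(175,(.ofNat 1),1)] .nil .nil)) .nil)) (.node [(41,(.ofNat 1),1)] (.node [] (.node [] .nil (.node [(169,(.ofNat 1),1)] .nil .nil)) (.node [(104,(.ofNat 1),1)] .nil .nil)) (.node [(77,(.negSucc 0),1)] (.node [] .nil (.node [(208,(.ofNat 1),1)] .nil .nil)) .nil)))) (.node [(147,(.negSucc 0),1)] (.node [] .nil (.node [] (.node [] (.node [] .nil (.node [(162,(.negSucc 0),1)] .nil .nil)) (.node [(101,(.negSucc 0),1)] .nil (.node [(229,(.negSucc 0),1)] .nil .nil))) (.node [(74,(.ofNat 1),1)] (.node [] .nil (.node [(203,(.ofNat 1),1)] .nil .nil)) .nil))) (.node [] (.node [] .nil (.node [] .nil (.node [(132,(.ofNat 1),1)] .nil .nil))) (.node [] .nil (.node [] (.node [] .nil (.node [(211,(.negSucc 0),1)] .nil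 .nil)) (.node [(146,(.negSucc 0),1)] .nil .nil))))))) (.node [(147,(.ofNat 1),1)] (.node [] (.node [] (.node [] (.node [] .nil (.node [] .nil (.node [(106,(.ofNat 1),1)] .nil .nil))) (.node [] .nil (.node [] (.node [] .nil (.node [(194,(.ofNat 1),1)] .nil .nil)) (.node [] .nil (.node [(246,(.ofNat 1),1)] .nil .nil))))) (.node [(14,(.negSucc 0),1)] .nil (.node [(39,(.ofNat 1),1)] .nil (.node [] (.node [] .nil (.node [(207,(.negSucc 0),1)] .nil .nil)) .nil)))) (.node [] (.node [] .nil (.node [] (.node [] (.node [] .nil (.node [(158,(.negSucc 0),1)] .nil .nil)) .nil) (.node [] (.node [] .nil (.node [(201,(.negSucc 0),1)] .nil .nil)) .nil))) (.node [] (.node [] .nil (.node [(67,(.ofNat 1),1)] .nil (.node [(129,(.ofNat 1),1)] .nil .nil))) (.node [] (.node [] .nil (.node [(105,(.ofNat 1),1)] .nil .nil)) (.node [(78,(.negSucc 0),1)] .nil .nil))))) (.node [] (.node [] (.node [] .nil (.node [] (.node [] (.node [] .nil (.node [] .nil .nil)) .nil) (.node [] (.node [] .nil (.node [(199,(.ofNat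 1),1)] .nil .nil)) .nil))) (.node [] (.node [] .nil (.node [] .nil (.node [(127,(.ofNat 1),1)] .nil (.node [(240,(.ofNat 1),1)] .nil .nil)))) (.node [] (.node [] .nil (.node [] .nil (.node [(231,(.negSucc 0),1)] .nil .nil))) (.node [] .nil (.node [(145,(.negSucc 0),1)] .nil .nil))))) (.node [(147,(.ofNat 1),1)] (.node [] .nil (.node [(32,(.ofNat 1),1)] (.node [] (.node [] .nil (.node [(165,(.negSucc 0),1)] .nil .nil)) .nil) (.node [] (.node [] .nil (.node [(205,(.ofNat 1),1)] .nil .nil)) (.node [(144,(.negSucc 0),1)] .nil .nil)))) (.node [(20,(.negSucc 0),1)] (.node [] .nil (.node [(69,(.negSucc 0),1)] .nil (.node [(136,(.ofNat 1),1)] .nil .nil))) (.node [] (.node [] .nil (.node [] .nil (.node [(232,(.negSucc 0),1)] .nil .nil))) .nil))))))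
noncomputable def ex140 : Trie (List (ℕ × ℤ × ℕ)) := (.node [(148,(.ofNat 1),1)] (.node [] (.node [] (.node [] (.node [] (.node [] .nil (.node [] .nil (.node [(106,(.ofNat 1),1)] .nil .nil))) (.node [] .nil (.node [(71,(.negSucc 0),1)] .nil (.node [(142,(.ofNat 1),1)] .nil .nil)))) (.node [(14,(.negSucc 0),1)] .nil (.node [(37,(.negSucc 0),1)] (.node [] (.node [] .nil (.node [(168,(.negSucc 0),1)] .nil .nil)) .nil) (.node [] (.node [] .nil (.node [(207,(.ofNat 1),1)] .nil .nil)) .nil)))) (.node [] (.node [] .nil (.node [] (.node [] (.node [] .nil (.node [] .nil .nil)) (.node [] .nil (.node [(228,(.ofNat 1),1)] .nil .nil))) (.node [] (.node [] .nil (.node [(201,(.ofNat 1),1)] .nil .nil)) .nil))) (.node [] (.node [] .nil (.node [(66,(.negSucc 0),1)] .nil (.node [(128,(.ofNat 1),1)] .nil .nil))) (.node [] (.node [] .nil (.node [(105,(.ofNat 1),1)] .nil .nil)) (.node [(78,(.negSucc 0),1)] .nil .nil))))) (.node [(148,(.negSucc 0),1)] (.node [] (.node [] .nil (.node [] .nil (.node []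 (.node [] .nil (.node [(198,(.ofNat 1),1)] .nil .nil)) .nil))) (.node [] (.node [] .nil (.node [] (.node [] .nil (.node [(176,(.ofNat 1),1)] .nil .nil)) (.node [] .nil (.node [(240,(.negSucc 0),1)] .nil .nil)))) (.node [(42,(.negSucc 0),1)] (.node [] .nil (.node [] .nil (.node [(231,(.ofNat 1),1)] .nil .nil))) (.node [] (.node [] .nil (.node [(209,(.ofNat 1),1)] .nil .nil)) (.node [(145,(.negSucc 0),1)] .nil .nil))))) (.node [] (.node [] .nil (.node [] (.node [] (.node [] .nil (.node [(163,(.negSucc 0),1)] .nil .nil)) (.node [(102,(.ofNat 1),1)] .nil .nil)) (.node [(75,(.negSucc 0),1)] (.node [] .nil (.node [(204,(.ofNat 1),1)] .nil .nil)) (.node [(144,(.negSucc 0),1)] .nil .nil)))) (.node [] (.node [] .nil (.node [(69,(.negSucc 0),1)] .nil (.node [(133,(.ofNat 1),1)] .nil .nil))) (.node [] (.node [] .nil (.node [] .nil (.node [(232,(.ofNat 1),1)] .nil .nil))) .nil))))) (.node [(148,(.ofNat 1),1)] (.node [] (.node [] (.node [] .nil (.node [] .nil (.node [(72,(.negSucc 0),1)] (.node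 [] .nil (.node [(195,(.ofNat 1),1)] .nil .nil)) (.node [(143,(.negSucc 0),1)] .nil (.node [(247,(.ofNat 1),1)] .nil .nil))))) (.node [] .nil (.node [(40,(.negSucc 0),1)] (.node [] (.node [] .nil (.node [(169,(.negSucc 0),1)] .nil .nil)) (.node [(104,(.ofNat 1),1)] .nil .nil)) (.node [(77,(.negSucc 0),1)] .nil .nil)))) (.node [] (.node [] .nil (.node [] (.node [] (.node [] .nil (.node [(159,(.negSucc 0),1)] .nil .nil)) (.node [] .nil (.node [(229,(.ofNat 1),1)] .nil .nil))) .nil)) (.node [] (.node [] .nil (.node [(68,(.negSucc 0),1)] .nil (.node [(130,(.ofNat 1),1)] .nil .nil))) (.node [] .nil (.node [] (.node [] .nil (.node [(211,(.ofNat 1),1)] .nil .nil)) (.node [(146,(.negSucc 0),1)] .nil .nil)))))) (.node [] (.node [] (.node [] .nil (.node [] .nil (.node [(73,(.negSucc 0),1)] (.node [] .nil (.node [(200,(.ofNat 1),1)] .nil .nil)) .nil))) (.node [] (.node [] .nil (.node [] .nil (.node [(2,(.ofNat 1),1),(3,(.ofNat 1),1),(4,(.ofNat 1),1),(5,(.ofNat 1),1),(6,(.ofNat 1),1),(7,(.ofNat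 1),1),(148,(.negSucc 0),2)] .nil .nil))) (.node [(43,(.negSucc 0),1)] .nil (.node [] (.node [] .nil (.node [(210,(.ofNat 1),1)] .nil .nil)) .nil)))) (.node [(148,(.negSucc 0),1)] (.node [] .nil (.node [(33,(.negSucc 0),1)] (.node [] (.node [] .nil (.node [(166,(.negSucc 0),1)] .nil .nil)) (.node [(103,(.ofNat 1),1)] .nil (.node [(230,(.ofNat 1),1)] .nil .nil))) (.node [(76,(.negSucc 0),1)] (.node [] .nil (.node [(206,(.ofNat 1),1)] .nil .nil)) .nil))) (.node [(21,(.ofNat 1),1)] (.node [] (.node [] .nil (.node [(85,(.negSucc 0),1)] .nil .nil)) (.node [] .nil (.node [(137,(.ofNat 1),1)] .nil .nil))) (.node [] .nil (.node [] .nil (.node [(147,(.negSucc 0),1)] .nil .nil))))))))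
noncomputable def ex141 : Trie (List (ℕ × ℤ × ℕ)) := (.node [] (.node [] (.node [] (.node [] (.node [] (.node [] .nil (.node [] .nil (.node [(107,(.negSucc 0),1)] .nil .nil))) (.node [] (.node [] (.node [] .nil (.node [(155,(.ofNat 1),1)] .nil .nil)) (.node [] .nil (.node [(218,(.ofNat 1),1)] .nil .nil))) (.node [] (.node [] .nil (.node [(181,(.ofNat 1),1)] .nil .nil)) (.node [] .nil (.node [(242,(.ofNat 1),1)] .nil .nil))))) (.node [] (.node [] .nil (.node [(50,(.negSucc 0),1)] .nil (.node [(116,(.ofNat 1),1)] .nil (.node [(233,(.ofNat 1),1)] .nil .nil)))) .nil)) (.node [] (.node [] (.node [] .nil (.node [(46,(.negSucc 0),1)] .nil (.node [(111,(.negSucc 0),1)] .nil .nil))) (.node [] (.node [] (.node [] .nil (.node [(159,(.ofNat 1),1)] .nil .nil)) .nil) .nil)) (.node [] (.node [] (.node [] (.node [] .nil (.node [(152,(.negSucc 0),1)] .nil .nil)) (.node [(81,(.negSucc 0),1)] .nil (.node [(214,(.ofNat 1),1)] .nil .nil))) (.node [] (.node [] .nil (.node [(177,(.ofNat 1),1)] .nil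 .nil)) .nil)) .nil))) (.node [] (.node [] (.node [] (.node [] .nil (.node [(44,(.negSucc 0),1)] .nil (.node [(109,(.negSucc 0),1)] .nil .nil))) (.node [] (.node [] (.node [] .nil (.node [(157,(.ofNat 1),1)] .nil .nil)) (.node [] .nil (.node [(220,(.ofNat 1),1)] .nil .nil))) .nil)) (.node [] (.node [] (.node [] (.node [] .nil (.node [(150,(.negSucc 0),1)] .nil .nil)) (.node [(79,(.negSucc 0),1)] .nil (.node [(212,(.ofNat 1),1)] .nil .nil))) (.node [(52,(.negSucc 0),1)] .nil (.node [(1,(.ofNat 1),1),(149,(.negSucc 0),2)] .nil .nil))) .nil)) (.node [] (.node [] (.node [] .nil (.node [(48,(.negSucc 0),1)] .nil (.node [(114,(.ofNat 1),1)] .nil .nil))) (.node [(23,(.negSucc 0),1)] .nil .nil)) (.node [(16,(.negSucc 0),1)] (.node [] (.node [] (.node [] .nil (.node [(154,(.negSucc 0),1)] .nil .nil)) (.node [(83,(.negSucc 0),1)] .nil (.node [(216,(.ofNat 1),1)] .nil .nil))) (.node [] (.node [] .nil (.node [(179,(.ofNat 1),1)] .nil .nil)) .nil)) .nil)))) (.node [(149,(.negSucc 1),1)] (.node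 [] (.node [] (.node [] (.node [] .nil (.node [] .nil (.node [(108,(.negSucc 0),1)] .nil .nil))) (.node [] (.node [] (.node [] .nil (.node [(156,(.ofNat 1),1)] .nil .nil)) (.node [] .nil (.node [(219,(.ofNat 1),1)] .nil .nil))) .nil)) (.node [] (.node [] .nil (.node [(51,(.negSucc 0),1)] .nil (.node [(117,(.ofNat 1),1)] .nil .nil))) .nil)) (.node [] (.node [] (.node [] .nil (.node [(47,(.negSucc 0),1)] .nil (.node [(113,(.ofNat 1),1)] .nil .nil))) (.node [] (.node [] (.node [] .nil (.node [] .nil .nil)) .nil) .nil)) (.node [(15,(.negSucc 0),1)] (.node [] (.node [] (.node [] .nil (.node [(153,(.negSucc 0),1)] .nil .nil)) (.node [(82,(.negSucc 0),1)] .nil (.node [(215,(.ofNat 1),1)] .nil .nil))) (.node [] (.node [] .nil (.node [(178,(.ofNat 1),1)] .nil .nil)) .nil)) .nil))) (.node [(149,(.ofNat 1),1)] (.node [] (.node [] (.node [] .nil (.node [(45,(.negSucc 0),1)] .nil (.node [(110,(.negSucc 0),1)] .nil .nil))) (.node [] (.node [] (.node [] .nil (.node [(158,(.ofNat 1),1)] .nil .nil))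 (.node [] .nil (.node [(221,(.ofNat 1),1)] .nil .nil))) .nil)) (.node [] (.node [] (.node [] (.node [] .nil (.node [(151,(.negSucc 0),1)] .nil .nil)) (.node [(80,(.negSucc 0),1)] .nil (.node [(213,(.ofNat 1),1)] .nil .nil))) (.node [(53,(.negSucc 0),1)] .nil .nil)) .nil)) (.node [] (.node [] (.node [] .nil (.node [(49,(.negSucc 0),1)] .nil (.node [(115,(.ofNat 1),1)] .nil .nil))) .nil) (.node [] (.node [] (.node [] .nil (.node [] .nil (.node [(217,(.ofNat 1),1)] .nil .nil))) (.node [] (.node [] .nil (.node [(180,(.ofNat 1),1)] .nil .nil)) (.node [] .nil (.node [(241,(.ofNat 1),1)] .nil .nil)))) .nil)))))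
noncomputable def ex142 : Trie (List (ℕ × ℤ × ℕ)) := (.node [] (.node [] (.node [] (.node [] (.node [] (.node [] .nil (.node [(46,(.negSucc 0),1)] .nil .nil)) (.node [] (.node [] .nil (.node [] .nil (.node [(222,(.ofNat 1),1)] .nil .nil))) (.node [] (.node [] .nil (.node [(185,(.ofNat 1),1)] .nil .nil)) (.node [] .nil (.node [(243,(.ofNat 1),1)] .nil .nil))))) (.node [] (.node [] (.node [] (.node [] .nil (.node [(153,(.negSucc 0),1)] .nil .nil)) (.node [(81,(.negSucc 0),1)] .nil (.node [(216,(.negSucc 0),1)] .nil .nil))) (.node [(56,(.ofNat 1),1)] .nil (.node [(121,(.ofNat 1),1)] .nil .nil))) .nil)) (.node [(150,(.ofNat 1),1)] (.node [] (.node [] (.node [] .nil (.node [] .nil (.node [(212,(.negSucc 0),1)] .nil .nil))) (.node [] .nil (.node [(112,(.ofNat 1),1)] .nil .nil))) (.node [] (.node [] (.node [] .nil (.node [(163,(.ofNat 1),1)] .nil .nil)) .nil) .nil)) (.node [(15,(.negSucc 0),1)] .nil (.node [] (.node [] .nil (.node [(107,(.negSucc 0),1)] .nil .nil)) .nil)))) (.node [(150,(.ofNat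 1),1)] (.node [] (.node [] .nil (.node [] (.node [] (.node [] .nil (.node [(161,(.ofNat 1),1)] .nil .nil)) (.node [] .nil (.node [(224,(.ofNat 1),1)] .nil .nil))) .nil)) (.node [] (.node [] .nil (.node [(58,(.ofNat 1),1)] .nil (.node [(138,(.ofNat 1),1)] .nil .nil))) .nil)) (.node [] (.node [] (.node [] (.node [] (.node [] .nil (.node [(151,(.negSucc 0),1)] .nil .nil)) (.node [(79,(.negSucc 0),1)] .nil (.node [(214,(.negSucc 0),1)] .nil .nil))) (.node [(54,(.ofNat 1),1)] .nil (.node [(119,(.ofNat 1),1)] .nil .nil))) (.node [(24,(.ofNat 1),1)] (.node [] (.node [] .nil (.node [] .nil .nil)) .nil) .nil)) (.node [(17,(.ofNat 1),1)] (.node [] (.node [] .nil (.node [(84,(.ofNat 1),1)] .nil .nil)) (.node [] (.node [] .nil (.node [(183,(.ofNat 1),1)] .nil .nil)) (.node [] .nil (.node [(241,(.negSucc 0),1)] .nil .nil)))) (.node [(44,(.negSucc 0),1)] (.node [] .nil (.node [(109,(.negSucc 0),1)] .nil .nil)) .nil))))) (.node [(150,(.negSucc 0),1)] (.node [] (.node [] (.node [] (.node [] .nil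 (.node [(47,(.negSucc 0),1)] .nil .nil)) (.node [] (.node [] (.node [] .nil (.node [(160,(.ofNat 1),1)] .nil .nil)) (.node [] .nil (.node [(223,(.ofNat 1),1)] .nil .nil))) .nil)) (.node [] (.node [] (.node [] (.node [] .nil (.node [(154,(.negSucc 0),1)] .nil .nil)) (.node [(82,(.negSucc 0),1)] .nil (.node [(217,(.negSucc 0),1)] .nil .nil))) (.node [(57,(.ofNat 1),1)] .nil (.node [(1,(.ofNat 1),1),(3,(.ofNat 1),1),(150,(.negSucc 0),2)] .nil .nil))) .nil)) (.node [] (.node [] (.node [] (.node [] .nil (.node [] .nil (.node [(213,(.negSucc 0),1)] .nil .nil))) (.node [] .nil (.node [(118,(.ofNat 1),1)] .nil .nil))) (.node [] .nil (.node [] .nil (.node [(149,(.negSucc 0),1)] .nil .nil)))) (.node [] (.node [] .nil (.node [] (.node [] .nil (.node [(182,(.ofNat 1),1)] .nil .nil)) .nil)) (.node [] (.node [] .nil (.node [(108,(.negSucc 0),1)] .nil .nil)) .nil)))) (.node [(150,(.negSucc 0),1)] (.node [] (.node [] .nil (.node [] (.node [] (.node [] .nil (.node [(162,(.ofNat 1),1)] .nil .nil))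 (.node [] .nil (.node [(225,(.ofNat 1),1)] .nil .nil))) .nil)) (.node [] (.node [] .nil (.node [(59,(.ofNat 1),1)] (.node [] .nil (.node [(177,(.negSucc 0),1)] .nil .nil)) .nil)) .nil)) (.node [] (.node [] (.node [] (.node [] (.node [] .nil (.node [(152,(.negSucc 0),1)] .nil .nil)) (.node [(80,(.negSucc 0),1)] .nil (.node [(215,(.negSucc 0),1)] .nil .nil))) (.node [(55,(.ofNat 1),1)] .nil (.node [(120,(.ofNat 1),1)] .nil (.node [(233,(.negSucc 0),1)] .nil .nil)))) .nil) (.node [] (.node [] (.node [] (.node [] .nil (.node [(155,(.negSucc 0),1)] .nil .nil)) .nil) (.node [] (.node [] .nil (.node [(184,(.ofNat 1),1)] .nil .nil)) .nil)) (.node [(45,(.negSucc 0),1)] (.node [] .nil (.node [(110,(.negSucc 0),1)] .nil .nil)) .nil))))))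
noncomputable def ex143 : Trie (List (ℕ × ℤ × ℕ)) := (.node [] (.node [] (.node [] (.node [] (.node [] (.node [] .nil (.node [(49,(.ofNat 1),1)] .nil .nil)) (.node [] (.node [] (.node [] .nil (.node [(160,(.negSucc 0),1)] .nil .nil)) .nil) (.node [] (.node [] .nil (.node [(188,(.ofNat 1),1)] .nil .nil)) (.node [] .nil (.node [(244,(.ofNat 1),1)] .nil .nil))))) (.node [] (.node [] (.node [] .nil (.node [] .nil (.node [(219,(.negSucc 0),1)] .nil .nil))) (.node [] .nil (.node [(1,(.ofNat 1),1),(3,(.ofNat 1),1),(4,(.ofNat 1),1),(151,(.negSucc 0),2)] .nil .nil))) .nil)) (.node [(151,(.negSucc 0),1)] (.node [] (.node [] (.node [] (.node [] .nil (.node [(153,(.negSucc 0),1)] .nil .nil)) (.node [(80,(.negSucc 0),1)] .nil .nil)) (.node [(55,(.ofNat 1),1)] .nil .nil)) (.node [] (.node [] (.node [] .nil (.node [(166,(.ofNat 1),1)] .nil .nil)) .nil) (.node [] .nil (.node [(149,(.negSucc 0),1)] .nil .nil)))) (.node [] (.node [] .nil (.node [] (.node [] .nil (.node [(182,(.negSucc 0),1)] .nil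 .nil)) .nil)) .nil))) (.node [(151,(.ofNat 1),1)] (.node [] (.node [] (.node [] (.node [] .nil (.node [] .nil (.node [(213,(.ofNat 1),1)] .nil .nil))) .nil) (.node [] (.node [] (.node [] .nil (.node [(164,(.ofNat 1),1)] .nil .nil)) .nil) .nil)) (.node [] (.node [] .nil (.node [(61,(.negSucc 0),1)] .nil (.node [(139,(.ofNat 1),1)] .nil .nil))) (.node [] (.node [] .nil (.node [(108,(.negSucc 0),1)] .nil .nil)) .nil))) (.node [] (.node [] (.node [] .nil (.node [] .nil (.node [(123,(.ofNat 1),1)] .nil (.node [(233,(.ofNat 1),1)] .nil .nil)))) (.node [(25,(.negSucc 0),1)] .nil .nil)) (.node [(18,(.negSucc 0),1)] (.node [] (.node [] .nil (.node [] .nil (.node [(223,(.negSucc 0),1)] .nil .nil))) (.node [] (.node [] .nil (.node [(186,(.ofNat 1),1)] .nil .nil)) .nil)) .nil)))) (.node [(151,(.negSucc 0),1)] (.node [] (.node [] (.node [] (.node [] (.node [] .nil (.node [] .nil (.node [(212,(.ofNat 1),1)] .nil .nil))) (.node [(50,(.ofNat 1),1)] .nil .nil)) .nil) (.node [] (.node [] (.node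 [] .nil (.node [(83,(.ofNat 1),1)] .nil (.node [(220,(.negSucc 0),1)] .nil .nil))) (.node [(60,(.negSucc 0),1)] .nil (.node [(134,(.ofNat 1),1)] .nil .nil))) (.node [] (.node [] .nil (.node [(107,(.negSucc 0),1)] .nil .nil)) (.node [] .nil (.node [(150,(.negSucc 0),1)] .nil .nil))))) (.node [(151,(.ofNat 1),1)] (.node [] (.node [] (.node [] (.node [] .nil (.node [(154,(.negSucc 0),1)] .nil .nil)) (.node [(81,(.negSucc 0),1)] .nil .nil)) (.node [(56,(.ofNat 1),1)] .nil (.node [(122,(.ofNat 1),1)] .nil .nil))) .nil) (.node [] (.node [] (.node [] .nil (.node [(84,(.ofNat 1),1)] .nil (.node [(222,(.negSucc 0),1)] .nil .nil))) (.node [] .nil (.node [] .nil (.node [(241,(.ofNat 1),1)] .nil .nil)))) (.node [(44,(.negSucc 0),1)] .nil .nil)))) (.node [] (.node [] (.node [] (.node [] (.node [] (.node [] .nil (.node [(152,(.negSucc 0),1)] .nil .nil)) (.node [(79,(.negSucc 0),1)] .nil (.node [(214,(.ofNat 1),1)] .nil .nil))) (.node [(54,(.ofNat 1),1)] .nil (.node [(112,(.ofNat 1),1)] .nil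 .nil))) (.node [] (.node [] (.node [] .nil (.node [(165,(.ofNat 1),1)] .nil .nil)) (.node [] .nil (.node [(226,(.ofNat 1),1)] .nil .nil))) .nil)) (.node [(15,(.negSucc 0),1)] (.node [] .nil (.node [(62,(.negSucc 0),1)] (.node [] .nil (.node [(178,(.negSucc 0),1)] .nil .nil)) .nil)) (.node [] (.node [] .nil (.node [(109,(.negSucc 0),1)] .nil .nil)) .nil))) (.node [] (.node [] (.node [] (.node [] .nil (.node [] .nil (.node [(218,(.negSucc 0),1)] .nil .nil))) (.node [] .nil (.node [(124,(.ofNat 1),1)] .nil .nil))) (.node [] (.node [] (.node [] .nil (.node [] .nil .nil)) .nil) .nil)) (.node [] (.node [] (.node [] (.node [] .nil (.node [(156,(.negSucc 0),1)] .nil .nil)) (.node [] .nil (.node [(224,(.negSucc 0),1)] .nil .nil))) (.node [] (.node [] .nil (.node [(187,(.ofNat 1),1)] .nil .nil)) .nil)) (.node [(48,(.ofNat 1),1)] (.node [] .nil (.node [(111,(.ofNat 1),1)] .nil .nil)) .nil))))))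
noncomputable def ex144 : Trie (List (ℕ × ℤ × ℕ)) := (.node [] (.node [] (.node [] (.node [] (.node [] (.node [] (.node [] .nil (.node [] .nil (.node [(212,(.negSucc 0),1)] .nil .nil))) (.node [(51,(.negSucc 0),1)] .nil .nil)) (.node [] (.node [] (.node [] .nil (.node [(161,(.negSucc 0),1)] .nil .nil)) .nil) (.node [] (.node [] .nil (.node [(190,(.ofNat 1),1)] .nil .nil)) (.node [] .nil (.node [(245,(.ofNat 1),1)] .nil .nil))))) (.node [] (.node [] (.node [] .nil (.node [(83,(.ofNat 1),1)] .nil .nil)) (.node [(61,(.negSucc 0),1)] .nil (.node [(131,(.ofNat 1),1)] .nil .nil))) (.node [] (.node [] (.node [] .nil (.node [] .nil .nil)) (.node [(108,(.negSucc 0),1)] .nil .nil)) (.node [] .nil (.node [(150,(.negSucc 0),1)] .nil .nil))))) (.node [] (.node [] (.node [] .nil (.node [(57,(.negSucc 0),1)] .nil .nil)) (.node [] (.node [] (.node [] .nil (.node [(168,(.ofNat 1),1)] .nil .nil)) .nil) .nil)) (.node [] (.node [] (.node [] .nil (.node [(84,(.ofNat 1),1)] .nil (.node [(223,(.ofNat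 1),1)] .nil .nil))) (.node [] (.node [] .nil (.node [(183,(.negSucc 0),1)] .nil .nil)) (.node [] .nil (.node [(241,(.negSucc 0),1)] .nil .nil)))) (.node [] .nil (.node [] .nil (.node [(151,(.negSucc 0),1)] .nil .nil)))))) (.node [(152,(.ofNat 1),1)] (.node [] (.node [] (.node [] (.node [] (.node [] .nil (.node [(154,(.negSucc 0),1)] .nil .nil)) (.node [(80,(.negSucc 0),1)] .nil (.node [(215,(.ofNat 1),1)] .nil .nil))) (.node [(54,(.ofNat 1),1)] .nil (.node [(112,(.ofNat 1),1)] .nil .nil))) (.node [] (.node [] .nil (.node [] .nil (.node [(226,(.negSucc 0),1)] .nil .nil))) .nil)) (.node [(15,(.negSucc 0),1)] (.node [] .nil (.node [] .nil (.node [(140,(.ofNat 1),1)] .nil .nil))) .nil)) (.node [(152,(.ofNat 1),1)] (.node [] (.node [] (.node [] .nil (.node [] .nil (.node [(219,(.ofNat 1),1)] .nil .nil))) (.node [] .nil (.node [(126,(.ofNat 1),1)] .nil .nil))) (.node [(26,(.ofNat 1),1)] .nil .nil)) (.node [(19,(.ofNat 1),1)] .nil (.node [(48,(.ofNat 1),1)] (.node [] .nil (.node [(111,(.ofNat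 1),1)] .nil .nil)) .nil))))) (.node [(152,(.negSucc 0),1)] (.node [] (.node [] (.node [] (.node [] (.node [] (.node [] .nil (.node [(153,(.negSucc 0),1)] .nil .nil)) (.node [(79,(.negSucc 0),1)] .nil .nil)) (.node [(52,(.negSucc 0),1)] .nil .nil)) (.node [] (.node [] (.node [] .nil (.node [(164,(.negSucc 0),1)] .nil .nil)) .nil) .nil)) (.node [] (.node [] (.node [] .nil (.node [] .nil (.node [(221,(.negSucc 0),1)] .nil .nil))) (.node [] .nil (.node [(135,(.ofNat 1),1)] .nil .nil))) .nil)) (.node [(152,(.negSucc 0),1)] (.node [] (.node [] (.node [] .nil (.node [(82,(.ofNat 1),1)] .nil (.node [(218,(.ofNat 1),1)] .nil .nil))) (.node [(58,(.negSucc 0),1)] .nil (.node [(125,(.ofNat 1),1)] .nil (.node [(233,(.negSucc 0),1)] .nil .nil)))) .nil) (.node [] (.node [] .nil (.node [] (.node [] .nil (.node [(186,(.negSucc 0),1)] .nil .nil)) .nil)) (.node [(45,(.ofNat 1),1)] .nil .nil)))) (.node [] (.node [] (.node [] (.node [] (.node [] .nil (.node [] .nil (.node [(216,(.ofNat 1),1)] .nil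 .nil))) .nil) (.node [] (.node [] (.node [] .nil (.node [(167,(.ofNat 1),1)] .nil .nil)) .nil) (.node [] .nil (.node [(149,(.negSucc 0),1)] .nil .nil)))) (.node [] (.node [] (.node [] .nil (.node [] .nil (.node [(222,(.ofNat 1),1)] .nil .nil))) (.node [(63,(.ofNat 1),1)] (.node [] .nil (.node [(179,(.negSucc 0),1)] .nil .nil)) .nil)) (.node [] (.node [] .nil (.node [(110,(.ofNat 1),1)] .nil .nil)) .nil))) (.node [] (.node [] (.node [] .nil (.node [(60,(.negSucc 0),1)] .nil (.node [(1,(.ofNat 1),1),(3,(.ofNat 1),1),(4,(.ofNat 1),1),(5,(.ofNat 1),1),(152,(.negSucc 0),2)] .nil .nil))) (.node [] (.node [] .nil (.node [(107,(.negSucc 0),1)] .nil .nil)) .nil)) (.node [] (.node [] (.node [] (.node [] .nil (.node [(157,(.negSucc 0),1)] .nil .nil)) (.node [] .nil (.node [(225,(.negSucc 0),1)] .nil .nil))) (.node [] (.node [] .nil (.node [(189,(.ofNat 1),1)] .nil .nil)) .nil)) .nil)))))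
noncomputable def ex145 : Trie (List (ℕ × ℤ × ℕ)) := (.node [] (.node [] (.node [] (.node [] (.node [] (.node [] (.node [] (.node [] .nil (.node [(154,(.negSucc 0),1)] .nil .nil)) (.node [(79,(.negSucc 0),1)] .nil (.node [(213,(.negSucc 0),1)] .nil .nil))) .nil) (.node [] (.node [] (.node [] .nil (.node [(162,(.negSucc 0),1)] .nil .nil)) .nil) (.node [] (.node [] .nil (.node [(191,(.ofNat 1),1)] .nil .nil)) (.node [] .nil (.node [(246,(.ofNat 1),1)] .nil .nil))))) (.node [] (.node [] (.node [] .nil (.node [] .nil (.node [(221,(.ofNat 1),1)] .nil .nil))) (.node [(62,(.ofNat 1),1)] .nil (.node [(132,(.ofNat 1),1)] .nil .nil))) (.node [] (.node [] .nil (.node [(109,(.ofNat 1),1)] .nil .nil)) .nil))) (.node [] (.node [] (.node [] (.node [] .nil (.node [(82,(.ofNat 1),1)] .nil (.node [(218,(.negSucc 0),1)] .nil .nil))) (.node [] .nil (.node [] .nil (.node [(233,(.ofNat 1),1)] .nil .nil)))) (.node [] (.node [] (.node [] .nil (.node [(169,(.ofNat 1),1)] .nil .nil)) .nil) .nil)) (.node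 [] (.node [] (.node [] .nil (.node [] .nil (.node [(224,(.ofNat 1),1)] .nil .nil))) (.node [] (.node [] .nil (.node [(184,(.negSucc 0),1)] .nil .nil)) .nil)) .nil))) (.node [(153,(.ofNat 1),1)] (.node [] (.node [] (.node [] (.node [] .nil (.node [(81,(.ofNat 1),1)] .nil .nil)) (.node [(55,(.negSucc 0),1)] .nil .nil)) (.node [] (.node [] (.node [] .nil (.node [(167,(.negSucc 0),1)] .nil .nil)) .nil) (.node [] .nil (.node [(149,(.negSucc 0),1)] .nil .nil)))) (.node [] (.node [] (.node [] .nil (.node [] .nil (.node [(222,(.negSucc 0),1)] .nil .nil))) (.node [(63,(.ofNat 1),1)] .nil (.node [(141,(.ofNat 1),1)] .nil .nil))) (.node [] (.node [] .nil (.node [(110,(.ofNat 1),1)] .nil .nil)) .nil))) (.node [(153,(.negSucc 0),1)] (.node [] (.node [] (.node [] .nil (.node [] .nil (.node [(220,(.ofNat 1),1)] .nil .nil))) (.node [(60,(.negSucc 0),1)] .nil (.node [(1,(.ofNat 1),1),(3,(.ofNat 1),1),(4,(.ofNat 1),1),(5,(.ofNat 1),1),(6,(.ofNat 1),1),(153,(.negSucc 0),2)] .nil .nil))) (.node [(27,(.negSucc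 0),1)] (.node [] .nil (.node [(107,(.negSucc 0),1)] .nil .nil)) .nil)) (.node [(20,(.negSucc 0),1)] (.node [] (.node [] .nil (.node [] .nil (.node [(225,(.ofNat 1),1)] .nil .nil))) (.node [] (.node [] .nil (.node [(189,(.negSucc 0),1)] .nil .nil)) .nil)) (.node [(49,(.negSucc 0),1)] .nil (.node [] .nil (.node [(152,(.negSucc 0),1)] .nil .nil))))))) (.node [(153,(.negSucc 0),1)] (.node [] (.node [] (.node [] (.node [] (.node [] .nil (.node [] .nil (.node [(215,(.negSucc 0),1)] .nil .nil))) (.node [(53,(.ofNat 1),1)] .nil (.node [(112,(.ofNat 1),1)] .nil .nil))) (.node [] (.node [] (.node [] .nil (.node [(165,(.negSucc 0),1)] .nil .nil)) (.node [] .nil (.node [(226,(.ofNat 1),1)] .nil .nil))) .nil)) (.node [(15,(.negSucc 0),1)] (.node [] .nil (.node [] .nil (.node [(136,(.ofNat 1),1)] .nil .nil))) (.node [] (.node [] (.node [] .nil (.node [] .nil .nil)) .nil) .nil))) (.node [] (.node [] (.node [] .nil (.node [(59,(.ofNat 1),1)] .nil (.node [(127,(.ofNat 1),1)] .nil .nil))) .nil)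 (.node [] (.node [] .nil (.node [] (.node [] .nil (.node [(187,(.negSucc 0),1)] .nil .nil)) .nil)) (.node [(46,(.negSucc 0),1)] (.node [] .nil (.node [(111,(.ofNat 1),1)] .nil .nil)) .nil)))) (.node [] (.node [] (.node [] (.node [] (.node [] .nil (.node [] .nil (.node [(217,(.ofNat 1),1)] .nil .nil))) (.node [(57,(.negSucc 0),1)] .nil .nil)) .nil) (.node [] (.node [] (.node [] .nil (.node [(84,(.ofNat 1),1)] .nil .nil)) (.node [] (.node [] .nil (.node [(180,(.negSucc 0),1)] .nil .nil)) (.node [] .nil (.node [(241,(.ofNat 1),1)] .nil .nil)))) (.node [] .nil (.node [] .nil (.node [(151,(.negSucc 0),1)] .nil .nil))))) (.node [(153,(.ofNat 1),1)] (.node [] (.node [] (.node [] .nil (.node [(83,(.ofNat 1),1)] .nil .nil)) (.node [] .nil (.node [(129,(.ofNat 1),1)] .nil .nil))) (.node [] .nil (.node [] .nil (.node [(150,(.negSucc 0),1)] .nil .nil)))) (.node [] (.node [] (.node [] (.node [] .nil (.node [(158,(.negSucc 0),1)] .nil .nil)) .nil) .nil) (.node [(51,(.negSucc 0),1)] .nil .nil))))))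
noncomputable def ex146 : Trie (List (ℕ × ℤ × ℕ)) := (.node [] (.node [] (.node [] (.node [] (.node [] (.node [] (.node [] .nil (.node [(80,(.ofNat 1),1)] .nil (.node [(214,(.negSucc 0),1)] .nil .nil))) (.node [(53,(.ofNat 1),1)] .nil (.node [(112,(.ofNat 1),1)] .nil .nil))) (.node [] (.node [] (.node [] .nil (.node [(163,(.negSucc 0),1)] .nil .nil)) (.node [] .nil (.node [(226,(.negSucc 0),1)] .nil .nil))) (.node [] .nil (.node [] .nil (.node [(247,(.ofNat 1),1)] .nil .nil))))) (.node [(15,(.negSucc 0),1)] (.node [] .nil (.node [] .nil (.node [(133,(.ofNat 1),1)] .nil .nil))) .nil)) (.node [] (.node [] (.node [] (.node [] .nil (.node [] .nil (.node [(219,(.negSucc 0),1)] .nil .nil))) (.node [(59,(.ofNat 1),1)] .nil .nil)) .nil) (.node [] (.node [] .nil (.node [] (.node [] .nil (.node [(185,(.negSucc 0),1)] .nil .nil)) .nil)) (.node [] (.node [] .nil (.node [(111,(.ofNat 1),1)] .nil .nil)) .nil)))) (.node [(154,(.ofNat 1),1)] (.node [] (.node [] (.node [] (.node [] .nil (.node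 [] .nil (.node [(217,(.negSucc 0),1)] .nil .nil))) (.node [(56,(.ofNat 1),1)] .nil .nil)) (.node [] (.node [] (.node [] .nil (.node [(168,(.negSucc 0),1)] .nil .nil)) .nil) .nil)) (.node [] (.node [] (.node [] .nil (.node [(84,(.ofNat 1),1)] .nil (.node [(223,(.negSucc 0),1)] .nil .nil))) (.node [] .nil (.node [(142,(.ofNat 1),1)] .nil (.node [(241,(.negSucc 0),1)] .nil .nil)))) (.node [] (.node [] (.node [] .nil (.node [] .nil .nil)) .nil) (.node [] .nil (.node [(151,(.negSucc 0),1)] .nil .nil))))) (.node [] (.node [] (.node [] (.node [] .nil (.node [(83,(.ofNat 1),1)] .nil .nil)) (.node [(61,(.ofNat 1),1)] .nil (.node [(128,(.ofNat 1),1)] .nil .nil))) (.node [(28,(.ofNat 1),1)] (.node [] .nil (.node [(108,(.ofNat 1),1)] .nil .nil)) (.node [] .nil (.node [(150,(.negSucc 0),1)] .nil .nil)))) (.node [(21,(.ofNat 1),1)] (.node [] .nil (.node [] (.node [] .nil (.node [(190,(.negSucc 0),1)] .nil .nil)) .nil)) (.node [(50,(.ofNat 1),1)] .nil .nil))))) (.node [(154,(.negSucc 0),1)]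 (.node [] (.node [] (.node [] (.node [] (.node [] .nil (.node [(81,(.ofNat 1),1)] .nil (.node [(216,(.negSucc 0),1)] .nil .nil))) .nil) (.node [] (.node [] (.node [] .nil (.node [(166,(.negSucc 0),1)] .nil .nil)) .nil) (.node [] .nil (.node [(149,(.negSucc 0),1)] .nil .nil)))) (.node [] (.node [] .nil (.node [(63,(.ofNat 1),1)] .nil (.node [(137,(.ofNat 1),1)] .nil .nil))) (.node [] (.node [] .nil (.node [(110,(.ofNat 1),1)] .nil .nil)) .nil))) (.node [] (.node [] (.node [] (.node [] .nil (.node [] .nil (.node [(220,(.negSucc 0),1)] .nil .nil))) (.node [] .nil (.node [(1,(.ofNat 1),1),(3,(.ofNat 1),1),(4,(.ofNat 1),1),(5,(.ofNat 1),1),(6,(.ofNat 1),1),(7,(.ofNat 1),1),(154,(.negSucc 0),2)] .nil .nil))) .nil) (.node [] (.node [] (.node [] .nil (.node [] .nil (.node [(225,(.negSucc 0),1)] .nil .nil))) (.node [] (.node [] .nil (.node [(188,(.negSucc 0),1)] .nil .nil)) .nil)) (.node [(47,(.ofNat 1),1)] .nil (.node [] .nil (.node [(152,(.negSucc 0),1)] .nil .nil)))))) (.node [] (.node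 [] (.node [] (.node [] (.node [] .nil (.node [(82,(.ofNat 1),1)] .nil .nil)) (.node [(58,(.ofNat 1),1)] .nil (.node [] .nil (.node [(233,(.negSucc 0),1)] .nil .nil)))) (.node [] (.node [] (.node [] .nil (.node [(169,(.negSucc 0),1)] .nil .nil)) .nil) .nil)) (.node [] (.node [] (.node [] .nil (.node [] .nil (.node [(224,(.negSucc 0),1)] .nil .nil))) (.node [] (.node [] .nil (.node [(181,(.negSucc 0),1)] .nil .nil)) .nil)) .nil)) (.node [(154,(.negSucc 0),1)] (.node [] (.node [] (.node [] .nil (.node [] .nil (.node [(221,(.negSucc 0),1)] .nil .nil))) (.node [(62,(.ofNat 1),1)] .nil (.node [(130,(.ofNat 1),1)] .nil .nil))) (.node [] (.node [] .nil (.node [(109,(.ofNat 1),1)] .nil .nil)) .nil)) (.node [] (.node [] (.node [] (.node [] .nil (.node [(159,(.negSucc 0),1)] .nil .nil)) .nil) (.node [] (.node [] .nil (.node [(191,(.negSucc 0),1)] .nil .nil)) .nil)) (.node [(52,(.ofNat 1),1)] .nil (.node [] .nil (.node [(153,(.negSucc 0),1)] .nil .nil))))))))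
noncomputable def ex147 : Trie (List (ℕ × ℤ × ℕ)) := (.node [(155,(.ofNat 1),1)] (.node [] (.node [] (.node [] (.node [] (.node [] .nil (.node [] .nil (.node [(118,(.ofNat 1),1)] .nil .nil))) (.node [] (.node [] .nil (.node [] .nil (.node [(227,(.ofNat 1),1)] .nil .nil))) (.node [] (.node [] .nil (.node [(195,(.ofNat 1),1)] .nil .nil)) (.node [(150,(.negSucc 0),1)] .nil .nil)))) (.node [] (.node [] (.node [] (.node [] .nil (.node [(158,(.negSucc 0),1)] .nil .nil)) .nil) (.node [(66,(.negSucc 0),1)] .nil .nil)) .nil)) (.node [(155,(.ofNat 1),1)] (.node [] (.node [] .nil (.node [] .nil (.node [(1,(.ofNat 1),1),(2,(.ofNat 1),1),(3,(.ofNat 1),1),(155,(.negSucc 0),2)] .nil .nil))) .nil) (.node [(16,(.ofNat 1),1)] (.node [] (.node [] (.node [] .nil (.node [(161,(.ofNat 1),1)] .nil .nil)) .nil) .nil) (.node [(47,(.negSucc 0),1)] (.node [] .nil (.node [(113,(.negSucc 0),1)] .nil .nil)) (.node [(79,(.negSucc 0),1)] (.node [] .nil (.node [(214,(.ofNat 1),1)] .nil .nil)) .nil))))) (.node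 [(155,(.negSucc 0),1)] (.node [] (.node [] (.node [] .nil (.node [] .nil (.node [(120,(.ofNat 1),1)] .nil (.node [(233,(.ofNat 1),1)] .nil .nil)))) (.node [] (.node [] .nil (.node [] .nil (.node [(229,(.ofNat 1),1)] .nil .nil))) .nil)) (.node [] (.node [] .nil (.node [(68,(.negSucc 0),1)] (.node [] .nil (.node [(177,(.ofNat 1),1)] .nil .nil)) (.node [(144,(.negSucc 0),1)] .nil .nil))) (.node [(45,(.negSucc 0),1)] .nil (.node [] (.node [] .nil (.node [(212,(.ofNat 1),1)] .nil .nil)) .nil)))) (.node [] (.node [] (.node [] (.node [] (.node [] .nil (.node [(156,(.negSucc 0),1)] .nil .nil)) .nil) (.node [(64,(.negSucc 0),1)] .nil .nil)) (.node [(29,(.negSucc 0),1)] .nil .nil)) (.node [] (.node [] (.node [] (.node [] .nil (.node [(163,(.ofNat 1),1)] .nil .nil)) (.node [(85,(.negSucc 0),1)] .nil .nil)) (.node [] (.node [] .nil (.node [(193,(.ofNat 1),1)] .nil .nil)) (.node [] .nil (.node [(242,(.negSucc 0),1)] .nil .nil)))) (.node [] (.node [] .nil (.node [(115,(.negSucc 0),1)] .nil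 .nil)) (.node [(81,(.negSucc 0),1)] (.node [] .nil (.node [(216,(.ofNat 1),1)] .nil .nil)) .nil)))))) (.node [(155,(.negSucc 0),1)] (.node [] (.node [] (.node [] (.node [] .nil (.node [] .nil (.node [(119,(.ofNat 1),1)] .nil .nil))) (.node [] (.node [] .nil (.node [] .nil (.node [(228,(.ofNat 1),1)] .nil .nil))) .nil)) (.node [] (.node [] (.node [] (.node [] .nil (.node [(159,(.negSucc 0),1)] .nil .nil)) .nil) (.node [(67,(.negSucc 0),1)] .nil (.node [(143,(.ofNat 1),1)] .nil .nil))) (.node [(44,(.negSucc 0),1)] .nil .nil))) (.node [] .nil (.node [(17,(.ofNat 1),1)] (.node [] (.node [] (.node [] .nil (.node [(162,(.ofNat 1),1)] .nil .nil)) .nil) (.node [] (.node [] .nil (.node [(192,(.ofNat 1),1)] .nil .nil)) .nil)) (.node [] (.node [] .nil (.node [(114,(.negSucc 0),1)] .nil .nil)) (.node [(80,(.negSucc 0),1)] (.node [] .nil (.node [(215,(.ofNat 1),1)] .nil .nil)) .nil))))) (.node [] (.node [] (.node [] (.node [] .nil (.node [] .nil (.node [(121,(.ofNat 1),1)] .nil .nil))) (.node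 [] (.node [] .nil (.node [] .nil (.node [(230,(.ofNat 1),1)] .nil .nil))) .nil)) (.node [] (.node [] (.node [] (.node [] .nil (.node [(160,(.ofNat 1),1)] .nil .nil)) .nil) (.node [(69,(.negSucc 0),1)] .nil .nil)) (.node [(46,(.negSucc 0),1)] (.node [] (.node [] .nil (.node [] .nil .nil)) .nil) (.node [] (.node [] .nil (.node [(213,(.ofNat 1),1)] .nil .nil)) .nil)))) (.node [] (.node [] (.node [] (.node [] (.node [] .nil (.node [(157,(.negSucc 0),1)] .nil .nil)) .nil) (.node [(65,(.negSucc 0),1)] .nil .nil)) .nil) (.node [] (.node [] .nil (.node [] (.node [] .nil (.node [(194,(.ofNat 1),1)] .nil .nil)) (.node [(149,(.ofNat 1),1)] .nil (.node [(243,(.negSucc 0),1)] .nil .nil)))) (.node [] (.node [] .nil (.node [(116,(.negSucc 0),1)] .nil .nil)) (.node [(82,(.negSucc 0),1)] (.node [] .nil (.node [(217,(.ofNat 1),1)] .nil .nil)) .nil)))))))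
noncomputable def ex148 : Trie (List (ℕ × ℤ × ℕ)) := (.node [(156,(.ofNat 1),1)] (.node [] (.node [] (.node [] (.node [] (.node [] .nil (.node [] .nil (.node [(122,(.ofNat 1),1)] .nil .nil))) (.node [] .nil (.node [] (.node [] .nil (.node [(198,(.ofNat 1),1)] .nil .nil)) (.node [(151,(.negSucc 0),1)] .nil .nil)))) (.node [] (.node [] .nil (.node [] .nil (.node [(143,(.ofNat 1),1)] .nil .nil))) (.node [(44,(.negSucc 0),1)] .nil (.node [] (.node [] .nil (.node [(213,(.negSucc 0),1)] .nil .nil)) .nil)))) (.node [(156,(.negSucc 0),1)] (.node [] (.node [] (.node [] (.node [] .nil (.node [(158,(.negSucc 0),1)] .nil .nil)) .nil) (.node [(65,(.negSucc 0),1)] .nil (.node [(134,(.ofNat 1),1)] .nil .nil))) .nil) (.node [] (.node [] (.node [] (.node [] .nil (.node [(164,(.ofNat 1),1)] .nil .nil)) .nil) (.node [] (.node [] .nil (.node [(192,(.negSucc 0),1)] .nil .nil)) .nil)) (.node [(50,(.ofNat 1),1)] (.node [] (.node [] .nil (.node [] .nil .nil)) .nil) .nil)))) (.node [(156,(.negSucc 0),1)]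 (.node [] (.node [] (.node [] .nil (.node [] .nil (.node [(124,(.ofNat 1),1)] .nil .nil))) .nil) (.node [] (.node [] (.node [] (.node [] .nil (.node [(160,(.negSucc 0),1)] .nil .nil)) .nil) (.node [(71,(.ofNat 1),1)] (.node [] .nil (.node [(178,(.ofNat 1),1)] .nil .nil)) (.node [(145,(.negSucc 0),1)] .nil .nil))) (.node [(48,(.ofNat 1),1)] (.node [] .nil (.node [(114,(.negSucc 0),1)] .nil .nil)) (.node [(80,(.negSucc 0),1)] .nil .nil)))) (.node [] (.node [] .nil (.node [(30,(.ofNat 1),1)] .nil .nil)) (.node [] (.node [] (.node [] (.node [] .nil (.node [(166,(.ofNat 1),1)] .nil .nil)) (.node [] .nil (.node [(228,(.negSucc 0),1)] .nil .nil))) (.node [] (.node [] .nil (.node [(196,(.ofNat 1),1)] .nil .nil)) (.node [(149,(.ofNat 1),1)] .nil .nil))) (.node [] .nil (.node [] (.node [] .nil (.node [(219,(.ofNat 1),1)] .nil .nil)) .nil)))))) (.node [(156,(.negSucc 0),1)] (.node [] (.node [] (.node [] (.node [] .nil (.node [] .nil (.node [(123,(.ofNat 1),1)] .nil (.node [(233,(.negSucc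 0),1)] .nil .nil)))) .nil) (.node [] (.node [] .nil (.node [(70,(.ofNat 1),1)] .nil .nil)) (.node [] (.node [] .nil (.node [(113,(.negSucc 0),1)] .nil .nil)) (.node [(79,(.negSucc 0),1)] (.node [] .nil (.node [(214,(.negSucc 0),1)] .nil .nil)) (.node [(155,(.negSucc 0),1)] .nil .nil))))) (.node [(156,(.ofNat 1),1)] (.node [] (.node [] (.node [] (.node [] .nil (.node [(159,(.negSucc 0),1)] .nil .nil)) .nil) (.node [(66,(.negSucc 0),1)] .nil .nil)) .nil) (.node [(18,(.negSucc 0),1)] (.node [] (.node [] (.node [] .nil (.node [(165,(.ofNat 1),1)] .nil .nil)) (.node [(85,(.negSucc 0),1)] .nil (.node [(227,(.negSucc 0),1)] .nil .nil))) (.node [] .nil (.node [] .nil (.node [(242,(.ofNat 1),1)] .nil .nil)))) (.node [] .nil (.node [] (.node [] .nil (.node [(218,(.ofNat 1),1)] .nil .nil)) .nil))))) (.node [(156,(.ofNat 1),1)] (.node [] (.node [] (.node [] (.node [] (.node [] .nil (.node [(157,(.negSucc 0),1)] .nil .nil)) .nil) (.node [(64,(.negSucc 0),1)] .nil (.node [(1,(.ofNat 1),1),(2,(.ofNat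 1),1),(3,(.ofNat 1),1),(4,(.ofNat 1),1),(156,(.negSucc 0),2)] .nil .nil))) (.node [] (.node [] .nil (.node [] .nil (.node [(231,(.ofNat 1),1)] .nil .nil))) .nil)) (.node [(16,(.ofNat 1),1)] (.node [] .nil (.node [(72,(.ofNat 1),1)] .nil .nil)) (.node [(49,(.ofNat 1),1)] (.node [] .nil (.node [(115,(.negSucc 0),1)] .nil .nil)) (.node [(81,(.negSucc 0),1)] .nil .nil)))) (.node [] (.node [] .nil (.node [] .nil (.node [] (.node [] .nil (.node [(212,(.negSucc 0),1)] .nil .nil)) .nil))) (.node [] (.node [] (.node [] .nil (.node [] .nil (.node [(229,(.negSucc 0),1)] .nil .nil))) (.node [] (.node [] .nil (.node [(197,(.ofNat 1),1)] .nil .nil)) (.node [] .nil (.node [(244,(.negSucc 0),1)] .nil .nil)))) (.node [] (.node [] .nil (.node [(117,(.ofNat 1),1)] .nil .nil)) (.node [(83,(.ofNat 1),1)] (.node [] .nil (.node [(220,(.ofNat 1),1)] .nil .nil)) .nil)))))))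
noncomputable def ex149 : Trie (List (ℕ × ℤ × ℕ)) := (.node [(157,(.ofNat 1),1)] (.node [] (.node [] (.node [] (.node [] (.node [] .nil (.node [] .nil (.node [(125,(.ofNat 1),1)] .nil (.node [(233,(.ofNat 1),1)] .nil .nil)))) (.node [] .nil (.node [] (.node [] .nil (.node [(200,(.ofNat 1),1)] .nil .nil)) (.node [(152,(.negSucc 0),1)] .nil .nil)))) (.node [] (.node [] .nil (.node [(71,(.ofNat 1),1)] .nil .nil)) (.node [(45,(.ofNat 1),1)] (.node [] .nil (.node [(114,(.negSucc 0),1)] .nil .nil)) (.node [(80,(.negSucc 0),1)] (.node [] .nil (.node [(215,(.negSucc 0),1)] .nil .nil)) (.node [(155,(.negSucc 0),1)] .nil .nil))))) (.node [] (.node [] (.node [] .nil (.node [(67,(.ofNat 1),1)] .nil (.node [(135,(.ofNat 1),1)] .nil .nil))) .nil) (.node [] (.node [] (.node [] .nil (.node [(85,(.negSucc 0),1)] .nil (.node [(228,(.ofNat 1),1)] .nil .nil))) (.node [] (.node [] .nil (.node [(193,(.negSucc 0),1)] .nil .nil)) (.node [] .nil (.node [(242,(.negSucc 0),1)] .nil .nil)))) (.node [(52,(.negSucc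 0),1)] .nil (.node [] (.node [] .nil (.node [(219,(.negSucc 0),1)] .nil .nil)) (.node [(156,(.negSucc 0),1)] .nil .nil)))))) (.node [(157,(.negSucc 0),1)] (.node [] (.node [] (.node [] (.node [] (.node [] .nil (.node [(159,(.negSucc 0),1)] .nil .nil)) .nil) (.node [(64,(.negSucc 0),1)] .nil (.node [(1,(.ofNat 1),1),(2,(.ofNat 1),1),(3,(.ofNat 1),1),(4,(.ofNat 1),1),(5,(.ofNat 1),1),(157,(.negSucc 0),2)] .nil .nil))) (.node [] (.node [] .nil (.node [] .nil (.node [(231,(.negSucc 0),1)] .nil .nil))) .nil)) (.node [(16,(.ofNat 1),1)] (.node [] (.node [] (.node [] .nil (.node [(161,(.negSucc 0),1)] .nil .nil)) .nil) (.node [] (.node [] .nil (.node [(179,(.ofNat 1),1)] .nil .nil)) (.node [(146,(.negSucc 0),1)] .nil .nil))) .nil)) (.node [(157,(.ofNat 1),1)] (.node [] .nil (.node [(31,(.negSucc 0),1)] .nil (.node [] (.node [] .nil (.node [(212,(.ofNat 1),1)] .nil .nil)) .nil))) (.node [] (.node [] (.node [] (.node [] .nil (.node [(168,(.ofNat 1),1)] .nil .nil)) .nil) .nil) (.node []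 (.node [] .nil (.node [(117,(.ofNat 1),1)] .nil .nil)) (.node [(83,(.ofNat 1),1)] .nil .nil)))))) (.node [(157,(.negSucc 0),1)] (.node [] (.node [] (.node [] (.node [] (.node [] (.node [] .nil (.node [(158,(.negSucc 0),1)] .nil .nil)) .nil) (.node [] .nil (.node [(126,(.ofNat 1),1)] .nil .nil))) .nil) (.node [] .nil (.node [(48,(.ofNat 1),1)] .nil (.node [] (.node [] .nil (.node [(216,(.negSucc 0),1)] .nil .nil)) .nil)))) (.node [(157,(.negSucc 0),1)] (.node [] (.node [] .nil (.node [(68,(.ofNat 1),1)] .nil .nil)) .nil) (.node [(19,(.ofNat 1),1)] (.node [] (.node [] (.node [] .nil (.node [(167,(.ofNat 1),1)] .nil .nil)) .nil) (.node [] (.node [] .nil (.node [(196,(.negSucc 0),1)] .nil .nil)) (.node [(149,(.ofNat 1),1)] .nil .nil))) (.node [] (.node [] (.node [] .nil (.node [] .nil .nil)) .nil) .nil)))) (.node [(157,(.ofNat 1),1)] (.node [] (.node [] (.node [] .nil (.node [] .nil (.node [(131,(.ofNat 1),1)] .nil .nil))) .nil) (.node [] (.node [] (.node [] (.node [] .nil (.node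 [(164,(.negSucc 0),1)] .nil .nil)) (.node [] .nil (.node [(227,(.ofNat 1),1)] .nil .nil))) (.node [(73,(.negSucc 0),1)] .nil .nil)) (.node [(51,(.negSucc 0),1)] (.node [] .nil (.node [(116,(.ofNat 1),1)] .nil .nil)) (.node [(82,(.ofNat 1),1)] (.node [] .nil (.node [(218,(.negSucc 0),1)] .nil .nil)) .nil)))) (.node [] (.node [] (.node [] .nil (.node [(70,(.ofNat 1),1)] .nil (.node [(143,(.ofNat 1),1)] .nil .nil))) (.node [] (.node [] .nil (.node [(113,(.negSucc 0),1)] .nil .nil)) (.node [(79,(.negSucc 0),1)] .nil .nil))) (.node [] (.node [] (.node [] .nil (.node [] .nil (.node [(230,(.negSucc 0),1)] .nil .nil))) (.node [] (.node [] .nil (.node [(199,(.ofNat 1),1)] .nil .nil)) (.node [] .nil (.node [(245,(.negSucc 0),1)] .nil .nil)))) (.node [] .nil (.node [] (.node [] .nil (.node [(221,(.ofNat 1),1)] .nil .nil)) .nil)))))))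
noncomputable def ex150 : Trie (List (ℕ × ℤ × ℕ)) := (.node [(158,(.ofNat 1),1)] (.node [] (.node [] (.node [] (.node [] (.node [] (.node [] (.node [] .nil (.node [(159,(.negSucc 0),1)] .nil .nil)) .nil) (.node [] .nil (.node [(127,(.ofNat 1),1)] .nil .nil))) (.node [] .nil (.node [] (.node [] .nil (.node [(201,(.ofNat 1),1)] .nil .nil)) (.node [(153,(.negSucc 0),1)] .nil .nil)))) (.node [] (.node [] .nil (.node [(72,(.negSucc 0),1)] .nil .nil)) (.node [(46,(.negSucc 0),1)] (.node [] .nil (.node [(115,(.ofNat 1),1)] .nil .nil)) (.node [(81,(.ofNat 1),1)] .nil .nil)))) (.node [] (.node [] (.node [] .nil (.node [] .nil (.node [(136,(.ofNat 1),1)] .nil .nil))) .nil) (.node [] (.node [] (.node [] (.node [] .nil (.node [(167,(.negSucc 0),1)] .nil .nil)) (.node [] .nil (.node [(229,(.ofNat 1),1)] .nil .nil))) (.node [] (.node [] .nil (.node [(194,(.negSucc 0),1)] .nil .nil)) (.node [(149,(.ofNat 1),1)] .nil .nil))) (.node [(53,(.ofNat 1),1)] .nil (.node [] (.node [] .nil (.node [(220,(.negSucc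 0),1)] .nil .nil)) .nil))))) (.node [(158,(.negSucc 0),1)] (.node [] (.node [] (.node [] .nil (.node [(65,(.ofNat 1),1)] .nil (.node [(129,(.ofNat 1),1)] .nil .nil))) .nil) (.node [] (.node [] (.node [] (.node [] .nil (.node [(162,(.negSucc 0),1)] .nil .nil)) (.node [] .nil (.node [(227,(.negSucc 0),1)] .nil .nil))) (.node [(73,(.negSucc 0),1)] (.node [] .nil (.node [(180,(.ofNat 1),1)] .nil .nil)) (.node [(147,(.negSucc 0),1)] .nil .nil))) (.node [(51,(.negSucc 0),1)] (.node [] .nil (.node [(116,(.ofNat 1),1)] .nil .nil)) (.node [(82,(.ofNat 1),1)] (.node [] .nil (.node [(218,(.ofNat 1),1)] .nil .nil)) .nil)))) (.node [(158,(.negSucc 0),1)] (.node [] (.node [] .nil (.node [(70,(.ofNat 1),1)] .nil (.node [(143,(.ofNat 1),1)] .nil .nil))) (.node [(32,(.ofNat 1),1)] (.node [] .nil (.node [(113,(.negSucc 0),1)] .nil .nil)) (.node [(79,(.negSucc 0),1)] (.node [] .nil (.node [(213,(.ofNat 1),1)] .nil .nil)) .nil))) (.node [] (.node [] (.node [] (.node [] .nil (.node [(169,(.ofNat 1),1)]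 .nil .nil)) (.node [] .nil (.node [(230,(.ofNat 1),1)] .nil .nil))) (.node [] (.node [] .nil (.node [(199,(.negSucc 0),1)] .nil .nil)) .nil)) (.node [] (.node [] (.node [] .nil (.node [] .nil .nil)) .nil) (.node [] (.node [] .nil (.node [(221,(.negSucc 0),1)] .nil .nil)) (.node [(157,(.negSucc 0),1)] .nil .nil))))))) (.node [(158,(.negSucc 0),1)] (.node [] (.node [] (.node [] (.node [] .nil (.node [] .nil (.node [(1,(.ofNat 1),1),(2,(.ofNat 1),1),(3,(.ofNat 1),1),(4,(.ofNat 1),1),(5,(.ofNat 1),1),(6,(.ofNat 1),1),(158,(.negSucc 0),2)] .nil .nil))) (.node [] (.node [] .nil (.node [] .nil (.node [(231,(.ofNat 1),1)] .nil .nil))) .nil)) (.node [(16,(.ofNat 1),1)] .nil (.node [(49,(.negSucc 0),1)] .nil (.node [] (.node [] .nil (.node [(217,(.negSucc 0),1)] .nil .nil)) .nil)))) (.node [] (.node [] (.node [] .nil (.node [(69,(.negSucc 0),1)] .nil .nil)) .nil) (.node [(20,(.negSucc 0),1)] (.node [] .nil (.node [] (.node [] .nil (.node [(197,(.negSucc 0),1)] .nil .nil)) .nil)) (.node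 [] (.node [] .nil (.node [(117,(.ofNat 1),1)] .nil .nil)) (.node [(83,(.ofNat 1),1)] .nil .nil))))) (.node [(158,(.ofNat 1),1)] (.node [] (.node [] (.node [] .nil (.node [(67,(.ofNat 1),1)] .nil (.node [(132,(.ofNat 1),1)] .nil .nil))) .nil) (.node [] (.node [] (.node [] (.node [] .nil (.node [(165,(.negSucc 0),1)] .nil .nil)) (.node [(85,(.negSucc 0),1)] .nil .nil)) (.node [] .nil (.node [] .nil (.node [(242,(.ofNat 1),1)] .nil .nil)))) (.node [] .nil (.node [] .nil (.node [(156,(.negSucc 0),1)] .nil .nil))))) (.node [(158,(.ofNat 1),1)] (.node [] .nil (.node [] .nil (.node [] (.node [] .nil (.node [(215,(.ofNat 1),1)] .nil .nil)) (.node [(155,(.negSucc 0),1)] .nil .nil)))) (.node [] (.node [] .nil (.node [] .nil (.node [] .nil (.node [(246,(.negSucc 0),1)] .nil .nil)))) (.node [] (.node [] .nil (.node [] .nil (.node [(233,(.negSucc 0),1)] .nil .nil))) .nil))))))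
noncomputable def ex151 : Trie (List (ℕ × ℤ × ℕ)) := (.node [(159,(.ofNat 1),1)] (.node [] (.node [] (.node [] (.node [] (.node [] .nil (.node [] .nil (.node [(1,(.ofNat 1),1),(2,(.ofNat 1),1),(3,(.ofNat 1),1),(4,(.ofNat 1),1),(5,(.ofNat 1),1),(6,(.ofNat 1),1),(7,(.ofNat 1),1),(159,(.negSucc 0),2)] .nil .nil))) (.node [] (.node [] .nil (.node [] .nil (.node [(231,(.negSucc 0),1)] .nil .nil))) (.node [] .nil (.node [(154,(.negSucc 0),1)] .nil .nil)))) (.node [(16,(.ofNat 1),1)] .nil (.node [(47,(.ofNat 1),1)] .nil (.node [] (.node [] .nil (.node [(217,(.ofNat 1),1)] .nil .nil)) .nil)))) (.node [] (.node [] (.node [] .nil (.node [(69,(.negSucc 0),1)] .nil (.node [(137,(.ofNat 1),1)] .nil .nil))) .nil) (.node [] (.node [] (.node [] (.node [] .nil (.node [(168,(.negSucc 0),1)] .nil .nil)) .nil) (.node [] (.node [] .nil (.node [(195,(.negSucc 0),1)] .nil .nil)) .nil)) (.node [] (.node [] .nil (.node [(117,(.ofNat 1),1)] .nil .nil)) (.node [(83,(.ofNat 1),1)] .nil .nil))))) (.node [(159,(.negSucc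 0),1)] (.node [] (.node [] (.node [] .nil (.node [(66,(.negSucc 0),1)] .nil (.node [(130,(.ofNat 1),1)] .nil .nil))) .nil) (.node [] (.node [] (.node [] (.node [] .nil (.node [(163,(.negSucc 0),1)] .nil .nil)) (.node [(85,(.negSucc 0),1)] .nil (.node [(228,(.negSucc 0),1)] .nil .nil))) (.node [] (.node [] .nil (.node [(181,(.ofNat 1),1)] .nil .nil)) (.node [(148,(.negSucc 0),1)] .nil (.node [(242,(.negSucc 0),1)] .nil .nil)))) (.node [(52,(.ofNat 1),1)] .nil (.node [] (.node [] .nil (.node [(219,(.ofNat 1),1)] .nil .nil)) (.node [(156,(.negSucc 0),1)] .nil .nil))))) (.node [] (.node [] (.node [] .nil (.node [(71,(.negSucc 0),1)] .nil .nil)) (.node [(33,(.negSucc 0),1)] (.node [] .nil (.node [(114,(.ofNat 1),1)] .nil .nil)) (.node [(80,(.ofNat 1),1)] (.node [] .nil (.node [(214,(.ofNat 1),1)] .nil .nil)) (.node [(155,(.negSucc 0),1)] .nil .nil)))) (.node [] (.node [] .nil (.node [] (.node [] .nil (.node [(200,(.negSucc 0),1)] .nil .nil)) .nil)) (.node [] (.node [] .nil (.node []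 .nil (.node [(233,(.ofNat 1),1)] .nil .nil))) .nil))))) (.node [(159,(.negSucc 0),1)] (.node [] (.node [] (.node [] (.node [] .nil (.node [] .nil (.node [(128,(.ofNat 1),1)] .nil .nil))) .nil) (.node [] (.node [] .nil (.node [(73,(.negSucc 0),1)] .nil .nil)) (.node [(50,(.ofNat 1),1)] (.node [] .nil (.node [(116,(.ofNat 1),1)] .nil .nil)) (.node [(82,(.ofNat 1),1)] .nil .nil)))) (.node [] (.node [] (.node [] .nil (.node [] .nil (.node [(143,(.ofNat 1),1)] .nil .nil))) .nil) (.node [(21,(.ofNat 1),1)] (.node [] (.node [] (.node [] .nil (.node [(169,(.negSucc 0),1)] .nil .nil)) (.node [] .nil (.node [(230,(.negSucc 0),1)] .nil .nil))) (.node [] (.node [] .nil (.node [(198,(.negSucc 0),1)] .nil .nil)) .nil)) (.node [] .nil (.node [] (.node [] .nil (.node [(221,(.ofNat 1),1)] .nil .nil)) (.node [(157,(.negSucc 0),1)] .nil .nil)))))) (.node [(159,(.ofNat 1),1)] (.node [] (.node [] (.node [] .nil (.node [(68,(.negSucc 0),1)] .nil (.node [(133,(.ofNat 1),1)] .nil .nil))) .nil) (.node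 [] (.node [] (.node [] (.node [] .nil (.node [(166,(.negSucc 0),1)] .nil .nil)) (.node [] .nil (.node [(229,(.negSucc 0),1)] .nil .nil))) (.node [] .nil (.node [(149,(.ofNat 1),1)] .nil .nil))) (.node [(53,(.ofNat 1),1)] .nil (.node [] (.node [] .nil (.node [(220,(.ofNat 1),1)] .nil .nil)) .nil)))) (.node [(159,(.negSucc 0),1)] (.node [] (.node [] .nil (.node [(72,(.negSucc 0),1)] .nil .nil)) (.node [] (.node [] .nil (.node [(115,(.ofNat 1),1)] .nil .nil)) (.node [(81,(.ofNat 1),1)] (.node [] .nil (.node [(216,(.ofNat 1),1)] .nil .nil)) .nil))) (.node [] (.node [] .nil (.node [] (.node [] .nil (.node [(201,(.negSucc 0),1)] .nil .nil)) (.node [] .nil (.node [(247,(.negSucc 0),1)] .nil .nil)))) (.node [] (.node [] (.node [] .nil (.node [] .nil .nil)) .nil) (.node [] .nil (.node [(158,(.negSucc 0),1)] .nil .nil))))))))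
noncomputable def ex152 : Trie (List (ℕ × ℤ × ℕ)) := (.node [(160,(.ofNat 1),1)] (.node [] (.node [] (.node [] (.node [] (.node [] .nil (.node [(65,(.negSucc 0),1)] (.node [] .nil (.node [] .nil .nil)) .nil)) (.node [] .nil (.node [] (.node [] .nil (.node [(204,(.ofNat 1),1)] .nil .nil)) .nil))) (.node [] (.node [] (.node [] (.node [] .nil (.node [(165,(.ofNat 1),1)] .nil .nil)) (.node [] .nil (.node [(228,(.ofNat 1),1)] .nil .nil))) (.node [] .nil (.node [(144,(.ofNat 1),1)] .nil .nil))) .nil)) (.node [] (.node [] (.node [] (.node [] (.node [] .nil (.node [(162,(.negSucc 0),1)] .nil .nil)) .nil) (.node [] .nil (.node [(139,(.negSucc 0),1)] .nil .nil))) (.node [] .nil (.node [(80,(.negSucc 0),1)] (.node [] .nil (.node [(213,(.ofNat 1),1)] .nil .nil)) (.node [(155,(.ofNat 1),1)] .nil .nil)))) (.node [(18,(.negSucc 0),1)] .nil (.node [(56,(.negSucc 0),1)] (.node [] .nil (.node [(122,(.ofNat 1),1)] .nil .nil)) .nil)))) (.node [] (.node [] .nil (.node [] (.node [] .nil (.node [(75,(.negSucc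 0),1)] (.node [] .nil (.node [(182,(.ofNat 1),1)] .nil .nil)) .nil)) (.node [(54,(.negSucc 0),1)] (.node [] .nil (.node [(119,(.negSucc 0),1)] .nil .nil)) .nil))) (.node [] (.node [] .nil (.node [(34,(.negSucc 0),1)] .nil .nil)) (.node [] (.node [] .nil (.node [] (.node [] .nil (.node [(202,(.ofNat 1),1)] .nil .nil)) (.node [(150,(.ofNat 1),1)] .nil (.node [(244,(.ofNat 1),1)] .nil .nil)))) (.node [] (.node [] .nil (.node [(124,(.ofNat 1),1)] .nil .nil)) (.node [] (.node [] .nil (.node [(223,(.ofNat 1),1)] .nil .nil)) .nil)))))) (.node [] (.node [] (.node [] (.node [] (.node [] .nil (.node [(66,(.negSucc 0),1)] .nil .nil)) .nil) (.node [] (.node [] (.node [] (.node [] .nil (.node [(166,(.ofNat 1),1)] .nil .nil)) (.node [(85,(.negSucc 0),1)] .nil (.node [(229,(.ofNat 1),1)] .nil .nil))) (.node [(74,(.negSucc 0),1)] .nil (.node [(145,(.negSucc 0),1)] .nil .nil))) (.node [] (.node [] .nil (.node [(118,(.negSucc 0),1)] .nil .nil)) .nil))) (.node [(160,(.ofNat 1),1)] (.node [] (.node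 [] (.node [] (.node [] .nil (.node [(163,(.negSucc 0),1)] .nil .nil)) .nil) .nil) (.node [] .nil (.node [(81,(.negSucc 0),1)] (.node [] .nil (.node [(214,(.ofNat 1),1)] .nil .nil)) (.node [(156,(.negSucc 0),1)] .nil .nil)))) (.node [] (.node [] .nil (.node [] .nil (.node [] .nil (.node [(243,(.ofNat 1),1)] .nil .nil)))) (.node [] (.node [] .nil (.node [(123,(.ofNat 1),1)] .nil (.node [(233,(.ofNat 1),1)] .nil .nil))) (.node [] (.node [] .nil (.node [(222,(.ofNat 1),1)] .nil .nil)) .nil))))) (.node [(160,(.negSucc 0),1)] (.node [] (.node [] (.node [] (.node [] (.node [] .nil (.node [(161,(.negSucc 0),1)] .nil .nil)) .nil) (.node [] .nil (.node [(138,(.ofNat 1),1)] .nil .nil))) (.node [] (.node [] .nil (.node [] .nil (.node [(232,(.ofNat 1),1)] .nil .nil))) (.node [(79,(.negSucc 0),1)] (.node [] .nil (.node [(212,(.ofNat 1),1)] .nil .nil)) .nil))) (.node [(17,(.negSucc 0),1)] (.node [] .nil (.node [(76,(.negSucc 0),1)] (.node [] .nil (.node [(192,(.ofNat 1),1)] .nil .nil)) .nil))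 (.node [(55,(.negSucc 0),1)] (.node [] .nil (.node [(120,(.negSucc 0),1)] .nil .nil)) .nil))) (.node [] (.node [] (.node [] (.node [] (.node [] .nil (.node [(164,(.ofNat 1),1)] .nil .nil)) (.node [] .nil (.node [(227,(.ofNat 1),1)] .nil .nil))) .nil) (.node [(44,(.negSucc 0),1)] .nil .nil)) (.node [] (.node [] .nil (.node [] (.node [] .nil (.node [(203,(.ofNat 1),1)] .nil .nil)) (.node [(151,(.negSucc 0),1)] .nil .nil))) (.node [(64,(.negSucc 0),1)] (.node [] .nil (.node [(1,(.ofNat 1),1),(2,(.ofNat 1),1),(3,(.ofNat 2),1),(4,(.ofNat 1),1),(160,(.negSucc 0),2)] .nil .nil)) (.node [(84,(.negSucc 0),1)] (.node [] .nil (.node [(224,(.ofNat 1),1)] .nil .nil)) .nil)))))))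
noncomputable def ex153 : Trie (List (ℕ × ℤ × ℕ)) := (.node [(161,(.ofNat 1),1)] (.node [] (.node [] (.node [] (.node [] (.node [] .nil (.node [(67,(.ofNat 1),1)] .nil .nil)) (.node [] .nil (.node [] (.node [] .nil (.node [(206,(.ofNat 1),1)] .nil .nil)) .nil))) (.node [] (.node [] (.node [] (.node [] .nil (.node [(167,(.ofNat 1),1)] .nil .nil)) (.node [(85,(.negSucc 0),1)] .nil .nil)) (.node [(75,(.negSucc 0),1)] .nil .nil)) (.node [] (.node [] .nil (.node [(119,(.negSucc 0),1)] .nil .nil)) .nil))) (.node [(161,(.ofNat 1),1)] (.node [] (.node [] .nil (.node [] .nil (.node [(140,(.negSucc 0),1)] .nil .nil))) (.node [] .nil (.node [] (.node [] .nil (.node [(215,(.ofNat 1),1)] .nil .nil)) .nil))) (.node [(19,(.ofNat 1),1)] (.node [] .nil (.node [] .nil (.node [] .nil (.node [(243,(.negSucc 0),1)] .nil .nil)))) (.node [(58,(.ofNat 1),1)] (.node [] .nil (.node [(125,(.ofNat 1),1)] .nil (.node [(233,(.negSucc 0),1)] .nil .nil))) (.node [] (.node [] .nil (.node [(223,(.negSucc 0),1)]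 .nil .nil)) (.node [(160,(.negSucc 0),1)] .nil .nil)))))) (.node [] (.node [] (.node [] (.node [] (.node [] (.node [] .nil (.node [(163,(.negSucc 0),1)] .nil .nil)) .nil) (.node [] .nil (.node [(138,(.ofNat 1),1)] .nil .nil))) (.node [] (.node [] .nil (.node [] .nil (.node [(232,(.negSucc 0),1)] .nil .nil))) (.node [(80,(.negSucc 0),1)] (.node [] .nil (.node [(212,(.negSucc 0),1)] .nil .nil)) .nil))) (.node [(17,(.negSucc 0),1)] (.node [] .nil (.node [] (.node [] .nil (.node [(183,(.ofNat 1),1)] .nil .nil)) .nil)) .nil)) (.node [(161,(.ofNat 1),1)] (.node [] (.node [] (.node [] (.node [] .nil (.node [(164,(.negSucc 0),1)] .nil .nil)) (.node [] .nil (.node [(228,(.negSucc 0),1)] .nil .nil))) .nil) (.node [(35,(.ofNat 1),1)] .nil .nil)) (.node [] (.node [] .nil (.node [] .nil (.node [] .nil (.node [(245,(.ofNat 1),1)] .nil .nil)))) (.node [(64,(.negSucc 0),1)] (.node [] .nil (.node [(1,(.ofNat 1),1),(2,(.ofNat 1),1),(3,(.ofNat 2),1),(4,(.ofNat 1),1),(5,(.ofNat 1),1),(161,(.negSucc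 0),2)] .nil .nil)) (.node [(84,(.negSucc 0),1)] .nil .nil)))))) (.node [] (.node [] (.node [] (.node [] (.node [] (.node [] (.node [] .nil (.node [(162,(.negSucc 0),1)] .nil .nil)) .nil) (.node [(68,(.ofNat 1),1)] (.node [] .nil (.node [] .nil .nil)) .nil)) (.node [] .nil (.node [(79,(.negSucc 0),1)] .nil .nil))) (.node [] (.node [] (.node [] (.node [] .nil (.node [(168,(.ofNat 1),1)] .nil .nil)) (.node [] .nil (.node [(230,(.ofNat 1),1)] .nil .nil))) (.node [] .nil (.node [(146,(.negSucc 0),1)] .nil .nil))) (.node [(54,(.negSucc 0),1)] .nil .nil))) (.node [(161,(.negSucc 0),1)] (.node [] (.node [] (.node [] .nil (.node [] .nil (.node [(227,(.negSucc 0),1)] .nil .nil))) .nil) (.node [] .nil (.node [(82,(.ofNat 1),1)] (.node [] .nil (.node [(216,(.ofNat 1),1)] .nil .nil)) (.node [(157,(.negSucc 0),1)] .nil .nil)))) (.node [] (.node [] .nil (.node [] (.node [] .nil (.node [(202,(.negSucc 0),1)] .nil .nil)) (.node [(150,(.ofNat 1),1)] .nil .nil))) (.node [] (.node [] .nil (.node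 [(126,(.ofNat 1),1)] .nil .nil)) .nil)))) (.node [(161,(.negSucc 0),1)] (.node [] (.node [] .nil (.node [] .nil (.node [] .nil (.node [(155,(.ofNat 1),1)] .nil .nil)))) (.node [] (.node [] .nil (.node [(77,(.ofNat 1),1)] (.node [] .nil (.node [(193,(.ofNat 1),1)] .nil .nil)) .nil)) (.node [(57,(.ofNat 1),1)] (.node [] .nil (.node [(121,(.ofNat 1),1)] .nil .nil)) (.node [] (.node [] .nil (.node [(222,(.negSucc 0),1)] .nil .nil)) .nil)))) (.node [] (.node [] (.node [] .nil (.node [(74,(.negSucc 0),1)] .nil (.node [(144,(.ofNat 1),1)] .nil .nil))) (.node [(45,(.ofNat 1),1)] (.node [] .nil (.node [(118,(.negSucc 0),1)] .nil .nil)) .nil)) (.node [] (.node [] .nil (.node [] (.node [] .nil (.node [(205,(.ofNat 1),1)] .nil .nil)) (.node [(152,(.negSucc 0),1)] .nil .nil))) (.node [] (.node [] .nil (.node [(131,(.ofNat 1),1)] .nil .nil)) (.node [] (.node [] .nil (.node [(225,(.ofNat 1),1)] .nil .nil)) .nil)))))))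
noncomputable def ex154 : Trie (List (ℕ × ℤ × ℕ)) := (.node [(162,(.ofNat 1),1)] (.node [] (.node [] (.node [] (.node [] (.node [] (.node [] (.node [] .nil (.node [(163,(.negSucc 0),1)] .nil .nil)) .nil) .nil) (.node [] .nil (.node [(79,(.negSucc 0),1)] (.node [] .nil (.node [(207,(.ofNat 1),1)] .nil .nil)) .nil))) (.node [] (.node [] (.node [] .nil (.node [] .nil (.node [(230,(.negSucc 0),1)] .nil .nil))) (.node [(76,(.ofNat 1),1)] .nil .nil)) (.node [] (.node [] .nil (.node [(120,(.ofNat 1),1)] .nil .nil)) .nil))) (.node [(162,(.ofNat 1),1)] (.node [] (.node [] (.node [] .nil (.node [] .nil (.node [(227,(.ofNat 1),1)] .nil .nil))) (.node [] .nil (.node [(141,(.negSucc 0),1)] .nil .nil))) (.node [] .nil (.node [(82,(.ofNat 1),1)] .nil .nil))) (.node [(20,(.negSucc 0),1)] (.node [] .nil (.node [] .nil (.node [(150,(.ofNat 1),1)] .nil .nil))) (.node [(59,(.negSucc 0),1)] (.node [] .nil (.node [(127,(.ofNat 1),1)] .nil .nil)) (.node [] (.node [] .nil (.node [(224,(.negSucc 0),1)]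 .nil .nil)) .nil))))) (.node [] (.node [] (.node [] (.node [] .nil (.node [] (.node [] .nil (.node [] .nil .nil)) .nil)) (.node [] .nil (.node [(81,(.ofNat 1),1)] (.node [] .nil (.node [(213,(.negSucc 0),1)] .nil .nil)) (.node [(155,(.ofNat 1),1)] .nil .nil)))) (.node [] (.node [] .nil (.node [(77,(.ofNat 1),1)] (.node [] .nil (.node [(184,(.ofNat 1),1)] .nil .nil)) .nil)) (.node [(57,(.ofNat 1),1)] (.node [] .nil (.node [(121,(.ofNat 1),1)] .nil .nil)) (.node [] (.node [] .nil (.node [(222,(.ofNat 1),1)] .nil .nil)) .nil)))) (.node [(162,(.negSucc 0),1)] (.node [] (.node [] (.node [] (.node [] .nil (.node [(165,(.negSucc 0),1)] .nil .nil)) (.node [] .nil (.node [(229,(.negSucc 0),1)] .nil .nil))) (.node [(74,(.negSucc 0),1)] .nil (.node [(144,(.ofNat 1),1)] .nil .nil))) (.node [(36,(.negSucc 0),1)] (.node [] .nil (.node [(118,(.negSucc 0),1)] .nil .nil)) .nil)) (.node [] (.node [] .nil (.node [] (.node [] .nil (.node [(205,(.negSucc 0),1)] .nil .nil)) (.node [] .nil (.node [(246,(.ofNat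 1),1)] .nil .nil)))) (.node [(65,(.ofNat 1),1)] (.node [] .nil (.node [(129,(.ofNat 1),1)] .nil .nil)) (.node [] (.node [] .nil (.node [(225,(.negSucc 0),1)] .nil .nil)) (.node [(161,(.negSucc 0),1)] .nil .nil))))))) (.node [] (.node [] (.node [] (.node [] (.node [] .nil (.node [(69,(.negSucc 0),1)] .nil (.node [(138,(.ofNat 1),1)] .nil .nil))) (.node [] (.node [] .nil (.node [] .nil (.node [(232,(.ofNat 1),1)] .nil .nil))) .nil)) (.node [(17,(.negSucc 0),1)] (.node [] (.node [] (.node [] .nil (.node [(169,(.ofNat 1),1)] .nil .nil)) .nil) (.node [] .nil (.node [(147,(.negSucc 0),1)] .nil .nil))) (.node [(55,(.ofNat 1),1)] .nil .nil))) (.node [] (.node [] .nil (.node [] .nil (.node [] (.node [] .nil (.node [(217,(.ofNat 1),1)] .nil .nil)) (.node [(158,(.negSucc 0),1)] .nil .nil)))) (.node [] (.node [] .nil (.node [] (.node [] .nil (.node [(203,(.negSucc 0),1)] .nil .nil)) .nil)) (.node [] (.node [] .nil (.node [(1,(.ofNat 1),1),(2,(.ofNat 1),1),(3,(.ofNat 2),1),(4,(.ofNat 1),1),(5,(.ofNat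 1),1),(6,(.ofNat 1),1),(162,(.negSucc 0),2)] .nil .nil)) (.node [(84,(.negSucc 0),1)] .nil .nil))))) (.node [(162,(.negSucc 0),1)] (.node [] (.node [] .nil (.node [] .nil (.node [] (.node [] .nil (.node [(215,(.negSucc 0),1)] .nil .nil)) .nil))) (.node [] (.node [] .nil (.node [] (.node [] .nil (.node [(194,(.ofNat 1),1)] .nil .nil)) (.node [] .nil (.node [(243,(.ofNat 1),1)] .nil .nil)))) (.node [] (.node [] .nil (.node [] .nil (.node [(233,(.ofNat 1),1)] .nil .nil))) (.node [] .nil (.node [(160,(.negSucc 0),1)] .nil .nil))))) (.node [(162,(.ofNat 1),1)] (.node [] (.node [] (.node [] (.node [] .nil (.node [(167,(.negSucc 0),1)] .nil .nil)) (.node [(85,(.negSucc 0),1)] .nil .nil)) .nil) (.node [(46,(.negSucc 0),1)] .nil .nil)) (.node [] (.node [] .nil (.node [] .nil (.node [(153,(.negSucc 0),1)] .nil .nil))) (.node [(67,(.ofNat 1),1)] (.node [] .nil (.node [(132,(.ofNat 1),1)] .nil .nil)) .nil))))))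
noncomputable def ex155 : Trie (List (ℕ × ℤ × ℕ)) := (.node [(163,(.ofNat 1),1)] (.node [] (.node [] (.node [] (.node [] (.node [] .nil (.node [(69,(.negSucc 0),1)] .nil (.node [(138,(.ofNat 1),1)] .nil .nil))) (.node [] (.node [] .nil (.node [] .nil (.node [(232,(.negSucc 0),1)] .nil .nil))) (.node [(80,(.ofNat 1),1)] .nil .nil))) (.node [(17,(.negSucc 0),1)] (.node [] (.node [] (.node [] .nil (.node [(169,(.negSucc 0),1)] .nil .nil)) .nil) .nil) .nil)) (.node [(163,(.ofNat 1),1)] (.node [] (.node [] (.node [] .nil (.node [] .nil (.node [(228,(.ofNat 1),1)] .nil .nil))) (.node [] .nil (.node [(142,(.negSucc 0),1)] .nil .nil))) (.node [] .nil (.node [] (.node [] .nil (.node [(217,(.negSucc 0),1)] .nil .nil)) .nil))) (.node [(21,(.ofNat 1),1)] .nil (.node [] (.node [] .nil (.node [(1,(.ofNat 1),1),(2,(.ofNat 1),1),(3,(.ofNat 2),1),(4,(.ofNat 1),1),(5,(.ofNat 1),1),(6,(.ofNat 1),1),(7,(.ofNat 1),1),(163,(.negSucc 0),2)] .nil .nil)) (.node [(84,(.negSucc 0),1)] .nil .nil))))) (.node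 [] (.node [] (.node [] .nil (.node [] .nil (.node [] (.node [] .nil (.node [(214,(.negSucc 0),1)] .nil .nil)) .nil))) (.node [] (.node [] .nil (.node [] (.node [] .nil (.node [(185,(.ofNat 1),1)] .nil .nil)) (.node [] .nil (.node [(243,(.negSucc 0),1)] .nil .nil)))) (.node [(58,(.negSucc 0),1)] (.node [] .nil (.node [] .nil (.node [(233,(.negSucc 0),1)] .nil .nil))) (.node [] (.node [] .nil (.node [(223,(.ofNat 1),1)] .nil .nil)) (.node [(160,(.negSucc 0),1)] .nil .nil))))) (.node [] (.node [] (.node [] (.node [] (.node [] .nil (.node [(166,(.negSucc 0),1)] .nil .nil)) (.node [(85,(.negSucc 0),1)] .nil .nil)) (.node [(75,(.ofNat 1),1)] .nil .nil)) (.node [(37,(.ofNat 1),1)] (.node [] .nil (.node [(119,(.ofNat 1),1)] .nil .nil)) .nil)) (.node [] (.node [] .nil (.node [] (.node [] .nil (.node [(206,(.negSucc 0),1)] .nil .nil)) (.node [] .nil (.node [(247,(.ofNat 1),1)] .nil .nil)))) (.node [(66,(.negSucc 0),1)] (.node [] .nil (.node [(130,(.ofNat 1),1)] .nil .nil)) .nil))))) (.node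 [] (.node [] (.node [] (.node [] .nil (.node [] .nil (.node [(81,(.ofNat 1),1)] .nil (.node [(155,(.ofNat 1),1)] .nil .nil)))) (.node [] (.node [] .nil (.node [(77,(.ofNat 1),1)] .nil (.node [(148,(.negSucc 0),1)] .nil .nil))) (.node [(56,(.negSucc 0),1)] (.node [] .nil (.node [(121,(.ofNat 1),1)] .nil .nil)) .nil))) (.node [] (.node [] (.node [] (.node [] .nil (.node [] .nil (.node [(229,(.ofNat 1),1)] .nil .nil))) (.node [] .nil (.node [(144,(.ofNat 1),1)] .nil .nil))) (.node [] .nil (.node [] .nil (.node [(159,(.negSucc 0),1)] .nil .nil)))) (.node [] (.node [] .nil (.node [] (.node [] .nil (.node [(204,(.negSucc 0),1)] .nil .nil)) .nil)) (.node [] (.node [] .nil (.node [(128,(.ofNat 1),1)] .nil .nil)) (.node [] (.node [] .nil (.node [(225,(.ofNat 1),1)] .nil .nil)) (.node [(161,(.negSucc 0),1)] .nil .nil)))))) (.node [(163,(.negSucc 0),1)] (.node [] (.node [] (.node [] .nil (.node [] (.node [] .nil (.node [] .nil .nil)) .nil)) (.node [] .nil (.node [(82,(.ofNat 1),1)] (.node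 [] .nil (.node [(216,(.negSucc 0),1)] .nil .nil)) .nil))) (.node [] (.node [] .nil (.node [] (.node [] .nil (.node [(195,(.ofNat 1),1)] .nil .nil)) (.node [(150,(.ofNat 1),1)] .nil .nil))) (.node [(59,(.negSucc 0),1)] .nil (.node [] (.node [] .nil (.node [(224,(.ofNat 1),1)] .nil .nil)) .nil)))) (.node [(163,(.negSucc 0),1)] (.node [] (.node [] (.node [] (.node [] .nil (.node [(168,(.negSucc 0),1)] .nil .nil)) (.node [] .nil (.node [(230,(.ofNat 1),1)] .nil .nil))) (.node [(76,(.ofNat 1),1)] .nil .nil)) (.node [(47,(.ofNat 1),1)] (.node [] .nil (.node [(120,(.ofNat 1),1)] .nil .nil)) .nil)) (.node [] (.node [] .nil (.node [] (.node [] .nil (.node [(207,(.negSucc 0),1)] .nil .nil)) (.node [(154,(.negSucc 0),1)] .nil .nil))) (.node [(68,(.negSucc 0),1)] (.node [] .nil (.node [(133,(.ofNat 1),1)] .nil .nil)) (.node [] .nil (.node [(162,(.negSucc 0),1)] .nil .nil))))))))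
noncomputable def ex156 : Trie (List (ℕ × ℤ × ℕ)) := (.node [(164,(.ofNat 1),1)] (.node [] (.node [] (.node [] (.node [] (.node [] .nil (.node [(70,(.negSucc 0),1)] .nil .nil)) (.node [] .nil (.node [] (.node [] .nil (.node [(209,(.ofNat 1),1)] .nil .nil)) .nil))) (.node [] (.node [] .nil (.node [] .nil (.node [(146,(.negSucc 0),1)] .nil .nil))) (.node [(54,(.negSucc 0),1)] (.node [] .nil (.node [(123,(.negSucc 0),1)] .nil .nil)) (.node [] (.node [] .nil (.node [(222,(.ofNat 1),1)] .nil .nil)) (.node [(160,(.ofNat 1),1)] .nil .nil))))) (.node [(164,(.negSucc 0),1)] (.node [] (.node [] (.node [] (.node [] .nil (.node [(167,(.ofNat 1),1)] .nil .nil)) .nil) (.node [(74,(.negSucc 0),1)] (.node [] .nil (.node [] .nil .nil)) .nil)) (.node [] .nil (.node [] (.node [] .nil (.node [(218,(.ofNat 1),1)] .nil .nil)) (.node [(157,(.negSucc 0),1)] .nil .nil)))) (.node [] (.node [] .nil (.node [] (.node [] .nil (.node [(202,(.ofNat 1),1)] .nil .nil)) (.node [] .nil (.node [(244,(.negSucc 0),1)]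 .nil .nil)))) (.node [(61,(.negSucc 0),1)] .nil .nil)))) (.node [] (.node [] (.node [] (.node [] (.node [] (.node [] .nil (.node [(166,(.negSucc 0),1)] .nil .nil)) (.node [] .nil (.node [(227,(.ofNat 1),1)] .nil .nil))) (.node [] .nil (.node [(139,(.ofNat 1),1)] .nil .nil))) .nil) (.node [(18,(.ofNat 1),1)] (.node [] .nil (.node [] (.node [] .nil (.node [(186,(.ofNat 1),1)] .nil .nil)) .nil)) (.node [] (.node [] .nil (.node [(126,(.ofNat 1),1)] .nil .nil)) .nil))) (.node [(164,(.ofNat 1),1)] (.node [] .nil (.node [(38,(.negSucc 0),1)] .nil .nil)) (.node [] (.node [] .nil (.node [(79,(.negSucc 0),1)] .nil (.node [(152,(.negSucc 0),1)] .nil .nil))) (.node [] (.node [] .nil (.node [(134,(.ofNat 1),1)] .nil .nil)) .nil))))) (.node [] (.node [] (.node [] (.node [] (.node [] (.node [] (.node [] .nil (.node [(165,(.negSucc 0),1)] .nil .nil)) .nil) (.node [(71,(.negSucc 0),1)] .nil .nil)) (.node [] .nil (.node [] (.node [] .nil (.node [(212,(.ofNat 1),1)] .nil .nil)) .nil))) (.node []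 (.node [] (.node [] .nil (.node [] .nil (.node [(231,(.ofNat 1),1)] .nil .nil))) .nil) (.node [] (.node [] .nil (.node [(125,(.ofNat 1),1)] .nil (.node [(233,(.ofNat 1),1)] .nil .nil))) (.node [] (.node [] .nil (.node [(223,(.ofNat 1),1)] .nil .nil)) (.node [(161,(.negSucc 0),1)] .nil .nil))))) (.node [] (.node [] (.node [] (.node [] (.node [] .nil (.node [(168,(.ofNat 1),1)] .nil .nil)) (.node [(85,(.negSucc 0),1)] .nil .nil)) (.node [(75,(.negSucc 0),1)] .nil .nil)) (.node [] .nil (.node [(83,(.negSucc 0),1)] (.node [] .nil (.node [(219,(.ofNat 1),1)] .nil .nil)) .nil))) (.node [] (.node [] .nil (.node [] .nil (.node [(151,(.ofNat 1),1)] .nil (.node [(245,(.negSucc 0),1)] .nil .nil)))) (.node [(64,(.negSucc 0),1)] .nil .nil)))) (.node [] (.node [] (.node [] (.node [] (.node [] .nil (.node [] .nil (.node [(228,(.ofNat 1),1)] .nil .nil))) (.node [] .nil (.node [(140,(.negSucc 0),1)] .nil .nil))) (.node [] .nil (.node [] .nil (.node [(156,(.ofNat 1),1)] .nil .nil)))) (.node [(19,(.ofNat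 1),1)] (.node [] .nil (.node [(78,(.negSucc 0),1)] (.node [] .nil (.node [(196,(.ofNat 1),1)] .nil .nil)) .nil)) (.node [(60,(.negSucc 0),1)] (.node [] .nil (.node [(1,(.ofNat 1),1),(2,(.ofNat 1),1),(3,(.ofNat 2),1),(4,(.ofNat 2),1),(5,(.ofNat 1),1),(164,(.negSucc 0),2)] .nil .nil)) (.node [(84,(.negSucc 0),1)] .nil .nil)))) (.node [] (.node [] (.node [] .nil (.node [] .nil (.node [(145,(.ofNat 1),1)] .nil .nil))) (.node [(48,(.negSucc 0),1)] (.node [] .nil (.node [(122,(.negSucc 0),1)] .nil .nil)) .nil)) (.node [] (.node [] (.node [] .nil (.node [] .nil (.node [(232,(.ofNat 1),1)] .nil .nil))) (.node [(80,(.negSucc 0),1)] (.node [] .nil (.node [(208,(.ofNat 1),1)] .nil .nil)) .nil)) (.node [] (.node [] .nil (.node [(135,(.negSucc 0),1)] .nil .nil)) (.node [] (.node [] .nil (.node [(226,(.ofNat 1),1)] .nil .nil)) .nil)))))))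
noncomputable def ex157 : Trie (List (ℕ × ℤ × ℕ)) := (.node [(165,(.ofNat 1),1)] (.node [] (.node [] (.node [] (.node [] (.node [] (.node [] (.node [] .nil (.node [(166,(.negSucc 0),1)] .nil .nil)) .nil) .nil) (.node [] .nil (.node [] (.node [] .nil (.node [(210,(.ofNat 1),1)] .nil .nil)) .nil))) (.node [] (.node [] (.node [] .nil (.node [] .nil (.node [(231,(.negSucc 0),1)] .nil .nil))) (.node [] .nil (.node [(147,(.negSucc 0),1)] .nil .nil))) (.node [(55,(.ofNat 1),1)] (.node [] .nil (.node [(124,(.ofNat 1),1)] .nil (.node [(233,(.negSucc 0),1)] .nil .nil))) .nil))) (.node [(165,(.negSucc 0),1)] (.node [] (.node [] (.node [] .nil (.node [(85,(.negSucc 0),1)] .nil .nil)) .nil) (.node [] .nil (.node [(83,(.negSucc 0),1)] .nil (.node [(158,(.negSucc 0),1)] .nil .nil)))) (.node [] (.node [] .nil (.node [] (.node [] .nil (.node [(203,(.ofNat 1),1)] .nil .nil)) (.node [(151,(.ofNat 1),1)] .nil .nil))) (.node [(62,(.ofNat 1),1)] .nil .nil)))) (.node [] (.node [] (.node [] .nil (.node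 [] .nil (.node [] .nil (.node [(156,(.ofNat 1),1)] .nil .nil)))) (.node [] (.node [] .nil (.node [(78,(.negSucc 0),1)] (.node [] .nil (.node [(187,(.ofNat 1),1)] .nil .nil)) .nil)) (.node [(60,(.negSucc 0),1)] (.node [] .nil (.node [(1,(.ofNat 1),1),(2,(.ofNat 1),1),(3,(.ofNat 2),1),(4,(.ofNat 2),1),(5,(.ofNat 1),1),(6,(.ofNat 1),1),(165,(.negSucc 0),2)] .nil .nil)) (.node [(84,(.negSucc 0),1)] .nil .nil)))) (.node [(165,(.negSucc 0),1)] (.node [] (.node [] .nil (.node [] .nil (.node [(145,(.ofNat 1),1)] .nil .nil))) (.node [(39,(.ofNat 1),1)] (.node [] .nil (.node [(122,(.negSucc 0),1)] .nil .nil)) .nil)) (.node [] (.node [] (.node [] .nil (.node [] .nil (.node [(232,(.negSucc 0),1)] .nil .nil))) (.node [] (.node [] .nil (.node [(208,(.negSucc 0),1)] .nil .nil)) (.node [(153,(.negSucc 0),1)] .nil .nil))) (.node [] .nil (.node [] (.node [] .nil (.node [(226,(.negSucc 0),1)] .nil .nil)) (.node [(164,(.negSucc 0),1)] .nil .nil))))))) (.node [] (.node [] (.node [] (.node [] (.node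 [] (.node [] .nil (.node [] .nil (.node [(227,(.negSucc 0),1)] .nil .nil))) (.node [(72,(.ofNat 1),1)] .nil (.node [(139,(.ofNat 1),1)] .nil .nil))) (.node [] .nil (.node [] (.node [] .nil (.node [(213,(.ofNat 1),1)] .nil .nil)) .nil))) (.node [(18,(.ofNat 1),1)] .nil (.node [] (.node [] .nil (.node [(127,(.ofNat 1),1)] .nil .nil)) (.node [] (.node [] .nil (.node [(224,(.ofNat 1),1)] .nil .nil)) (.node [(162,(.negSucc 0),1)] .nil .nil))))) (.node [(165,(.ofNat 1),1)] (.node [] (.node [] (.node [] (.node [] .nil (.node [(169,(.ofNat 1),1)] .nil .nil)) .nil) (.node [(76,(.ofNat 1),1)] (.node [] .nil (.node [] .nil .nil)) .nil)) (.node [] .nil (.node [] (.node [] .nil (.node [(220,(.ofNat 1),1)] .nil .nil)) .nil))) (.node [] (.node [] .nil (.node [(79,(.negSucc 0),1)] .nil (.node [] .nil (.node [(246,(.negSucc 0),1)] .nil .nil)))) (.node [(65,(.ofNat 1),1)] (.node [] .nil (.node [(134,(.ofNat 1),1)] .nil .nil)) .nil)))) (.node [] (.node [] (.node [] (.node [] (.node [] (.node []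 .nil (.node [(167,(.negSucc 0),1)] .nil .nil)) (.node [] .nil (.node [(229,(.ofNat 1),1)] .nil .nil))) (.node [(74,(.negSucc 0),1)] .nil (.node [(141,(.negSucc 0),1)] .nil .nil))) (.node [] .nil (.node [] (.node [] .nil (.node [(218,(.negSucc 0),1)] .nil .nil)) .nil))) (.node [(20,(.negSucc 0),1)] (.node [] .nil (.node [] (.node [] .nil (.node [(197,(.ofNat 1),1)] .nil .nil)) (.node [] .nil (.node [(244,(.ofNat 1),1)] .nil .nil)))) (.node [] (.node [] .nil (.node [(129,(.ofNat 1),1)] .nil .nil)) .nil))) (.node [(165,(.ofNat 1),1)] (.node [] .nil (.node [(49,(.ofNat 1),1)] .nil (.node [] (.node [] .nil (.node [(222,(.negSucc 0),1)] .nil .nil)) (.node [(160,(.ofNat 1),1)] .nil .nil)))) (.node [] (.node [] .nil (.node [(81,(.ofNat 1),1)] .nil .nil)) (.node [(70,(.negSucc 0),1)] (.node [] .nil (.node [(136,(.negSucc 0),1)] .nil .nil)) .nil))))))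
noncomputable def ex158 : Trie (List (ℕ × ℤ × ℕ)) := (.node [(166,(.ofNat 1),1)] (.node [] (.node [] (.node [] (.node [] (.node [] .nil (.node [(72,(.ofNat 1),1)] .nil (.node [(139,(.ofNat 1),1)] .nil .nil))) .nil) (.node [(18,(.ofNat 1),1)] (.node [] .nil (.node [] .nil (.node [(148,(.negSucc 0),1)] .nil .nil))) (.node [(56,(.negSucc 0),1)] .nil (.node [] (.node [] .nil (.node [(224,(.negSucc 0),1)] .nil .nil)) .nil)))) (.node [(166,(.negSucc 0),1)] (.node [] (.node [] (.node [] (.node [] .nil (.node [(169,(.negSucc 0),1)] .nil .nil)) .nil) (.node [(76,(.ofNat 1),1)] .nil .nil)) (.node [] .nil (.node [] (.node [] .nil (.node [(220,(.negSucc 0),1)] .nil .nil)) (.node [(159,(.negSucc 0),1)] .nil .nil)))) (.node [] (.node [] .nil (.node [] (.node [] .nil (.node [(204,(.ofNat 1),1)] .nil .nil)) .nil)) (.node [] (.node [] .nil (.node [(134,(.ofNat 1),1)] .nil .nil)) .nil)))) (.node [] (.node [] (.node [] (.node [] (.node [] .nil (.node [] .nil (.node [(229,(.negSucc 0),1)] .nil .nil)))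 .nil) .nil) (.node [] (.node [] .nil (.node [] (.node [] .nil (.node [(188,(.ofNat 1),1)] .nil .nil)) (.node [] .nil (.node [(244,(.negSucc 0),1)] .nil .nil)))) (.node [(61,(.ofNat 1),1)] (.node [] .nil (.node [(128,(.ofNat 1),1)] .nil .nil)) .nil))) (.node [] (.node [] (.node [] .nil (.node [] (.node [] .nil (.node [] .nil .nil)) .nil)) (.node [(40,(.negSucc 0),1)] (.node [] .nil (.node [(123,(.ofNat 1),1)] .nil .nil)) (.node [] .nil (.node [(160,(.ofNat 1),1)] .nil .nil)))) (.node [] (.node [] .nil (.node [(81,(.ofNat 1),1)] (.node [] .nil (.node [(209,(.negSucc 0),1)] .nil .nil)) (.node [(154,(.negSucc 0),1)] .nil .nil))) .nil)))) (.node [] (.node [] (.node [] (.node [] (.node [] (.node [] .nil (.node [] .nil (.node [(228,(.negSucc 0),1)] .nil .nil))) .nil) (.node [] .nil (.node [] (.node [] .nil (.node [(214,(.ofNat 1),1)] .nil .nil)) (.node [(156,(.ofNat 1),1)] .nil .nil)))) (.node [] (.node [] .nil (.node [(78,(.negSucc 0),1)] .nil .nil)) (.node [] (.node [] .nil (.node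 [(1,(.ofNat 1),1),(2,(.ofNat 1),1),(3,(.ofNat 2),1),(4,(.ofNat 2),1),(5,(.ofNat 1),1),(6,(.ofNat 1),1),(7,(.ofNat 1),1),(166,(.negSucc 0),2)] .nil .nil)) (.node [(84,(.negSucc 0),1)] .nil (.node [(163,(.negSucc 0),1)] .nil .nil))))) (.node [(166,(.ofNat 1),1)] (.node [] (.node [] .nil (.node [] .nil (.node [(145,(.ofNat 1),1)] .nil .nil))) .nil) (.node [] (.node [] (.node [] .nil (.node [] .nil (.node [(232,(.ofNat 1),1)] .nil .nil))) (.node [(80,(.ofNat 1),1)] .nil (.node [] .nil (.node [(247,(.negSucc 0),1)] .nil .nil)))) (.node [(66,(.negSucc 0),1)] .nil (.node [] (.node [] .nil (.node [(226,(.ofNat 1),1)] .nil .nil)) (.node [(164,(.negSucc 0),1)] .nil .nil)))))) (.node [] (.node [] (.node [] (.node [] (.node [] (.node [] .nil (.node [(168,(.negSucc 0),1)] .nil .nil)) (.node [(85,(.negSucc 0),1)] .nil .nil)) (.node [(75,(.ofNat 1),1)] .nil (.node [(142,(.negSucc 0),1)] .nil .nil))) (.node [] .nil (.node [(83,(.negSucc 0),1)] (.node [] .nil (.node [(219,(.negSucc 0),1)] .nil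 .nil)) .nil))) (.node [(21,(.ofNat 1),1)] (.node [] .nil (.node [] (.node [] .nil (.node [(198,(.ofNat 1),1)] .nil .nil)) (.node [(151,(.ofNat 1),1)] .nil .nil))) (.node [(62,(.ofNat 1),1)] (.node [] .nil (.node [(130,(.ofNat 1),1)] .nil .nil)) .nil))) (.node [(166,(.negSucc 0),1)] (.node [] (.node [] (.node [] .nil (.node [] .nil (.node [(231,(.ofNat 1),1)] .nil .nil))) .nil) (.node [(50,(.negSucc 0),1)] (.node [] .nil (.node [(124,(.ofNat 1),1)] .nil (.node [(233,(.ofNat 1),1)] .nil .nil))) (.node [] (.node [] .nil (.node [(223,(.negSucc 0),1)] .nil .nil)) .nil))) (.node [] (.node [] .nil (.node [] (.node [] .nil (.node [(210,(.negSucc 0),1)] .nil .nil)) .nil)) (.node [(71,(.ofNat 1),1)] (.node [] .nil (.node [(137,(.negSucc 0),1)] .nil .nil)) (.node [] .nil (.node [(165,(.negSucc 0),1)] .nil .nil))))))))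
noncomputable def ex159 : Trie (List (ℕ × ℤ × ℕ)) := (.node [(167,(.ofNat 1),1)] (.node [] (.node [] (.node [] (.node [] (.node [] (.node [] (.node [] .nil (.node [(168,(.negSucc 0),1)] .nil .nil)) (.node [] .nil (.node [(227,(.ofNat 1),1)] .nil .nil))) .nil) (.node [] .nil (.node [] (.node [] .nil (.node [(211,(.ofNat 1),1)] .nil .nil)) .nil))) (.node [] (.node [] .nil (.node [(78,(.negSucc 0),1)] .nil .nil)) (.node [(57,(.negSucc 0),1)] (.node [] .nil (.node [(1,(.ofNat 1),1),(2,(.ofNat 1),1),(3,(.ofNat 2),1),(4,(.ofNat 2),1),(5,(.ofNat 2),1),(6,(.ofNat 1),1),(167,(.negSucc 0),2)] .nil .nil)) (.node [(84,(.negSucc 0),1)] .nil (.node [(162,(.negSucc 0),1)] .nil .nil))))) (.node [] .nil (.node [] (.node [] (.node [] .nil (.node [] .nil (.node [(232,(.ofNat 1),1)] .nil .nil))) (.node [(79,(.negSucc 0),1)] (.node [] .nil (.node [(205,(.ofNat 1),1)] .nil .nil)) (.node [(152,(.ofNat 1),1)] .nil (.node [(246,(.ofNat 1),1)] .nil .nil)))) (.node [(63,(.negSucc 0),1)] .nil (.node [] (.node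 [] .nil (.node [(226,(.ofNat 1),1)] .nil .nil)) (.node [(165,(.negSucc 0),1)] .nil .nil)))))) (.node [] (.node [] (.node [] (.node [] (.node [] (.node [] .nil (.node [(169,(.ofNat 1),1)] .nil .nil)) (.node [(85,(.negSucc 0),1)] .nil .nil)) (.node [(74,(.negSucc 0),1)] .nil (.node [(141,(.negSucc 0),1)] .nil .nil))) (.node [] .nil (.node [(83,(.negSucc 0),1)] (.node [] .nil (.node [(218,(.ofNat 1),1)] .nil .nil)) (.node [(157,(.ofNat 1),1)] .nil .nil)))) (.node [(20,(.negSucc 0),1)] (.node [] .nil (.node [] (.node [] .nil (.node [(189,(.ofNat 1),1)] .nil .nil)) .nil)) (.node [] (.node [] .nil (.node [(131,(.ofNat 1),1)] .nil .nil)) .nil))) (.node [] (.node [] (.node [] (.node [] .nil (.node [] .nil (.node [(231,(.ofNat 1),1)] .nil .nil))) (.node [] .nil (.node [(146,(.ofNat 1),1)] .nil .nil))) (.node [(41,(.negSucc 0),1)] (.node [] .nil (.node [(125,(.negSucc 0),1)] .nil (.node [(233,(.ofNat 1),1)] .nil .nil))) (.node [] (.node [] .nil (.node [(222,(.ofNat 1),1)] .nil .nil)) .nil)))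 (.node [] .nil (.node [(70,(.negSucc 0),1)] (.node [] .nil (.node [(136,(.negSucc 0),1)] .nil .nil)) .nil))))) (.node [] (.node [] (.node [] (.node [] (.node [] .nil (.node [(73,(.negSucc 0),1)] .nil (.node [(140,(.ofNat 1),1)] .nil .nil))) (.node [] .nil (.node [] (.node [] .nil (.node [(215,(.ofNat 1),1)] .nil .nil)) .nil))) (.node [(19,(.negSucc 0),1)] .nil (.node [(60,(.negSucc 0),1)] .nil (.node [] (.node [] .nil (.node [(225,(.ofNat 1),1)] .nil .nil)) .nil)))) (.node [(167,(.negSucc 0),1)] (.node [] (.node [] .nil (.node [(77,(.negSucc 0),1)] .nil .nil)) (.node [] .nil (.node [] (.node [] .nil (.node [(221,(.ofNat 1),1)] .nil .nil)) .nil))) (.node [] (.node [] .nil (.node [] (.node [] .nil (.node [(208,(.ofNat 1),1)] .nil .nil)) (.node [(153,(.negSucc 0),1)] .nil .nil))) (.node [(67,(.negSucc 0),1)] (.node [] .nil (.node [(135,(.ofNat 1),1)] .nil .nil)) .nil)))) (.node [] (.node [] (.node [] (.node [] (.node [] .nil (.node [] .nil (.node [(230,(.ofNat 1),1)] .nil .nil)))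 .nil) (.node [] .nil (.node [] .nil (.node [(158,(.negSucc 0),1)] .nil .nil)))) (.node [] (.node [] .nil (.node [] (.node [] .nil (.node [(199,(.ofNat 1),1)] .nil .nil)) (.node [] .nil (.node [(245,(.ofNat 1),1)] .nil .nil)))) (.node [] (.node [] .nil (.node [(132,(.negSucc 0),1)] .nil .nil)) (.node [] .nil (.node [(164,(.ofNat 1),1)] .nil .nil))))) (.node [(167,(.ofNat 1),1)] (.node [] (.node [] .nil (.node [] (.node [] .nil (.node [] .nil .nil)) (.node [(147,(.negSucc 0),1)] .nil .nil))) (.node [(51,(.negSucc 0),1)] (.node [] .nil (.node [(127,(.ofNat 1),1)] .nil .nil)) (.node [] .nil (.node [(161,(.ofNat 1),1)] .nil .nil)))) (.node [] (.node [] .nil (.node [(82,(.negSucc 0),1)] .nil .nil)) .nil)))))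
noncomputable def ex160 : Trie (List (ℕ × ℤ × ℕ)) := (.node [(168,(.ofNat 1),1)] (.node [] (.node [] (.node [] (.node [] (.node [] (.node [] .nil (.node [] .nil (.node [(228,(.ofNat 1),1)] .nil .nil))) (.node [(73,(.negSucc 0),1)] .nil (.node [(140,(.ofNat 1),1)] .nil .nil))) .nil) (.node [(19,(.negSucc 0),1)] (.node [] .nil (.node [] (.node [] .nil (.node [] .nil .nil)) .nil)) (.node [(58,(.ofNat 1),1)] (.node [] .nil (.node [(128,(.ofNat 1),1)] .nil .nil)) (.node [] (.node [] .nil (.node [(225,(.negSucc 0),1)] .nil .nil)) (.node [(163,(.negSucc 0),1)] .nil .nil))))) (.node [] (.node [] (.node [] .nil (.node [(77,(.negSucc 0),1)] .nil .nil)) (.node [] .nil (.node [] (.node [] .nil (.node [(221,(.negSucc 0),1)] .nil .nil)) .nil))) (.node [] (.node [] .nil (.node [(80,(.ofNat 1),1)] (.node [] .nil (.node [(206,(.ofNat 1),1)] .nil .nil)) (.node [] .nil (.node [(247,(.ofNat 1),1)] .nil .nil)))) (.node [] (.node [] .nil (.node [(135,(.ofNat 1),1)] .nil .nil)) (.node [] .nil (.node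 [(166,(.negSucc 0),1)] .nil .nil)))))) (.node [] (.node [] (.node [] (.node [] (.node [] .nil (.node [] .nil (.node [(230,(.negSucc 0),1)] .nil .nil))) (.node [(75,(.ofNat 1),1)] .nil (.node [(142,(.negSucc 0),1)] .nil .nil))) (.node [] .nil (.node [] (.node [] .nil (.node [(219,(.ofNat 1),1)] .nil .nil)) .nil))) (.node [(21,(.ofNat 1),1)] (.node [] .nil (.node [] (.node [] .nil (.node [(190,(.ofNat 1),1)] .nil .nil)) (.node [] .nil (.node [(245,(.negSucc 0),1)] .nil .nil)))) (.node [] .nil (.node [] .nil (.node [(164,(.ofNat 1),1)] .nil .nil))))) (.node [(168,(.ofNat 1),1)] (.node [] .nil (.node [(42,(.ofNat 1),1)] (.node [] .nil (.node [(126,(.ofNat 1),1)] .nil .nil)) (.node [] (.node [] .nil (.node [(223,(.ofNat 1),1)] .nil .nil)) (.node [(161,(.ofNat 1),1)] .nil .nil)))) (.node [] (.node [] .nil (.node [(82,(.negSucc 0),1)] .nil .nil)) (.node [(71,(.ofNat 1),1)] (.node [] .nil (.node [(137,(.negSucc 0),1)] .nil .nil)) .nil))))) (.node [] (.node [] (.node [] (.node [] (.node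 [] (.node [] (.node [] .nil (.node [(169,(.negSucc 0),1)] .nil .nil)) (.node [(85,(.negSucc 0),1)] .nil .nil)) .nil) (.node [] .nil (.node [(83,(.negSucc 0),1)] (.node [] .nil (.node [(216,(.ofNat 1),1)] .nil .nil)) (.node [(157,(.ofNat 1),1)] .nil .nil)))) (.node [] .nil (.node [(61,(.ofNat 1),1)] (.node [] .nil (.node [(131,(.ofNat 1),1)] .nil .nil)) .nil))) (.node [(168,(.negSucc 0),1)] (.node [] (.node [] (.node [] .nil (.node [] .nil (.node [(231,(.negSucc 0),1)] .nil .nil))) (.node [] .nil (.node [(146,(.ofNat 1),1)] .nil .nil))) (.node [] (.node [] .nil (.node [] .nil (.node [(233,(.negSucc 0),1)] .nil .nil))) .nil)) (.node [] (.node [] .nil (.node [] (.node [] .nil (.node [(209,(.ofNat 1),1)] .nil .nil)) (.node [(154,(.negSucc 0),1)] .nil .nil))) (.node [(68,(.ofNat 1),1)] .nil .nil)))) (.node [] (.node [] (.node [] .nil (.node [] .nil (.node [] .nil (.node [(159,(.negSucc 0),1)] .nil .nil)))) (.node [] (.node [] (.node [] .nil (.node [] .nil (.node [(232,(.negSucc 0),1)]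 .nil .nil))) (.node [] (.node [] .nil (.node [(200,(.ofNat 1),1)] .nil .nil)) (.node [(152,(.ofNat 1),1)] .nil .nil))) (.node [(63,(.negSucc 0),1)] (.node [] .nil (.node [(133,(.negSucc 0),1)] .nil .nil)) (.node [] (.node [] .nil (.node [(226,(.negSucc 0),1)] .nil .nil)) .nil)))) (.node [(168,(.negSucc 0),1)] (.node [] (.node [] .nil (.node [(78,(.negSucc 0),1)] .nil (.node [(148,(.negSucc 0),1)] .nil .nil))) (.node [(52,(.ofNat 1),1)] (.node [] .nil (.node [(1,(.ofNat 1),1),(2,(.ofNat 1),1),(3,(.ofNat 2),1),(4,(.ofNat 2),1),(5,(.ofNat 2),1),(6,(.ofNat 1),1),(7,(.ofNat 1),1),(168,(.negSucc 0),2)] .nil .nil)) (.node [(84,(.negSucc 0),1)] .nil .nil))) (.node [] (.node [] .nil (.node [] (.node [] .nil (.node [(211,(.negSucc 0),1)] .nil .nil)) .nil)) (.node [] .nil (.node [] .nil (.node [(167,(.negSucc 0),1)] .nil .nil))))))))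
noncomputable def ex161 : Trie (List (ℕ × ℤ × ℕ)) := (.node [(169,(.ofNat 1),1)] (.node [] (.node [] (.node [] (.node [] (.node [] (.node [] .nil (.node [(85,(.negSucc 0),1)] .nil (.node [(229,(.ofNat 1),1)] .nil .nil))) (.node [] .nil (.node [(141,(.ofNat 1),1)] .nil .nil))) (.node [] .nil (.node [(83,(.negSucc 0),1)] .nil .nil))) (.node [(20,(.ofNat 1),1)] .nil (.node [(59,(.negSucc 0),1)] (.node [] .nil (.node [(130,(.negSucc 0),1)] .nil .nil)) .nil))) (.node [] (.node [] (.node [] (.node [] .nil (.node [] .nil (.node [(231,(.ofNat 1),1)] .nil .nil))) .nil) (.node [] (.node [] .nil (.node [] .nil (.node [(233,(.ofNat 1),1)] .nil .nil))) .nil)) (.node [] (.node [] .nil (.node [(81,(.negSucc 0),1)] (.node [] .nil (.node [(207,(.ofNat 1),1)] .nil .nil)) (.node [(154,(.negSucc 0),1)] .nil .nil))) (.node [] (.node [] .nil (.node [(136,(.ofNat 1),1)] .nil .nil)) .nil)))) (.node [] (.node [] (.node [] (.node [] .nil (.node [(76,(.negSucc 0),1)] .nil .nil)) (.node [] .nil (.node []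 (.node [] .nil (.node [(220,(.ofNat 1),1)] .nil .nil)) (.node [(159,(.negSucc 0),1)] .nil .nil)))) (.node [] (.node [] (.node [] .nil (.node [] .nil (.node [(232,(.ofNat 1),1)] .nil .nil))) (.node [] (.node [] .nil (.node [(191,(.ofNat 1),1)] .nil .nil)) (.node [] .nil (.node [(246,(.negSucc 0),1)] .nil .nil)))) (.node [(63,(.negSucc 0),1)] (.node [] .nil (.node [(133,(.negSucc 0),1)] .nil .nil)) (.node [] (.node [] .nil (.node [(226,(.ofNat 1),1)] .nil .nil)) (.node [(165,(.ofNat 1),1)] .nil .nil))))) (.node [(169,(.negSucc 0),1)] (.node [] (.node [] .nil (.node [(78,(.negSucc 0),1)] .nil (.node [(148,(.negSucc 0),1)] .nil .nil))) (.node [(43,(.negSucc 0),1)] (.node [] .nil (.node [(1,(.ofNat 1),1),(2,(.ofNat 1),1),(3,(.ofNat 2),1),(4,(.ofNat 2),1),(5,(.ofNat 2),1),(6,(.ofNat 2),1),(7,(.ofNat 1),1),(169,(.negSucc 0),2)] .nil .nil)) (.node [(84,(.negSucc 0),1)] (.node [] .nil (.node [(224,(.ofNat 1),1)] .nil .nil)) (.node [(162,(.ofNat 1),1)] .nil .nil)))) (.node [] (.node []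 .nil (.node [] (.node [] .nil (.node [(211,(.ofNat 1),1)] .nil .nil)) .nil)) (.node [(72,(.negSucc 0),1)] .nil (.node [] .nil (.node [(168,(.negSucc 0),1)] .nil .nil))))))) (.node [] (.node [] (.node [] (.node [] (.node [] (.node [] .nil (.node [] .nil (.node [(230,(.ofNat 1),1)] .nil .nil))) (.node [] .nil (.node [(142,(.negSucc 0),1)] .nil .nil))) (.node [] .nil (.node [] (.node [] .nil (.node [(217,(.ofNat 1),1)] .nil .nil)) (.node [(158,(.ofNat 1),1)] .nil .nil)))) (.node [(21,(.ofNat 1),1)] (.node [] .nil (.node [] (.node [] .nil (.node [] .nil .nil)) .nil)) (.node [(62,(.negSucc 0),1)] (.node [] .nil (.node [(132,(.ofNat 1),1)] .nil .nil)) .nil))) (.node [] (.node [] (.node [] .nil (.node [] .nil (.node [(147,(.ofNat 1),1)] .nil .nil))) .nil) (.node [] (.node [] .nil (.node [(82,(.negSucc 0),1)] (.node [] .nil (.node [(210,(.ofNat 1),1)] .nil .nil)) .nil)) (.node [(69,(.negSucc 0),1)] (.node [] .nil (.node [(137,(.negSucc 0),1)] .nil .nil)) (.node [] .nil (.node [(167,(.ofNat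 1),1)] .nil .nil)))))) (.node [] (.node [] (.node [] (.node [] .nil (.node [(77,(.negSucc 0),1)] .nil .nil)) (.node [] .nil (.node [] (.node [] .nil (.node [(221,(.ofNat 1),1)] .nil .nil)) .nil))) (.node [] (.node [] .nil (.node [] (.node [] .nil (.node [(201,(.ofNat 1),1)] .nil .nil)) (.node [(153,(.ofNat 1),1)] .nil (.node [(247,(.negSucc 0),1)] .nil .nil)))) (.node [] .nil (.node [] .nil (.node [(166,(.negSucc 0),1)] .nil .nil))))) (.node [] (.node [] .nil (.node [(53,(.negSucc 0),1)] (.node [] .nil (.node [(129,(.ofNat 1),1)] .nil .nil)) (.node [] (.node [] .nil (.node [(225,(.ofNat 1),1)] .nil .nil)) (.node [(163,(.negSucc 0),1)] .nil .nil)))) (.node [] .nil (.node [(73,(.negSucc 0),1)] .nil .nil))))))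
noncomputable def ex162 : Trie (List (ℕ × ℤ × ℕ)) := (.node [(170,(.negSucc 1),1)] (.node [] (.node [] (.node [] (.node [] (.node [] (.node [] .nil (.node [(86,(.ofNat 1),1)] .nil .nil)) (.node [] (.node [] .nil (.node [(182,(.negSucc 0),1)] .nil .nil)) .nil)) (.node [(23,(.negSucc 0),1)] (.node [] (.node [] .nil (.node [(172,(.negSucc 0),1)] .nil .nil)) (.node [(108,(.ofNat 1),1)] .nil .nil)) .nil)) (.node [] (.node [] (.node [] .nil (.node [(94,(.ofNat 1),1)] .nil .nil)) (.node [] (.node [] .nil (.node [(190,(.negSucc 0),1)] .nil .nil)) (.node [] .nil (.node [(239,(.ofNat 1),1)] .nil .nil)))) .nil)) (.node [] (.node [] (.node [] (.node [] .nil (.node [(90,(.ofNat 1),1)] .nil .nil)) (.node [] (.node [] .nil (.node [(186,(.negSucc 0),1)] .nil .nil)) (.node [] .nil (.node [(235,(.ofNat 1),1)] .nil .nil)))) (.node [(27,(.negSucc 0),1)] (.node [] (.node [] .nil (.node [(176,(.negSucc 0),1)] .nil .nil)) (.node [(112,(.ofNat 1),1)] .nil .nil)) .nil)) (.node [] (.node [] (.node [] .nil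 (.node [(98,(.ofNat 1),1)] .nil .nil)) .nil) (.node [] (.node [] (.node [] .nil (.node [(178,(.negSucc 0),1)] .nil .nil)) .nil) .nil)))) (.node [(170,(.ofNat 1),1)] (.node [] (.node [] (.node [] (.node [] .nil (.node [(88,(.ofNat 1),1)] .nil .nil)) (.node [] (.node [] .nil (.node [(184,(.negSucc 0),1)] .nil .nil)) .nil)) (.node [(25,(.negSucc 0),1)] (.node [] (.node [] .nil (.node [(174,(.negSucc 0),1)] .nil .nil)) (.node [(110,(.ofNat 1),1)] .nil .nil)) .nil)) (.node [] (.node [] (.node [] .nil (.node [(96,(.ofNat 1),1)] .nil .nil)) (.node [] (.node [] .nil (.node [] .nil .nil)) .nil)) .nil)) (.node [] (.node [] (.node [] (.node [] .nil (.node [(92,(.ofNat 1),1)] .nil .nil)) (.node [] (.node [] .nil (.node [(188,(.negSucc 0),1)] .nil .nil)) (.node [] .nil (.node [(237,(.ofNat 1),1)] .nil .nil)))) .nil) (.node [(22,(.negSucc 0),1)] (.node [] (.node [] .nil (.node [(100,(.ofNat 1),1)] .nil .nil)) .nil) (.node [] (.node [] (.node [] .nil (.node [(180,(.negSucc 0),1)] .nil .nil))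 .nil) .nil))))) (.node [] (.node [] (.node [] (.node [] (.node [] (.node [] .nil (.node [(87,(.ofNat 1),1)] .nil .nil)) (.node [] (.node [] .nil (.node [(183,(.negSucc 0),1)] .nil .nil)) .nil)) (.node [(24,(.negSucc 0),1)] (.node [] (.node [] .nil (.node [(173,(.negSucc 0),1)] .nil .nil)) (.node [(109,(.ofNat 1),1)] .nil .nil)) .nil)) (.node [] (.node [] (.node [] .nil (.node [(95,(.ofNat 1),1)] .nil .nil)) (.node [] (.node [] .nil (.node [(191,(.negSucc 0),1)] .nil .nil)) (.node [] .nil (.node [(241,(.ofNat 1),1)] .nil .nil)))) .nil)) (.node [] (.node [] (.node [] (.node [] .nil (.node [(91,(.ofNat 1),1)] .nil .nil)) (.node [] (.node [] .nil (.node [(187,(.negSucc 0),1)] .nil .nil)) (.node [] .nil (.node [(236,(.ofNat 1),1)] .nil .nil)))) (.node [(28,(.negSucc 0),1)] (.node [] .nil (.node [(0,(.ofNat 1),1),(170,(.negSucc 0),2)] .nil .nil)) .nil)) (.node [] (.node [] (.node [] .nil (.node [(99,(.ofNat 1),1)] .nil .nil)) .nil) (.node [] (.node [] (.node [] .nil (.node [(179,(.negSucc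 0),1)] .nil .nil)) .nil) .nil)))) (.node [] (.node [] (.node [] (.node [] (.node [] .nil (.node [(89,(.ofNat 1),1)] .nil .nil)) (.node [] (.node [] .nil (.node [(185,(.negSucc 0),1)] .nil .nil)) (.node [] .nil (.node [(234,(.ofNat 1),1)] .nil .nil)))) (.node [(26,(.negSucc 0),1)] (.node [] (.node [] .nil (.node [(175,(.negSucc 0),1)] .nil .nil)) (.node [(111,(.ofNat 1),1)] .nil .nil)) .nil)) (.node [] (.node [] (.node [] .nil (.node [(97,(.ofNat 1),1)] .nil .nil)) .nil) (.node [] (.node [] (.node [] .nil (.node [(177,(.negSucc 0),1)] .nil .nil)) .nil) .nil))) (.node [] (.node [] (.node [] (.node [] .nil (.node [(93,(.ofNat 1),1)] .nil .nil)) (.node [] (.node [] .nil (.node [(189,(.negSucc 0),1)] .nil .nil)) (.node [] .nil (.node [(238,(.ofNat 1),1)] .nil .nil)))) .nil) (.node [] (.node [] (.node [] (.node [] .nil (.node [(171,(.negSucc 0),1)] .nil .nil)) (.node [(107,(.ofNat 1),1)] .nil .nil)) .nil) (.node [] (.node [] (.node [] .nil (.node [(181,(.negSucc 0),1)] .nil .nil)) .nil)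 .nil))))))
noncomputable def ex163 : Trie (List (ℕ × ℤ × ℕ)) := (.node [(171,(.negSucc 0),1)] (.node [] (.node [] (.node [] (.node [] (.node [] .nil (.node [] (.node [] .nil (.node [(192,(.negSucc 0),1)] .nil .nil)) (.node [] .nil (.node [(236,(.negSucc 0),1)] .nil .nil)))) (.node [] (.node [] .nil (.node [(114,(.ofNat 1),1)] .nil .nil)) (.node [] .nil (.node [(170,(.negSucc 0),1)] .nil .nil)))) (.node [] (.node [] .nil (.node [] (.node [] .nil (.node [(200,(.negSucc 0),1)] .nil .nil)) (.node [] .nil (.node [(240,(.ofNat 1),1)] .nil .nil)))) (.node [] (.node [] (.node [] .nil (.node [(179,(.ofNat 1),1)] .nil .nil)) .nil) (.node [(88,(.ofNat 1),1)] .nil .nil)))) (.node [] (.node [] (.node [] .nil (.node [] (.node [] .nil (.node [(196,(.negSucc 0),1)] .nil .nil)) .nil)) (.node [(32,(.ofNat 1),1)] (.node [] .nil (.node [(0,(.ofNat 1),1),(2,(.ofNat 1),1),(171,(.negSucc 0),2)] .nil .nil)) .nil)) (.node [] (.node [] (.node [] (.node [] .nil (.node [(174,(.negSucc 0),1)] .nil .nil))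 (.node [(103,(.negSucc 0),1)] .nil .nil)) .nil) (.node [] .nil (.node [(92,(.ofNat 1),1)] .nil .nil))))) (.node [(171,(.negSucc 0),1)] (.node [] (.node [] (.node [] .nil (.node [] (.node [] .nil (.node [(194,(.negSucc 0),1)] .nil .nil)) (.node [] .nil (.node [(238,(.negSucc 0),1)] .nil .nil)))) (.node [(30,(.ofNat 1),1)] (.node [] .nil (.node [(116,(.ofNat 1),1)] .nil .nil)) .nil)) (.node [] (.node [] (.node [] (.node [] .nil (.node [(172,(.negSucc 0),1)] .nil .nil)) (.node [(101,(.negSucc 0),1)] .nil .nil)) .nil) (.node [] (.node [] (.node [] .nil (.node [(181,(.ofNat 1),1)] .nil .nil)) .nil) (.node [(90,(.ofNat 1),1)] .nil .nil)))) (.node [] (.node [] (.node [] .nil (.node [] (.node [] .nil (.node [(198,(.negSucc 0),1)] .nil .nil)) .nil)) (.node [] (.node [] (.node [] .nil (.node [(177,(.ofNat 1),1)] .nil .nil)) .nil) (.node [(86,(.ofNat 1),1)] .nil .nil))) (.node [] (.node [] (.node [] (.node [] .nil (.node [(176,(.negSucc 0),1)] .nil .nil)) (.node [(105,(.negSucc 0),1)] .nil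 .nil)) .nil) (.node [] (.node [] .nil (.node [] .nil (.node [(234,(.negSucc 0),1)] .nil .nil))) (.node [(94,(.ofNat 1),1)] .nil .nil)))))) (.node [] (.node [] (.node [] (.node [] (.node [] .nil (.node [] (.node [] .nil (.node [(193,(.negSucc 0),1)] .nil .nil)) (.node [] .nil (.node [(237,(.negSucc 0),1)] .nil .nil)))) (.node [(29,(.ofNat 1),1)] (.node [] .nil (.node [(115,(.ofNat 1),1)] .nil .nil)) .nil)) (.node [] (.node [] .nil (.node [] (.node [] .nil (.node [(201,(.negSucc 0),1)] .nil .nil)) (.node [] .nil (.node [(242,(.ofNat 1),1)] .nil .nil)))) (.node [] (.node [] (.node [] .nil (.node [(180,(.ofNat 1),1)] .nil .nil)) .nil) (.node [(89,(.ofNat 1),1)] .nil .nil)))) (.node [] (.node [] (.node [] .nil (.node [] (.node [] .nil (.node [(197,(.negSucc 0),1)] .nil .nil)) .nil)) (.node [(33,(.ofNat 1),1)] (.node [] .nil (.node [(143,(.ofNat 1),1)] .nil .nil)) .nil)) (.node [(22,(.negSucc 0),1)] (.node [] (.node [] (.node [] .nil (.node [(175,(.negSucc 0),1)] .nil .nil)) (.node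 [(104,(.negSucc 0),1)] .nil .nil)) .nil) (.node [] .nil (.node [(93,(.ofNat 1),1)] .nil .nil))))) (.node [(171,(.ofNat 1),1)] (.node [] (.node [] (.node [] .nil (.node [] (.node [] .nil (.node [(195,(.negSucc 0),1)] .nil .nil)) .nil)) (.node [(31,(.ofNat 1),1)] (.node [] .nil (.node [(117,(.ofNat 1),1)] .nil .nil)) .nil)) (.node [] (.node [] (.node [] (.node [] .nil (.node [(173,(.negSucc 0),1)] .nil .nil)) (.node [(102,(.negSucc 0),1)] .nil .nil)) (.node [] (.node [] .nil (.node [] .nil .nil)) .nil)) (.node [] .nil (.node [(91,(.ofNat 1),1)] .nil .nil)))) (.node [] (.node [] (.node [] .nil (.node [] (.node [] .nil (.node [(199,(.negSucc 0),1)] .nil .nil)) .nil)) (.node [] (.node [] (.node [] .nil (.node [(178,(.ofNat 1),1)] .nil .nil)) .nil) (.node [(87,(.ofNat 1),1)] .nil .nil))) (.node [(23,(.negSucc 0),1)] (.node [] (.node [] .nil (.node [(113,(.ofNat 1),1)] .nil .nil)) .nil) (.node [] (.node [] .nil (.node [] .nil (.node [(235,(.negSucc 0),1)] .nil .nil))) (.node [(95,(.ofNat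 1),1)] .nil .nil)))))))
noncomputable def ex164 : Trie (List (ℕ × ℤ × ℕ)) := (.node [(172,(.negSucc 0),1)] (.node [] (.node [] (.node [] (.node [] .nil (.node [(29,(.ofNat 1),1)] (.node [] .nil (.node [(119,(.ofNat 1),1)] .nil .nil)) (.node [(86,(.ofNat 1),1)] .nil .nil))) (.node [] (.node [] (.node [] (.node [] .nil (.node [(175,(.negSucc 0),1)] .nil .nil)) (.node [(103,(.negSucc 0),1)] .nil .nil)) (.node [] (.node [] .nil (.node [(206,(.negSucc 0),1)] .nil .nil)) .nil)) (.node [] (.node [] (.node [] .nil (.node [(183,(.ofNat 1),1)] .nil .nil)) .nil) .nil))) (.node [(172,(.ofNat 1),1)] (.node [] (.node [] .nil (.node [] (.node [] .nil (.node [(202,(.negSucc 0),1)] .nil .nil)) .nil)) (.node [(36,(.negSucc 0),1)] (.node [] .nil (.node [(138,(.ofNat 1),1)] .nil .nil)) (.node [(90,(.ofNat 1),1)] .nil .nil))) (.node [(22,(.negSucc 0),1)] (.node [] .nil (.node [] (.node [] .nil (.node [] .nil .nil)) .nil)) (.node [] (.node [] (.node [] .nil (.node [(192,(.ofNat 1),1)] .nil .nil)) (.node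 [] .nil (.node [(236,(.ofNat 1),1)] .nil .nil))) (.node [(96,(.negSucc 0),1)] .nil .nil))))) (.node [] (.node [] (.node [] (.node [] .nil (.node [] .nil (.node [] .nil (.node [(239,(.negSucc 0),1)] .nil .nil)))) (.node [(34,(.negSucc 0),1)] (.node [] .nil (.node [(121,(.ofNat 1),1)] .nil .nil)) (.node [(88,(.ofNat 1),1)] .nil .nil))) (.node [] .nil (.node [] (.node [] (.node [] .nil (.node [(185,(.ofNat 1),1)] .nil .nil)) (.node [] .nil (.node [(234,(.ofNat 1),1)] .nil .nil))) .nil))) (.node [] (.node [] (.node [] (.node [] (.node [] .nil (.node [(173,(.negSucc 0),1)] .nil .nil)) (.node [(101,(.negSucc 0),1)] .nil .nil)) (.node [] (.node [] .nil (.node [(204,(.negSucc 0),1)] .nil .nil)) .nil)) .nil) (.node [] (.node [] (.node [] .nil (.node [(106,(.ofNat 1),1)] .nil .nil)) .nil) (.node [] (.node [] (.node [] .nil (.node [(194,(.ofNat 1),1)] .nil .nil)) .nil) (.node [(98,(.negSucc 0),1)] .nil .nil)))))) (.node [(172,(.ofNat 1),1)] (.node [] (.node [] (.node [] .nil (.node [] (.node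 [] .nil (.node [(120,(.ofNat 1),1)] .nil .nil)) (.node [(87,(.ofNat 1),1)] .nil .nil))) (.node [] (.node [] (.node [] (.node [] .nil (.node [(176,(.negSucc 0),1)] .nil .nil)) (.node [(104,(.negSucc 0),1)] .nil .nil)) (.node [] (.node [] .nil (.node [(207,(.negSucc 0),1)] .nil .nil)) (.node [] .nil (.node [(243,(.ofNat 1),1)] .nil .nil)))) (.node [] (.node [] (.node [] .nil (.node [(184,(.ofNat 1),1)] .nil .nil)) .nil) .nil))) (.node [] (.node [] (.node [] .nil (.node [] (.node [] .nil (.node [(203,(.negSucc 0),1)] .nil .nil)) .nil)) (.node [(37,(.negSucc 0),1)] (.node [] (.node [] .nil (.node [(177,(.negSucc 0),1)] .nil .nil)) (.node [(144,(.ofNat 1),1)] .nil .nil)) (.node [(91,(.ofNat 1),1)] .nil (.node [(171,(.negSucc 0),1)] .nil .nil)))) (.node [] .nil (.node [] (.node [] (.node [] .nil (.node [(193,(.ofNat 1),1)] .nil .nil)) (.node [] .nil (.node [(237,(.ofNat 1),1)] .nil .nil))) (.node [(97,(.negSucc 0),1)] .nil .nil))))) (.node [(172,(.negSucc 0),1)] (.node [] (.node []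 .nil (.node [(35,(.negSucc 0),1)] (.node [] .nil (.node [(0,(.ofNat 1),1),(2,(.ofNat 1),1),(3,(.ofNat 1),1),(172,(.negSucc 0),2)] .nil .nil)) (.node [(89,(.ofNat 1),1)] .nil .nil))) (.node [] .nil (.node [] (.node [] .nil (.node [] .nil (.node [(235,(.ofNat 1),1)] .nil .nil))) .nil))) (.node [] (.node [] (.node [] (.node [] (.node [] .nil (.node [(174,(.negSucc 0),1)] .nil .nil)) (.node [(102,(.negSucc 0),1)] .nil .nil)) (.node [] (.node [] .nil (.node [(205,(.negSucc 0),1)] .nil .nil)) (.node [] .nil (.node [(240,(.negSucc 0),1)] .nil .nil)))) (.node [] (.node [] (.node [] .nil (.node [(182,(.ofNat 1),1)] .nil .nil)) .nil) .nil)) (.node [(24,(.ofNat 1),1)] (.node [] (.node [] .nil (.node [(118,(.ofNat 1),1)] .nil .nil)) (.node [] .nil (.node [(170,(.negSucc 0),1)] .nil .nil))) (.node [] (.node [] (.node [] .nil (.node [(195,(.ofNat 1),1)] .nil .nil)) .nil) (.node [(99,(.negSucc 0),1)] .nil .nil)))))))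
noncomputable def ex165 : Trie (List (ℕ × ℤ × ℕ)) := (.node [(173,(.negSucc 0),1)] (.node [] (.node [] (.node [] (.node [] .nil (.node [(30,(.negSucc 0),1)] (.node [] .nil (.node [(123,(.ofNat 1),1)] .nil .nil)) .nil)) (.node [] (.node [] .nil (.node [] (.node [] .nil (.node [(209,(.negSucc 0),1)] .nil .nil)) .nil)) (.node [] (.node [] (.node [] .nil (.node [(186,(.ofNat 1),1)] .nil .nil)) (.node [] .nil (.node [(235,(.negSucc 0),1)] .nil .nil))) .nil))) (.node [(173,(.negSucc 0),1)] (.node [] (.node [] (.node [] (.node [] .nil (.node [(175,(.negSucc 0),1)] .nil .nil)) (.node [(102,(.negSucc 0),1)] .nil .nil)) .nil) (.node [(39,(.ofNat 1),1)] (.node [] .nil (.node [(139,(.ofNat 1),1)] .nil .nil)) (.node [(93,(.negSucc 0),1)] .nil (.node [(171,(.negSucc 0),1)] .nil .nil)))) .nil)) (.node [] (.node [] (.node [] (.node [] .nil (.node [] (.node [] .nil (.node [(203,(.ofNat 1),1)] .nil .nil)) .nil)) (.node [] (.node [] .nil (.node [(0,(.ofNat 1),1),(2,(.ofNat 1),1),(3,(.ofNat 1),1),(4,(.ofNat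 1),1),(173,(.negSucc 0),2)] .nil .nil)) .nil)) (.node [] .nil (.node [] (.node [] (.node [] .nil (.node [(188,(.ofNat 1),1)] .nil .nil)) .nil) (.node [(97,(.negSucc 0),1)] .nil .nil)))) (.node [] (.node [] (.node [] .nil (.node [] .nil (.node [] .nil (.node [(240,(.ofNat 1),1)] .nil .nil)))) (.node [] (.node [] (.node [] .nil (.node [(182,(.negSucc 0),1)] .nil .nil)) .nil) .nil)) (.node [] (.node [] .nil (.node [(87,(.ofNat 1),1)] .nil (.node [(170,(.negSucc 0),1)] .nil .nil))) (.node [] (.node [] (.node [] .nil (.node [(197,(.ofNat 1),1)] .nil .nil)) .nil) .nil))))) (.node [(173,(.ofNat 1),1)] (.node [] (.node [] (.node [] (.node [] .nil (.node [] (.node [] .nil (.node [(202,(.ofNat 1),1)] .nil .nil)) (.node [] .nil (.node [(239,(.ofNat 1),1)] .nil .nil)))) (.node [(34,(.negSucc 0),1)] (.node [] .nil (.node [(124,(.ofNat 1),1)] .nil .nil)) .nil)) (.node [] (.node [] (.node [] .nil (.node [(105,(.ofNat 1),1)] .nil .nil)) (.node [] (.node [] .nil (.node [(210,(.negSucc 0),1)] .nil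 .nil)) (.node [] .nil (.node [(244,(.ofNat 1),1)] .nil .nil)))) (.node [] (.node [] (.node [] .nil (.node [(187,(.ofNat 1),1)] .nil .nil)) (.node [] .nil (.node [(236,(.negSucc 0),1)] .nil .nil))) (.node [(96,(.negSucc 0),1)] .nil (.node [(172,(.negSucc 0),1)] .nil .nil))))) (.node [(173,(.ofNat 1),1)] (.node [] (.node [] (.node [] (.node [] .nil (.node [(176,(.negSucc 0),1)] .nil .nil)) (.node [(103,(.negSucc 0),1)] .nil .nil)) .nil) (.node [(40,(.ofNat 1),1)] (.node [] (.node [] .nil (.node [(178,(.negSucc 0),1)] .nil .nil)) (.node [(145,(.ofNat 1),1)] .nil .nil)) (.node [(94,(.negSucc 0),1)] .nil .nil))) (.node [] (.node [] (.node [] .nil (.node [(106,(.ofNat 1),1)] .nil .nil)) (.node [(86,(.ofNat 1),1)] (.node [] .nil (.node [] .nil .nil)) .nil)) (.node [] (.node [] (.node [] .nil (.node [(196,(.ofNat 1),1)] .nil .nil)) (.node [] .nil (.node [(238,(.ofNat 1),1)] .nil .nil))) .nil)))) (.node [] (.node [] (.node [] (.node [] (.node [] (.node [] .nil (.node [(174,(.negSucc 0),1)]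 .nil .nil)) (.node [(101,(.negSucc 0),1)] .nil .nil)) (.node [] (.node [] .nil (.node [(204,(.ofNat 1),1)] .nil .nil)) .nil)) (.node [(38,(.ofNat 1),1)] (.node [] .nil (.node [(134,(.ofNat 1),1)] .nil .nil)) (.node [(92,(.negSucc 0),1)] .nil .nil))) (.node [(22,(.negSucc 0),1)] .nil (.node [] (.node [] (.node [] .nil (.node [(192,(.negSucc 0),1)] .nil .nil)) .nil) (.node [(98,(.negSucc 0),1)] .nil .nil)))) (.node [] (.node [] (.node [] .nil (.node [] (.node [] .nil (.node [(208,(.negSucc 0),1)] .nil .nil)) .nil)) (.node [] (.node [] .nil (.node [] .nil (.node [(234,(.negSucc 0),1)] .nil .nil))) .nil)) (.node [(25,(.negSucc 0),1)] (.node [] (.node [] .nil (.node [(122,(.ofNat 1),1)] .nil .nil)) (.node [(88,(.ofNat 1),1)] .nil .nil)) (.node [] (.node [] (.node [] .nil (.node [(198,(.ofNat 1),1)] .nil .nil)) .nil) (.node [(100,(.ofNat 1),1)] .nil .nil)))))))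
noncomputable def ex166 : Trie (List (ℕ × ℤ × ℕ)) := (.node [(174,(.negSucc 0),1)] (.node [] (.node [] (.node [] (.node [] (.node [] .nil (.node [] (.node [] .nil (.node [(202,(.negSucc 0),1)] .nil .nil)) (.node [] .nil (.node [(239,(.negSucc 0),1)] .nil .nil)))) (.node [(31,(.ofNat 1),1)] (.node [] .nil (.node [(126,(.ofNat 1),1)] .nil .nil)) .nil)) (.node [] (.node [] (.node [] .nil (.node [(105,(.ofNat 1),1)] .nil .nil)) .nil) (.node [] .nil (.node [(97,(.negSucc 0),1)] .nil (.node [(172,(.negSucc 0),1)] .nil .nil))))) (.node [] (.node [] .nil (.node [(41,(.negSucc 0),1)] (.node [] .nil (.node [(140,(.ofNat 1),1)] .nil .nil)) .nil)) (.node [] (.node [] (.node [] .nil (.node [(106,(.ofNat 1),1)] .nil .nil)) (.node [(86,(.ofNat 1),1)] .nil .nil)) (.node [] (.node [] (.node [] .nil (.node [(196,(.negSucc 0),1)] .nil .nil)) (.node [] .nil (.node [(238,(.negSucc 0),1)] .nil .nil))) (.node [] .nil (.node [(173,(.negSucc 0),1)] .nil .nil)))))) (.node [] (.node [] (.node [] (.node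 [] (.node [] (.node [] .nil (.node [(176,(.negSucc 0),1)] .nil .nil)) (.node [(102,(.negSucc 0),1)] .nil .nil)) (.node [] (.node [] .nil (.node [(205,(.ofNat 1),1)] .nil .nil)) .nil)) (.node [(38,(.ofNat 1),1)] (.node [] .nil (.node [(131,(.ofNat 1),1)] .nil .nil)) (.node [(93,(.negSucc 0),1)] .nil .nil))) (.node [(22,(.negSucc 0),1)] .nil (.node [] (.node [] (.node [] .nil (.node [(190,(.ofNat 1),1)] .nil .nil)) .nil) .nil))) (.node [(174,(.ofNat 1),1)] (.node [] (.node [] .nil (.node [] (.node [] .nil (.node [(209,(.ofNat 1),1)] .nil .nil)) .nil)) (.node [] (.node [] (.node [] .nil (.node [(183,(.negSucc 0),1)] .nil .nil)) (.node [] .nil (.node [(235,(.ofNat 1),1)] .nil .nil))) .nil)) (.node [] (.node [] .nil (.node [(89,(.negSucc 0),1)] (.node [] .nil (.node [] .nil .nil)) .nil)) (.node [] (.node [] (.node [] .nil (.node [(199,(.ofNat 1),1)] .nil .nil)) .nil) (.node [(100,(.ofNat 1),1)] .nil .nil)))))) (.node [(174,(.ofNat 1),1)] (.node [] (.node [] (.node [] (.node [] (.node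 [] (.node [] .nil (.node [(175,(.negSucc 0),1)] .nil .nil)) (.node [(101,(.negSucc 0),1)] .nil .nil)) .nil) (.node [(35,(.ofNat 1),1)] (.node [] .nil (.node [(0,(.ofNat 1),1),(2,(.ofNat 1),1),(3,(.ofNat 1),1),(4,(.ofNat 1),1),(5,(.ofNat 1),1),(174,(.negSucc 0),2)] .nil .nil)) (.node [(92,(.negSucc 0),1)] .nil .nil))) (.node [] (.node [] .nil (.node [] (.node [] .nil (.node [(211,(.negSucc 0),1)] .nil .nil)) (.node [] .nil (.node [(245,(.ofNat 1),1)] .nil .nil)))) (.node [] (.node [] (.node [] .nil (.node [(189,(.ofNat 1),1)] .nil .nil)) (.node [] .nil (.node [(237,(.negSucc 0),1)] .nil .nil))) .nil))) (.node [(174,(.negSucc 0),1)] (.node [] (.node [] (.node [] .nil (.node [(104,(.ofNat 1),1)] .nil .nil)) (.node [] (.node [] .nil (.node [(208,(.ofNat 1),1)] .nil .nil)) (.node [] .nil (.node [(240,(.negSucc 0),1)] .nil .nil)))) (.node [(42,(.negSucc 0),1)] (.node [] (.node [] .nil (.node [(179,(.negSucc 0),1)] .nil .nil)) (.node [(146,(.ofNat 1),1)] .nil (.node [(234,(.ofNat 1),1)]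 .nil .nil))) (.node [(95,(.ofNat 1),1)] .nil .nil))) (.node [] (.node [] .nil (.node [] .nil (.node [(170,(.negSucc 0),1)] .nil .nil))) .nil))) (.node [] (.node [] (.node [] (.node [] .nil (.node [] (.node [] .nil (.node [(206,(.ofNat 1),1)] .nil .nil)) .nil)) (.node [] (.node [] .nil (.node [(135,(.ofNat 1),1)] .nil .nil)) (.node [] .nil (.node [(171,(.negSucc 0),1)] .nil .nil)))) (.node [] .nil (.node [] (.node [] (.node [] .nil (.node [(193,(.negSucc 0),1)] .nil .nil)) .nil) (.node [(99,(.ofNat 1),1)] .nil .nil)))) (.node [] (.node [] .nil (.node [] (.node [] (.node [] .nil (.node [(186,(.negSucc 0),1)] .nil .nil)) .nil) (.node [(96,(.negSucc 0),1)] .nil .nil))) (.node [(26,(.ofNat 1),1)] (.node [] (.node [] .nil (.node [(125,(.ofNat 1),1)] .nil .nil)) (.node [(90,(.negSucc 0),1)] .nil .nil)) (.node [] (.node [] (.node [] .nil (.node [(200,(.ofNat 1),1)] .nil .nil)) .nil) .nil))))))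
noncomputable def ex167 : Trie (List (ℕ × ℤ × ℕ)) := (.node [(175,(.negSucc 0),1)] (.node [] (.node [] (.node [] (.node [] (.node [] (.node [] (.node [] .nil (.node [(176,(.negSucc 0),1)] .nil .nil)) (.node [(101,(.negSucc 0),1)] .nil .nil)) (.node [] (.node [] .nil (.node [(203,(.negSucc 0),1)] .nil .nil)) .nil)) (.node [(32,(.negSucc 0),1)] (.node [] .nil (.node [(0,(.ofNat 1),1),(2,(.ofNat 1),1),(3,(.ofNat 1),1),(4,(.ofNat 1),1),(5,(.ofNat 1),1),(6,(.ofNat 1),1),(175,(.negSucc 0),2)] .nil .nil)) (.node [(92,(.negSucc 0),1)] .nil .nil))) (.node [] (.node [] .nil (.node [] (.node [] .nil (.node [(211,(.ofNat 1),1)] .nil .nil)) .nil)) (.node [] (.node [] (.node [] .nil (.node [(189,(.negSucc 0),1)] .nil .nil)) (.node [] .nil (.node [(237,(.ofNat 1),1)] .nil .nil))) (.node [(98,(.ofNat 1),1)] .nil .nil)))) (.node [] (.node [] (.node [] (.node [] .nil (.node [(104,(.ofNat 1),1)] .nil .nil)) (.node [] (.node [] .nil (.node [(208,(.negSucc 0),1)] .nil .nil)) (.node [] .nil (.node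 [(240,(.ofNat 1),1)] .nil .nil)))) (.node [] (.node [] .nil (.node [(141,(.ofNat 1),1)] .nil (.node [(234,(.negSucc 0),1)] .nil .nil))) (.node [(95,(.ofNat 1),1)] .nil .nil))) (.node [] (.node [] .nil (.node [(87,(.negSucc 0),1)] .nil (.node [(170,(.negSucc 0),1)] .nil .nil))) (.node [] (.node [] (.node [] .nil (.node [(197,(.negSucc 0),1)] .nil .nil)) .nil) .nil)))) (.node [] (.node [] (.node [] (.node [] (.node [] .nil (.node [(103,(.ofNat 1),1)] .nil .nil)) .nil) (.node [(39,(.negSucc 0),1)] (.node [] .nil (.node [(132,(.ofNat 1),1)] .nil .nil)) (.node [(94,(.ofNat 1),1)] .nil (.node [(171,(.negSucc 0),1)] .nil .nil)))) (.node [] .nil (.node [] (.node [] (.node [] .nil (.node [(191,(.ofNat 1),1)] .nil .nil)) .nil) (.node [(99,(.ofNat 1),1)] .nil .nil)))) (.node [(175,(.negSucc 0),1)] (.node [] (.node [] .nil (.node [] (.node [] .nil (.node [(210,(.ofNat 1),1)] .nil .nil)) .nil)) (.node [] (.node [] (.node [] .nil (.node [(184,(.negSucc 0),1)] .nil .nil)) (.node [] .nil (.node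 [(236,(.ofNat 1),1)] .nil .nil))) (.node [(96,(.negSucc 0),1)] .nil .nil))) (.node [] .nil (.node [] .nil (.node [] .nil (.node [(174,(.negSucc 0),1)] .nil .nil))))))) (.node [(175,(.ofNat 1),1)] (.node [] (.node [] (.node [] (.node [] .nil (.node [] (.node [] .nil (.node [(205,(.negSucc 0),1)] .nil .nil)) .nil)) (.node [(36,(.negSucc 0),1)] (.node [] .nil (.node [(129,(.ofNat 1),1)] .nil .nil)) .nil)) (.node [(22,(.negSucc 0),1)] (.node [] .nil (.node [] .nil (.node [] .nil (.node [(246,(.ofNat 1),1)] .nil .nil)))) .nil)) (.node [] (.node [] .nil (.node [(43,(.ofNat 1),1)] (.node [] (.node [] .nil (.node [(180,(.negSucc 0),1)] .nil .nil)) (.node [(147,(.ofNat 1),1)] .nil .nil)) .nil)) (.node [] (.node [] .nil (.node [(89,(.negSucc 0),1)] .nil .nil)) (.node [] (.node [] (.node [] .nil (.node [(199,(.negSucc 0),1)] .nil .nil)) .nil) (.node [(100,(.ofNat 1),1)] .nil .nil))))) (.node [] (.node [] (.node [] (.node [] .nil (.node [] (.node [] .nil (.node [(207,(.ofNat 1),1)] .nil .nil))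 .nil)) (.node [(41,(.negSucc 0),1)] (.node [] .nil (.node [(136,(.ofNat 1),1)] .nil .nil)) .nil)) (.node [] (.node [] (.node [] .nil (.node [(106,(.ofNat 1),1)] .nil .nil)) .nil) (.node [] (.node [] (.node [] .nil (.node [(194,(.negSucc 0),1)] .nil .nil)) (.node [] .nil (.node [(238,(.ofNat 1),1)] .nil .nil))) (.node [] .nil (.node [(173,(.negSucc 0),1)] .nil .nil))))) (.node [(175,(.ofNat 1),1)] (.node [] (.node [] (.node [] .nil (.node [(105,(.ofNat 1),1)] .nil .nil)) .nil) (.node [] (.node [] (.node [] .nil (.node [(187,(.negSucc 0),1)] .nil .nil)) .nil) (.node [] .nil (.node [(172,(.negSucc 0),1)] .nil .nil)))) (.node [(27,(.negSucc 0),1)] (.node [] (.node [] .nil (.node [(127,(.ofNat 1),1)] .nil .nil)) (.node [(91,(.ofNat 1),1)] (.node [] .nil (.node [] .nil .nil)) .nil)) (.node [] (.node [] (.node [] .nil (.node [(201,(.ofNat 1),1)] .nil .nil)) (.node [] .nil (.node [(239,(.ofNat 1),1)] .nil .nil))) .nil))))))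
noncomputable def ex168 : Trie (List (ℕ × ℤ × ℕ)) := (.node [(176,(.negSucc 0),1)] (.node [] (.node [] (.node [] (.node [] (.node [] (.node [] .nil (.node [(102,(.ofNat 1),1)] .nil .nil)) (.node [] (.node [] .nil (.node [(204,(.negSucc 0),1)] .nil .nil)) .nil)) (.node [(33,(.ofNat 1),1)] (.node [] .nil (.node [(128,(.ofNat 1),1)] .nil .nil)) (.node [(93,(.ofNat 1),1)] (.node [] .nil (.node [] .nil .nil)) .nil))) (.node [(22,(.negSucc 0),1)] .nil (.node [] (.node [] (.node [] .nil (.node [(190,(.negSucc 0),1)] .nil .nil)) .nil) .nil))) (.node [] (.node [] (.node [] .nil (.node [] (.node [] .nil (.node [(209,(.negSucc 0),1)] .nil .nil)) .nil)) (.node [(43,(.ofNat 1),1)] (.node [] .nil (.node [(142,(.ofNat 1),1)] .nil (.node [(235,(.negSucc 0),1)] .nil .nil))) .nil)) (.node [] (.node [] .nil (.node [(88,(.ofNat 1),1)] .nil .nil)) (.node [] (.node [] (.node [] .nil (.node [(198,(.negSucc 0),1)] .nil .nil)) .nil) (.node [(100,(.ofNat 1),1)] .nil .nil))))) (.node [] (.node [] (.node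 [] (.node [] .nil (.node [] (.node [] .nil (.node [(207,(.negSucc 0),1)] .nil .nil)) .nil)) (.node [(40,(.ofNat 1),1)] (.node [] .nil (.node [(133,(.ofNat 1),1)] .nil .nil)) .nil)) (.node [] (.node [] (.node [] .nil (.node [(106,(.ofNat 1),1)] .nil .nil)) .nil) (.node [] (.node [] .nil (.node [] .nil (.node [(238,(.negSucc 0),1)] .nil .nil))) (.node [] .nil (.node [(173,(.negSucc 0),1)] .nil .nil))))) (.node [] (.node [] (.node [] (.node [] .nil (.node [(105,(.ofNat 1),1)] .nil .nil)) .nil) (.node [] (.node [] (.node [] .nil (.node [(185,(.negSucc 0),1)] .nil .nil)) .nil) (.node [(97,(.ofNat 1),1)] .nil (.node [(172,(.negSucc 0),1)] .nil .nil)))) (.node [] (.node [] .nil (.node [(91,(.ofNat 1),1)] .nil .nil)) (.node [] (.node [] (.node [] .nil (.node [(201,(.negSucc 0),1)] .nil .nil)) (.node [] .nil (.node [(239,(.negSucc 0),1)] .nil .nil))) .nil))))) (.node [(176,(.ofNat 1),1)] (.node [] (.node [] (.node [] (.node [] (.node [] .nil (.node [(103,(.ofNat 1),1)] .nil .nil)) (.node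 [] (.node [] .nil (.node [(206,(.negSucc 0),1)] .nil .nil)) .nil)) (.node [(37,(.ofNat 1),1)] (.node [] .nil (.node [(130,(.ofNat 1),1)] .nil .nil)) (.node [(94,(.ofNat 1),1)] .nil (.node [(171,(.negSucc 0),1)] .nil .nil)))) (.node [] (.node [] .nil (.node [] .nil (.node [] .nil (.node [(247,(.ofNat 1),1)] .nil .nil)))) (.node [] (.node [] (.node [] .nil (.node [(191,(.negSucc 0),1)] .nil .nil)) .nil) (.node [(99,(.ofNat 1),1)] .nil .nil)))) (.node [] (.node [] (.node [] .nil (.node [] (.node [] .nil (.node [(210,(.negSucc 0),1)] .nil .nil)) .nil)) (.node [] (.node [] (.node [] .nil (.node [(181,(.negSucc 0),1)] .nil .nil)) (.node [(148,(.ofNat 1),1)] .nil (.node [(236,(.negSucc 0),1)] .nil .nil))) .nil)) (.node [] (.node [] .nil (.node [(90,(.ofNat 1),1)] .nil .nil)) (.node [] (.node [] (.node [] .nil (.node [(200,(.negSucc 0),1)] .nil .nil)) .nil) (.node [] .nil (.node [(174,(.negSucc 0),1)] .nil .nil)))))) (.node [] (.node [] (.node [] (.node [] (.node [] .nil (.node [(104,(.ofNat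 1),1)] .nil .nil)) (.node [] .nil (.node [] .nil (.node [(240,(.negSucc 0),1)] .nil .nil)))) (.node [(42,(.ofNat 1),1)] (.node [] .nil (.node [(137,(.ofNat 1),1)] .nil .nil)) (.node [(95,(.ofNat 1),1)] .nil .nil))) (.node [] (.node [] .nil (.node [] .nil (.node [(170,(.negSucc 0),1)] .nil .nil))) (.node [] (.node [] (.node [] .nil (.node [(195,(.negSucc 0),1)] .nil .nil)) .nil) .nil))) (.node [(176,(.negSucc 0),1)] (.node [] (.node [] .nil (.node [] (.node [] .nil (.node [(211,(.negSucc 0),1)] .nil .nil)) .nil)) (.node [] (.node [] (.node [] .nil (.node [(188,(.negSucc 0),1)] .nil .nil)) (.node [] .nil (.node [(237,(.negSucc 0),1)] .nil .nil))) (.node [(98,(.ofNat 1),1)] .nil .nil))) (.node [(28,(.ofNat 1),1)] (.node [] (.node [] .nil (.node [(0,(.ofNat 1),1),(2,(.ofNat 1),1),(3,(.ofNat 1),1),(4,(.ofNat 1),1),(5,(.ofNat 1),1),(6,(.ofNat 1),1),(7,(.ofNat 1),1),(176,(.negSucc 0),2)] .nil .nil)) .nil) (.node [] .nil (.node [] .nil (.node [(175,(.negSucc 0),1)] .nil .nil))))))))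
noncomputable def ex169 : Trie (List (ℕ × ℤ × ℕ)) := (.node [(177,(.negSucc 0),1)] (.node [] (.node [] (.node [] (.node [] .nil (.node [] (.node [] .nil (.node [] .nil (.node [(234,(.negSucc 0),1)] .nil .nil))) .nil)) (.node [] (.node [] (.node [] (.node [] .nil (.node [(180,(.negSucc 0),1)] .nil .nil)) (.node [(115,(.negSucc 0),1)] .nil .nil)) (.node [(88,(.ofNat 1),1)] (.node [] .nil (.node [(216,(.negSucc 0),1)] .nil .nil)) (.node [] .nil (.node [(243,(.negSucc 0),1)] .nil .nil)))) .nil)) (.node [(177,(.ofNat 1),1)] (.node [] (.node [] .nil (.node [] (.node [] .nil (.node [(212,(.negSucc 0),1)] .nil .nil)) (.node [(170,(.negSucc 0),1)] .nil .nil))) (.node [(46,(.ofNat 1),1)] (.node [] (.node [] .nil (.node [(195,(.negSucc 0),1)] .nil .nil)) (.node [(150,(.negSucc 0),1)] .nil .nil)) .nil)) (.node [(23,(.ofNat 1),1)] (.node [] (.node [] (.node [] .nil (.node [(183,(.ofNat 1),1)] .nil .nil)) (.node [(120,(.ofNat 1),1)] .nil .nil)) .nil) (.node [] .nil (.node [(107,(.ofNat 1),1)]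 .nil .nil))))) (.node [] (.node [] (.node [] (.node [] .nil (.node [] .nil (.node [] .nil (.node [(241,(.negSucc 0),1)] .nil .nil)))) (.node [(44,(.ofNat 1),1)] (.node [] (.node [] .nil (.node [(193,(.negSucc 0),1)] .nil .nil)) (.node [] .nil (.node [(236,(.negSucc 0),1)] .nil .nil))) .nil)) (.node [] (.node [] (.node [] .nil (.node [(118,(.ofNat 1),1)] .nil .nil)) (.node [(90,(.ofNat 1),1)] .nil (.node [(172,(.negSucc 0),1)] .nil .nil))) .nil)) (.node [] (.node [] (.node [] (.node [] (.node [] .nil (.node [(178,(.negSucc 0),1)] .nil .nil)) (.node [(113,(.negSucc 0),1)] .nil .nil)) (.node [(86,(.ofNat 1),1)] (.node [] .nil (.node [(214,(.negSucc 0),1)] .nil .nil)) .nil)) .nil) (.node [(29,(.ofNat 1),1)] (.node [] (.node [] (.node [] .nil (.node [(185,(.ofNat 1),1)] .nil .nil)) (.node [(0,(.ofNat 1),1),(1,(.ofNat 1),1),(2,(.ofNat 1),1),(3,(.ofNat 1),1),(177,(.negSucc 0),2)] .nil .nil)) .nil) (.node [] .nil (.node [(109,(.ofNat 1),1)] .nil .nil)))))) (.node [(177,(.negSucc 0),1)]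 (.node [] (.node [] (.node [] .nil (.node [] (.node [] (.node [] .nil (.node [(192,(.negSucc 0),1)] .nil .nil)) (.node [] .nil (.node [(235,(.negSucc 0),1)] .nil .nil))) (.node [] (.node [] .nil (.node [] .nil .nil)) .nil))) (.node [] (.node [] (.node [] (.node [] .nil (.node [(181,(.negSucc 0),1)] .nil .nil)) (.node [(116,(.negSucc 0),1)] .nil .nil)) (.node [(89,(.ofNat 1),1)] (.node [] .nil (.node [(217,(.negSucc 0),1)] .nil .nil)) (.node [(171,(.ofNat 1),1)] .nil .nil))) .nil)) (.node [] (.node [] (.node [] .nil (.node [] (.node [] .nil (.node [(213,(.negSucc 0),1)] .nil .nil)) .nil)) (.node [(47,(.ofNat 1),1)] (.node [] .nil (.node [(155,(.ofNat 1),1)] .nil .nil)) .nil)) (.node [(24,(.ofNat 1),1)] (.node [] (.node [] (.node [] .nil (.node [(184,(.ofNat 1),1)] .nil .nil)) (.node [(121,(.ofNat 1),1)] .nil .nil)) .nil) (.node [] .nil (.node [(108,(.ofNat 1),1)] .nil .nil))))) (.node [] (.node [] (.node [] .nil (.node [(45,(.ofNat 1),1)] (.node [] (.node [] .nil (.node [(194,(.negSucc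 0),1)] .nil .nil)) (.node [(149,(.ofNat 1),1)] .nil (.node [(237,(.negSucc 0),1)] .nil .nil))) .nil)) (.node [] (.node [] (.node [] (.node [] .nil (.node [(182,(.ofNat 1),1)] .nil .nil)) (.node [(119,(.ofNat 1),1)] .nil .nil)) (.node [(91,(.ofNat 1),1)] .nil .nil)) .nil)) (.node [] (.node [] (.node [] (.node [] (.node [] .nil (.node [(179,(.negSucc 0),1)] .nil .nil)) (.node [(114,(.negSucc 0),1)] .nil .nil)) (.node [(87,(.ofNat 1),1)] (.node [] .nil (.node [(215,(.negSucc 0),1)] .nil .nil)) (.node [] .nil (.node [(242,(.negSucc 0),1)] .nil .nil)))) .nil) (.node [] .nil (.node [] .nil (.node [(110,(.ofNat 1),1)] .nil .nil)))))))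
noncomputable def ex170 : Trie (List (ℕ × ℤ × ℕ)) := (.node [(178,(.negSucc 0),1)] (.node [] (.node [] (.node [] (.node [] .nil (.node [] (.node [] (.node [] .nil (.node [(192,(.ofNat 1),1)] .nil .nil)) .nil) .nil)) (.node [] (.node [] .nil (.node [] (.node [] .nil (.node [(219,(.negSucc 0),1)] .nil .nil)) (.node [(171,(.ofNat 1),1)] .nil (.node [(244,(.negSucc 0),1)] .nil .nil)))) .nil)) (.node [(178,(.negSucc 0),1)] (.node [] (.node [] (.node [] (.node [] .nil (.node [(180,(.negSucc 0),1)] .nil .nil)) (.node [(114,(.negSucc 0),1)] .nil .nil)) (.node [(87,(.ofNat 1),1)] .nil .nil)) (.node [(49,(.negSucc 0),1)] (.node [] (.node [] .nil (.node [(198,(.negSucc 0),1)] .nil .nil)) (.node [(151,(.negSucc 0),1)] .nil .nil)) .nil)) (.node [] (.node [] (.node [] (.node [] .nil (.node [(186,(.ofNat 1),1)] .nil .nil)) (.node [(124,(.ofNat 1),1)] .nil .nil)) .nil) .nil))) (.node [] (.node [] (.node [] (.node [] .nil (.node [] (.node [] .nil (.node [(213,(.ofNat 1),1)] .nil .nil)) .nil))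 (.node [] (.node [] (.node [] .nil (.node [(196,(.negSucc 0),1)] .nil .nil)) (.node [(149,(.ofNat 1),1)] .nil .nil)) (.node [] (.node [] .nil (.node [] .nil .nil)) .nil))) (.node [] (.node [] (.node [] (.node [] .nil (.node [(182,(.negSucc 0),1)] .nil .nil)) (.node [(122,(.ofNat 1),1)] .nil .nil)) (.node [(93,(.negSucc 0),1)] .nil (.node [(173,(.negSucc 0),1)] .nil .nil))) (.node [] .nil (.node [(108,(.ofNat 1),1)] .nil .nil)))) (.node [] (.node [] (.node [] .nil (.node [] .nil (.node [] .nil (.node [(242,(.ofNat 1),1)] .nil .nil)))) .nil) (.node [(30,(.negSucc 0),1)] (.node [] (.node [] (.node [] .nil (.node [(188,(.ofNat 1),1)] .nil .nil)) (.node [(134,(.ofNat 1),1)] .nil (.node [(235,(.ofNat 1),1)] .nil .nil))) .nil) .nil)))) (.node [(178,(.negSucc 0),1)] (.node [] (.node [] (.node [] (.node [] .nil (.node [] (.node [] .nil (.node [(212,(.ofNat 1),1)] .nil .nil)) (.node [] .nil (.node [(241,(.ofNat 1),1)] .nil .nil)))) (.node [(44,(.ofNat 1),1)] .nil .nil)) (.node [] (.node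 [] (.node [] .nil (.node [(117,(.ofNat 1),1)] .nil .nil)) (.node [(92,(.negSucc 0),1)] (.node [] .nil (.node [(220,(.negSucc 0),1)] .nil .nil)) .nil)) (.node [] .nil (.node [(107,(.ofNat 1),1)] .nil (.node [(177,(.negSucc 0),1)] .nil .nil))))) (.node [(178,(.ofNat 1),1)] (.node [] (.node [] (.node [] (.node [] .nil (.node [(181,(.negSucc 0),1)] .nil .nil)) (.node [(115,(.negSucc 0),1)] .nil .nil)) (.node [(88,(.ofNat 1),1)] .nil .nil)) (.node [(50,(.negSucc 0),1)] (.node [] .nil (.node [(156,(.ofNat 1),1)] .nil .nil)) .nil)) (.node [(25,(.negSucc 0),1)] (.node [] (.node [] (.node [] .nil (.node [(187,(.ofNat 1),1)] .nil .nil)) (.node [(0,(.ofNat 1),1),(1,(.ofNat 1),1),(2,(.ofNat 1),1),(3,(.ofNat 1),1),(4,(.ofNat 1),1),(178,(.negSucc 0),2)] .nil (.node [(234,(.ofNat 1),1)] .nil .nil))) .nil) .nil))) (.node [(178,(.ofNat 1),1)] (.node [] (.node [] (.node [] (.node [] (.node [] .nil (.node [(179,(.negSucc 0),1)] .nil .nil)) (.node [(113,(.negSucc 0),1)] .nil .nil)) (.node [(86,(.ofNat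 1),1)] (.node [] .nil (.node [(214,(.ofNat 1),1)] .nil .nil)) (.node [(170,(.negSucc 0),1)] .nil .nil))) (.node [(48,(.negSucc 0),1)] (.node [] (.node [] .nil (.node [(197,(.negSucc 0),1)] .nil .nil)) (.node [] .nil (.node [(238,(.negSucc 0),1)] .nil .nil))) .nil)) (.node [(23,(.ofNat 1),1)] (.node [] (.node [] .nil (.node [(123,(.ofNat 1),1)] .nil .nil)) (.node [(94,(.negSucc 0),1)] .nil .nil)) (.node [] .nil (.node [(109,(.ofNat 1),1)] .nil .nil)))) (.node [] (.node [] (.node [] .nil (.node [] (.node [] .nil (.node [(218,(.negSucc 0),1)] .nil .nil)) .nil)) .nil) (.node [] (.node [] (.node [] .nil (.node [] .nil (.node [(236,(.ofNat 1),1)] .nil .nil))) .nil) (.node [] .nil (.node [(111,(.negSucc 0),1)] .nil .nil)))))))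
noncomputable def ex171 : Trie (List (ℕ × ℤ × ℕ)) := (.node [(179,(.negSucc 0),1)] (.node [] (.node [] (.node [] (.node [] (.node [] .nil (.node [] (.node [] .nil (.node [(212,(.negSucc 0),1)] .nil .nil)) (.node [] .nil (.node [(241,(.negSucc 0),1)] .nil .nil)))) (.node [] (.node [] (.node [] .nil (.node [(193,(.ofNat 1),1)] .nil .nil)) .nil) .nil)) (.node [] (.node [] (.node [] .nil (.node [(117,(.ofNat 1),1)] .nil .nil)) (.node [(93,(.negSucc 0),1)] .nil (.node [] .nil (.node [(245,(.negSucc 0),1)] .nil .nil)))) (.node [] .nil (.node [(108,(.ofNat 1),1)] .nil (.node [(177,(.negSucc 0),1)] .nil .nil))))) (.node [] (.node [] (.node [] .nil (.node [(89,(.negSucc 0),1)] .nil .nil)) (.node [(51,(.ofNat 1),1)] (.node [] (.node [] .nil (.node [(200,(.negSucc 0),1)] .nil .nil)) (.node [(152,(.negSucc 0),1)] .nil .nil)) .nil)) (.node [] (.node [] (.node [] .nil (.node [(0,(.ofNat 1),1),(1,(.ofNat 1),1),(2,(.ofNat 1),1),(3,(.ofNat 1),1),(4,(.ofNat 1),1),(5,(.ofNat 1),1),(179,(.negSucc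 0),2)] .nil (.node [(235,(.negSucc 0),1)] .nil .nil))) .nil) (.node [] .nil (.node [] .nil (.node [(178,(.negSucc 0),1)] .nil .nil)))))) (.node [] (.node [] (.node [] (.node [] (.node [] (.node [] .nil (.node [(181,(.negSucc 0),1)] .nil .nil)) (.node [(114,(.negSucc 0),1)] .nil .nil)) (.node [(86,(.ofNat 1),1)] (.node [] .nil (.node [(215,(.ofNat 1),1)] .nil .nil)) (.node [(170,(.negSucc 0),1)] .nil .nil))) (.node [(48,(.negSucc 0),1)] (.node [] .nil (.node [] .nil (.node [(238,(.ofNat 1),1)] .nil .nil))) .nil)) (.node [(23,(.ofNat 1),1)] (.node [] (.node [] (.node [] .nil (.node [(183,(.negSucc 0),1)] .nil .nil)) (.node [(125,(.ofNat 1),1)] .nil .nil)) (.node [] .nil (.node [(174,(.negSucc 0),1)] .nil .nil))) .nil)) (.node [(179,(.ofNat 1),1)] (.node [] (.node [] .nil (.node [] (.node [] .nil (.node [(219,(.ofNat 1),1)] .nil .nil)) .nil)) .nil) (.node [(31,(.ofNat 1),1)] (.node [] (.node [] (.node [] .nil (.node [(190,(.ofNat 1),1)] .nil .nil)) (.node [(135,(.ofNat 1),1)] .nil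 .nil)) .nil) (.node [] .nil (.node [(111,(.negSucc 0),1)] .nil .nil)))))) (.node [(179,(.negSucc 0),1)] (.node [] (.node [] (.node [] (.node [] (.node [] (.node [] .nil (.node [(180,(.negSucc 0),1)] .nil .nil)) (.node [(113,(.negSucc 0),1)] .nil .nil)) .nil) (.node [(45,(.negSucc 0),1)] (.node [] (.node [] .nil (.node [(196,(.ofNat 1),1)] .nil .nil)) (.node [(149,(.ofNat 1),1)] .nil .nil)) .nil)) (.node [] (.node [] .nil (.node [] (.node [] .nil (.node [(221,(.negSucc 0),1)] .nil .nil)) .nil)) .nil)) (.node [(179,(.negSucc 0),1)] (.node [] (.node [] (.node [] .nil (.node [(116,(.ofNat 1),1)] .nil .nil)) (.node [(90,(.negSucc 0),1)] (.node [] .nil (.node [(218,(.ofNat 1),1)] .nil .nil)) (.node [] .nil (.node [(242,(.negSucc 0),1)] .nil .nil)))) (.node [(52,(.ofNat 1),1)] (.node [] .nil (.node [(157,(.ofNat 1),1)] .nil .nil)) .nil)) (.node [(26,(.ofNat 1),1)] (.node [] (.node [] (.node [] .nil (.node [(189,(.ofNat 1),1)] .nil .nil)) (.node [(131,(.ofNat 1),1)] .nil .nil)) .nil)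 .nil))) (.node [(179,(.ofNat 1),1)] (.node [] (.node [] (.node [] .nil (.node [] (.node [] .nil (.node [(216,(.ofNat 1),1)] .nil .nil)) .nil)) (.node [] (.node [] (.node [] .nil (.node [(199,(.negSucc 0),1)] .nil .nil)) .nil) (.node [] (.node [] .nil (.node [] .nil .nil)) .nil))) (.node [] (.node [] (.node [] (.node [] .nil (.node [(186,(.negSucc 0),1)] .nil .nil)) (.node [(126,(.ofNat 1),1)] .nil (.node [(234,(.negSucc 0),1)] .nil .nil))) (.node [(95,(.ofNat 1),1)] .nil .nil)) (.node [] .nil (.node [(110,(.negSucc 0),1)] .nil .nil)))) (.node [] (.node [] (.node [] .nil (.node [(92,(.negSucc 0),1)] .nil (.node [(171,(.ofNat 1),1)] .nil .nil))) (.node [] .nil (.node [(107,(.ofNat 1),1)] .nil .nil))) (.node [] (.node [] (.node [] .nil (.node [] .nil (.node [(237,(.ofNat 1),1)] .nil .nil))) .nil) .nil)))))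
noncomputable def ex172 : Trie (List (ℕ × ℤ × ℕ)) := (.node [(180,(.negSucc 0),1)] (.node [] (.node [] (.node [] (.node [] (.node [] (.node [] (.node [] .nil (.node [(181,(.negSucc 0),1)] .nil .nil)) (.node [(113,(.negSucc 0),1)] .nil .nil)) (.node [] (.node [] .nil (.node [(213,(.negSucc 0),1)] .nil .nil)) .nil)) (.node [] (.node [] (.node [] .nil (.node [(194,(.ofNat 1),1)] .nil .nil)) (.node [(149,(.ofNat 1),1)] .nil .nil)) .nil)) (.node [] (.node [] .nil (.node [(94,(.ofNat 1),1)] (.node [] .nil (.node [(221,(.ofNat 1),1)] .nil .nil)) (.node [] .nil (.node [(246,(.negSucc 0),1)] .nil .nil)))) (.node [] .nil (.node [(109,(.negSucc 0),1)] .nil .nil)))) (.node [] (.node [] (.node [] (.node [] .nil (.node [(116,(.ofNat 1),1)] .nil .nil)) (.node [] (.node [] .nil (.node [(218,(.negSucc 0),1)] .nil .nil)) (.node [] .nil (.node [(242,(.ofNat 1),1)] .nil .nil)))) (.node [] (.node [] (.node [] .nil (.node [(201,(.negSucc 0),1)] .nil .nil)) (.node [(153,(.negSucc 0),1)] .nil .nil))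 (.node [] (.node [] .nil (.node [] .nil .nil)) .nil))) (.node [] (.node [] (.node [] (.node [] .nil (.node [(189,(.negSucc 0),1)] .nil .nil)) (.node [(129,(.ofNat 1),1)] .nil (.node [(236,(.negSucc 0),1)] .nil .nil))) .nil) .nil))) (.node [] (.node [] (.node [] (.node [] (.node [] .nil (.node [(115,(.ofNat 1),1)] .nil .nil)) (.node [(87,(.negSucc 0),1)] .nil .nil)) (.node [(49,(.ofNat 1),1)] (.node [] (.node [] .nil (.node [(199,(.ofNat 1),1)] .nil .nil)) .nil) .nil)) (.node [] (.node [] (.node [] (.node [] .nil (.node [(184,(.negSucc 0),1)] .nil .nil)) (.node [(127,(.ofNat 1),1)] .nil (.node [(234,(.ofNat 1),1)] .nil .nil))) (.node [(95,(.ofNat 1),1)] .nil (.node [(175,(.negSucc 0),1)] .nil .nil))) (.node [] .nil (.node [(110,(.negSucc 0),1)] .nil .nil)))) (.node [(180,(.negSucc 0),1)] (.node [] (.node [] .nil (.node [(92,(.negSucc 0),1)] (.node [] .nil (.node [(220,(.ofNat 1),1)] .nil .nil)) (.node [(171,(.ofNat 1),1)] .nil .nil))) (.node [] .nil (.node [(107,(.ofNat 1),1)]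 .nil .nil))) (.node [(32,(.negSucc 0),1)] (.node [] (.node [] (.node [] .nil (.node [(191,(.ofNat 1),1)] .nil .nil)) (.node [(136,(.ofNat 1),1)] .nil (.node [(237,(.negSucc 0),1)] .nil .nil))) .nil) (.node [] .nil (.node [] .nil (.node [(179,(.negSucc 0),1)] .nil .nil))))))) (.node [(180,(.negSucc 0),1)] (.node [] (.node [] (.node [] (.node [] .nil (.node [] (.node [] .nil (.node [(215,(.negSucc 0),1)] .nil .nil)) (.node [(170,(.negSucc 0),1)] .nil .nil))) (.node [(46,(.ofNat 1),1)] (.node [] (.node [] .nil (.node [(197,(.ofNat 1),1)] .nil .nil)) (.node [] .nil (.node [(238,(.negSucc 0),1)] .nil .nil))) .nil)) (.node [(23,(.ofNat 1),1)] .nil .nil)) (.node [] (.node [] (.node [] .nil (.node [(91,(.ofNat 1),1)] .nil .nil)) (.node [(53,(.negSucc 0),1)] (.node [] .nil (.node [(158,(.ofNat 1),1)] .nil .nil)) .nil)) (.node [(27,(.negSucc 0),1)] (.node [] (.node [] .nil (.node [(132,(.ofNat 1),1)] .nil .nil)) .nil) (.node [] .nil (.node [(111,(.negSucc 0),1)] .nil .nil))))) (.node [(180,(.ofNat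 1),1)] (.node [] (.node [] (.node [] .nil (.node [(89,(.negSucc 0),1)] (.node [] .nil (.node [(217,(.ofNat 1),1)] .nil .nil)) .nil)) (.node [(51,(.ofNat 1),1)] .nil .nil)) (.node [] (.node [] (.node [] (.node [] .nil (.node [(187,(.negSucc 0),1)] .nil .nil)) (.node [(0,(.ofNat 1),1),(1,(.ofNat 1),1),(2,(.ofNat 1),1),(3,(.ofNat 1),1),(4,(.ofNat 1),1),(5,(.ofNat 1),1),(6,(.ofNat 1),1),(180,(.negSucc 0),2)] .nil .nil)) .nil) (.node [] .nil (.node [] .nil (.node [(178,(.negSucc 0),1)] .nil .nil))))) (.node [(180,(.ofNat 1),1)] (.node [] (.node [] (.node [] .nil (.node [(117,(.ofNat 1),1)] .nil .nil)) .nil) (.node [] .nil (.node [] .nil (.node [(177,(.negSucc 0),1)] .nil .nil)))) (.node [] .nil (.node [] (.node [] .nil (.node [] .nil (.node [(241,(.ofNat 1),1)] .nil .nil))) .nil))))))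
noncomputable def ex173 : Trie (List (ℕ × ℤ × ℕ)) := (.node [(181,(.negSucc 0),1)] (.node [] (.node [] (.node [] (.node [] (.node [] (.node [] .nil (.node [(114,(.ofNat 1),1)] .nil .nil)) (.node [] (.node [] .nil (.node [(214,(.negSucc 0),1)] .nil .nil)) (.node [(170,(.negSucc 0),1)] .nil .nil))) (.node [] (.node [] (.node [] .nil (.node [(195,(.ofNat 1),1)] .nil .nil)) (.node [] .nil (.node [(238,(.ofNat 1),1)] .nil .nil))) .nil)) (.node [(23,(.ofNat 1),1)] (.node [] .nil (.node [] .nil (.node [] .nil (.node [(247,(.negSucc 0),1)] .nil .nil)))) .nil)) (.node [] (.node [] (.node [] .nil (.node [(91,(.ofNat 1),1)] (.node [] .nil (.node [(219,(.negSucc 0),1)] .nil .nil)) .nil)) (.node [(53,(.negSucc 0),1)] (.node [] .nil (.node [(154,(.negSucc 0),1)] .nil .nil)) .nil)) (.node [] (.node [] (.node [] (.node [] .nil (.node [(190,(.negSucc 0),1)] .nil .nil)) (.node [(130,(.ofNat 1),1)] .nil .nil)) .nil) (.node [] .nil (.node [(111,(.negSucc 0),1)] .nil .nil))))) (.node [] (.node []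 (.node [] (.node [] .nil (.node [(88,(.ofNat 1),1)] (.node [] .nil (.node [(217,(.negSucc 0),1)] .nil .nil)) .nil)) (.node [(50,(.negSucc 0),1)] (.node [] (.node [] .nil (.node [(200,(.ofNat 1),1)] .nil .nil)) .nil) .nil)) (.node [] (.node [] (.node [] (.node [] .nil (.node [(185,(.negSucc 0),1)] .nil .nil)) (.node [(0,(.ofNat 1),1),(1,(.ofNat 1),1),(2,(.ofNat 1),1),(3,(.ofNat 1),1),(4,(.ofNat 1),1),(5,(.ofNat 1),1),(6,(.ofNat 1),1),(7,(.ofNat 1),1),(181,(.negSucc 0),2)] .nil (.node [(235,(.ofNat 1),1)] .nil .nil))) (.node [] .nil (.node [(176,(.negSucc 0),1)] .nil .nil))) (.node [] .nil (.node [] .nil (.node [(178,(.negSucc 0),1)] .nil .nil))))) (.node [] (.node [] (.node [] (.node [] .nil (.node [(117,(.ofNat 1),1)] .nil .nil)) (.node [(93,(.ofNat 1),1)] .nil .nil)) (.node [] .nil (.node [(108,(.negSucc 0),1)] .nil (.node [(177,(.negSucc 0),1)] .nil .nil)))) (.node [(33,(.ofNat 1),1)] (.node [] (.node [] .nil (.node [(137,(.ofNat 1),1)] .nil .nil)) .nil) (.node [] (.node []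 .nil (.node [] .nil (.node [(241,(.negSucc 0),1)] .nil .nil))) .nil))))) (.node [(181,(.negSucc 0),1)] (.node [] (.node [] (.node [] (.node [] (.node [] .nil (.node [(115,(.ofNat 1),1)] .nil .nil)) (.node [] (.node [] .nil (.node [(216,(.negSucc 0),1)] .nil .nil)) .nil)) (.node [(47,(.negSucc 0),1)] (.node [] (.node [] .nil (.node [(198,(.ofNat 1),1)] .nil .nil)) .nil) .nil)) (.node [] (.node [] .nil (.node [(95,(.ofNat 1),1)] .nil .nil)) (.node [] .nil (.node [(110,(.negSucc 0),1)] .nil .nil)))) (.node [] (.node [] (.node [] .nil (.node [] (.node [] .nil (.node [(220,(.negSucc 0),1)] .nil .nil)) (.node [(171,(.ofNat 1),1)] .nil .nil))) (.node [] (.node [] .nil (.node [(159,(.ofNat 1),1)] .nil .nil)) (.node [] (.node [] .nil (.node [] .nil .nil)) .nil))) (.node [(28,(.ofNat 1),1)] (.node [] (.node [] (.node [] .nil (.node [(191,(.negSucc 0),1)] .nil .nil)) (.node [(133,(.ofNat 1),1)] .nil (.node [(237,(.ofNat 1),1)] .nil .nil))) .nil) (.node [] .nil (.node [] .nil (.node [(179,(.negSucc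 0),1)] .nil .nil)))))) (.node [(181,(.ofNat 1),1)] (.node [] (.node [] (.node [] (.node [] .nil (.node [(116,(.ofNat 1),1)] .nil .nil)) (.node [(90,(.ofNat 1),1)] .nil (.node [] .nil (.node [(242,(.negSucc 0),1)] .nil .nil)))) (.node [(52,(.negSucc 0),1)] (.node [] (.node [] .nil (.node [(201,(.ofNat 1),1)] .nil .nil)) .nil) .nil)) (.node [] (.node [] (.node [] (.node [] .nil (.node [(188,(.negSucc 0),1)] .nil .nil)) (.node [(128,(.ofNat 1),1)] .nil (.node [(236,(.ofNat 1),1)] .nil .nil))) .nil) .nil)) (.node [(181,(.negSucc 0),1)] (.node [] (.node [] .nil (.node [(94,(.ofNat 1),1)] (.node [] .nil (.node [(221,(.negSucc 0),1)] .nil .nil)) .nil)) (.node [] .nil (.node [(109,(.negSucc 0),1)] .nil .nil))) (.node [] (.node [] (.node [] .nil (.node [(149,(.ofNat 1),1)] .nil .nil)) .nil) (.node [] .nil (.node [] .nil (.node [(180,(.negSucc 0),1)] .nil .nil))))))))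
noncomputable def ex174 : Trie (List (ℕ × ℤ × ℕ)) := (.node [(182,(.negSucc 0),1)] (.node [] (.node [] (.node [] (.node [] (.node [] .nil (.node [(87,(.ofNat 1),1)] .nil .nil)) (.node [(44,(.ofNat 1),1)] .nil .nil)) (.node [] (.node [] (.node [] (.node [] .nil (.node [(187,(.ofNat 1),1)] .nil .nil)) (.node [(124,(.ofNat 1),1)] .nil (.node [(235,(.negSucc 0),1)] .nil .nil))) (.node [] (.node [] .nil (.node [(223,(.negSucc 0),1)] .nil .nil)) (.node [(172,(.ofNat 1),1)] .nil .nil))) .nil)) (.node [] (.node [] (.node [] (.node [] (.node [] .nil (.node [(184,(.negSucc 0),1)] .nil .nil)) (.node [(119,(.negSucc 0),1)] .nil .nil)) .nil) (.node [(55,(.ofNat 1),1)] (.node [] (.node [] .nil (.node [(204,(.negSucc 0),1)] .nil .nil)) .nil) (.node [(108,(.ofNat 1),1)] .nil (.node [(177,(.ofNat 1),1)] .nil .nil)))) (.node [(25,(.negSucc 0),1)] .nil .nil))) (.node [(182,(.ofNat 1),1)] (.node [] (.node [] .nil (.node [] (.node [] (.node [] .nil (.node [(202,(.negSucc 0),1)] .nil .nil)) (.node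 [(150,(.ofNat 1),1)] .nil .nil)) .nil)) (.node [] (.node [] .nil (.node [(97,(.ofNat 1),1)] .nil .nil)) .nil)) (.node [] (.node [] (.node [] (.node [] .nil (.node [(122,(.ofNat 1),1)] .nil .nil)) (.node [] .nil (.node [] .nil (.node [(243,(.ofNat 1),1)] .nil .nil)))) (.node [] .nil (.node [] (.node [] .nil (.node [] .nil .nil)) .nil))) (.node [(34,(.ofNat 1),1)] (.node [] (.node [] .nil (.node [(139,(.negSucc 0),1)] .nil .nil)) .nil) (.node [] (.node [] (.node [] .nil (.node [(213,(.negSucc 0),1)] .nil .nil)) .nil) .nil))))) (.node [] (.node [] (.node [] (.node [] (.node [] .nil (.node [(88,(.ofNat 1),1)] .nil .nil)) .nil) (.node [] (.node [] (.node [] (.node [] .nil (.node [(188,(.ofNat 1),1)] .nil .nil)) (.node [(0,(.ofNat 1),1),(1,(.ofNat 1),1),(2,(.ofNat 1),1),(3,(.ofNat 2),1),(4,(.ofNat 1),1),(182,(.negSucc 0),2)] .nil (.node [(236,(.negSucc 0),1)] .nil .nil))) (.node [(96,(.ofNat 1),1)] (.node [] .nil (.node [(224,(.negSucc 0),1)] .nil .nil)) (.node [(173,(.negSucc 0),1)]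 .nil .nil))) .nil)) (.node [(182,(.ofNat 1),1)] (.node [] (.node [] (.node [] (.node [] .nil (.node [(185,(.negSucc 0),1)] .nil .nil)) (.node [(120,(.negSucc 0),1)] .nil .nil)) .nil) (.node [(56,(.ofNat 1),1)] (.node [] .nil (.node [(160,(.ofNat 1),1)] .nil .nil)) (.node [(109,(.ofNat 1),1)] .nil (.node [(178,(.negSucc 0),1)] .nil .nil)))) (.node [] (.node [] (.node [] .nil (.node [(138,(.ofNat 1),1)] .nil .nil)) .nil) (.node [] (.node [] (.node [] .nil (.node [(212,(.negSucc 0),1)] .nil .nil)) (.node [] .nil (.node [(241,(.negSucc 0),1)] .nil .nil))) .nil)))) (.node [(182,(.negSucc 0),1)] (.node [] (.node [] (.node [] (.node [] (.node [] .nil (.node [(183,(.negSucc 0),1)] .nil .nil)) (.node [(118,(.negSucc 0),1)] .nil .nil)) .nil) (.node [(54,(.ofNat 1),1)] (.node [] (.node [] .nil (.node [(203,(.negSucc 0),1)] .nil .nil)) (.node [(151,(.negSucc 0),1)] .nil (.node [(239,(.negSucc 0),1)] .nil .nil))) (.node [(107,(.ofNat 1),1)] .nil .nil))) (.node [(24,(.negSucc 0),1)] (.node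 [] .nil (.node [(98,(.ofNat 1),1)] .nil .nil)) .nil)) (.node [] (.node [] (.node [] (.node [] (.node [] .nil (.node [(186,(.ofNat 1),1)] .nil .nil)) (.node [(123,(.ofNat 1),1)] .nil (.node [(234,(.negSucc 0),1)] .nil .nil))) (.node [] (.node [] .nil (.node [(222,(.negSucc 0),1)] .nil .nil)) (.node [] .nil (.node [(244,(.ofNat 1),1)] .nil .nil)))) .nil) (.node [] (.node [] (.node [] (.node [] .nil (.node [(192,(.negSucc 0),1)] .nil .nil)) .nil) .nil) (.node [(86,(.ofNat 1),1)] (.node [] (.node [] .nil (.node [(214,(.negSucc 0),1)] .nil .nil)) (.node [(170,(.negSucc 0),1)] .nil .nil)) (.node [(112,(.ofNat 1),1)] .nil .nil)))))))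
noncomputable def ex175 : Trie (List (ℕ × ℤ × ℕ)) := (.node [(183,(.negSucc 0),1)] (.node [] (.node [] (.node [] (.node [] (.node [] .nil (.node [(89,(.negSucc 0),1)] .nil .nil)) (.node [(45,(.negSucc 0),1)] .nil .nil)) (.node [] (.node [] (.node [] (.node [] .nil (.node [(189,(.ofNat 1),1)] .nil .nil)) (.node [(0,(.ofNat 1),1),(1,(.ofNat 1),1),(2,(.ofNat 1),1),(3,(.ofNat 2),1),(4,(.ofNat 1),1),(5,(.ofNat 1),1),(183,(.negSucc 0),2)] .nil .nil)) (.node [(97,(.ofNat 1),1)] .nil .nil)) .nil)) (.node [(183,(.ofNat 1),1)] (.node [] .nil (.node [(57,(.negSucc 0),1)] (.node [] (.node [] .nil (.node [(206,(.negSucc 0),1)] .nil .nil)) .nil) .nil)) (.node [(26,(.ofNat 1),1)] (.node [] (.node [] .nil (.node [(138,(.ofNat 1),1)] .nil .nil)) .nil) (.node [] (.node [] (.node [] .nil (.node [(212,(.ofNat 1),1)] .nil .nil)) (.node [] .nil (.node [(241,(.ofNat 1),1)] .nil .nil))) (.node [] .nil (.node [(182,(.negSucc 0),1)] .nil .nil)))))) (.node [(183,(.ofNat 1),1)] (.node [] (.node [] (.node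 [] (.node [] (.node [] .nil (.node [(185,(.negSucc 0),1)] .nil .nil)) (.node [(119,(.negSucc 0),1)] .nil .nil)) .nil) (.node [(54,(.ofNat 1),1)] (.node [] .nil (.node [] .nil (.node [(239,(.ofNat 1),1)] .nil .nil))) (.node [(108,(.ofNat 1),1)] .nil .nil))) (.node [(24,(.negSucc 0),1)] .nil .nil)) (.node [(183,(.ofNat 1),1)] (.node [] (.node [] (.node [] (.node [] .nil (.node [(186,(.negSucc 0),1)] .nil .nil)) (.node [(125,(.ofNat 1),1)] .nil (.node [(235,(.ofNat 1),1)] .nil .nil))) (.node [] (.node [] .nil (.node [(223,(.ofNat 1),1)] .nil .nil)) .nil)) .nil) (.node [(35,(.negSucc 0),1)] (.node [] (.node [] .nil (.node [(140,(.negSucc 0),1)] .nil .nil)) .nil) (.node [(86,(.ofNat 1),1)] (.node [] (.node [] .nil (.node [(215,(.negSucc 0),1)] .nil .nil)) (.node [(170,(.negSucc 0),1)] .nil .nil)) (.node [(112,(.ofNat 1),1)] .nil .nil)))))) (.node [] (.node [] (.node [] (.node [] (.node [] (.node [] (.node [] .nil (.node [(184,(.negSucc 0),1)] .nil .nil)) (.node [(118,(.negSucc 0),1)]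 .nil .nil)) (.node [(90,(.negSucc 0),1)] .nil .nil)) (.node [] (.node [] (.node [] .nil (.node [(202,(.ofNat 1),1)] .nil .nil)) (.node [(150,(.ofNat 1),1)] .nil .nil)) (.node [(107,(.ofNat 1),1)] .nil .nil))) (.node [] (.node [] (.node [] (.node [] .nil (.node [(190,(.ofNat 1),1)] .nil .nil)) (.node [(131,(.ofNat 1),1)] .nil (.node [(237,(.negSucc 0),1)] .nil .nil))) (.node [] (.node [] .nil (.node [(225,(.negSucc 0),1)] .nil .nil)) (.node [(174,(.negSucc 0),1)] .nil .nil))) .nil)) (.node [(183,(.negSucc 0),1)] (.node [] (.node [] (.node [] .nil (.node [(121,(.ofNat 1),1)] .nil (.node [(234,(.ofNat 1),1)] .nil .nil))) (.node [] (.node [] .nil (.node [(222,(.ofNat 1),1)] .nil .nil)) (.node [] .nil (.node [(243,(.negSucc 0),1)] .nil .nil)))) (.node [(58,(.negSucc 0),1)] (.node [] .nil (.node [(161,(.ofNat 1),1)] .nil .nil)) (.node [(110,(.negSucc 0),1)] .nil (.node [(179,(.negSucc 0),1)] .nil .nil)))) .nil)) (.node [(183,(.negSucc 0),1)] (.node [] (.node [] .nil (.node [] (.node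 [] (.node [] .nil (.node [(205,(.negSucc 0),1)] .nil .nil)) (.node [(152,(.negSucc 0),1)] .nil .nil)) (.node [] .nil (.node [(177,(.ofNat 1),1)] .nil .nil)))) (.node [] (.node [] .nil (.node [(99,(.negSucc 0),1)] .nil .nil)) .nil)) (.node [] (.node [] (.node [] (.node [] .nil (.node [(126,(.ofNat 1),1)] .nil .nil)) (.node [(96,(.ofNat 1),1)] .nil (.node [(172,(.ofNat 1),1)] .nil (.node [(245,(.ofNat 1),1)] .nil .nil)))) (.node [] .nil (.node [] (.node [] .nil (.node [] .nil .nil)) .nil))) (.node [] (.node [] (.node [] (.node [] .nil (.node [(193,(.negSucc 0),1)] .nil .nil)) .nil) .nil) (.node [] (.node [] (.node [] .nil (.node [(216,(.negSucc 0),1)] .nil .nil)) .nil) .nil))))))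
noncomputable def ex176 : Trie (List (ℕ × ℤ × ℕ)) := (.node [(184,(.negSucc 0),1)] (.node [] (.node [] (.node [] (.node [] (.node [] (.node [] (.node [] .nil (.node [(185,(.negSucc 0),1)] .nil .nil)) (.node [(118,(.negSucc 0),1)] .nil .nil)) .nil) (.node [(46,(.ofNat 1),1)] (.node [] .nil (.node [(150,(.ofNat 1),1)] .nil .nil)) (.node [(107,(.ofNat 1),1)] .nil .nil))) (.node [] (.node [] (.node [] .nil (.node [(129,(.ofNat 1),1)] .nil (.node [(237,(.ofNat 1),1)] .nil .nil))) (.node [(98,(.negSucc 0),1)] (.node [] .nil (.node [(225,(.ofNat 1),1)] .nil .nil)) .nil)) (.node [] .nil (.node [] (.node [] .nil (.node [] .nil .nil)) .nil)))) (.node [(184,(.ofNat 1),1)] (.node [] (.node [] (.node [] .nil (.node [(121,(.ofNat 1),1)] .nil (.node [(234,(.negSucc 0),1)] .nil .nil))) (.node [] (.node [] .nil (.node [(222,(.negSucc 0),1)] .nil .nil)) (.node [] .nil (.node [(243,(.ofNat 1),1)] .nil .nil)))) (.node [] (.node [] (.node [] .nil (.node [(207,(.negSucc 0),1)] .nil .nil)) .nil) (.node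 [(110,(.negSucc 0),1)] .nil .nil))) (.node [(27,(.negSucc 0),1)] .nil (.node [] (.node [] (.node [] .nil (.node [(213,(.ofNat 1),1)] .nil .nil)) .nil) .nil)))) (.node [(184,(.ofNat 1),1)] (.node [] (.node [] (.node [] (.node [] .nil (.node [(120,(.ofNat 1),1)] .nil .nil)) .nil) (.node [(55,(.negSucc 0),1)] (.node [] (.node [] .nil (.node [(205,(.ofNat 1),1)] .nil .nil)) .nil) (.node [(109,(.negSucc 0),1)] .nil (.node [(177,(.ofNat 1),1)] .nil .nil)))) (.node [] (.node [] .nil (.node [(99,(.negSucc 0),1)] .nil .nil)) .nil)) (.node [(184,(.negSucc 0),1)] (.node [] (.node [] (.node [] (.node [] .nil (.node [(187,(.negSucc 0),1)] .nil .nil)) (.node [(127,(.ofNat 1),1)] .nil (.node [(236,(.ofNat 1),1)] .nil .nil))) (.node [(96,(.ofNat 1),1)] (.node [] .nil (.node [(224,(.ofNat 1),1)] .nil .nil)) (.node [(172,(.ofNat 1),1)] .nil .nil))) .nil) (.node [(36,(.ofNat 1),1)] (.node [] (.node [] .nil (.node [(141,(.negSucc 0),1)] .nil .nil)) .nil) (.node [(87,(.negSucc 0),1)] .nil (.node []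 .nil (.node [(183,(.negSucc 0),1)] .nil .nil))))))) (.node [] (.node [] (.node [] (.node [] (.node [] .nil (.node [(91,(.ofNat 1),1)] .nil .nil)) (.node [] (.node [] (.node [] .nil (.node [(203,(.ofNat 1),1)] .nil .nil)) (.node [] .nil (.node [(239,(.negSucc 0),1)] .nil .nil))) .nil)) (.node [(24,(.negSucc 0),1)] (.node [] (.node [] (.node [] .nil (.node [(191,(.ofNat 1),1)] .nil .nil)) (.node [(132,(.ofNat 1),1)] .nil .nil)) (.node [] .nil (.node [(175,(.negSucc 0),1)] .nil .nil))) .nil)) (.node [] (.node [] .nil (.node [(59,(.ofNat 1),1)] (.node [] .nil (.node [(162,(.ofNat 1),1)] .nil .nil)) (.node [] .nil (.node [(180,(.negSucc 0),1)] .nil .nil)))) (.node [] .nil (.node [] (.node [] (.node [] .nil (.node [(215,(.ofNat 1),1)] .nil .nil)) (.node [(170,(.negSucc 0),1)] .nil .nil)) (.node [(112,(.ofNat 1),1)] .nil .nil))))) (.node [(184,(.negSucc 0),1)] (.node [] (.node [] .nil (.node [(57,(.negSucc 0),1)] (.node [] .nil (.node [(153,(.negSucc 0),1)] .nil .nil)) .nil)) (.node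 [] (.node [] (.node [] .nil (.node [(138,(.ofNat 1),1)] .nil .nil)) .nil) (.node [] (.node [] .nil (.node [] .nil (.node [(241,(.negSucc 0),1)] .nil .nil))) (.node [] .nil (.node [(182,(.negSucc 0),1)] .nil .nil))))) (.node [(184,(.ofNat 1),1)] (.node [] (.node [] (.node [] (.node [] .nil (.node [(189,(.negSucc 0),1)] .nil .nil)) (.node [(0,(.ofNat 1),1),(1,(.ofNat 1),1),(2,(.ofNat 1),1),(3,(.ofNat 2),1),(4,(.ofNat 1),1),(5,(.ofNat 1),1),(6,(.ofNat 1),1),(184,(.negSucc 0),2)] .nil .nil)) (.node [] .nil (.node [] .nil (.node [(246,(.ofNat 1),1)] .nil .nil)))) .nil) (.node [] (.node [] (.node [] (.node [] .nil (.node [(194,(.negSucc 0),1)] .nil .nil)) .nil) .nil) (.node [(89,(.negSucc 0),1)] (.node [] (.node [] .nil (.node [(217,(.negSucc 0),1)] .nil .nil)) .nil) .nil))))))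
noncomputable def ex177 : Trie (List (ℕ × ℤ × ℕ)) := (.node [(185,(.negSucc 0),1)] (.node [] (.node [] (.node [] (.node [] (.node [] (.node [] .nil (.node [(119,(.ofNat 1),1)] .nil .nil)) (.node [(91,(.ofNat 1),1)] .nil .nil)) (.node [(47,(.negSucc 0),1)] (.node [] .nil (.node [] .nil (.node [(239,(.ofNat 1),1)] .nil .nil))) (.node [(108,(.negSucc 0),1)] .nil .nil))) (.node [(24,(.negSucc 0),1)] (.node [] (.node [] (.node [] .nil (.node [(191,(.negSucc 0),1)] .nil .nil)) (.node [(130,(.ofNat 1),1)] .nil .nil)) .nil) .nil)) (.node [(185,(.ofNat 1),1)] (.node [] (.node [] (.node [] .nil (.node [] .nil (.node [(235,(.negSucc 0),1)] .nil .nil))) (.node [] (.node [] .nil (.node [(223,(.negSucc 0),1)] .nil .nil)) .nil)) (.node [(59,(.ofNat 1),1)] .nil .nil)) (.node [(28,(.ofNat 1),1)] .nil (.node [] (.node [] (.node [] .nil (.node [(214,(.ofNat 1),1)] .nil .nil)) (.node [(170,(.negSucc 0),1)] .nil .nil)) (.node [(112,(.ofNat 1),1)] .nil .nil))))) (.node [(185,(.ofNat 1),1)] (.node []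 (.node [] .nil (.node [(56,(.ofNat 1),1)] (.node [] (.node [] .nil (.node [(206,(.ofNat 1),1)] .nil .nil)) .nil) .nil)) (.node [] (.node [] (.node [] .nil (.node [(138,(.ofNat 1),1)] .nil .nil)) .nil) (.node [] (.node [] .nil (.node [] .nil (.node [(241,(.ofNat 1),1)] .nil .nil))) (.node [] .nil (.node [(182,(.negSucc 0),1)] .nil .nil))))) (.node [] (.node [] (.node [] (.node [] (.node [] .nil (.node [(188,(.negSucc 0),1)] .nil .nil)) (.node [(0,(.ofNat 1),1),(1,(.ofNat 1),1),(2,(.ofNat 1),1),(3,(.ofNat 2),1),(4,(.ofNat 1),1),(5,(.ofNat 1),1),(6,(.ofNat 1),1),(7,(.ofNat 1),1),(185,(.negSucc 0),2)] .nil .nil)) (.node [(97,(.negSucc 0),1)] .nil .nil)) .nil) (.node [(37,(.negSucc 0),1)] (.node [] (.node [] .nil (.node [(142,(.negSucc 0),1)] .nil .nil)) .nil) (.node [(88,(.ofNat 1),1)] (.node [] (.node [] .nil (.node [(217,(.ofNat 1),1)] .nil .nil)) .nil) .nil))))) (.node [] (.node [] (.node [] (.node [] (.node [] (.node [] .nil (.node [(120,(.ofNat 1),1)] .nil .nil)) .nil) (.node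 [] (.node [] (.node [] .nil (.node [(204,(.ofNat 1),1)] .nil .nil)) .nil) (.node [(109,(.negSucc 0),1)] .nil (.node [(177,(.ofNat 1),1)] .nil .nil)))) (.node [] (.node [] (.node [] .nil (.node [(133,(.ofNat 1),1)] .nil .nil)) (.node [(99,(.negSucc 0),1)] .nil (.node [(176,(.negSucc 0),1)] .nil .nil))) (.node [] .nil (.node [] (.node [] .nil (.node [] .nil .nil)) .nil)))) (.node [] (.node [] (.node [] (.node [] .nil (.node [] .nil (.node [(236,(.negSucc 0),1)] .nil .nil))) (.node [] (.node [] .nil (.node [(224,(.negSucc 0),1)] .nil .nil)) (.node [(172,(.ofNat 1),1)] .nil .nil))) (.node [] (.node [] .nil (.node [(163,(.ofNat 1),1)] .nil .nil)) (.node [] .nil (.node [(181,(.negSucc 0),1)] .nil .nil)))) (.node [] .nil (.node [] (.node [] (.node [] .nil (.node [(216,(.ofNat 1),1)] .nil .nil)) .nil) (.node [] .nil (.node [(183,(.negSucc 0),1)] .nil .nil)))))) (.node [(185,(.negSucc 0),1)] (.node [] (.node [] (.node [] (.node [] .nil (.node [(121,(.ofNat 1),1)] .nil .nil)) (.node []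 .nil (.node [] .nil (.node [(243,(.negSucc 0),1)] .nil .nil)))) (.node [(58,(.ofNat 1),1)] (.node [] (.node [] .nil (.node [(207,(.ofNat 1),1)] .nil .nil)) (.node [(154,(.negSucc 0),1)] .nil .nil)) (.node [(110,(.negSucc 0),1)] .nil .nil))) .nil) (.node [(185,(.negSucc 0),1)] (.node [] (.node [] (.node [] (.node [] .nil (.node [(190,(.negSucc 0),1)] .nil .nil)) (.node [(128,(.ofNat 1),1)] .nil (.node [(237,(.negSucc 0),1)] .nil .nil))) (.node [(98,(.negSucc 0),1)] (.node [] .nil (.node [(225,(.negSucc 0),1)] .nil .nil)) (.node [] .nil (.node [(247,(.ofNat 1),1)] .nil .nil)))) .nil) (.node [] (.node [] (.node [] (.node [] .nil (.node [(195,(.negSucc 0),1)] .nil .nil)) (.node [(150,(.ofNat 1),1)] .nil .nil)) .nil) (.node [(90,(.ofNat 1),1)] .nil (.node [] .nil (.node [(184,(.negSucc 0),1)] .nil .nil))))))))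
noncomputable def ex178 : Trie (List (ℕ × ℤ × ℕ)) := (.node [(186,(.negSucc 0),1)] (.node [] (.node [] (.node [] (.node [] (.node [] .nil (.node [(92,(.ofNat 1),1)] .nil .nil)) (.node [(48,(.ofNat 1),1)] (.node [] (.node [] .nil (.node [(202,(.negSucc 0),1)] .nil .nil)) .nil) .nil)) (.node [] (.node [] (.node [] .nil (.node [(134,(.ofNat 1),1)] .nil .nil)) (.node [] .nil (.node [(174,(.negSucc 0),1)] .nil .nil))) (.node [] .nil (.node [] .nil (.node [(182,(.ofNat 1),1)] .nil .nil))))) (.node [(186,(.negSucc 0),1)] (.node [] (.node [] (.node [] (.node [] .nil (.node [(189,(.ofNat 1),1)] .nil .nil)) (.node [(126,(.ofNat 1),1)] .nil .nil)) (.node [(96,(.ofNat 1),1)] .nil .nil)) (.node [(60,(.ofNat 1),1)] (.node [] (.node [] .nil (.node [(209,(.negSucc 0),1)] .nil .nil)) .nil) (.node [] .nil (.node [(179,(.negSucc 0),1)] .nil .nil)))) (.node [] (.node [] (.node [] .nil (.node [(139,(.ofNat 1),1)] .nil .nil)) .nil) .nil))) (.node [(186,(.ofNat 1),1)] (.node [] (.node [] (.node [] (.node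 [] (.node [] .nil (.node [(188,(.negSucc 0),1)] .nil .nil)) (.node [(123,(.negSucc 0),1)] .nil (.node [(234,(.negSucc 0),1)] .nil .nil))) (.node [] (.node [] .nil (.node [(222,(.negSucc 0),1)] .nil .nil)) .nil)) (.node [] (.node [] .nil (.node [(152,(.negSucc 0),1)] .nil .nil)) .nil)) (.node [(25,(.ofNat 1),1)] .nil (.node [] .nil (.node [] (.node [] .nil (.node [] .nil .nil)) .nil)))) (.node [(186,(.ofNat 1),1)] (.node [] (.node [] .nil (.node [] .nil (.node [] .nil (.node [(245,(.negSucc 0),1)] .nil .nil)))) .nil) (.node [(38,(.ofNat 1),1)] (.node [] .nil (.node [(107,(.ofNat 1),1)] .nil .nil)) (.node [] (.node [] (.node [] .nil (.node [(218,(.negSucc 0),1)] .nil .nil)) .nil) .nil))))) (.node [] (.node [] (.node [] (.node [] (.node [] (.node [] (.node [] .nil (.node [(187,(.negSucc 0),1)] .nil .nil)) (.node [(122,(.negSucc 0),1)] .nil .nil)) (.node [(93,(.ofNat 1),1)] .nil .nil)) (.node [(54,(.ofNat 1),1)] (.node [] .nil (.node [(151,(.ofNat 1),1)] .nil .nil)) .nil)) (.node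 [] (.node [] (.node [] .nil (.node [(135,(.negSucc 0),1)] .nil (.node [(238,(.negSucc 0),1)] .nil .nil))) (.node [] (.node [] .nil (.node [(226,(.negSucc 0),1)] .nil .nil)) .nil)) (.node [] (.node [] .nil (.node [] .nil (.node [(241,(.negSucc 0),1)] .nil .nil))) (.node [] .nil (.node [(183,(.negSucc 0),1)] .nil .nil))))) (.node [] (.node [] (.node [] (.node [] (.node [] .nil (.node [(190,(.ofNat 1),1)] .nil .nil)) (.node [(0,(.ofNat 1),1),(1,(.ofNat 1),1),(2,(.ofNat 1),1),(3,(.ofNat 2),1),(4,(.ofNat 2),1),(5,(.ofNat 1),1),(186,(.negSucc 0),2)] .nil .nil)) (.node [(97,(.ofNat 1),1)] .nil (.node [] .nil (.node [(244,(.negSucc 0),1)] .nil .nil)))) (.node [(61,(.ofNat 1),1)] (.node [] .nil (.node [(164,(.ofNat 1),1)] .nil .nil)) (.node [(111,(.ofNat 1),1)] .nil .nil))) (.node [] (.node [] (.node [] .nil (.node [(140,(.negSucc 0),1)] .nil .nil)) .nil) (.node [(86,(.ofNat 1),1)] .nil .nil)))) (.node [] (.node [] (.node [] (.node [] (.node [] .nil (.node [(125,(.ofNat 1),1)] .nil (.node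 [(235,(.negSucc 0),1)] .nil .nil))) (.node [] (.node [] .nil (.node [(223,(.negSucc 0),1)] .nil .nil)) .nil)) (.node [] (.node [] (.node [] .nil (.node [(208,(.negSucc 0),1)] .nil .nil)) .nil) (.node [] .nil (.node [(178,(.ofNat 1),1)] .nil .nil)))) (.node [(26,(.ofNat 1),1)] (.node [] .nil (.node [(100,(.ofNat 1),1)] .nil .nil)) (.node [] (.node [] (.node [] .nil (.node [(212,(.negSucc 0),1)] .nil .nil)) (.node [(170,(.negSucc 0),1)] .nil .nil)) (.node [(112,(.ofNat 1),1)] .nil .nil)))) (.node [] (.node [] (.node [] .nil (.node [] .nil (.node [(173,(.ofNat 1),1)] .nil .nil))) .nil) (.node [] (.node [] (.node [] (.node [] .nil (.node [(196,(.negSucc 0),1)] .nil .nil)) (.node [] .nil (.node [(239,(.negSucc 0),1)] .nil .nil))) (.node [(108,(.ofNat 1),1)] .nil .nil)) (.node [] (.node [] (.node [] .nil (.node [(219,(.negSucc 0),1)] .nil .nil)) .nil) .nil))))))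
noncomputable def ex179 : Trie (List (ℕ × ℤ × ℕ)) := (.node [(187,(.negSucc 0),1)] (.node [] (.node [] (.node [] (.node [] (.node [] (.node [] (.node [] .nil (.node [(188,(.negSucc 0),1)] .nil .nil)) (.node [(122,(.negSucc 0),1)] .nil .nil)) .nil) (.node [(49,(.negSucc 0),1)] (.node [] (.node [] .nil (.node [(203,(.negSucc 0),1)] .nil .nil)) (.node [(151,(.ofNat 1),1)] .nil .nil)) .nil)) (.node [] (.node [] (.node [] .nil (.node [] .nil (.node [(238,(.ofNat 1),1)] .nil .nil))) (.node [] (.node [] .nil (.node [(226,(.ofNat 1),1)] .nil .nil)) (.node [(175,(.negSucc 0),1)] .nil .nil))) (.node [] (.node [] .nil (.node [] .nil (.node [(241,(.ofNat 1),1)] .nil .nil))) .nil))) (.node [(187,(.negSucc 0),1)] (.node [] (.node [] (.node [] .nil (.node [(0,(.ofNat 1),1),(1,(.ofNat 1),1),(2,(.ofNat 1),1),(3,(.ofNat 2),1),(4,(.ofNat 2),1),(5,(.ofNat 1),1),(6,(.ofNat 1),1),(187,(.negSucc 0),2)] .nil .nil)) (.node [] .nil (.node [] .nil (.node [(244,(.ofNat 1),1)] .nil .nil)))) (.node [] (.node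 [] (.node [] .nil (.node [(210,(.negSucc 0),1)] .nil .nil)) .nil) (.node [(111,(.ofNat 1),1)] .nil (.node [(180,(.negSucc 0),1)] .nil .nil)))) .nil)) (.node [(187,(.ofNat 1),1)] (.node [] (.node [] (.node [] (.node [] .nil (.node [(124,(.ofNat 1),1)] .nil .nil)) .nil) (.node [] (.node [] (.node [] .nil (.node [(208,(.ofNat 1),1)] .nil .nil)) (.node [(153,(.negSucc 0),1)] .nil .nil)) (.node [] .nil (.node [(178,(.ofNat 1),1)] .nil .nil)))) (.node [] (.node [] .nil (.node [(100,(.ofNat 1),1)] .nil .nil)) (.node [] (.node [] .nil (.node [(170,(.negSucc 0),1)] .nil .nil)) (.node [(112,(.ofNat 1),1)] .nil .nil)))) (.node [(187,(.negSucc 0),1)] (.node [] (.node [] .nil (.node [] .nil (.node [(173,(.ofNat 1),1)] .nil (.node [(246,(.negSucc 0),1)] .nil .nil)))) .nil) (.node [(39,(.negSucc 0),1)] (.node [] (.node [] .nil (.node [] .nil (.node [(239,(.ofNat 1),1)] .nil .nil))) .nil) (.node [] .nil (.node [] .nil (.node [(186,(.negSucc 0),1)] .nil .nil))))))) (.node [] (.node [] (.node []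 (.node [] (.node [] (.node [] .nil (.node [] .nil (.node [(234,(.ofNat 1),1)] .nil .nil))) (.node [(94,(.negSucc 0),1)] (.node [] .nil (.node [(222,(.ofNat 1),1)] .nil .nil)) .nil)) (.node [(55,(.negSucc 0),1)] .nil .nil)) (.node [(25,(.ofNat 1),1)] (.node [] (.node [] .nil (.node [(136,(.negSucc 0),1)] .nil .nil)) .nil) (.node [] .nil (.node [] .nil (.node [(184,(.negSucc 0),1)] .nil .nil))))) (.node [(187,(.ofNat 1),1)] (.node [] (.node [] (.node [] (.node [] .nil (.node [(191,(.ofNat 1),1)] .nil .nil)) (.node [(129,(.ofNat 1),1)] .nil .nil)) (.node [(98,(.negSucc 0),1)] .nil .nil)) (.node [(62,(.negSucc 0),1)] (.node [] .nil (.node [(165,(.ofNat 1),1)] .nil .nil)) .nil)) (.node [] (.node [] (.node [] .nil (.node [(141,(.negSucc 0),1)] .nil .nil)) (.node [(107,(.ofNat 1),1)] .nil .nil)) (.node [(87,(.negSucc 0),1)] (.node [] (.node [] .nil (.node [(218,(.ofNat 1),1)] .nil .nil)) .nil) .nil)))) (.node [] (.node [] (.node [] (.node [] (.node [] (.node [] .nil (.node [(189,(.negSucc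 0),1)] .nil .nil)) (.node [(127,(.ofNat 1),1)] .nil (.node [(236,(.negSucc 0),1)] .nil .nil))) (.node [(96,(.ofNat 1),1)] (.node [] .nil (.node [(224,(.negSucc 0),1)] .nil .nil)) .nil)) (.node [(60,(.ofNat 1),1)] .nil .nil)) (.node [(27,(.negSucc 0),1)] (.node [] (.node [] .nil (.node [(139,(.ofNat 1),1)] .nil .nil)) .nil) (.node [] (.node [] (.node [] .nil (.node [(213,(.negSucc 0),1)] .nil .nil)) .nil) (.node [] (.node [] .nil (.node [] .nil .nil)) .nil)))) (.node [(187,(.ofNat 1),1)] (.node [] (.node [] (.node [] .nil (.node [(134,(.ofNat 1),1)] .nil .nil)) .nil) (.node [] .nil (.node [] .nil (.node [(182,(.ofNat 1),1)] .nil .nil)))) (.node [] (.node [] (.node [] (.node [] .nil (.node [(197,(.negSucc 0),1)] .nil .nil)) .nil) (.node [(109,(.negSucc 0),1)] .nil .nil)) (.node [(92,(.ofNat 1),1)] (.node [] (.node [] .nil (.node [(220,(.negSucc 0),1)] .nil .nil)) .nil) .nil))))))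
noncomputable def ex180 : Trie (List (ℕ × ℤ × ℕ)) := (.node [(188,(.negSucc 0),1)] (.node [] (.node [] (.node [] (.node [] (.node [] (.node [] .nil (.node [(123,(.ofNat 1),1)] .nil .nil)) (.node [(94,(.negSucc 0),1)] .nil .nil)) (.node [(50,(.ofNat 1),1)] (.node [] (.node [] .nil (.node [(204,(.negSucc 0),1)] .nil .nil)) .nil) .nil)) (.node [(25,(.ofNat 1),1)] (.node [] .nil (.node [] .nil (.node [(176,(.negSucc 0),1)] .nil .nil))) .nil)) (.node [(188,(.negSucc 0),1)] (.node [] (.node [] (.node [] (.node [] .nil (.node [(191,(.negSucc 0),1)] .nil .nil)) (.node [(128,(.ofNat 1),1)] .nil .nil)) (.node [(98,(.negSucc 0),1)] .nil .nil)) (.node [(62,(.negSucc 0),1)] .nil (.node [] .nil (.node [(181,(.negSucc 0),1)] .nil .nil)))) (.node [] .nil (.node [] .nil (.node [] (.node [] .nil (.node [] .nil .nil)) .nil))))) (.node [(188,(.ofNat 1),1)] (.node [] (.node [] (.node [] (.node [] .nil (.node [] .nil (.node [(236,(.ofNat 1),1)] .nil .nil))) (.node [] (.node [] .nil (.node [(224,(.ofNat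 1),1)] .nil .nil)) .nil)) (.node [] (.node [] (.node [] .nil (.node [(209,(.ofNat 1),1)] .nil .nil)) (.node [(154,(.negSucc 0),1)] .nil .nil)) .nil)) (.node [] (.node [] (.node [] .nil (.node [(139,(.ofNat 1),1)] .nil .nil)) .nil) .nil)) (.node [] (.node [] (.node [] (.node [] .nil (.node [(134,(.ofNat 1),1)] .nil .nil)) (.node [] .nil (.node [] .nil (.node [(247,(.negSucc 0),1)] .nil .nil)))) (.node [] .nil (.node [] .nil (.node [(182,(.ofNat 1),1)] .nil .nil)))) (.node [(40,(.ofNat 1),1)] (.node [] .nil (.node [(109,(.negSucc 0),1)] .nil .nil)) (.node [] (.node [] (.node [] .nil (.node [(220,(.ofNat 1),1)] .nil .nil)) .nil) .nil))))) (.node [] (.node [] (.node [] (.node [] (.node [] (.node [] .nil (.node [(124,(.ofNat 1),1)] .nil (.node [(235,(.ofNat 1),1)] .nil .nil))) (.node [] (.node [] .nil (.node [(223,(.ofNat 1),1)] .nil .nil)) .nil)) (.node [(56,(.ofNat 1),1)] .nil (.node [] .nil (.node [(178,(.ofNat 1),1)] .nil .nil)))) (.node [] (.node [] (.node [] .nil (.node [(137,(.negSucc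 0),1)] .nil .nil)) (.node [(100,(.ofNat 1),1)] .nil .nil)) (.node [] (.node [] .nil (.node [(170,(.negSucc 0),1)] .nil .nil)) (.node [(112,(.ofNat 1),1)] .nil (.node [(185,(.negSucc 0),1)] .nil .nil))))) (.node [(188,(.ofNat 1),1)] (.node [] (.node [] (.node [] .nil (.node [(130,(.ofNat 1),1)] .nil .nil)) (.node [] .nil (.node [(173,(.ofNat 1),1)] .nil .nil))) (.node [] (.node [] .nil (.node [(166,(.ofNat 1),1)] .nil .nil)) .nil)) (.node [] (.node [] (.node [] .nil (.node [(142,(.negSucc 0),1)] .nil (.node [(239,(.negSucc 0),1)] .nil .nil))) (.node [(108,(.negSucc 0),1)] .nil .nil)) (.node [(88,(.ofNat 1),1)] (.node [] (.node [] .nil (.node [(219,(.ofNat 1),1)] .nil .nil)) .nil) (.node [] .nil (.node [(186,(.negSucc 0),1)] .nil .nil)))))) (.node [] (.node [] (.node [] (.node [] (.node [] (.node [] .nil (.node [(190,(.negSucc 0),1)] .nil .nil)) (.node [(0,(.ofNat 1),1),(1,(.ofNat 1),1),(2,(.ofNat 1),1),(3,(.ofNat 2),1),(4,(.ofNat 2),1),(5,(.ofNat 1),1),(6,(.ofNat 1),1),(7,(.ofNat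 1),1),(188,(.negSucc 0),2)] .nil .nil)) (.node [(97,(.negSucc 0),1)] .nil (.node [] .nil (.node [(244,(.negSucc 0),1)] .nil .nil)))) (.node [(61,(.negSucc 0),1)] (.node [] (.node [] .nil (.node [(210,(.ofNat 1),1)] .nil .nil)) .nil) (.node [(111,(.ofNat 1),1)] .nil .nil))) (.node [(28,(.ofNat 1),1)] .nil (.node [] (.node [] (.node [] .nil (.node [(214,(.negSucc 0),1)] .nil .nil)) .nil) .nil))) (.node [(188,(.negSucc 0),1)] (.node [] (.node [] (.node [] .nil (.node [] .nil (.node [(238,(.negSucc 0),1)] .nil .nil))) (.node [] (.node [] .nil (.node [(226,(.negSucc 0),1)] .nil .nil)) .nil)) (.node [] (.node [] .nil (.node [] .nil (.node [(241,(.negSucc 0),1)] .nil .nil))) .nil)) (.node [] (.node [] (.node [] (.node [] .nil (.node [(198,(.negSucc 0),1)] .nil .nil)) (.node [(151,(.ofNat 1),1)] .nil .nil)) .nil) (.node [(93,(.negSucc 0),1)] .nil (.node [] .nil (.node [(187,(.negSucc 0),1)] .nil .nil))))))))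
noncomputable def ex181 : Trie (List (ℕ × ℤ × ℕ)) := (.node [(189,(.negSucc 0),1)] (.node [] (.node [] (.node [] (.node [] (.node [] (.node [] (.node [] .nil (.node [(190,(.negSucc 0),1)] .nil .nil)) (.node [(125,(.negSucc 0),1)] .nil (.node [(234,(.negSucc 0),1)] .nil .nil))) (.node [] (.node [] .nil (.node [(222,(.negSucc 0),1)] .nil .nil)) .nil)) (.node [(51,(.ofNat 1),1)] (.node [] (.node [] .nil (.node [(205,(.negSucc 0),1)] .nil .nil)) (.node [(152,(.ofNat 1),1)] .nil .nil)) .nil)) (.node [] (.node [] (.node [] .nil (.node [(136,(.negSucc 0),1)] .nil .nil)) (.node [(100,(.ofNat 1),1)] .nil .nil)) (.node [] (.node [] .nil (.node [(170,(.negSucc 0),1)] .nil .nil)) (.node [(112,(.ofNat 1),1)] .nil (.node [(184,(.negSucc 0),1)] .nil .nil))))) (.node [] (.node [] (.node [] (.node [] .nil (.node [(131,(.ofNat 1),1)] .nil .nil)) (.node [] .nil (.node [] .nil (.node [(245,(.ofNat 1),1)] .nil .nil)))) (.node [] (.node [] (.node [] .nil (.node [(211,(.negSucc 0),1)] .nil .nil)) .nil)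 .nil)) (.node [] (.node [] (.node [] .nil (.node [(141,(.negSucc 0),1)] .nil (.node [(239,(.negSucc 0),1)] .nil .nil))) (.node [(107,(.ofNat 1),1)] .nil .nil)) (.node [] (.node [] (.node [] .nil (.node [(218,(.negSucc 0),1)] .nil .nil)) .nil) (.node [] .nil (.node [(187,(.negSucc 0),1)] .nil .nil)))))) (.node [(189,(.ofNat 1),1)] (.node [] (.node [] (.node [] (.node [] (.node [] .nil (.node [(191,(.ofNat 1),1)] .nil .nil)) (.node [(0,(.ofNat 1),1),(1,(.ofNat 1),1),(2,(.ofNat 1),1),(3,(.ofNat 2),1),(4,(.ofNat 2),1),(5,(.ofNat 2),1),(6,(.ofNat 1),1),(189,(.negSucc 0),2)] .nil .nil)) (.node [(96,(.ofNat 1),1)] .nil .nil)) (.node [(60,(.ofNat 1),1)] .nil (.node [(111,(.ofNat 1),1)] .nil (.node [(179,(.ofNat 1),1)] .nil .nil)))) (.node [(27,(.negSucc 0),1)] .nil .nil)) (.node [] (.node [] (.node [] (.node [] .nil (.node [] .nil (.node [(238,(.negSucc 0),1)] .nil .nil))) (.node [] (.node [] .nil (.node [(226,(.negSucc 0),1)] .nil .nil)) (.node [(174,(.ofNat 1),1)] .nil .nil))) (.node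 [] (.node [] .nil (.node [] .nil (.node [(241,(.negSucc 0),1)] .nil .nil))) .nil)) (.node [(41,(.ofNat 1),1)] .nil (.node [(92,(.ofNat 1),1)] .nil .nil))))) (.node [] (.node [] (.node [] (.node [] (.node [] (.node [] .nil (.node [(127,(.ofNat 1),1)] .nil .nil)) (.node [(95,(.ofNat 1),1)] .nil .nil)) (.node [(57,(.ofNat 1),1)] (.node [] (.node [] .nil (.node [(208,(.negSucc 0),1)] .nil .nil)) (.node [(153,(.negSucc 0),1)] .nil .nil)) .nil)) (.node [(26,(.negSucc 0),1)] .nil .nil)) (.node [(189,(.negSucc 0),1)] (.node [] (.node [] (.node [] .nil (.node [(132,(.negSucc 0),1)] .nil .nil)) (.node [(99,(.ofNat 1),1)] .nil (.node [] .nil (.node [(246,(.ofNat 1),1)] .nil .nil)))) (.node [(63,(.ofNat 1),1)] (.node [] .nil (.node [(167,(.ofNat 1),1)] .nil .nil)) .nil)) (.node [] .nil (.node [(89,(.ofNat 1),1)] .nil (.node [] (.node [] .nil (.node [] .nil .nil)) .nil))))) (.node [] (.node [] (.node [] (.node [] (.node [] .nil (.node [] .nil (.node [(237,(.negSucc 0),1)] .nil .nil))) (.node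 [] (.node [] .nil (.node [(225,(.negSucc 0),1)] .nil .nil)) .nil)) (.node [] .nil (.node [] .nil (.node [(180,(.negSucc 0),1)] .nil .nil)))) (.node [] (.node [] (.node [] .nil (.node [(140,(.ofNat 1),1)] .nil .nil)) .nil) (.node [] (.node [] (.node [] .nil (.node [(215,(.negSucc 0),1)] .nil .nil)) .nil) (.node [] .nil (.node [(186,(.ofNat 1),1)] .nil .nil))))) (.node [(189,(.ofNat 1),1)] (.node [] (.node [] (.node [] .nil (.node [(135,(.ofNat 1),1)] .nil .nil)) (.node [] .nil (.node [(175,(.negSucc 0),1)] .nil .nil))) (.node [] .nil (.node [] .nil (.node [(183,(.ofNat 1),1)] .nil .nil)))) (.node [] (.node [] (.node [] (.node [] .nil (.node [(199,(.negSucc 0),1)] .nil .nil)) .nil) (.node [(110,(.ofNat 1),1)] .nil .nil)) (.node [] (.node [] (.node [] .nil (.node [(221,(.negSucc 0),1)] .nil .nil)) .nil) .nil))))))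
noncomputable def ex182 : Trie (List (ℕ × ℤ × ℕ)) := (.node [(190,(.negSucc 0),1)] (.node [] (.node [] (.node [] (.node [] (.node [] (.node [] .nil (.node [(126,(.ofNat 1),1)] .nil (.node [(235,(.negSucc 0),1)] .nil .nil))) (.node [(95,(.ofNat 1),1)] (.node [] .nil (.node [(223,(.negSucc 0),1)] .nil .nil)) .nil)) (.node [(52,(.negSucc 0),1)] (.node [] (.node [] .nil (.node [(206,(.negSucc 0),1)] .nil .nil)) .nil) .nil)) (.node [(26,(.negSucc 0),1)] (.node [] (.node [] .nil (.node [(137,(.negSucc 0),1)] .nil .nil)) .nil) (.node [] .nil (.node [] .nil (.node [(185,(.negSucc 0),1)] .nil .nil))))) (.node [] (.node [] (.node [] .nil (.node [(99,(.ofNat 1),1)] .nil .nil)) (.node [(63,(.ofNat 1),1)] .nil .nil)) (.node [] (.node [] (.node [] .nil (.node [(142,(.negSucc 0),1)] .nil .nil)) (.node [(108,(.negSucc 0),1)] .nil .nil)) (.node [] (.node [] (.node [] .nil (.node [(219,(.negSucc 0),1)] .nil .nil)) .nil) (.node [] .nil (.node [(188,(.negSucc 0),1)] .nil .nil)))))) (.node [(190,(.ofNat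 1),1)] (.node [] (.node [] (.node [] (.node [] .nil (.node [(128,(.ofNat 1),1)] .nil (.node [(237,(.ofNat 1),1)] .nil .nil))) (.node [(97,(.negSucc 0),1)] (.node [] .nil (.node [(225,(.ofNat 1),1)] .nil .nil)) .nil)) (.node [(61,(.negSucc 0),1)] .nil .nil)) (.node [(28,(.ofNat 1),1)] (.node [] (.node [] .nil (.node [(140,(.ofNat 1),1)] .nil .nil)) .nil) (.node [] .nil (.node [] .nil (.node [(186,(.ofNat 1),1)] .nil .nil))))) (.node [(190,(.ofNat 1),1)] (.node [] (.node [] (.node [] .nil (.node [(135,(.ofNat 1),1)] .nil .nil)) .nil) (.node [] .nil (.node [] .nil (.node [(183,(.ofNat 1),1)] .nil .nil)))) (.node [(42,(.negSucc 0),1)] (.node [] .nil (.node [(110,(.ofNat 1),1)] .nil .nil)) (.node [(93,(.negSucc 0),1)] (.node [] (.node [] .nil (.node [(221,(.ofNat 1),1)] .nil .nil)) .nil) (.node [] (.node [] .nil (.node [] .nil .nil)) .nil)))))) (.node [] (.node [] (.node [] (.node [] (.node [] (.node [] (.node [] .nil (.node [(191,(.negSucc 0),1)] .nil .nil)) (.node [(0,(.ofNat 1),1),(1,(.ofNat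 1),1),(2,(.ofNat 1),1),(3,(.ofNat 2),1),(4,(.ofNat 2),1),(5,(.ofNat 2),1),(6,(.ofNat 1),1),(7,(.ofNat 1),1),(190,(.negSucc 0),2)] .nil .nil)) .nil) (.node [(58,(.negSucc 0),1)] (.node [] (.node [] .nil (.node [(209,(.negSucc 0),1)] .nil .nil)) (.node [(154,(.negSucc 0),1)] .nil .nil)) (.node [(111,(.ofNat 1),1)] .nil (.node [(179,(.ofNat 1),1)] .nil .nil)))) .nil) (.node [(190,(.negSucc 0),1)] (.node [] (.node [] (.node [] .nil (.node [(133,(.negSucc 0),1)] .nil (.node [(238,(.ofNat 1),1)] .nil .nil))) (.node [] (.node [] .nil (.node [(226,(.ofNat 1),1)] .nil .nil)) (.node [(174,(.ofNat 1),1)] .nil (.node [(247,(.ofNat 1),1)] .nil .nil)))) (.node [] (.node [] .nil (.node [(168,(.ofNat 1),1)] .nil (.node [(241,(.ofNat 1),1)] .nil .nil))) .nil)) (.node [] .nil (.node [(90,(.negSucc 0),1)] .nil .nil)))) (.node [] (.node [] (.node [] (.node [] (.node [] .nil (.node [(131,(.ofNat 1),1)] .nil .nil)) (.node [] .nil (.node [] .nil (.node [(245,(.negSucc 0),1)] .nil .nil)))) (.node []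 (.node [] (.node [] .nil (.node [(211,(.ofNat 1),1)] .nil .nil)) .nil) (.node [] .nil (.node [(181,(.negSucc 0),1)] .nil .nil)))) (.node [] (.node [] (.node [] .nil (.node [] .nil (.node [(239,(.ofNat 1),1)] .nil .nil))) .nil) (.node [] (.node [] (.node [] .nil (.node [(216,(.negSucc 0),1)] .nil .nil)) .nil) .nil))) (.node [(190,(.negSucc 0),1)] (.node [] (.node [] .nil (.node [(100,(.ofNat 1),1)] .nil (.node [(176,(.negSucc 0),1)] .nil .nil))) (.node [] (.node [] .nil (.node [(170,(.negSucc 0),1)] .nil .nil)) (.node [(112,(.ofNat 1),1)] .nil .nil))) (.node [] (.node [] (.node [] (.node [] .nil (.node [(200,(.negSucc 0),1)] .nil .nil)) (.node [(152,(.ofNat 1),1)] .nil .nil)) .nil) (.node [] .nil (.node [] .nil (.node [(189,(.negSucc 0),1)] .nil .nil))))))))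
noncomputable def ex183 : Trie (List (ℕ × ℤ × ℕ)) := (.node [(191,(.negSucc 0),1)] (.node [] (.node [] (.node [] (.node [] (.node [] (.node [] .nil (.node [(0,(.ofNat 1),1),(1,(.ofNat 1),1),(2,(.ofNat 1),1),(3,(.ofNat 2),1),(4,(.ofNat 2),1),(5,(.ofNat 2),1),(6,(.ofNat 2),1),(7,(.ofNat 1),1),(191,(.negSucc 0),2)] .nil (.node [(236,(.negSucc 0),1)] .nil .nil))) (.node [] (.node [] .nil (.node [(224,(.negSucc 0),1)] .nil .nil)) .nil)) (.node [(53,(.ofNat 1),1)] (.node [] (.node [] .nil (.node [(207,(.negSucc 0),1)] .nil .nil)) (.node [(154,(.negSucc 0),1)] .nil .nil)) (.node [(111,(.ofNat 1),1)] .nil .nil))) (.node [(27,(.ofNat 1),1)] .nil .nil)) (.node [] (.node [] (.node [] (.node [] .nil (.node [(133,(.negSucc 0),1)] .nil (.node [(238,(.negSucc 0),1)] .nil .nil))) (.node [] (.node [] .nil (.node [(226,(.negSucc 0),1)] .nil .nil)) (.node [] .nil (.node [(247,(.negSucc 0),1)] .nil .nil)))) (.node [] (.node [] .nil (.node [] .nil (.node [(241,(.negSucc 0),1)] .nil .nil))) .nil))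 (.node [] (.node [] .nil (.node [(109,(.ofNat 1),1)] .nil .nil)) (.node [] (.node [] (.node [] .nil (.node [(220,(.negSucc 0),1)] .nil .nil)) .nil) .nil)))) (.node [(191,(.ofNat 1),1)] (.node [] (.node [] (.node [] (.node [] .nil (.node [(130,(.negSucc 0),1)] .nil .nil)) (.node [(98,(.ofNat 1),1)] .nil .nil)) (.node [(62,(.ofNat 1),1)] (.node [] (.node [] .nil (.node [(211,(.negSucc 0),1)] .nil .nil)) .nil) (.node [] .nil (.node [(181,(.negSucc 0),1)] .nil .nil)))) (.node [] (.node [] (.node [] .nil (.node [(141,(.ofNat 1),1)] .nil (.node [(239,(.negSucc 0),1)] .nil .nil))) .nil) (.node [] .nil (.node [] .nil (.node [(187,(.ofNat 1),1)] .nil .nil))))) (.node [(191,(.negSucc 0),1)] (.node [] (.node [] (.node [] .nil (.node [(136,(.ofNat 1),1)] .nil .nil)) (.node [(100,(.ofNat 1),1)] .nil (.node [(176,(.negSucc 0),1)] .nil .nil))) (.node [] (.node [] .nil (.node [(170,(.negSucc 0),1)] .nil .nil)) (.node [(112,(.ofNat 1),1)] .nil (.node [(184,(.ofNat 1),1)] .nil .nil)))) (.node [(43,(.ofNat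 1),1)] .nil (.node [(94,(.ofNat 1),1)] .nil (.node [] .nil (.node [(190,(.negSucc 0),1)] .nil .nil))))))) (.node [] (.node [] (.node [] (.node [] (.node [] (.node [] .nil (.node [(129,(.ofNat 1),1)] .nil (.node [(237,(.negSucc 0),1)] .nil .nil))) (.node [] (.node [] .nil (.node [(225,(.negSucc 0),1)] .nil .nil)) .nil)) (.node [(59,(.ofNat 1),1)] (.node [] (.node [] .nil (.node [(210,(.negSucc 0),1)] .nil .nil)) .nil) (.node [] .nil (.node [(180,(.ofNat 1),1)] .nil .nil)))) (.node [(28,(.ofNat 1),1)] .nil .nil)) (.node [] (.node [] (.node [] .nil (.node [] .nil (.node [(175,(.ofNat 1),1)] .nil .nil))) (.node [] (.node [] .nil (.node [(169,(.ofNat 1),1)] .nil .nil)) .nil)) (.node [] (.node [] .nil (.node [(110,(.ofNat 1),1)] .nil .nil)) (.node [(91,(.ofNat 1),1)] (.node [] (.node [] .nil (.node [(221,(.negSucc 0),1)] .nil .nil)) .nil) (.node [] .nil (.node [(189,(.ofNat 1),1)] .nil .nil)))))) (.node [] (.node [] (.node [] (.node [] (.node [] .nil (.node [(132,(.ofNat 1),1)] .nil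 .nil)) (.node [(99,(.ofNat 1),1)] .nil (.node [] .nil (.node [(246,(.negSucc 0),1)] .nil .nil)))) (.node [(63,(.ofNat 1),1)] .nil .nil)) (.node [] (.node [] (.node [] .nil (.node [(142,(.negSucc 0),1)] .nil .nil)) .nil) (.node [] (.node [] (.node [] .nil (.node [(217,(.negSucc 0),1)] .nil .nil)) .nil) (.node [] .nil (.node [(188,(.negSucc 0),1)] .nil .nil))))) (.node [] (.node [] (.node [] (.node [] .nil (.node [(137,(.negSucc 0),1)] .nil .nil)) .nil) (.node [] .nil (.node [] .nil (.node [(185,(.negSucc 0),1)] .nil .nil)))) (.node [] (.node [] (.node [] (.node [] .nil (.node [(201,(.negSucc 0),1)] .nil .nil)) (.node [(153,(.ofNat 1),1)] .nil .nil)) .nil) (.node [(95,(.ofNat 1),1)] .nil (.node [] (.node [] .nil (.node [] .nil .nil)) .nil)))))))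
noncomputable def ex184 : Trie (List (ℕ × ℤ × ℕ)) := (.node [] (.node [] (.node [] (.node [] (.node [] (.node [] (.node [] .nil (.node [] .nil (.node [] .nil .nil))) .nil) (.node [] .nil (.node [] .nil (.node [(182,(.negSucc 0),1)] .nil .nil)))) (.node [] (.node [] (.node [] (.node [] .nil (.node [(197,(.ofNat 1),1)] .nil .nil)) .nil) (.node [] (.node [] .nil (.node [(228,(.negSucc 0),1)] .nil .nil)) .nil)) (.node [] (.node [] (.node [] .nil (.node [(212,(.ofNat 1),1)] .nil .nil)) .nil) .nil))) (.node [] (.node [] (.node [] (.node [] (.node [] .nil (.node [(194,(.negSucc 0),1)] .nil .nil)) .nil) (.node [] .nil (.node [(173,(.negSucc 0),1)] .nil .nil))) (.node [(65,(.negSucc 0),1)] (.node [] .nil (.node [(160,(.ofNat 1),1)] .nil .nil)) (.node [(114,(.ofNat 1),1)] .nil .nil))) (.node [(30,(.ofNat 1),1)] (.node [] (.node [] (.node [] .nil (.node [(202,(.negSucc 0),1)] .nil .nil)) .nil) .nil) (.node [(88,(.ofNat 1),1)] .nil (.node [(122,(.ofNat 1),1)] .nil .nil))))) (.node [(192,(.negSucc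 0),1)] (.node [] (.node [] (.node [] .nil (.node [] .nil (.node [] .nil (.node [(244,(.negSucc 0),1)] .nil .nil)))) (.node [] (.node [] .nil (.node [(155,(.ofNat 1),1)] .nil .nil)) .nil)) (.node [] (.node [] .nil (.node [(102,(.negSucc 0),1)] .nil .nil)) (.node [(86,(.ofNat 1),1)] (.node [] (.node [] .nil (.node [(214,(.ofNat 1),1)] .nil .nil)) .nil) (.node [(119,(.negSucc 0),1)] .nil .nil)))) (.node [] .nil (.node [] (.node [] (.node [] (.node [] .nil (.node [(204,(.negSucc 0),1)] .nil .nil)) (.node [(145,(.ofNat 1),1)] .nil .nil)) (.node [] .nil (.node [(177,(.negSucc 0),1)] .nil .nil))) (.node [] .nil (.node [(124,(.ofNat 1),1)] (.node [] .nil (.node [(235,(.ofNat 1),1)] .nil .nil)) .nil)))))) (.node [] (.node [] (.node [] (.node [] (.node [] .nil (.node [] .nil (.node [] .nil (.node [(243,(.negSucc 0),1)] .nil .nil)))) .nil) (.node [] (.node [] (.node [] (.node [] .nil (.node [(198,(.ofNat 1),1)] .nil .nil)) (.node [(143,(.ofNat 1),1)] .nil .nil)) (.node [(101,(.negSucc 0),1)]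 (.node [] .nil (.node [(229,(.negSucc 0),1)] .nil .nil)) .nil)) (.node [] (.node [] (.node [] .nil (.node [(213,(.ofNat 1),1)] .nil .nil)) .nil) (.node [(118,(.negSucc 0),1)] .nil .nil)))) (.node [(192,(.ofNat 1),1)] (.node [] (.node [] (.node [] (.node [] .nil (.node [(195,(.negSucc 0),1)] .nil .nil)) .nil) .nil) (.node [(66,(.negSucc 0),1)] .nil (.node [(115,(.ofNat 1),1)] .nil .nil))) (.node [(34,(.ofNat 1),1)] (.node [] (.node [] (.node [] .nil (.node [(203,(.negSucc 0),1)] .nil .nil)) (.node [(144,(.negSucc 0),1)] .nil .nil)) .nil) (.node [] (.node [] .nil (.node [] .nil (.node [(242,(.negSucc 0),1)] .nil .nil))) (.node [(123,(.ofNat 1),1)] (.node [] .nil (.node [(234,(.ofNat 1),1)] .nil .nil)) .nil))))) (.node [] (.node [] (.node [] (.node [] (.node [] (.node [] .nil (.node [(193,(.negSucc 0),1)] .nil .nil)) .nil) (.node [] .nil (.node [(172,(.ofNat 1),1)] .nil .nil))) (.node [(64,(.negSucc 0),1)] (.node [] .nil (.node [(156,(.negSucc 0),1)] .nil (.node [(240,(.negSucc 0),1)]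 .nil .nil))) (.node [(113,(.ofNat 1),1)] .nil .nil))) (.node [(29,(.ofNat 1),1)] (.node [] .nil (.node [(103,(.negSucc 0),1)] .nil .nil)) (.node [(87,(.ofNat 1),1)] .nil (.node [(120,(.negSucc 0),1)] .nil .nil)))) (.node [] (.node [] (.node [] (.node [] (.node [] .nil (.node [(196,(.ofNat 1),1)] .nil .nil)) .nil) (.node [] (.node [] .nil (.node [(227,(.negSucc 0),1)] .nil .nil)) .nil)) .nil) (.node [(44,(.ofNat 1),1)] (.node [] .nil (.node [] .nil (.node [(178,(.ofNat 1),1)] .nil .nil))) (.node [] (.node [] .nil (.node [(171,(.negSucc 0),1)] .nil .nil)) (.node [(0,(.ofNat 1),1),(1,(.ofNat 1),1),(2,(.ofNat 2),1),(3,(.ofNat 2),1),(4,(.ofNat 1),1),(192,(.negSucc 0),2)] (.node [] .nil (.node [(236,(.ofNat 1),1)] .nil .nil)) .nil)))))))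
noncomputable def ex185 : Trie (List (ℕ × ℤ × ℕ)) := (.node [] (.node [] (.node [] (.node [] (.node [] (.node [] .nil (.node [] .nil (.node [] .nil (.node [(243,(.ofNat 1),1)] .nil .nil)))) (.node [] .nil (.node [] .nil (.node [(183,(.negSucc 0),1)] .nil .nil)))) (.node [] (.node [] (.node [] (.node [] .nil (.node [(199,(.ofNat 1),1)] .nil .nil)) (.node [(143,(.ofNat 1),1)] .nil .nil)) (.node [(102,(.negSucc 0),1)] .nil .nil)) (.node [] .nil (.node [(119,(.negSucc 0),1)] .nil .nil)))) (.node [(193,(.ofNat 1),1)] (.node [] (.node [] .nil (.node [] .nil (.node [(174,(.negSucc 0),1)] .nil .nil))) (.node [(67,(.ofNat 1),1)] (.node [] .nil (.node [(161,(.ofNat 1),1)] .nil .nil)) .nil)) (.node [(31,(.negSucc 0),1)] (.node [] (.node [] .nil (.node [(144,(.negSucc 0),1)] .nil .nil)) .nil) (.node [(90,(.negSucc 0),1)] (.node [] .nil (.node [] .nil (.node [(242,(.ofNat 1),1)] .nil .nil))) (.node [(125,(.ofNat 1),1)] (.node [] .nil (.node [(235,(.negSucc 0),1)] .nil .nil)) (.node [(192,(.negSucc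 0),1)] .nil .nil)))))) (.node [(193,(.negSucc 0),1)] (.node [] (.node [] (.node [] (.node [] (.node [] .nil (.node [(195,(.negSucc 0),1)] .nil .nil)) .nil) (.node [] .nil (.node [(172,(.ofNat 1),1)] .nil (.node [(245,(.negSucc 0),1)] .nil .nil)))) (.node [(64,(.negSucc 0),1)] (.node [] .nil (.node [] .nil (.node [(240,(.ofNat 1),1)] .nil .nil))) (.node [(114,(.ofNat 1),1)] .nil .nil))) (.node [(29,(.ofNat 1),1)] .nil (.node [] (.node [] (.node [] .nil (.node [(216,(.ofNat 1),1)] .nil .nil)) .nil) .nil))) (.node [(193,(.ofNat 1),1)] (.node [] (.node [] (.node [] (.node [] .nil (.node [(196,(.negSucc 0),1)] .nil .nil)) .nil) (.node [] (.node [] .nil (.node [(228,(.ofNat 1),1)] .nil .nil)) .nil)) .nil) (.node [] (.node [] (.node [] (.node [] .nil (.node [(206,(.negSucc 0),1)] .nil .nil)) (.node [(146,(.ofNat 1),1)] .nil .nil)) .nil) (.node [] (.node [] .nil (.node [(171,(.negSucc 0),1)] .nil .nil)) (.node [(0,(.ofNat 1),1),(1,(.ofNat 1),1),(2,(.ofNat 2),1),(3,(.ofNat 2),1),(4,(.ofNat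 1),1),(5,(.ofNat 1),1),(193,(.negSucc 0),2)] .nil .nil)))))) (.node [] (.node [] (.node [] (.node [] (.node [] (.node [] (.node [] .nil (.node [(194,(.negSucc 0),1)] .nil .nil)) (.node [] .nil (.node [] .nil .nil))) .nil) (.node [] (.node [] .nil (.node [(155,(.ofNat 1),1)] .nil .nil)) (.node [(113,(.ofNat 1),1)] .nil .nil))) (.node [] (.node [] (.node [] (.node [] .nil (.node [(200,(.ofNat 1),1)] .nil .nil)) .nil) (.node [] (.node [] .nil (.node [(230,(.negSucc 0),1)] .nil .nil)) .nil)) (.node [(86,(.ofNat 1),1)] (.node [] (.node [] .nil (.node [(215,(.ofNat 1),1)] .nil .nil)) .nil) .nil))) (.node [(193,(.negSucc 0),1)] (.node [] (.node [] .nil (.node [] (.node [] .nil (.node [(227,(.ofNat 1),1)] .nil .nil)) .nil)) (.node [(68,(.ofNat 1),1)] .nil (.node [(116,(.negSucc 0),1)] .nil .nil))) (.node [(35,(.negSucc 0),1)] (.node [] (.node [] (.node [] .nil (.node [(205,(.negSucc 0),1)] .nil .nil)) .nil) (.node [] .nil (.node [(177,(.negSucc 0),1)] .nil .nil))) (.node [] .nil (.node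 [(126,(.ofNat 1),1)] .nil .nil))))) (.node [] (.node [] (.node [] .nil (.node [] (.node [] .nil (.node [(157,(.negSucc 0),1)] .nil .nil)) .nil)) (.node [] (.node [] (.node [] (.node [] .nil (.node [(202,(.ofNat 1),1)] .nil .nil)) .nil) (.node [(104,(.ofNat 1),1)] .nil .nil)) (.node [(89,(.negSucc 0),1)] .nil (.node [(121,(.ofNat 1),1)] (.node [] .nil (.node [(234,(.negSucc 0),1)] .nil .nil)) .nil)))) (.node [] (.node [] (.node [] .nil (.node [(101,(.negSucc 0),1)] .nil .nil)) (.node [] (.node [] (.node [] .nil (.node [(212,(.negSucc 0),1)] .nil .nil)) .nil) (.node [(118,(.negSucc 0),1)] .nil .nil))) (.node [(45,(.negSucc 0),1)] (.node [] .nil (.node [] .nil (.node [(179,(.ofNat 1),1)] .nil .nil))) (.node [] .nil (.node [(131,(.ofNat 1),1)] (.node [] .nil (.node [(237,(.ofNat 1),1)] .nil .nil)) .nil)))))))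
noncomputable def ex186 : Trie (List (ℕ × ℤ × ℕ)) := (.node [] (.node [] (.node [] (.node [] (.node [] (.node [] (.node [] (.node [] .nil (.node [(195,(.negSucc 0),1)] .nil .nil)) .nil) .nil) (.node [] (.node [] .nil (.node [(155,(.ofNat 1),1)] .nil .nil)) (.node [(113,(.ofNat 1),1)] .nil (.node [(184,(.negSucc 0),1)] .nil .nil)))) (.node [] (.node [] .nil (.node [(103,(.ofNat 1),1)] (.node [] .nil (.node [(230,(.ofNat 1),1)] .nil .nil)) .nil)) (.node [] (.node [] (.node [] .nil (.node [(215,(.negSucc 0),1)] .nil .nil)) .nil) (.node [(120,(.ofNat 1),1)] .nil .nil)))) (.node [(194,(.ofNat 1),1)] (.node [] (.node [] .nil (.node [] (.node [] .nil (.node [(227,(.negSucc 0),1)] .nil .nil)) (.node [(175,(.negSucc 0),1)] .nil .nil))) (.node [] (.node [] .nil (.node [(162,(.ofNat 1),1)] .nil .nil)) (.node [(116,(.negSucc 0),1)] .nil .nil))) (.node [(32,(.ofNat 1),1)] (.node [] (.node [] (.node [] .nil (.node [(205,(.ofNat 1),1)] .nil .nil)) .nil) (.node [] .nil (.node [(177,(.negSucc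 0),1)] .nil .nil))) (.node [(91,(.ofNat 1),1)] .nil (.node [(127,(.ofNat 1),1)] (.node [] .nil (.node [(236,(.negSucc 0),1)] .nil .nil)) .nil))))) (.node [(194,(.negSucc 0),1)] (.node [] (.node [] (.node [] (.node [] .nil (.node [] .nil (.node [] .nil .nil))) (.node [] .nil (.node [] .nil (.node [(246,(.negSucc 0),1)] .nil .nil)))) (.node [(65,(.ofNat 1),1)] .nil (.node [(115,(.negSucc 0),1)] .nil .nil))) (.node [] (.node [] .nil (.node [(104,(.ofNat 1),1)] .nil .nil)) (.node [(89,(.negSucc 0),1)] (.node [] (.node [] .nil (.node [(217,(.ofNat 1),1)] .nil .nil)) .nil) (.node [(121,(.ofNat 1),1)] (.node [] .nil (.node [(234,(.ofNat 1),1)] .nil .nil)) .nil)))) (.node [(194,(.negSucc 0),1)] (.node [] (.node [] (.node [] (.node [] .nil (.node [(197,(.negSucc 0),1)] .nil .nil)) .nil) (.node [(101,(.negSucc 0),1)] (.node [] .nil (.node [(229,(.ofNat 1),1)] .nil .nil)) .nil)) (.node [] .nil (.node [(118,(.negSucc 0),1)] .nil .nil))) (.node [] (.node [] (.node [] (.node [] .nil (.node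 [(207,(.negSucc 0),1)] .nil .nil)) (.node [(147,(.ofNat 1),1)] .nil .nil)) .nil) (.node [] .nil (.node [(129,(.ofNat 1),1)] (.node [] .nil (.node [(237,(.negSucc 0),1)] .nil .nil)) (.node [(193,(.negSucc 0),1)] .nil .nil))))))) (.node [] (.node [] (.node [] (.node [] (.node [] .nil (.node [] .nil (.node [(172,(.ofNat 1),1)] .nil .nil))) (.node [] (.node [] .nil (.node [] .nil (.node [(240,(.negSucc 0),1)] .nil .nil))) .nil)) (.node [(29,(.ofNat 1),1)] (.node [] (.node [] (.node [] .nil (.node [(201,(.ofNat 1),1)] .nil .nil)) .nil) .nil) (.node [(87,(.negSucc 0),1)] .nil .nil))) (.node [] (.node [] .nil (.node [(69,(.negSucc 0),1)] .nil .nil)) (.node [(36,(.ofNat 1),1)] .nil (.node [] (.node [] .nil (.node [(171,(.negSucc 0),1)] .nil .nil)) (.node [(0,(.ofNat 1),1),(1,(.ofNat 1),1),(2,(.ofNat 2),1),(3,(.ofNat 2),1),(4,(.ofNat 1),1),(5,(.ofNat 1),1),(6,(.ofNat 1),1),(194,(.negSucc 0),2)] .nil .nil))))) (.node [] (.node [] (.node [] .nil (.node [(67,(.ofNat 1),1)] (.node [] .nil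 (.node [(158,(.negSucc 0),1)] .nil .nil)) .nil)) (.node [] (.node [] (.node [] (.node [] .nil (.node [(203,(.ofNat 1),1)] .nil .nil)) (.node [(144,(.negSucc 0),1)] .nil .nil)) .nil) (.node [] (.node [] .nil (.node [] .nil (.node [(242,(.negSucc 0),1)] .nil .nil))) (.node [] .nil (.node [(192,(.negSucc 0),1)] .nil .nil))))) (.node [(194,(.ofNat 1),1)] (.node [] (.node [] (.node [] (.node [] .nil (.node [(199,(.negSucc 0),1)] .nil .nil)) (.node [(143,(.ofNat 1),1)] .nil .nil)) .nil) (.node [] (.node [] (.node [] .nil (.node [(213,(.negSucc 0),1)] .nil .nil)) .nil) .nil)) (.node [(46,(.ofNat 1),1)] (.node [] .nil (.node [] .nil (.node [(180,(.ofNat 1),1)] .nil .nil))) (.node [] (.node [] .nil (.node [] .nil (.node [(243,(.negSucc 0),1)] .nil .nil))) (.node [(132,(.ofNat 1),1)] .nil .nil)))))))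
noncomputable def ex187 : Trie (List (ℕ × ℤ × ℕ)) := (.node [] (.node [] (.node [] (.node [] (.node [] (.node [] .nil (.node [] .nil (.node [(172,(.ofNat 1),1)] .nil .nil))) (.node [] (.node [] .nil (.node [] .nil (.node [(240,(.ofNat 1),1)] .nil .nil))) (.node [(114,(.negSucc 0),1)] .nil (.node [(185,(.negSucc 0),1)] .nil .nil)))) (.node [(29,(.ofNat 1),1)] (.node [] (.node [] (.node [] .nil (.node [(201,(.negSucc 0),1)] .nil .nil)) .nil) .nil) (.node [] (.node [] (.node [] .nil (.node [(216,(.negSucc 0),1)] .nil .nil)) .nil) .nil))) (.node [(195,(.ofNat 1),1)] (.node [] (.node [] .nil (.node [] (.node [] .nil (.node [(228,(.negSucc 0),1)] .nil .nil)) (.node [(176,(.negSucc 0),1)] .nil .nil))) (.node [(69,(.negSucc 0),1)] (.node [] .nil (.node [(163,(.ofNat 1),1)] .nil .nil)) .nil)) (.node [(33,(.negSucc 0),1)] (.node [] (.node [] (.node [] .nil (.node [(206,(.ofNat 1),1)] .nil .nil)) .nil) .nil) (.node [] (.node [] .nil (.node [(171,(.negSucc 0),1)] .nil .nil)) (.node [(0,(.ofNat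 1),1),(1,(.ofNat 1),1),(2,(.ofNat 2),1),(3,(.ofNat 2),1),(4,(.ofNat 1),1),(5,(.ofNat 1),1),(6,(.ofNat 1),1),(7,(.ofNat 1),1),(195,(.negSucc 0),2)] .nil .nil))))) (.node [(195,(.negSucc 0),1)] (.node [] (.node [] (.node [] .nil (.node [] .nil (.node [] .nil (.node [(247,(.negSucc 0),1)] .nil .nil)))) (.node [(66,(.negSucc 0),1)] .nil .nil)) (.node [] (.node [] (.node [] .nil (.node [(144,(.negSucc 0),1)] .nil .nil)) .nil) (.node [(90,(.ofNat 1),1)] (.node [] .nil (.node [] .nil (.node [(242,(.ofNat 1),1)] .nil .nil))) (.node [] (.node [] .nil (.node [(235,(.ofNat 1),1)] .nil .nil)) (.node [(192,(.negSucc 0),1)] .nil .nil))))) (.node [] (.node [] (.node [] (.node [] (.node [] .nil (.node [(198,(.negSucc 0),1)] .nil .nil)) (.node [(143,(.ofNat 1),1)] .nil .nil)) (.node [(102,(.ofNat 1),1)] .nil .nil)) (.node [] .nil (.node [(119,(.ofNat 1),1)] .nil .nil))) (.node [] (.node [] (.node [] .nil (.node [(148,(.ofNat 1),1)] .nil .nil)) .nil) (.node [] (.node [] .nil (.node [] .nil (.node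 [(243,(.ofNat 1),1)] .nil .nil))) (.node [(130,(.ofNat 1),1)] .nil .nil)))))) (.node [] (.node [] (.node [] (.node [] .nil (.node [] .nil (.node [(115,(.negSucc 0),1)] .nil .nil))) (.node [] (.node [] .nil (.node [(104,(.ofNat 1),1)] .nil .nil)) (.node [(88,(.ofNat 1),1)] (.node [] (.node [] .nil (.node [(217,(.negSucc 0),1)] .nil .nil)) .nil) (.node [(121,(.ofNat 1),1)] .nil .nil)))) (.node [] (.node [] (.node [] .nil (.node [] (.node [] .nil (.node [(229,(.negSucc 0),1)] .nil .nil)) .nil)) .nil) (.node [(37,(.negSucc 0),1)] (.node [] (.node [] (.node [] .nil (.node [(207,(.ofNat 1),1)] .nil .nil)) .nil) .nil) (.node [] .nil (.node [(128,(.ofNat 1),1)] (.node [] .nil (.node [(237,(.ofNat 1),1)] .nil .nil)) (.node [(193,(.negSucc 0),1)] .nil .nil)))))) (.node [] (.node [] (.node [] (.node [] (.node [] .nil (.node [] .nil (.node [] .nil .nil))) .nil) (.node [(68,(.negSucc 0),1)] (.node [] .nil (.node [(159,(.negSucc 0),1)] .nil .nil)) (.node [(116,(.negSucc 0),1)] .nil .nil)))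 (.node [] (.node [] (.node [] (.node [] .nil (.node [(204,(.ofNat 1),1)] .nil .nil)) .nil) (.node [] .nil (.node [(177,(.negSucc 0),1)] .nil .nil))) (.node [(91,(.ofNat 1),1)] .nil (.node [] (.node [] .nil (.node [(236,(.ofNat 1),1)] .nil .nil)) .nil)))) (.node [(195,(.negSucc 0),1)] (.node [] (.node [] (.node [] (.node [] .nil (.node [(200,(.negSucc 0),1)] .nil .nil)) .nil) (.node [(103,(.ofNat 1),1)] (.node [] .nil (.node [(230,(.negSucc 0),1)] .nil .nil)) .nil)) (.node [] (.node [] (.node [] .nil (.node [(214,(.negSucc 0),1)] .nil .nil)) .nil) (.node [(120,(.ofNat 1),1)] .nil .nil))) (.node [(47,(.negSucc 0),1)] (.node [] (.node [] .nil (.node [(155,(.ofNat 1),1)] .nil .nil)) (.node [] .nil (.node [(181,(.ofNat 1),1)] .nil .nil))) (.node [] .nil (.node [(133,(.ofNat 1),1)] .nil (.node [(194,(.negSucc 0),1)] .nil .nil))))))))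
noncomputable def ex188 : Trie (List (ℕ × ℤ × ℕ)) := (.node [] (.node [] (.node [] (.node [] (.node [] (.node [] .nil (.node [] .nil (.node [] .nil (.node [(244,(.ofNat 1),1)] .nil .nil)))) (.node [] .nil (.node [] .nil (.node [(186,(.negSucc 0),1)] .nil .nil)))) (.node [] .nil (.node [(86,(.ofNat 1),1)] .nil (.node [(123,(.negSucc 0),1)] (.node [] .nil (.node [(234,(.ofNat 1),1)] .nil .nil)) (.node [(192,(.ofNat 1),1)] .nil .nil))))) (.node [(196,(.negSucc 0),1)] (.node [] (.node [] (.node [] (.node [] .nil (.node [(199,(.ofNat 1),1)] .nil .nil)) (.node [] .nil (.node [] .nil .nil))) (.node [(101,(.negSucc 0),1)] .nil .nil)) (.node [(70,(.negSucc 0),1)] (.node [] .nil (.node [(164,(.ofNat 1),1)] .nil .nil)) .nil)) (.node [] (.node [] (.node [] .nil (.node [(145,(.negSucc 0),1)] .nil .nil)) .nil) (.node [(93,(.ofNat 1),1)] .nil .nil)))) (.node [(196,(.negSucc 0),1)] (.node [] (.node [] (.node [] (.node [] (.node [] .nil (.node [(198,(.negSucc 0),1)] .nil .nil)) .nil) (.node []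 (.node [] .nil (.node [(227,(.negSucc 0),1)] .nil .nil)) (.node [(173,(.ofNat 1),1)] .nil .nil))) (.node [] (.node [] .nil (.node [(157,(.negSucc 0),1)] .nil .nil)) .nil)) (.node [(30,(.negSucc 0),1)] (.node [] (.node [] (.node [] .nil (.node [(202,(.negSucc 0),1)] .nil .nil)) .nil) .nil) (.node [] (.node [] (.node [] .nil (.node [(219,(.ofNat 1),1)] .nil .nil)) .nil) (.node [(126,(.ofNat 1),1)] .nil .nil)))) (.node [(196,(.ofNat 1),1)] (.node [] .nil (.node [] (.node [] (.node [] .nil (.node [(212,(.ofNat 1),1)] .nil .nil)) .nil) .nil)) (.node [] (.node [] (.node [] (.node [] .nil (.node [(209,(.negSucc 0),1)] .nil .nil)) .nil) (.node [(113,(.ofNat 1),1)] .nil (.node [(179,(.ofNat 1),1)] .nil .nil))) (.node [] .nil (.node [(134,(.ofNat 1),1)] .nil .nil)))))) (.node [] (.node [] (.node [] (.node [] (.node [] (.node [] (.node [] .nil (.node [(197,(.negSucc 0),1)] .nil .nil)) .nil) (.node [] .nil (.node [] .nil (.node [(245,(.ofNat 1),1)] .nil .nil)))) (.node [(64,(.negSucc 0),1)]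 (.node [] .nil (.node [(156,(.ofNat 1),1)] .nil .nil)) .nil)) (.node [] (.node [] .nil (.node [] (.node [] .nil (.node [(231,(.negSucc 0),1)] .nil .nil)) .nil)) (.node [] (.node [] (.node [] .nil (.node [(218,(.ofNat 1),1)] .nil .nil)) (.node [] .nil (.node [(242,(.negSucc 0),1)] .nil .nil))) (.node [(125,(.ofNat 1),1)] (.node [] .nil (.node [(235,(.ofNat 1),1)] .nil .nil)) (.node [(193,(.negSucc 0),1)] .nil .nil))))) (.node [] (.node [] (.node [] (.node [] (.node [] .nil (.node [(200,(.ofNat 1),1)] .nil .nil)) (.node [(143,(.ofNat 1),1)] .nil .nil)) (.node [(102,(.negSucc 0),1)] .nil .nil)) (.node [(71,(.negSucc 0),1)] .nil (.node [(117,(.ofNat 1),1)] .nil .nil))) (.node [(38,(.ofNat 1),1)] (.node [] (.node [] (.node [] .nil (.node [(208,(.negSucc 0),1)] .nil .nil)) (.node [(146,(.ofNat 1),1)] .nil .nil)) (.node [] .nil (.node [(178,(.negSucc 0),1)] .nil .nil))) .nil))) (.node [(196,(.ofNat 1),1)] (.node [] (.node [] (.node [] .nil (.node [] (.node [] .nil (.node [(228,(.negSucc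 0),1)] .nil .nil)) (.node [(174,(.negSucc 0),1)] .nil .nil))) .nil) (.node [(31,(.negSucc 0),1)] (.node [] .nil (.node [(105,(.negSucc 0),1)] .nil .nil)) (.node [(92,(.ofNat 1),1)] (.node [] .nil (.node [(171,(.negSucc 0),1)] .nil .nil)) (.node [(0,(.ofNat 1),1),(1,(.ofNat 1),1),(2,(.ofNat 2),1),(3,(.ofNat 2),1),(4,(.ofNat 2),1),(5,(.ofNat 1),1),(196,(.negSucc 0),2)] .nil .nil)))) (.node [] (.node [] .nil (.node [] .nil (.node [(122,(.negSucc 0),1)] .nil .nil))) (.node [(48,(.ofNat 1),1)] (.node [] (.node [] .nil (.node [] .nil (.node [(240,(.negSucc 0),1)] .nil .nil))) (.node [(114,(.ofNat 1),1)] .nil .nil)) (.node [] .nil (.node [(135,(.negSucc 0),1)] (.node [] .nil (.node [(238,(.ofNat 1),1)] .nil .nil)) .nil)))))))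
noncomputable def ex189 : Trie (List (ℕ × ℤ × ℕ)) := (.node [] (.node [] (.node [] (.node [] (.node [] (.node [] (.node [] (.node [] .nil (.node [(198,(.negSucc 0),1)] .nil .nil)) .nil) .nil) (.node [] (.node [] .nil (.node [(156,(.ofNat 1),1)] .nil .nil)) (.node [] .nil (.node [(187,(.negSucc 0),1)] .nil .nil)))) (.node [] (.node [] .nil (.node [] (.node [] .nil (.node [(231,(.ofNat 1),1)] .nil .nil)) .nil)) (.node [(87,(.negSucc 0),1)] (.node [] (.node [] .nil (.node [(218,(.negSucc 0),1)] .nil .nil)) (.node [] .nil (.node [(242,(.ofNat 1),1)] .nil .nil))) (.node [(124,(.ofNat 1),1)] .nil .nil)))) (.node [(197,(.negSucc 0),1)] (.node [] (.node [] (.node [] .nil (.node [(143,(.ofNat 1),1)] .nil .nil)) .nil) (.node [] (.node [] .nil (.node [(165,(.ofNat 1),1)] .nil .nil)) (.node [(117,(.ofNat 1),1)] .nil .nil))) (.node [] (.node [] (.node [] (.node [] .nil (.node [(208,(.ofNat 1),1)] .nil .nil)) .nil) (.node [] .nil (.node [(178,(.negSucc 0),1)] .nil .nil))) (.node [(94,(.negSucc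 0),1)] .nil .nil)))) (.node [(197,(.negSucc 0),1)] (.node [] (.node [] .nil (.node [] (.node [] .nil (.node [(158,(.negSucc 0),1)] .nil .nil)) .nil)) (.node [] (.node [] (.node [] (.node [] .nil (.node [(203,(.negSucc 0),1)] .nil .nil)) .nil) (.node [(105,(.negSucc 0),1)] .nil .nil)) (.node [(92,(.ofNat 1),1)] (.node [] (.node [] .nil (.node [(220,(.ofNat 1),1)] .nil .nil)) (.node [(171,(.negSucc 0),1)] .nil .nil)) (.node [(0,(.ofNat 1),1),(1,(.ofNat 1),1),(2,(.ofNat 2),1),(3,(.ofNat 2),1),(4,(.ofNat 2),1),(5,(.ofNat 1),1),(6,(.ofNat 1),1),(197,(.negSucc 0),2)] .nil .nil)))) (.node [(197,(.negSucc 0),1)] (.node [] .nil (.node [] (.node [] (.node [] .nil (.node [(213,(.ofNat 1),1)] .nil .nil)) .nil) (.node [(122,(.negSucc 0),1)] .nil .nil))) (.node [] (.node [] (.node [] (.node [] .nil (.node [(210,(.negSucc 0),1)] .nil .nil)) (.node [] .nil (.node [(240,(.ofNat 1),1)] .nil .nil))) (.node [] .nil (.node [(180,(.ofNat 1),1)] .nil .nil))) (.node [] .nil (.node [] (.node [] .nil (.node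 [(238,(.negSucc 0),1)] .nil .nil)) (.node [(196,(.negSucc 0),1)] .nil .nil))))))) (.node [] (.node [] (.node [] (.node [] (.node [] .nil (.node [] (.node [] .nil (.node [(227,(.ofNat 1),1)] .nil .nil)) (.node [(173,(.ofNat 1),1)] .nil (.node [(246,(.ofNat 1),1)] .nil .nil)))) (.node [(65,(.ofNat 1),1)] .nil .nil)) (.node [(30,(.negSucc 0),1)] .nil (.node [] .nil (.node [(127,(.ofNat 1),1)] (.node [] .nil (.node [(236,(.ofNat 1),1)] .nil .nil)) (.node [(194,(.negSucc 0),1)] .nil .nil))))) (.node [(197,(.ofNat 1),1)] (.node [] (.node [] (.node [] (.node [] .nil (.node [(201,(.ofNat 1),1)] .nil .nil)) (.node [] .nil (.node [] .nil .nil))) (.node [(103,(.ofNat 1),1)] .nil .nil)) (.node [(72,(.ofNat 1),1)] .nil .nil)) (.node [(39,(.negSucc 0),1)] (.node [] (.node [] .nil (.node [(147,(.ofNat 1),1)] .nil .nil)) (.node [(113,(.ofNat 1),1)] .nil .nil)) (.node [] .nil (.node [(134,(.ofNat 1),1)] .nil .nil))))) (.node [(197,(.ofNat 1),1)] (.node [] (.node [] (.node [] (.node [] (.node []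 .nil (.node [(199,(.negSucc 0),1)] .nil .nil)) .nil) (.node [(101,(.negSucc 0),1)] (.node [] .nil (.node [(229,(.negSucc 0),1)] .nil .nil)) (.node [(175,(.negSucc 0),1)] .nil .nil))) (.node [(70,(.negSucc 0),1)] .nil .nil)) (.node [(32,(.ofNat 1),1)] (.node [] (.node [] .nil (.node [(145,(.negSucc 0),1)] .nil .nil)) .nil) (.node [] .nil (.node [(129,(.ofNat 1),1)] .nil .nil)))) (.node [(197,(.ofNat 1),1)] (.node [] .nil (.node [] .nil (.node [] (.node [] .nil (.node [(234,(.negSucc 0),1)] .nil .nil)) (.node [(192,(.ofNat 1),1)] .nil .nil)))) (.node [(49,(.negSucc 0),1)] (.node [] .nil (.node [(115,(.negSucc 0),1)] .nil .nil)) (.node [] (.node [] .nil (.node [] .nil (.node [(244,(.negSucc 0),1)] .nil .nil))) (.node [(136,(.negSucc 0),1)] .nil .nil)))))))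
noncomputable def ex190 : Trie (List (ℕ × ℤ × ℕ)) := (.node [] (.node [] (.node [] (.node [] (.node [] (.node [] .nil (.node [] .nil (.node [(173,(.ofNat 1),1)] .nil .nil))) (.node [] .nil (.node [] .nil (.node [(188,(.negSucc 0),1)] .nil .nil)))) (.node [(30,(.negSucc 0),1)] .nil (.node [(88,(.ofNat 1),1)] (.node [] (.node [] .nil (.node [(219,(.negSucc 0),1)] .nil .nil)) .nil) (.node [] (.node [] .nil (.node [(236,(.negSucc 0),1)] .nil .nil)) .nil)))) (.node [(198,(.negSucc 0),1)] (.node [] (.node [] (.node [] (.node [] .nil (.node [(201,(.negSucc 0),1)] .nil .nil)) .nil) (.node [(103,(.ofNat 1),1)] .nil .nil)) (.node [(72,(.ofNat 1),1)] (.node [] .nil (.node [(166,(.ofNat 1),1)] .nil .nil)) .nil)) (.node [] (.node [] (.node [] (.node [] .nil (.node [(209,(.ofNat 1),1)] .nil .nil)) .nil) .nil) (.node [] .nil (.node [(134,(.ofNat 1),1)] .nil .nil))))) (.node [(198,(.negSucc 0),1)] (.node [] (.node [] (.node [] .nil (.node [] (.node [] .nil (.node [(229,(.ofNat 1),1)] .nil .nil))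 .nil)) (.node [] (.node [] .nil (.node [(159,(.negSucc 0),1)] .nil .nil)) .nil)) (.node [] (.node [] (.node [] (.node [] .nil (.node [(204,(.negSucc 0),1)] .nil .nil)) (.node [(145,(.negSucc 0),1)] .nil .nil)) .nil) (.node [(93,(.negSucc 0),1)] .nil (.node [(128,(.ofNat 1),1)] .nil .nil)))) (.node [] (.node [] (.node [] (.node [] .nil (.node [] .nil (.node [] .nil .nil))) .nil) (.node [] (.node [] (.node [] .nil (.node [(214,(.ofNat 1),1)] .nil .nil)) .nil) (.node [(123,(.ofNat 1),1)] .nil (.node [(192,(.ofNat 1),1)] .nil .nil)))) (.node [] (.node [] .nil (.node [(115,(.negSucc 0),1)] .nil (.node [(181,(.ofNat 1),1)] .nil .nil))) (.node [] (.node [] .nil (.node [] .nil (.node [(244,(.ofNat 1),1)] .nil .nil))) .nil))))) (.node [] (.node [] (.node [] (.node [] (.node [] .nil (.node [] (.node [] .nil (.node [(228,(.ofNat 1),1)] .nil .nil)) (.node [] .nil (.node [(247,(.ofNat 1),1)] .nil .nil)))) (.node [(66,(.negSucc 0),1)] .nil .nil)) (.node [] (.node [] .nil (.node [(105,(.negSucc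 0),1)] .nil .nil)) (.node [] (.node [] (.node [] .nil (.node [(220,(.negSucc 0),1)] .nil .nil)) (.node [(171,(.negSucc 0),1)] .nil .nil)) (.node [(0,(.ofNat 1),1),(1,(.ofNat 1),1),(2,(.ofNat 2),1),(3,(.ofNat 2),1),(4,(.ofNat 2),1),(5,(.ofNat 1),1),(6,(.ofNat 1),1),(7,(.ofNat 1),1),(198,(.negSucc 0),2)] .nil (.node [(195,(.negSucc 0),1)] .nil .nil))))) (.node [(198,(.ofNat 1),1)] .nil (.node [(40,(.ofNat 1),1)] (.node [] (.node [] (.node [] .nil (.node [(210,(.ofNat 1),1)] .nil .nil)) (.node [(148,(.ofNat 1),1)] .nil (.node [(240,(.negSucc 0),1)] .nil .nil))) (.node [(114,(.negSucc 0),1)] .nil .nil)) (.node [] .nil (.node [] (.node [] .nil (.node [(238,(.ofNat 1),1)] .nil .nil)) (.node [(196,(.negSucc 0),1)] .nil .nil)))))) (.node [(198,(.ofNat 1),1)] (.node [] (.node [] (.node [] (.node [] (.node [] .nil (.node [(200,(.negSucc 0),1)] .nil .nil)) (.node [(143,(.ofNat 1),1)] .nil .nil)) (.node [(102,(.ofNat 1),1)] .nil (.node [(176,(.negSucc 0),1)] .nil .nil))) (.node [(71,(.ofNat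 1),1)] .nil (.node [(117,(.ofNat 1),1)] .nil .nil))) (.node [(33,(.negSucc 0),1)] (.node [] .nil (.node [] .nil (.node [(178,(.negSucc 0),1)] .nil .nil))) (.node [(94,(.negSucc 0),1)] .nil (.node [(130,(.ofNat 1),1)] .nil .nil)))) (.node [(198,(.negSucc 0),1)] (.node [] (.node [] .nil (.node [] (.node [] .nil (.node [(231,(.negSucc 0),1)] .nil .nil)) .nil)) (.node [] (.node [] .nil (.node [] .nil (.node [(242,(.negSucc 0),1)] .nil .nil))) (.node [(124,(.ofNat 1),1)] (.node [] .nil (.node [(235,(.negSucc 0),1)] .nil .nil)) .nil))) (.node [(50,(.ofNat 1),1)] (.node [] (.node [] .nil (.node [(156,(.ofNat 1),1)] .nil .nil)) .nil) (.node [] .nil (.node [(137,(.negSucc 0),1)] .nil (.node [(197,(.negSucc 0),1)] .nil .nil))))))))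
noncomputable def ex191 : Trie (List (ℕ × ℤ × ℕ)) := (.node [] (.node [] (.node [] (.node [] (.node [] (.node [] (.node [] (.node [] .nil (.node [(200,(.negSucc 0),1)] .nil .nil)) .nil) (.node [] (.node [] .nil (.node [(227,(.negSucc 0),1)] .nil .nil)) (.node [] .nil (.node [(246,(.negSucc 0),1)] .nil .nil)))) (.node [] (.node [] .nil (.node [(157,(.ofNat 1),1)] .nil .nil)) (.node [] .nil (.node [(189,(.negSucc 0),1)] .nil .nil)))) (.node [] (.node [] .nil (.node [(105,(.negSucc 0),1)] .nil .nil)) (.node [(89,(.ofNat 1),1)] (.node [] .nil (.node [(171,(.negSucc 0),1)] .nil .nil)) (.node [(0,(.ofNat 1),1),(1,(.ofNat 1),1),(2,(.ofNat 2),1),(3,(.ofNat 2),1),(4,(.ofNat 2),1),(5,(.ofNat 2),1),(6,(.ofNat 1),1),(199,(.negSucc 0),2)] .nil (.node [(194,(.negSucc 0),1)] .nil .nil))))) (.node [] (.node [] .nil (.node [] (.node [] .nil (.node [(167,(.ofNat 1),1)] .nil .nil)) .nil)) (.node [] (.node [] (.node [] .nil (.node [(147,(.ofNat 1),1)] .nil (.node [(240,(.negSucc 0),1)] .nil .nil)))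 (.node [(113,(.ofNat 1),1)] .nil (.node [(179,(.negSucc 0),1)] .nil .nil))) (.node [(95,(.ofNat 1),1)] .nil (.node [] (.node [] .nil (.node [(238,(.ofNat 1),1)] .nil .nil)) (.node [(197,(.negSucc 0),1)] .nil .nil)))))) (.node [(199,(.negSucc 0),1)] (.node [] (.node [] (.node [] (.node [] (.node [] .nil (.node [(201,(.ofNat 1),1)] .nil .nil)) (.node [(143,(.ofNat 1),1)] .nil .nil)) (.node [(101,(.negSucc 0),1)] .nil (.node [(175,(.negSucc 0),1)] .nil .nil))) (.node [(70,(.negSucc 0),1)] .nil (.node [(117,(.ofNat 1),1)] .nil .nil))) (.node [(32,(.ofNat 1),1)] (.node [] (.node [] (.node [] .nil (.node [(205,(.negSucc 0),1)] .nil .nil)) .nil) .nil) (.node [] (.node [] (.node [] .nil (.node [(221,(.ofNat 1),1)] .nil .nil)) .nil) (.node [(131,(.ofNat 1),1)] .nil .nil)))) (.node [] (.node [] (.node [] .nil (.node [] (.node [] .nil (.node [(231,(.negSucc 0),1)] .nil .nil)) .nil)) (.node [] (.node [] (.node [] .nil (.node [(215,(.ofNat 1),1)] .nil .nil)) (.node [] .nil (.node [(242,(.negSucc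 0),1)] .nil .nil))) (.node [(125,(.negSucc 0),1)] (.node [] .nil (.node [(234,(.ofNat 1),1)] .nil .nil)) .nil))) (.node [] (.node [] (.node [] (.node [] .nil (.node [(211,(.negSucc 0),1)] .nil .nil)) .nil) .nil) (.node [] .nil (.node [(136,(.negSucc 0),1)] .nil .nil)))))) (.node [] (.node [] (.node [] (.node [] (.node [] .nil (.node [] .nil (.node [(174,(.ofNat 1),1)] .nil .nil))) (.node [(67,(.negSucc 0),1)] (.node [] .nil (.node [(158,(.negSucc 0),1)] .nil .nil)) .nil)) (.node [(31,(.ofNat 1),1)] .nil (.node [(92,(.ofNat 1),1)] .nil (.node [] (.node [] .nil (.node [(237,(.ofNat 1),1)] .nil .nil)) .nil)))) (.node [(199,(.negSucc 0),1)] (.node [] (.node [] .nil (.node [(104,(.negSucc 0),1)] .nil .nil)) (.node [(73,(.negSucc 0),1)] .nil .nil)) (.node [(41,(.ofNat 1),1)] (.node [] .nil (.node [] .nil (.node [(180,(.ofNat 1),1)] .nil .nil))) (.node [] .nil (.node [(135,(.ofNat 1),1)] .nil .nil))))) (.node [(199,(.ofNat 1),1)] (.node [] (.node [] (.node [] .nil (.node [] (.node []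 .nil (.node [(230,(.negSucc 0),1)] .nil .nil)) .nil)) .nil) (.node [] (.node [] (.node [] (.node [] .nil (.node [(208,(.negSucc 0),1)] .nil .nil)) (.node [(146,(.negSucc 0),1)] .nil .nil)) .nil) (.node [] .nil (.node [(132,(.negSucc 0),1)] .nil (.node [(196,(.ofNat 1),1)] .nil .nil))))) (.node [(199,(.ofNat 1),1)] (.node [] (.node [] (.node [] .nil (.node [] .nil (.node [] .nil .nil))) .nil) (.node [] (.node [] (.node [] .nil (.node [(218,(.ofNat 1),1)] .nil .nil)) .nil) (.node [(127,(.ofNat 1),1)] .nil (.node [(193,(.ofNat 1),1)] .nil .nil)))) (.node [(51,(.ofNat 1),1)] (.node [] .nil (.node [(116,(.ofNat 1),1)] .nil .nil)) (.node [] (.node [] .nil (.node [] .nil (.node [(245,(.negSucc 0),1)] .nil .nil))) .nil))))))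
noncomputable def ex192 : Trie (List (ℕ × ℤ × ℕ)) := (.node [] (.node [] (.node [] (.node [] (.node [] (.node [] .nil (.node [] (.node [] .nil (.node [(228,(.negSucc 0),1)] .nil .nil)) (.node [(174,(.ofNat 1),1)] .nil (.node [(247,(.negSucc 0),1)] .nil .nil)))) (.node [] .nil (.node [] .nil (.node [(190,(.negSucc 0),1)] .nil .nil)))) (.node [(31,(.ofNat 1),1)] (.node [] (.node [] .nil (.node [] .nil (.node [] .nil .nil))) .nil) (.node [(90,(.negSucc 0),1)] .nil (.node [(128,(.ofNat 1),1)] (.node [] .nil (.node [(237,(.negSucc 0),1)] .nil .nil)) (.node [(195,(.negSucc 0),1)] .nil .nil))))) (.node [] (.node [] (.node [] .nil (.node [(104,(.negSucc 0),1)] .nil .nil)) (.node [(73,(.negSucc 0),1)] (.node [] .nil (.node [(168,(.ofNat 1),1)] .nil .nil)) .nil)) (.node [] (.node [] (.node [] .nil (.node [(148,(.ofNat 1),1)] .nil .nil)) (.node [(114,(.negSucc 0),1)] .nil .nil)) (.node [] .nil (.node [(135,(.ofNat 1),1)] .nil (.node [(198,(.negSucc 0),1)] .nil .nil)))))) (.node [(200,(.negSucc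 0),1)] (.node [] (.node [] (.node [] .nil (.node [(102,(.ofNat 1),1)] (.node [] .nil (.node [(230,(.ofNat 1),1)] .nil .nil)) (.node [(176,(.negSucc 0),1)] .nil .nil))) (.node [(71,(.ofNat 1),1)] .nil .nil)) (.node [(33,(.negSucc 0),1)] (.node [] (.node [] (.node [] .nil (.node [(206,(.negSucc 0),1)] .nil .nil)) (.node [(146,(.negSucc 0),1)] .nil .nil)) .nil) (.node [] .nil (.node [] .nil (.node [(196,(.ofNat 1),1)] .nil .nil))))) (.node [(200,(.ofNat 1),1)] (.node [] .nil (.node [] (.node [] (.node [] .nil (.node [(216,(.ofNat 1),1)] .nil .nil)) .nil) (.node [(126,(.ofNat 1),1)] (.node [] .nil (.node [(235,(.ofNat 1),1)] .nil .nil)) (.node [(193,(.ofNat 1),1)] .nil .nil)))) (.node [] (.node [] .nil (.node [(116,(.ofNat 1),1)] .nil .nil)) (.node [] (.node [] .nil (.node [] .nil (.node [(245,(.ofNat 1),1)] .nil .nil))) (.node [(137,(.negSucc 0),1)] .nil .nil)))))) (.node [] (.node [] (.node [] (.node [] (.node [] (.node [] (.node [] .nil (.node [(201,(.negSucc 0),1)] .nil .nil))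 (.node [(143,(.ofNat 1),1)] .nil .nil)) .nil) (.node [(68,(.ofNat 1),1)] (.node [] .nil (.node [(159,(.negSucc 0),1)] .nil .nil)) (.node [(117,(.ofNat 1),1)] .nil .nil))) (.node [] .nil (.node [(93,(.negSucc 0),1)] (.node [] (.node [] .nil (.node [(221,(.negSucc 0),1)] .nil .nil)) .nil) (.node [(131,(.ofNat 1),1)] .nil .nil)))) (.node [(200,(.negSucc 0),1)] (.node [] (.node [] .nil (.node [] (.node [] .nil (.node [(231,(.ofNat 1),1)] .nil .nil)) .nil)) (.node [] (.node [] .nil (.node [] .nil (.node [(242,(.ofNat 1),1)] .nil .nil))) .nil)) (.node [(42,(.negSucc 0),1)] (.node [] (.node [] (.node [] .nil (.node [(211,(.ofNat 1),1)] .nil .nil)) .nil) (.node [] .nil (.node [(181,(.ofNat 1),1)] .nil .nil))) .nil))) (.node [(200,(.ofNat 1),1)] (.node [] .nil (.node [] (.node [] (.node [] (.node [] .nil (.node [(209,(.negSucc 0),1)] .nil .nil)) (.node [] .nil (.node [(240,(.ofNat 1),1)] .nil .nil))) (.node [] .nil (.node [(179,(.negSucc 0),1)] .nil .nil))) (.node [(95,(.ofNat 1),1)] .nil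 (.node [(133,(.negSucc 0),1)] (.node [] .nil (.node [(238,(.negSucc 0),1)] .nil .nil)) .nil)))) (.node [(200,(.negSucc 0),1)] (.node [] (.node [] .nil (.node [(105,(.negSucc 0),1)] .nil .nil)) (.node [] (.node [] (.node [] .nil (.node [(219,(.ofNat 1),1)] .nil .nil)) (.node [(171,(.negSucc 0),1)] .nil .nil)) (.node [(0,(.ofNat 1),1),(1,(.ofNat 1),1),(2,(.ofNat 2),1),(3,(.ofNat 2),1),(4,(.ofNat 2),1),(5,(.ofNat 2),1),(6,(.ofNat 1),1),(7,(.ofNat 1),1),(200,(.negSucc 0),2)] .nil .nil))) (.node [(52,(.negSucc 0),1)] (.node [] (.node [] .nil (.node [(157,(.ofNat 1),1)] .nil .nil)) .nil) (.node [] .nil (.node [] .nil (.node [(199,(.negSucc 0),1)] .nil .nil))))))))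
noncomputable def ex193 : Trie (List (ℕ × ℤ × ℕ)) := (.node [] (.node [] (.node [] (.node [] (.node [] (.node [] (.node [] .nil (.node [(143,(.ofNat 1),1)] .nil .nil)) (.node [] (.node [] .nil (.node [(229,(.negSucc 0),1)] .nil .nil)) (.node [(175,(.ofNat 1),1)] .nil .nil))) (.node [] (.node [] .nil (.node [(159,(.negSucc 0),1)] .nil .nil)) (.node [(117,(.ofNat 1),1)] .nil (.node [(191,(.negSucc 0),1)] .nil .nil)))) (.node [(32,(.negSucc 0),1)] .nil (.node [(91,(.ofNat 1),1)] (.node [] (.node [] .nil (.node [(221,(.ofNat 1),1)] .nil .nil)) .nil) (.node [(130,(.negSucc 0),1)] .nil .nil)))) (.node [] (.node [] (.node [] .nil (.node [] (.node [] .nil (.node [(231,(.negSucc 0),1)] .nil .nil)) .nil)) (.node [] (.node [] .nil (.node [(169,(.ofNat 1),1)] .nil (.node [(242,(.negSucc 0),1)] .nil .nil))) .nil)) (.node [] (.node [] (.node [] (.node [] .nil (.node [(211,(.negSucc 0),1)] .nil .nil)) .nil) (.node [(115,(.ofNat 1),1)] .nil (.node [(181,(.ofNat 1),1)] .nil .nil))) (.node [] .nil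 (.node [(136,(.ofNat 1),1)] .nil .nil))))) (.node [(201,(.negSucc 0),1)] (.node [] (.node [] (.node [] .nil (.node [(103,(.negSucc 0),1)] .nil .nil)) (.node [(72,(.negSucc 0),1)] .nil .nil)) (.node [] (.node [] (.node [] (.node [] .nil (.node [(207,(.negSucc 0),1)] .nil .nil)) (.node [(147,(.negSucc 0),1)] .nil (.node [(240,(.negSucc 0),1)] .nil .nil))) .nil) (.node [(95,(.ofNat 1),1)] .nil (.node [(133,(.negSucc 0),1)] (.node [] .nil (.node [(238,(.ofNat 1),1)] .nil .nil)) (.node [(197,(.ofNat 1),1)] .nil .nil))))) (.node [(201,(.negSucc 0),1)] (.node [] (.node [] .nil (.node [(105,(.negSucc 0),1)] .nil .nil)) (.node [] (.node [] (.node [] .nil (.node [(217,(.ofNat 1),1)] .nil .nil)) (.node [(171,(.negSucc 0),1)] .nil .nil)) (.node [(0,(.ofNat 1),1),(1,(.ofNat 1),1),(2,(.ofNat 2),1),(3,(.ofNat 2),1),(4,(.ofNat 2),1),(5,(.ofNat 2),1),(6,(.ofNat 2),1),(7,(.ofNat 1),1),(201,(.negSucc 0),2)] (.node [] .nil (.node [(236,(.ofNat 1),1)] .nil .nil)) (.node [(194,(.ofNat 1),1)] .nil .nil))))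 (.node [] .nil (.node [] (.node [] .nil (.node [] .nil (.node [(246,(.ofNat 1),1)] .nil .nil))) (.node [] .nil (.node [(200,(.negSucc 0),1)] .nil .nil))))))) (.node [] (.node [] (.node [] (.node [] (.node [] .nil (.node [] (.node [] .nil (.node [(230,(.negSucc 0),1)] .nil .nil)) (.node [(176,(.negSucc 0),1)] .nil .nil))) (.node [(69,(.negSucc 0),1)] .nil .nil)) (.node [(33,(.negSucc 0),1)] (.node [] (.node [] .nil (.node [] .nil (.node [] .nil .nil))) .nil) (.node [(94,(.ofNat 1),1)] .nil (.node [(132,(.ofNat 1),1)] .nil .nil)))) (.node [] .nil (.node [(43,(.ofNat 1),1)] (.node [] .nil (.node [(116,(.ofNat 1),1)] .nil .nil)) (.node [] .nil (.node [(137,(.negSucc 0),1)] .nil (.node [(199,(.ofNat 1),1)] .nil .nil)))))) (.node [(201,(.ofNat 1),1)] (.node [] (.node [] (.node [] .nil (.node [(104,(.negSucc 0),1)] .nil .nil)) (.node [(73,(.negSucc 0),1)] .nil .nil)) (.node [] (.node [] (.node [] (.node [] .nil (.node [(210,(.negSucc 0),1)] .nil .nil)) (.node [(148,(.ofNat 1),1)] .nil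 .nil)) (.node [] .nil (.node [(180,(.negSucc 0),1)] .nil .nil))) (.node [] .nil (.node [] .nil (.node [(198,(.negSucc 0),1)] .nil .nil))))) (.node [] (.node [] .nil (.node [] (.node [] (.node [] .nil (.node [(220,(.ofNat 1),1)] .nil .nil)) .nil) (.node [(129,(.ofNat 1),1)] (.node [] .nil (.node [(237,(.ofNat 1),1)] .nil .nil)) (.node [(195,(.negSucc 0),1)] .nil .nil)))) (.node [(53,(.ofNat 1),1)] (.node [] (.node [] .nil (.node [(158,(.ofNat 1),1)] .nil .nil)) .nil) (.node [] (.node [] .nil (.node [] .nil (.node [(247,(.ofNat 1),1)] .nil .nil))) .nil))))))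
noncomputable def ex194 : Trie (List (ℕ × ℤ × ℕ)) := (.node [] (.node [] (.node [] (.node [] (.node [] (.node [] .nil (.node [(101,(.negSucc 0),1)] .nil .nil)) (.node [(64,(.negSucc 0),1)] .nil .nil)) (.node [] (.node [] (.node [] (.node [] .nil (.node [(208,(.negSucc 0),1)] .nil .nil)) (.node [(145,(.negSucc 0),1)] .nil .nil)) .nil) .nil)) (.node [] (.node [] (.node [] (.node [] (.node [] .nil (.node [(205,(.ofNat 1),1)] .nil .nil)) .nil) .nil) (.node [(74,(.ofNat 1),1)] .nil (.node [(126,(.ofNat 1),1)] (.node [] .nil (.node [(234,(.negSucc 0),1)] .nil .nil)) (.node [(193,(.ofNat 1),1)] .nil .nil)))) (.node [(38,(.ofNat 1),1)] .nil (.node [(97,(.negSucc 0),1)] (.node [] .nil (.node [] .nil (.node [(244,(.negSucc 0),1)] .nil .nil))) .nil)))) (.node [] (.node [] (.node [] (.node [] (.node [] (.node [] .nil (.node [(204,(.negSucc 0),1)] .nil .nil)) .nil) .nil) (.node [] (.node [] .nil (.node [(161,(.negSucc 0),1)] .nil .nil)) (.node [(123,(.negSucc 0),1)] .nil .nil))) (.node [(34,(.ofNat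 1),1)] (.node [] (.node [] .nil (.node [] .nil (.node [] .nil .nil))) .nil) (.node [] (.node [] (.node [] .nil (.node [(223,(.ofNat 1),1)] .nil .nil)) .nil) .nil))) (.node [(202,(.ofNat 1),1)] .nil (.node [] (.node [] .nil (.node [(118,(.ofNat 1),1)] .nil (.node [(183,(.ofNat 1),1)] .nil .nil))) (.node [] (.node [] (.node [] .nil (.node [(227,(.ofNat 1),1)] .nil .nil)) (.node [(173,(.ofNat 1),1)] .nil .nil)) (.node [(139,(.negSucc 0),1)] .nil .nil)))))) (.node [(202,(.ofNat 1),1)] (.node [] (.node [] (.node [] (.node [] (.node [] (.node [] .nil (.node [(203,(.negSucc 0),1)] .nil .nil)) .nil) (.node [(102,(.negSucc 0),1)] .nil .nil)) (.node [] (.node [] .nil (.node [(160,(.ofNat 1),1)] .nil .nil)) (.node [(122,(.negSucc 0),1)] .nil .nil))) (.node [] (.node [] (.node [] (.node [] .nil (.node [(209,(.negSucc 0),1)] .nil .nil)) (.node [(146,(.ofNat 1),1)] .nil (.node [(240,(.ofNat 1),1)] .nil .nil))) (.node [] (.node [] .nil (.node [(232,(.negSucc 0),1)] .nil .nil)) .nil)) (.node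 [] (.node [] (.node [] .nil (.node [(222,(.ofNat 1),1)] .nil .nil)) (.node [] .nil (.node [(243,(.negSucc 0),1)] .nil .nil))) .nil))) (.node [] (.node [] (.node [] (.node [] (.node [] .nil (.node [(206,(.ofNat 1),1)] .nil .nil)) (.node [(144,(.ofNat 1),1)] .nil .nil)) .nil) (.node [(75,(.ofNat 1),1)] (.node [] (.node [] .nil (.node [(212,(.negSucc 0),1)] .nil .nil)) .nil) (.node [(0,(.ofNat 1),1),(1,(.ofNat 1),1),(2,(.ofNat 2),1),(3,(.ofNat 3),1),(4,(.ofNat 2),1),(5,(.ofNat 1),1),(202,(.negSucc 0),2)] (.node [] .nil (.node [(235,(.negSucc 0),1)] .nil .nil)) (.node [(196,(.negSucc 0),1)] .nil .nil)))) (.node [] (.node [] .nil (.node [] .nil (.node [(182,(.negSucc 0),1)] .nil .nil))) (.node [] (.node [] .nil (.node [] .nil (.node [(245,(.negSucc 0),1)] .nil .nil))) .nil)))) (.node [(202,(.negSucc 0),1)] (.node [] (.node [] .nil (.node [] (.node [] .nil (.node [(164,(.ofNat 1),1)] .nil .nil)) (.node [(125,(.ofNat 1),1)] .nil (.node [(192,(.negSucc 0),1)] .nil .nil)))) (.node [(35,(.ofNat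 1),1)] (.node [] .nil (.node [(106,(.ofNat 1),1)] .nil .nil)) (.node [(96,(.negSucc 0),1)] (.node [] .nil (.node [(172,(.negSucc 0),1)] .nil .nil)) (.node [(138,(.ofNat 1),1)] .nil .nil)))) (.node [] (.node [] .nil (.node [(86,(.ofNat 1),1)] .nil .nil)) (.node [(54,(.negSucc 0),1)] (.node [] .nil (.node [(119,(.ofNat 1),1)] .nil (.node [(186,(.negSucc 0),1)] .nil .nil))) (.node [] (.node [] (.node [] .nil (.node [(228,(.ofNat 1),1)] .nil .nil)) (.node [(174,(.negSucc 0),1)] .nil .nil)) (.node [(140,(.ofNat 1),1)] (.node [] .nil (.node [(239,(.ofNat 1),1)] .nil .nil)) .nil)))))))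
noncomputable def ex195 : Trie (List (ℕ × ℤ × ℕ)) := (.node [] (.node [] (.node [] (.node [] (.node [] (.node [] (.node [] (.node [] .nil (.node [(204,(.negSucc 0),1)] .nil .nil)) .nil) .nil) (.node [(65,(.ofNat 1),1)] (.node [] .nil (.node [(160,(.ofNat 1),1)] .nil .nil)) (.node [(122,(.negSucc 0),1)] .nil .nil))) (.node [] (.node [] (.node [] .nil (.node [] .nil (.node [(240,(.negSucc 0),1)] .nil .nil))) (.node [] (.node [] .nil (.node [(232,(.ofNat 1),1)] .nil .nil)) .nil)) (.node [] (.node [] (.node [] .nil (.node [(222,(.negSucc 0),1)] .nil .nil)) (.node [] .nil (.node [(243,(.ofNat 1),1)] .nil .nil))) .nil))) (.node [] (.node [] (.node [] (.node [] .nil (.node [(144,(.ofNat 1),1)] .nil .nil)) .nil) (.node [] .nil (.node [(0,(.ofNat 1),1),(1,(.ofNat 1),1),(2,(.ofNat 2),1),(3,(.ofNat 3),1),(4,(.ofNat 2),1),(5,(.ofNat 1),1),(6,(.ofNat 1),1),(203,(.negSucc 0),2)] .nil (.node [(194,(.ofNat 1),1)] .nil .nil)))) (.node [(39,(.negSucc 0),1)] (.node [] .nil (.node [] .nil (.node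 [(182,(.negSucc 0),1)] .nil .nil))) (.node [(98,(.ofNat 1),1)] .nil .nil)))) (.node [] (.node [] (.node [] .nil (.node [] (.node [] .nil (.node [(162,(.negSucc 0),1)] .nil .nil)) (.node [(124,(.ofNat 1),1)] .nil (.node [(192,(.negSucc 0),1)] .nil .nil)))) (.node [] (.node [] .nil (.node [(106,(.ofNat 1),1)] .nil .nil)) (.node [(96,(.negSucc 0),1)] (.node [] (.node [] .nil (.node [(224,(.ofNat 1),1)] .nil .nil)) (.node [(172,(.negSucc 0),1)] .nil .nil)) (.node [(138,(.ofNat 1),1)] .nil .nil)))) (.node [(203,(.negSucc 0),1)] .nil (.node [] (.node [] .nil (.node [] .nil (.node [(184,(.ofNat 1),1)] .nil .nil))) (.node [] .nil (.node [] (.node [] .nil (.node [(239,(.negSucc 0),1)] .nil .nil)) (.node [(202,(.negSucc 0),1)] .nil .nil))))))) (.node [(203,(.ofNat 1),1)] (.node [] (.node [] (.node [] (.node [] .nil (.node [(103,(.ofNat 1),1)] .nil .nil)) .nil) (.node [(34,(.ofNat 1),1)] (.node [] (.node [] (.node [] .nil (.node [(210,(.negSucc 0),1)] .nil .nil)) (.node [(147,(.ofNat 1),1)]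 .nil .nil)) .nil) .nil)) (.node [(203,(.ofNat 1),1)] (.node [] (.node [] (.node [] (.node [] .nil (.node [(207,(.ofNat 1),1)] .nil .nil)) .nil) .nil) (.node [(76,(.negSucc 0),1)] (.node [] (.node [] .nil (.node [(213,(.negSucc 0),1)] .nil .nil)) .nil) (.node [(129,(.ofNat 1),1)] (.node [] .nil (.node [(236,(.negSucc 0),1)] .nil .nil)) (.node [(197,(.negSucc 0),1)] .nil .nil)))) (.node [] (.node [] .nil (.node [(118,(.ofNat 1),1)] .nil .nil)) (.node [] (.node [] (.node [] .nil (.node [(227,(.negSucc 0),1)] .nil .nil)) (.node [(173,(.ofNat 1),1)] .nil (.node [(246,(.negSucc 0),1)] .nil .nil))) (.node [(139,(.negSucc 0),1)] .nil .nil))))) (.node [(203,(.negSucc 0),1)] (.node [] (.node [] (.node [] (.node [] (.node [] .nil (.node [(205,(.negSucc 0),1)] .nil .nil)) .nil) .nil) (.node [(74,(.ofNat 1),1)] (.node [] .nil (.node [(165,(.ofNat 1),1)] .nil .nil)) (.node [(127,(.ofNat 1),1)] (.node [] .nil (.node [(234,(.ofNat 1),1)] .nil .nil)) .nil))) (.node [(36,(.negSucc 0),1)] (.node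 [] (.node [] .nil (.node [] .nil (.node [] .nil .nil))) .nil) (.node [] (.node [] .nil (.node [] .nil (.node [(244,(.ofNat 1),1)] .nil .nil))) .nil))) (.node [(203,(.ofNat 1),1)] (.node [] (.node [] (.node [] (.node [] .nil (.node [(208,(.ofNat 1),1)] .nil .nil)) (.node [(145,(.negSucc 0),1)] .nil .nil)) .nil) (.node [(87,(.negSucc 0),1)] .nil .nil)) (.node [(55,(.ofNat 1),1)] (.node [] .nil (.node [(120,(.negSucc 0),1)] .nil (.node [(187,(.negSucc 0),1)] .nil .nil))) (.node [(101,(.negSucc 0),1)] (.node [] (.node [] .nil (.node [(229,(.ofNat 1),1)] .nil .nil)) (.node [(175,(.negSucc 0),1)] .nil .nil)) (.node [(141,(.ofNat 1),1)] .nil .nil)))))))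
noncomputable def ex196 : Trie (List (ℕ × ℤ × ℕ)) := (.node [] (.node [] (.node [] (.node [] (.node [] (.node [] .nil (.node [(103,(.ofNat 1),1)] .nil .nil)) (.node [(66,(.negSucc 0),1)] .nil (.node [(123,(.ofNat 1),1)] .nil .nil))) (.node [(34,(.ofNat 1),1)] (.node [] (.node [] (.node [] .nil (.node [(210,(.ofNat 1),1)] .nil .nil)) .nil) .nil) (.node [] (.node [] (.node [] .nil (.node [(223,(.negSucc 0),1)] .nil .nil)) .nil) .nil))) (.node [] (.node [] (.node [] (.node [] (.node [] .nil (.node [(207,(.negSucc 0),1)] .nil .nil)) .nil) .nil) (.node [(76,(.negSucc 0),1)] .nil (.node [(128,(.ofNat 1),1)] (.node [] .nil (.node [(236,(.ofNat 1),1)] .nil .nil)) (.node [(195,(.ofNat 1),1)] .nil .nil)))) (.node [(40,(.ofNat 1),1)] (.node [] (.node [] .nil (.node [] .nil (.node [] .nil .nil))) .nil) (.node [] (.node [] .nil (.node [(173,(.ofNat 1),1)] .nil .nil)) (.node [(139,(.negSucc 0),1)] .nil .nil))))) (.node [] (.node [] (.node [] .nil (.node [] (.node [] .nil (.node [(163,(.negSucc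 0),1)] .nil .nil)) .nil)) (.node [] .nil (.node [(97,(.ofNat 1),1)] (.node [] .nil (.node [] .nil (.node [(244,(.negSucc 0),1)] .nil .nil))) .nil))) (.node [] (.node [] (.node [] (.node [] .nil (.node [(145,(.negSucc 0),1)] .nil .nil)) .nil) .nil) (.node [] (.node [] .nil (.node [(120,(.negSucc 0),1)] .nil (.node [(185,(.ofNat 1),1)] .nil .nil))) (.node [] (.node [] (.node [] .nil (.node [(229,(.negSucc 0),1)] .nil .nil)) .nil) .nil))))) (.node [(204,(.ofNat 1),1)] (.node [] (.node [] (.node [] .nil (.node [] .nil (.node [(124,(.ofNat 1),1)] .nil (.node [(192,(.negSucc 0),1)] .nil .nil)))) (.node [] (.node [] (.node [] .nil (.node [(148,(.ofNat 1),1)] .nil .nil)) (.node [(106,(.ofNat 1),1)] .nil .nil)) (.node [] (.node [] (.node [] .nil (.node [(224,(.negSucc 0),1)] .nil .nil)) (.node [(172,(.negSucc 0),1)] .nil .nil)) (.node [(138,(.ofNat 1),1)] .nil .nil)))) (.node [(204,(.ofNat 1),1)] (.node [] .nil (.node [] (.node [] (.node [] .nil (.node [(214,(.negSucc 0),1)] .nil .nil))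 .nil) (.node [(130,(.ofNat 1),1)] .nil (.node [(198,(.negSucc 0),1)] .nil .nil)))) (.node [] (.node [] .nil (.node [(119,(.negSucc 0),1)] .nil .nil)) (.node [] (.node [] (.node [] .nil (.node [(228,(.negSucc 0),1)] .nil .nil)) (.node [] .nil (.node [(247,(.negSucc 0),1)] .nil .nil))) (.node [] (.node [] .nil (.node [(239,(.ofNat 1),1)] .nil .nil)) (.node [(202,(.negSucc 0),1)] .nil .nil)))))) (.node [(204,(.negSucc 0),1)] (.node [] (.node [] (.node [] (.node [] (.node [] .nil (.node [(206,(.negSucc 0),1)] .nil .nil)) (.node [(144,(.ofNat 1),1)] .nil .nil)) .nil) (.node [(75,(.negSucc 0),1)] (.node [] .nil (.node [(166,(.ofNat 1),1)] .nil .nil)) (.node [(0,(.ofNat 1),1),(1,(.ofNat 1),1),(2,(.ofNat 2),1),(3,(.ofNat 3),1),(4,(.ofNat 2),1),(5,(.ofNat 1),1),(6,(.ofNat 1),1),(7,(.ofNat 1),1),(204,(.negSucc 0),2)] (.node [] .nil (.node [(235,(.ofNat 1),1)] .nil .nil)) .nil))) (.node [(37,(.ofNat 1),1)] (.node [] .nil (.node [] .nil (.node [(182,(.negSucc 0),1)] .nil .nil))) (.node [(98,(.ofNat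 1),1)] .nil .nil))) (.node [(204,(.negSucc 0),1)] (.node [] (.node [] (.node [] (.node [] .nil (.node [(209,(.ofNat 1),1)] .nil .nil)) (.node [] .nil (.node [(240,(.ofNat 1),1)] .nil .nil))) (.node [] (.node [] .nil (.node [(232,(.negSucc 0),1)] .nil .nil)) .nil)) (.node [(88,(.ofNat 1),1)] (.node [] .nil (.node [] .nil (.node [(243,(.negSucc 0),1)] .nil .nil))) .nil)) (.node [(56,(.negSucc 0),1)] (.node [] (.node [] .nil (.node [(160,(.ofNat 1),1)] .nil .nil)) (.node [] .nil (.node [(188,(.negSucc 0),1)] .nil .nil))) (.node [(102,(.ofNat 1),1)] (.node [] .nil (.node [(176,(.negSucc 0),1)] .nil .nil)) (.node [(142,(.ofNat 1),1)] .nil (.node [(203,(.negSucc 0),1)] .nil .nil))))))))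
noncomputable def ex197 : Trie (List (ℕ × ℤ × ℕ)) := (.node [] (.node [] (.node [] (.node [] (.node [] (.node [] (.node [] (.node [] .nil (.node [(206,(.negSucc 0),1)] .nil .nil)) .nil) .nil) (.node [(67,(.negSucc 0),1)] (.node [] .nil (.node [(161,(.ofNat 1),1)] .nil .nil)) (.node [(125,(.negSucc 0),1)] .nil .nil))) (.node [] (.node [] (.node [] .nil (.node [(147,(.ofNat 1),1)] .nil .nil)) (.node [(106,(.ofNat 1),1)] .nil .nil)) (.node [] (.node [] .nil (.node [(172,(.negSucc 0),1)] .nil .nil)) (.node [(138,(.ofNat 1),1)] .nil .nil)))) (.node [(205,(.ofNat 1),1)] (.node [] .nil (.node [] .nil (.node [(131,(.ofNat 1),1)] .nil .nil))) (.node [(41,(.ofNat 1),1)] (.node [] .nil (.node [(118,(.ofNat 1),1)] .nil (.node [(183,(.negSucc 0),1)] .nil .nil))) (.node [(99,(.negSucc 0),1)] (.node [] (.node [] .nil (.node [(227,(.ofNat 1),1)] .nil .nil)) (.node [] .nil (.node [(246,(.ofNat 1),1)] .nil .nil))) (.node [] (.node [] .nil (.node [(239,(.ofNat 1),1)] .nil .nil)) (.node [(203,(.negSucc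 0),1)] .nil .nil)))))) (.node [] (.node [] (.node [] (.node [] (.node [] (.node [] .nil (.node [(207,(.ofNat 1),1)] .nil .nil)) (.node [(144,(.ofNat 1),1)] .nil .nil)) .nil) (.node [(74,(.ofNat 1),1)] .nil (.node [(0,(.ofNat 1),1),(1,(.ofNat 1),1),(2,(.ofNat 2),1),(3,(.ofNat 3),1),(4,(.ofNat 2),1),(5,(.ofNat 2),1),(6,(.ofNat 1),1),(205,(.negSucc 0),2)] (.node [] .nil (.node [(234,(.negSucc 0),1)] .nil .nil)) (.node [(193,(.negSucc 0),1)] .nil .nil)))) (.node [(36,(.negSucc 0),1)] .nil (.node [] (.node [] (.node [] .nil (.node [(225,(.ofNat 1),1)] .nil .nil)) .nil) .nil))) (.node [] (.node [] (.node [] (.node [] (.node [] .nil (.node [(208,(.negSucc 0),1)] .nil .nil)) (.node [] .nil (.node [(240,(.ofNat 1),1)] .nil .nil))) (.node [] (.node [] .nil (.node [(232,(.negSucc 0),1)] .nil .nil)) .nil)) (.node [] (.node [] .nil (.node [] .nil (.node [(243,(.negSucc 0),1)] .nil .nil))) .nil)) (.node [] .nil (.node [(101,(.negSucc 0),1)] (.node [] .nil (.node [(175,(.negSucc 0),1)] .nil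 .nil)) (.node [(141,(.ofNat 1),1)] .nil .nil)))))) (.node [(205,(.ofNat 1),1)] (.node [] (.node [] (.node [] (.node [] .nil (.node [(104,(.negSucc 0),1)] .nil .nil)) (.node [] (.node [] .nil (.node [(162,(.negSucc 0),1)] .nil .nil)) (.node [(127,(.ofNat 1),1)] .nil .nil))) (.node [(35,(.negSucc 0),1)] (.node [] (.node [] (.node [] .nil (.node [(211,(.negSucc 0),1)] .nil .nil)) .nil) .nil) (.node [(96,(.negSucc 0),1)] .nil .nil))) (.node [(205,(.negSucc 0),1)] (.node [] .nil (.node [(77,(.ofNat 1),1)] (.node [] (.node [] .nil (.node [(215,(.negSucc 0),1)] .nil .nil)) .nil) (.node [(132,(.negSucc 0),1)] (.node [] .nil (.node [(237,(.negSucc 0),1)] .nil .nil)) (.node [(199,(.negSucc 0),1)] .nil .nil)))) (.node [] (.node [] (.node [] .nil (.node [] .nil (.node [] .nil .nil))) (.node [] .nil (.node [(184,(.ofNat 1),1)] .nil .nil))) (.node [] (.node [] .nil (.node [(174,(.ofNat 1),1)] .nil .nil)) (.node [(140,(.negSucc 0),1)] .nil .nil))))) (.node [(205,(.negSucc 0),1)] (.node [] (.node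 [] .nil (.node [] (.node [] .nil (.node [(167,(.ofNat 1),1)] .nil .nil)) (.node [] .nil (.node [(194,(.ofNat 1),1)] .nil .nil)))) (.node [] .nil (.node [] (.node [] .nil (.node [] .nil (.node [(245,(.ofNat 1),1)] .nil .nil))) (.node [] .nil (.node [(202,(.ofNat 1),1)] .nil .nil))))) (.node [(205,(.ofNat 1),1)] (.node [] (.node [] (.node [] .nil (.node [(146,(.negSucc 0),1)] .nil .nil)) .nil) (.node [(89,(.ofNat 1),1)] (.node [] (.node [] .nil (.node [(222,(.ofNat 1),1)] .nil .nil)) .nil) .nil)) (.node [(57,(.negSucc 0),1)] (.node [] .nil (.node [(121,(.ofNat 1),1)] .nil (.node [(189,(.negSucc 0),1)] .nil .nil))) (.node [] (.node [] (.node [] .nil (.node [(230,(.ofNat 1),1)] .nil .nil)) .nil) .nil))))))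
noncomputable def ex198 : Trie (List (ℕ × ℤ × ℕ)) := (.node [] (.node [] (.node [] (.node [] (.node [] (.node [] .nil (.node [(104,(.negSucc 0),1)] .nil .nil)) (.node [(68,(.ofNat 1),1)] .nil (.node [(126,(.ofNat 1),1)] .nil .nil))) (.node [(35,(.negSucc 0),1)] (.node [] (.node [] (.node [] .nil (.node [(211,(.ofNat 1),1)] .nil .nil)) (.node [(148,(.ofNat 1),1)] .nil .nil)) .nil) .nil)) (.node [(206,(.ofNat 1),1)] (.node [] .nil (.node [(77,(.ofNat 1),1)] .nil (.node [] (.node [] .nil (.node [(237,(.ofNat 1),1)] .nil .nil)) .nil))) (.node [(42,(.negSucc 0),1)] (.node [] .nil (.node [(119,(.negSucc 0),1)] .nil .nil)) (.node [] (.node [] (.node [] .nil (.node [(228,(.ofNat 1),1)] .nil .nil)) (.node [(174,(.ofNat 1),1)] .nil (.node [(247,(.ofNat 1),1)] .nil .nil))) (.node [(140,(.negSucc 0),1)] .nil (.node [(204,(.negSucc 0),1)] .nil .nil)))))) (.node [] (.node [] (.node [] .nil (.node [(75,(.negSucc 0),1)] .nil (.node [(128,(.ofNat 1),1)] (.node [] .nil (.node [(235,(.negSucc 0),1)]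 .nil .nil)) .nil))) (.node [(37,(.ofNat 1),1)] .nil (.node [] (.node [] .nil (.node [] .nil (.node [(245,(.negSucc 0),1)] .nil .nil))) (.node [] .nil (.node [(202,(.ofNat 1),1)] .nil .nil))))) (.node [(206,(.ofNat 1),1)] (.node [] (.node [] (.node [] (.node [] .nil (.node [(209,(.negSucc 0),1)] .nil .nil)) (.node [(146,(.negSucc 0),1)] .nil .nil)) .nil) .nil) (.node [] (.node [] (.node [] .nil (.node [] .nil (.node [] .nil .nil))) (.node [(121,(.ofNat 1),1)] .nil .nil)) (.node [(102,(.ofNat 1),1)] (.node [] (.node [] .nil (.node [(230,(.negSucc 0),1)] .nil .nil)) (.node [(176,(.negSucc 0),1)] .nil .nil)) (.node [(142,(.ofNat 1),1)] .nil .nil)))))) (.node [(206,(.ofNat 1),1)] (.node [] (.node [] (.node [] (.node [] (.node [] (.node [] .nil (.node [(207,(.negSucc 0),1)] .nil .nil)) (.node [(144,(.ofNat 1),1)] .nil .nil)) .nil) (.node [] (.node [] .nil (.node [(163,(.negSucc 0),1)] .nil .nil)) (.node [(0,(.ofNat 1),1),(1,(.ofNat 1),1),(2,(.ofNat 2),1),(3,(.ofNat 3),1),(4,(.ofNat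 2),1),(5,(.ofNat 2),1),(6,(.ofNat 1),1),(7,(.ofNat 1),1),(206,(.negSucc 0),2)] .nil (.node [(193,(.negSucc 0),1)] .nil .nil)))) (.node [] .nil (.node [(97,(.ofNat 1),1)] (.node [] (.node [] .nil (.node [(225,(.negSucc 0),1)] .nil .nil)) .nil) .nil))) (.node [(206,(.negSucc 0),1)] (.node [] (.node [] (.node [] .nil (.node [] .nil (.node [(240,(.negSucc 0),1)] .nil .nil))) (.node [] (.node [] .nil (.node [(232,(.ofNat 1),1)] .nil .nil)) .nil)) (.node [] (.node [] (.node [] .nil (.node [(216,(.negSucc 0),1)] .nil .nil)) (.node [] .nil (.node [(243,(.ofNat 1),1)] .nil .nil))) (.node [(133,(.negSucc 0),1)] .nil (.node [(200,(.negSucc 0),1)] .nil .nil)))) (.node [] (.node [] .nil (.node [] .nil (.node [(185,(.ofNat 1),1)] .nil .nil))) .nil))) (.node [(206,(.negSucc 0),1)] (.node [] (.node [] .nil (.node [] (.node [] .nil (.node [(168,(.ofNat 1),1)] .nil .nil)) (.node [(131,(.ofNat 1),1)] .nil (.node [(195,(.ofNat 1),1)] .nil .nil)))) (.node [] (.node [] .nil (.node [] .nil (.node [(183,(.negSucc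 0),1)] .nil .nil))) (.node [(99,(.negSucc 0),1)] .nil (.node [] (.node [] .nil (.node [(239,(.negSucc 0),1)] .nil .nil)) .nil)))) (.node [(206,(.negSucc 0),1)] (.node [] (.node [] .nil (.node [(106,(.ofNat 1),1)] .nil .nil)) (.node [(90,(.negSucc 0),1)] (.node [] (.node [] .nil (.node [(223,(.ofNat 1),1)] .nil .nil)) (.node [(172,(.negSucc 0),1)] .nil .nil)) (.node [(138,(.ofNat 1),1)] .nil .nil))) (.node [(58,(.ofNat 1),1)] (.node [] (.node [] .nil (.node [(161,(.ofNat 1),1)] .nil .nil)) (.node [] .nil (.node [(190,(.negSucc 0),1)] .nil .nil))) (.node [] .nil (.node [] .nil (.node [(205,(.negSucc 0),1)] .nil .nil))))))))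
noncomputable def ex199 : Trie (List (ℕ × ℤ × ℕ)) := (.node [] (.node [] (.node [] (.node [] (.node [] (.node [] (.node [] .nil (.node [(144,(.ofNat 1),1)] .nil .nil)) .nil) (.node [(69,(.negSucc 0),1)] (.node [] .nil (.node [(163,(.negSucc 0),1)] .nil .nil)) (.node [(0,(.ofNat 1),1),(1,(.ofNat 1),1),(2,(.ofNat 2),1),(3,(.ofNat 3),1),(4,(.ofNat 2),1),(5,(.ofNat 2),1),(6,(.ofNat 2),1),(7,(.ofNat 1),1),(207,(.negSucc 0),2)] .nil .nil))) (.node [(36,(.ofNat 1),1)] .nil (.node [] (.node [] (.node [] .nil (.node [(225,(.ofNat 1),1)] .nil .nil)) .nil) .nil))) (.node [(207,(.ofNat 1),1)] (.node [] (.node [] (.node [] .nil (.node [] .nil (.node [(240,(.ofNat 1),1)] .nil .nil))) (.node [] (.node [] .nil (.node [(232,(.negSucc 0),1)] .nil .nil)) .nil)) (.node [] (.node [] .nil (.node [] .nil (.node [(243,(.negSucc 0),1)] .nil .nil))) (.node [(133,(.negSucc 0),1)] .nil .nil))) (.node [(43,(.ofNat 1),1)] (.node [] .nil (.node [(120,(.ofNat 1),1)] .nil (.node [(185,(.ofNat 1),1)] .nil .nil)))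 (.node [] (.node [] (.node [] .nil (.node [(229,(.ofNat 1),1)] .nil .nil)) (.node [(175,(.ofNat 1),1)] .nil .nil)) (.node [(141,(.negSucc 0),1)] .nil .nil))))) (.node [] (.node [] (.node [] .nil (.node [(76,(.ofNat 1),1)] .nil (.node [(130,(.negSucc 0),1)] (.node [] .nil (.node [(236,(.negSucc 0),1)] .nil .nil)) (.node [(195,(.ofNat 1),1)] .nil .nil)))) (.node [] .nil (.node [(99,(.negSucc 0),1)] (.node [] .nil (.node [] .nil (.node [(246,(.negSucc 0),1)] .nil .nil))) (.node [] (.node [] .nil (.node [(239,(.ofNat 1),1)] .nil .nil)) (.node [(203,(.ofNat 1),1)] .nil .nil))))) (.node [(207,(.negSucc 0),1)] (.node [] (.node [] (.node [] (.node [] .nil (.node [(210,(.negSucc 0),1)] .nil .nil)) (.node [(147,(.negSucc 0),1)] .nil .nil)) (.node [(106,(.ofNat 1),1)] .nil .nil)) (.node [] (.node [] .nil (.node [(172,(.negSucc 0),1)] .nil .nil)) (.node [(138,(.ofNat 1),1)] .nil .nil))) (.node [] .nil (.node [(103,(.negSucc 0),1)] .nil (.node [] .nil (.node [(206,(.negSucc 0),1)] .nil .nil)))))))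 (.node [(207,(.ofNat 1),1)] (.node [] (.node [] (.node [] .nil (.node [] .nil (.node [(129,(.ofNat 1),1)] .nil (.node [(194,(.negSucc 0),1)] .nil .nil)))) (.node [(37,(.ofNat 1),1)] .nil (.node [(98,(.negSucc 0),1)] .nil .nil))) (.node [] (.node [] .nil (.node [] (.node [] (.node [] .nil (.node [(217,(.negSucc 0),1)] .nil .nil)) .nil) (.node [] .nil (.node [(201,(.negSucc 0),1)] .nil .nil)))) (.node [] (.node [] .nil (.node [(121,(.ofNat 1),1)] .nil .nil)) (.node [] (.node [] (.node [] .nil (.node [(230,(.ofNat 1),1)] .nil .nil)) (.node [(176,(.negSucc 0),1)] .nil .nil)) (.node [(142,(.ofNat 1),1)] .nil (.node [(205,(.ofNat 1),1)] .nil .nil)))))) (.node [(207,(.negSucc 0),1)] (.node [] (.node [] .nil (.node [(77,(.ofNat 1),1)] (.node [] .nil (.node [(169,(.ofNat 1),1)] .nil .nil)) (.node [(132,(.ofNat 1),1)] (.node [] .nil (.node [(237,(.negSucc 0),1)] .nil .nil)) .nil))) (.node [] (.node [] .nil (.node [] .nil (.node [(184,(.negSucc 0),1)] .nil .nil))) (.node [] (.node [] .nil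 (.node [] .nil (.node [(247,(.negSucc 0),1)] .nil .nil))) (.node [] .nil (.node [(204,(.negSucc 0),1)] .nil .nil))))) (.node [] (.node [] (.node [] (.node [] (.node [] .nil (.node [(211,(.negSucc 0),1)] .nil .nil)) (.node [(148,(.ofNat 1),1)] .nil .nil)) .nil) (.node [(91,(.ofNat 1),1)] (.node [] (.node [] .nil (.node [(224,(.ofNat 1),1)] .nil .nil)) .nil) .nil)) (.node [(59,(.negSucc 0),1)] (.node [] (.node [] .nil (.node [(162,(.ofNat 1),1)] .nil (.node [] .nil .nil))) (.node [] .nil (.node [(191,(.negSucc 0),1)] .nil .nil))) (.node [(104,(.negSucc 0),1)] .nil .nil))))))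
noncomputable def ex200 : Trie (List (ℕ × ℤ × ℕ)) := (.node [] (.node [] (.node [] (.node [] (.node [] (.node [] (.node [] (.node [] .nil (.node [(209,(.negSucc 0),1)] .nil .nil)) .nil) .nil) (.node [(70,(.ofNat 1),1)] (.node [] .nil (.node [(164,(.ofNat 1),1)] .nil (.node [] .nil .nil))) .nil)) (.node [] .nil (.node [(96,(.negSucc 0),1)] (.node [] .nil (.node [(173,(.negSucc 0),1)] .nil (.node [(245,(.negSucc 0),1)] .nil .nil))) (.node [(139,(.ofNat 1),1)] .nil (.node [(203,(.ofNat 1),1)] .nil .nil))))) (.node [(208,(.negSucc 0),1)] (.node [] (.node [] (.node [] .nil (.node [(146,(.negSucc 0),1)] .nil .nil)) .nil) (.node [] .nil (.node [(135,(.negSucc 0),1)] .nil (.node [(199,(.negSucc 0),1)] .nil .nil)))) (.node [] (.node [] .nil (.node [(122,(.ofNat 1),1)] .nil (.node [(186,(.negSucc 0),1)] .nil .nil))) (.node [(100,(.ofNat 1),1)] .nil .nil)))) (.node [] (.node [] (.node [] (.node [] (.node [] (.node [] .nil (.node [(210,(.ofNat 1),1)] .nil .nil)) (.node [(145,(.ofNat 1),1)]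 .nil .nil)) .nil) (.node [] (.node [] .nil (.node [(167,(.ofNat 1),1)] .nil .nil)) (.node [(134,(.ofNat 1),1)] .nil (.node [(196,(.negSucc 0),1)] .nil .nil)))) (.node [(39,(.ofNat 1),1)] .nil (.node [] (.node [] (.node [] .nil (.node [(226,(.ofNat 1),1)] .nil .nil)) (.node [(174,(.ofNat 1),1)] .nil .nil)) (.node [(140,(.negSucc 0),1)] .nil .nil)))) (.node [] (.node [] .nil (.node [] (.node [] (.node [] .nil (.node [(222,(.negSucc 0),1)] .nil .nil)) (.node [] .nil (.node [(244,(.negSucc 0),1)] .nil .nil))) .nil)) (.node [] (.node [] .nil (.node [(127,(.ofNat 1),1)] .nil (.node [(189,(.negSucc 0),1)] .nil .nil))) .nil)))) (.node [(208,(.ofNat 1),1)] (.node [] (.node [] (.node [] (.node [] .nil (.node [(105,(.ofNat 1),1)] .nil .nil)) (.node [(74,(.ofNat 1),1)] (.node [] .nil (.node [(165,(.negSucc 0),1)] .nil .nil)) (.node [] (.node [] .nil (.node [(234,(.ofNat 1),1)] .nil .nil)) .nil))) (.node [(38,(.ofNat 1),1)] .nil (.node [] (.node [] .nil (.node [] .nil (.node [(246,(.negSucc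 0),1)] .nil .nil))) (.node [] (.node [] .nil (.node [(239,(.negSucc 0),1)] .nil .nil)) (.node [(205,(.negSucc 0),1)] .nil .nil))))) (.node [] (.node [] (.node [] (.node [] (.node [] .nil (.node [(211,(.negSucc 0),1)] .nil .nil)) (.node [(147,(.ofNat 1),1)] .nil .nil)) (.node [(106,(.ofNat 1),1)] .nil .nil)) (.node [(78,(.negSucc 0),1)] (.node [] (.node [] .nil (.node [(218,(.negSucc 0),1)] .nil .nil)) .nil) (.node [(136,(.ofNat 1),1)] (.node [] .nil (.node [(238,(.negSucc 0),1)] .nil .nil)) .nil))) (.node [] (.node [] .nil (.node [(125,(.negSucc 0),1)] .nil (.node [(187,(.ofNat 1),1)] .nil .nil))) (.node [(101,(.negSucc 0),1)] .nil .nil)))) (.node [] (.node [] (.node [] (.node [] (.node [] .nil (.node [] .nil (.node [(240,(.negSucc 0),1)] .nil .nil))) (.node [] (.node [] .nil (.node [(232,(.ofNat 1),1)] .nil .nil)) .nil)) (.node [] .nil (.node [] .nil (.node [(197,(.ofNat 1),1)] .nil .nil)))) (.node [(41,(.ofNat 1),1)] .nil (.node [] (.node [] (.node [] .nil (.node [(227,(.negSucc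 0),1)] .nil .nil)) (.node [(175,(.negSucc 0),1)] .nil .nil)) (.node [(141,(.ofNat 1),1)] .nil .nil)))) (.node [(208,(.ofNat 1),1)] (.node [] .nil (.node [(92,(.negSucc 0),1)] .nil (.node [] .nil (.node [(202,(.negSucc 0),1)] .nil .nil)))) (.node [(60,(.ofNat 1),1)] (.node [] .nil (.node [(0,(.ofNat 1),1),(1,(.ofNat 1),1),(2,(.ofNat 2),1),(3,(.ofNat 3),1),(4,(.ofNat 3),1),(5,(.ofNat 2),1),(6,(.ofNat 1),1),(208,(.negSucc 0),2)] .nil .nil)) (.node [] (.node [] (.node [] .nil (.node [(231,(.ofNat 1),1)] .nil .nil)) .nil) .nil))))))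
noncomputable def ex201 : Trie (List (ℕ × ℤ × ℕ)) := (.node [] (.node [] (.node [] (.node [] (.node [] (.node [] .nil (.node [(105,(.ofNat 1),1)] .nil .nil)) (.node [(71,(.negSucc 0),1)] .nil .nil)) (.node [(38,(.ofNat 1),1)] .nil (.node [(97,(.ofNat 1),1)] .nil (.node [] (.node [] .nil (.node [(239,(.ofNat 1),1)] .nil .nil)) (.node [(204,(.ofNat 1),1)] .nil .nil))))) (.node [(209,(.negSucc 0),1)] (.node [] (.node [] (.node [] (.node [] .nil (.node [(211,(.ofNat 1),1)] .nil .nil)) .nil) (.node [(106,(.ofNat 1),1)] .nil .nil)) (.node [(78,(.negSucc 0),1)] .nil (.node [] (.node [] .nil (.node [(238,(.ofNat 1),1)] .nil .nil)) (.node [(200,(.negSucc 0),1)] .nil .nil)))) (.node [] (.node [] .nil (.node [(123,(.negSucc 0),1)] .nil .nil)) .nil))) (.node [] (.node [] (.node [] (.node [] (.node [] .nil (.node [] .nil (.node [(240,(.ofNat 1),1)] .nil .nil))) (.node [] (.node [] .nil (.node [(232,(.negSucc 0),1)] .nil .nil)) .nil)) (.node [] (.node [] .nil (.node [(168,(.ofNat 1),1)] .nil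 .nil)) .nil)) (.node [(40,(.negSucc 0),1)] .nil .nil)) (.node [(209,(.ofNat 1),1)] (.node [] .nil (.node [] (.node [] (.node [] .nil (.node [(223,(.negSucc 0),1)] .nil .nil)) .nil) (.node [] .nil (.node [(202,(.negSucc 0),1)] .nil .nil)))) (.node [] (.node [] .nil (.node [(0,(.ofNat 1),1),(1,(.ofNat 1),1),(2,(.ofNat 2),1),(3,(.ofNat 3),1),(4,(.ofNat 3),1),(5,(.ofNat 2),1),(6,(.ofNat 1),1),(7,(.ofNat 1),1),(209,(.negSucc 0),2)] .nil (.node [(190,(.negSucc 0),1)] .nil .nil))) (.node [] (.node [] (.node [] .nil (.node [(231,(.negSucc 0),1)] .nil .nil)) .nil) .nil))))) (.node [(209,(.ofNat 1),1)] (.node [] (.node [] (.node [] (.node [] (.node [] (.node [] .nil (.node [(210,(.negSucc 0),1)] .nil .nil)) (.node [(145,(.ofNat 1),1)] .nil .nil)) .nil) (.node [(75,(.negSucc 0),1)] (.node [] .nil (.node [(166,(.negSucc 0),1)] .nil (.node [] .nil .nil))) (.node [(134,(.ofNat 1),1)] (.node [] .nil (.node [(235,(.ofNat 1),1)] .nil .nil)) (.node [(196,(.negSucc 0),1)] .nil .nil)))) (.node []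 .nil (.node [] (.node [] (.node [] .nil (.node [(226,(.negSucc 0),1)] .nil .nil)) (.node [(174,(.ofNat 1),1)] .nil (.node [(247,(.negSucc 0),1)] .nil .nil))) (.node [(140,(.negSucc 0),1)] .nil (.node [(206,(.negSucc 0),1)] .nil .nil))))) (.node [] (.node [] (.node [] (.node [] .nil (.node [(148,(.ofNat 1),1)] .nil .nil)) .nil) (.node [] (.node [] (.node [] .nil (.node [(219,(.negSucc 0),1)] .nil .nil)) (.node [] .nil (.node [(244,(.ofNat 1),1)] .nil .nil))) (.node [(137,(.ofNat 1),1)] .nil .nil))) (.node [] (.node [] .nil (.node [(126,(.ofNat 1),1)] .nil (.node [(188,(.ofNat 1),1)] .nil .nil))) (.node [(102,(.ofNat 1),1)] .nil .nil)))) (.node [] (.node [] (.node [] (.node [] (.node [] .nil (.node [(146,(.negSucc 0),1)] .nil .nil)) .nil) (.node [] .nil (.node [(135,(.negSucc 0),1)] .nil (.node [(198,(.ofNat 1),1)] .nil .nil)))) (.node [(42,(.negSucc 0),1)] (.node [] .nil (.node [] .nil (.node [(186,(.negSucc 0),1)] .nil .nil))) (.node [(100,(.ofNat 1),1)] (.node [] (.node [] .nil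 (.node [(228,(.negSucc 0),1)] .nil .nil)) (.node [(176,(.negSucc 0),1)] .nil .nil)) (.node [(142,(.ofNat 1),1)] .nil .nil)))) (.node [(209,(.negSucc 0),1)] (.node [] .nil (.node [(93,(.ofNat 1),1)] (.node [] .nil (.node [(173,(.negSucc 0),1)] .nil (.node [(245,(.ofNat 1),1)] .nil .nil))) (.node [(139,(.ofNat 1),1)] .nil .nil))) (.node [(61,(.negSucc 0),1)] (.node [] (.node [] .nil (.node [(164,(.ofNat 1),1)] .nil .nil)) (.node [(128,(.ofNat 1),1)] .nil .nil)) (.node [] .nil (.node [] .nil (.node [(208,(.negSucc 0),1)] .nil .nil))))))))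
noncomputable def ex202 : Trie (List (ℕ × ℤ × ℕ)) := (.node [] (.node [] (.node [] (.node [] (.node [] (.node [] (.node [] .nil (.node [(145,(.ofNat 1),1)] .nil .nil)) .nil) (.node [(72,(.ofNat 1),1)] (.node [] .nil (.node [(166,(.negSucc 0),1)] .nil .nil)) (.node [(134,(.ofNat 1),1)] .nil .nil))) (.node [(39,(.negSucc 0),1)] .nil (.node [(98,(.negSucc 0),1)] (.node [] (.node [] .nil (.node [(226,(.ofNat 1),1)] .nil .nil)) (.node [] .nil (.node [(247,(.ofNat 1),1)] .nil .nil))) .nil))) (.node [(210,(.negSucc 0),1)] (.node [] (.node [] (.node [] .nil (.node [(148,(.ofNat 1),1)] .nil .nil)) .nil) (.node [] (.node [] .nil (.node [] .nil (.node [(244,(.negSucc 0),1)] .nil .nil))) (.node [(137,(.ofNat 1),1)] .nil (.node [(201,(.negSucc 0),1)] .nil .nil)))) (.node [] (.node [] .nil (.node [(124,(.ofNat 1),1)] .nil (.node [(188,(.ofNat 1),1)] .nil .nil))) .nil))) (.node [] (.node [] (.node [] .nil (.node [] (.node [] .nil (.node [(169,(.ofNat 1),1)] .nil (.node [] .nil .nil))) (.node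 [] .nil (.node [(198,(.ofNat 1),1)] .nil .nil)))) (.node [] .nil (.node [(100,(.ofNat 1),1)] (.node [] .nil (.node [(176,(.negSucc 0),1)] .nil .nil)) (.node [(142,(.ofNat 1),1)] .nil .nil)))) (.node [(210,(.negSucc 0),1)] (.node [] .nil (.node [] (.node [] (.node [] .nil (.node [(224,(.negSucc 0),1)] .nil .nil)) (.node [(173,(.negSucc 0),1)] .nil .nil)) (.node [(139,(.ofNat 1),1)] .nil (.node [(203,(.negSucc 0),1)] .nil .nil)))) (.node [] (.node [] .nil (.node [(129,(.ofNat 1),1)] .nil (.node [(191,(.negSucc 0),1)] .nil .nil))) (.node [] .nil (.node [] .nil (.node [(209,(.negSucc 0),1)] .nil .nil))))))) (.node [(210,(.ofNat 1),1)] (.node [] (.node [] (.node [] (.node [] (.node [] .nil (.node [] .nil (.node [(240,(.negSucc 0),1)] .nil .nil))) (.node [] (.node [] .nil (.node [(232,(.ofNat 1),1)] .nil .nil)) .nil)) (.node [(76,(.ofNat 1),1)] .nil (.node [] (.node [] .nil (.node [(236,(.ofNat 1),1)] .nil .nil)) (.node [(197,(.negSucc 0),1)] .nil .nil)))) (.node [(40,(.negSucc 0),1)]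 .nil (.node [] (.node [] .nil (.node [(175,(.ofNat 1),1)] .nil .nil)) (.node [(141,(.negSucc 0),1)] .nil (.node [(207,(.negSucc 0),1)] .nil .nil))))) (.node [(210,(.ofNat 1),1)] (.node [] .nil (.node [] (.node [] (.node [] .nil (.node [(220,(.negSucc 0),1)] .nil .nil)) .nil) .nil)) (.node [] (.node [] .nil (.node [(0,(.ofNat 1),1),(1,(.ofNat 1),1),(2,(.ofNat 2),1),(3,(.ofNat 3),1),(4,(.ofNat 3),1),(5,(.ofNat 2),1),(6,(.ofNat 2),1),(7,(.ofNat 1),1),(210,(.negSucc 0),2)] .nil .nil)) (.node [(103,(.negSucc 0),1)] (.node [] (.node [] .nil (.node [(231,(.ofNat 1),1)] .nil .nil)) .nil) (.node [] .nil (.node [(208,(.ofNat 1),1)] .nil .nil)))))) (.node [] (.node [] (.node [] (.node [] (.node [] (.node [] .nil (.node [(211,(.negSucc 0),1)] .nil .nil)) (.node [(147,(.negSucc 0),1)] .nil .nil)) (.node [(106,(.ofNat 1),1)] .nil .nil)) (.node [(78,(.negSucc 0),1)] .nil (.node [(136,(.negSucc 0),1)] (.node [] .nil (.node [(238,(.negSucc 0),1)] .nil .nil)) .nil))) (.node [(43,(.ofNat 1),1)]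 (.node [] .nil (.node [] .nil (.node [(187,(.negSucc 0),1)] .nil .nil))) (.node [] (.node [] (.node [] .nil (.node [(229,(.negSucc 0),1)] .nil .nil)) .nil) .nil))) (.node [] (.node [] .nil (.node [(94,(.negSucc 0),1)] (.node [] .nil (.node [] .nil (.node [(246,(.ofNat 1),1)] .nil .nil))) (.node [] (.node [] .nil (.node [(239,(.negSucc 0),1)] .nil .nil)) (.node [(204,(.ofNat 1),1)] .nil .nil)))) (.node [(62,(.ofNat 1),1)] (.node [] (.node [] .nil (.node [(165,(.ofNat 1),1)] .nil .nil)) (.node [(130,(.negSucc 0),1)] .nil .nil)) (.node [(105,(.ofNat 1),1)] .nil .nil))))))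
noncomputable def ex203 : Trie (List (ℕ × ℤ × ℕ)) := (.node [] (.node [] (.node [] (.node [] (.node [] (.node [] (.node [] .nil (.node [(146,(.ofNat 1),1)] .nil (.node [(240,(.ofNat 1),1)] .nil .nil))) (.node [] (.node [] .nil (.node [(232,(.negSucc 0),1)] .nil .nil)) .nil)) (.node [(73,(.negSucc 0),1)] (.node [] .nil (.node [(168,(.negSucc 0),1)] .nil .nil)) (.node [(135,(.ofNat 1),1)] .nil .nil))) (.node [(41,(.ofNat 1),1)] .nil (.node [(99,(.ofNat 1),1)] (.node [] .nil (.node [(176,(.negSucc 0),1)] .nil .nil)) (.node [(142,(.ofNat 1),1)] .nil (.node [(207,(.negSucc 0),1)] .nil .nil))))) (.node [] (.node [] .nil (.node [] (.node [] .nil (.node [] .nil (.node [(245,(.negSucc 0),1)] .nil .nil))) .nil)) (.node [] (.node [] .nil (.node [(0,(.ofNat 1),1),(1,(.ofNat 1),1),(2,(.ofNat 2),1),(3,(.ofNat 3),1),(4,(.ofNat 3),1),(5,(.ofNat 3),1),(6,(.ofNat 2),1),(7,(.ofNat 1),1),(211,(.negSucc 0),2)] .nil (.node [(190,(.ofNat 1),1)] .nil .nil))) (.node [] (.node [] (.node [] .nil (.node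 [(231,(.negSucc 0),1)] .nil .nil)) .nil) (.node [] .nil (.node [(210,(.negSucc 0),1)] .nil .nil)))))) (.node [] (.node [] (.node [] (.node [] (.node [] .nil (.node [(148,(.ofNat 1),1)] .nil .nil)) (.node [(106,(.ofNat 1),1)] .nil .nil)) (.node [(78,(.negSucc 0),1)] .nil (.node [(137,(.ofNat 1),1)] (.node [] .nil (.node [(238,(.ofNat 1),1)] .nil .nil)) (.node [(200,(.ofNat 1),1)] .nil .nil)))) (.node [(43,(.ofNat 1),1)] .nil (.node [] .nil (.node [] .nil (.node [(208,(.negSucc 0),1)] .nil .nil))))) (.node [] (.node [] .nil (.node [] (.node [] (.node [] .nil (.node [(225,(.negSucc 0),1)] .nil .nil)) (.node [(174,(.negSucc 0),1)] .nil (.node [(247,(.negSucc 0),1)] .nil .nil))) (.node [(140,(.ofNat 1),1)] (.node [] .nil (.node [(239,(.ofNat 1),1)] .nil .nil)) (.node [(205,(.negSucc 0),1)] .nil .nil)))) (.node [] (.node [] .nil (.node [(132,(.negSucc 0),1)] .nil .nil)) (.node [(105,(.ofNat 1),1)] .nil .nil))))) (.node [(211,(.ofNat 1),1)] (.node [] (.node [] (.node [] (.node [] (.node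 [] .nil (.node [(147,(.negSucc 0),1)] .nil .nil)) .nil) (.node [(77,(.negSucc 0),1)] (.node [] .nil (.node [(169,(.ofNat 1),1)] .nil .nil)) (.node [(136,(.negSucc 0),1)] (.node [] .nil (.node [(237,(.ofNat 1),1)] .nil .nil)) (.node [(199,(.negSucc 0),1)] .nil .nil)))) (.node [(42,(.ofNat 1),1)] .nil (.node [(100,(.ofNat 1),1)] .nil .nil))) (.node [(211,(.negSucc 0),1)] (.node [] .nil (.node [] (.node [] (.node [] .nil (.node [(221,(.negSucc 0),1)] .nil .nil)) (.node [] .nil (.node [(246,(.negSucc 0),1)] .nil .nil))) .nil)) (.node [] (.node [] .nil (.node [(131,(.ofNat 1),1)] .nil (.node [(191,(.negSucc 0),1)] .nil .nil))) (.node [(104,(.ofNat 1),1)] .nil .nil)))) (.node [] (.node [] (.node [] .nil (.node [] (.node [] .nil (.node [] .nil (.node [] .nil .nil))) (.node [] .nil (.node [(201,(.negSucc 0),1)] .nil .nil)))) (.node [] (.node [] .nil (.node [] .nil (.node [(189,(.negSucc 0),1)] .nil .nil))) (.node [] (.node [] (.node [] .nil (.node [(230,(.negSucc 0),1)] .nil .nil)) .nil)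 (.node [] .nil (.node [(209,(.ofNat 1),1)] .nil .nil))))) (.node [] (.node [] .nil (.node [(95,(.ofNat 1),1)] (.node [] (.node [] .nil (.node [(226,(.negSucc 0),1)] .nil .nil)) (.node [(175,(.ofNat 1),1)] .nil .nil)) (.node [(141,(.negSucc 0),1)] .nil (.node [(206,(.ofNat 1),1)] .nil .nil)))) (.node [(63,(.negSucc 0),1)] (.node [] (.node [] .nil (.node [(167,(.ofNat 1),1)] .nil .nil)) (.node [(133,(.ofNat 1),1)] .nil .nil)) .nil)))))
noncomputable def ex204 : Trie (List (ℕ × ℤ × ℕ)) := (.node [] (.node [] (.node [] (.node [] (.node [] (.node [] .nil (.node [(113,(.negSucc 0),1)] .nil .nil)) (.node [] .nil (.node [] (.node [] .nil (.node [(235,(.ofNat 1),1)] .nil .nil)) .nil))) (.node [] (.node [] (.node [] (.node [] .nil (.node [(218,(.negSucc 0),1)] .nil .nil)) (.node [(156,(.negSucc 0),1)] .nil .nil)) (.node [(123,(.negSucc 0),1)] .nil (.node [(193,(.negSucc 0),1)] .nil .nil))) .nil)) (.node [] (.node [] (.node [] (.node [] (.node [] .nil (.node [(215,(.ofNat 1),1)] .nil .nil))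 .nil) (.node [(118,(.ofNat 1),1)] .nil (.node [(186,(.negSucc 0),1)] .nil .nil))) (.node [(79,(.negSucc 0),1)] (.node [] (.node [] .nil (.node [(228,(.negSucc 0),1)] .nil .nil)) (.node [] .nil (.node [] .nil .nil))) .nil)) (.node [(48,(.negSucc 0),1)] (.node [] (.node [] .nil (.node [(160,(.ofNat 1),1)] .nil .nil)) .nil) (.node [(108,(.ofNat 1),1)] .nil .nil)))) (.node [] (.node [] (.node [] (.node [] (.node [] (.node [] .nil (.node [(214,(.negSucc 0),1)] .nil .nil)) .nil) (.node [] .nil (.node [(182,(.negSucc 0),1)] .nil .nil))) (.node [] (.node [] .nil (.node [] .nil (.node [(244,(.ofNat 1),1)] .nil .nil))) .nil)) (.node [(44,(.negSucc 0),1)] (.node [] .nil (.node [(126,(.ofNat 1),1)] .nil (.node [(202,(.negSucc 0),1)] .nil .nil))) .nil)) (.node [(212,(.ofNat 1),1)] (.node [] .nil (.node [(86,(.ofNat 1),1)] .nil .nil)) (.node [(64,(.negSucc 0),1)] (.node [] (.node [] (.node [] .nil (.node [(223,(.ofNat 1),1)] .nil .nil)) (.node [(164,(.ofNat 1),1)] .nil .nil)) .nil) (.node []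 (.node [] .nil (.node [(178,(.ofNat 1),1)] .nil .nil)) (.node [(151,(.ofNat 1),1)] .nil .nil)))))) (.node [(212,(.negSucc 0),1)] (.node [] (.node [] (.node [] (.node [] (.node [] (.node [] .nil (.node [(213,(.negSucc 0),1)] .nil .nil)) .nil) (.node [(114,(.negSucc 0),1)] .nil .nil)) .nil) (.node [] (.node [] (.node [] (.node [] .nil (.node [(219,(.negSucc 0),1)] .nil .nil)) (.node [(157,(.ofNat 1),1)] .nil (.node [(242,(.ofNat 1),1)] .nil .nil))) (.node [(125,(.ofNat 1),1)] (.node [] .nil (.node [(233,(.negSucc 0),1)] .nil .nil)) (.node [(196,(.ofNat 1),1)] .nil .nil))) .nil)) (.node [] (.node [] (.node [] (.node [] (.node [] .nil (.node [(216,(.ofNat 1),1)] .nil .nil)) (.node [(155,(.ofNat 1),1)] .nil .nil)) (.node [(119,(.ofNat 1),1)] .nil .nil)) (.node [(80,(.negSucc 0),1)] .nil (.node [(149,(.ofNat 1),1)] .nil .nil))) (.node [(54,(.negSucc 0),1)] (.node [] (.node [] (.node [] .nil (.node [(222,(.ofNat 1),1)] .nil .nil)) (.node [(161,(.negSucc 0),1)] .nil .nil)) .nil) .nil)))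 (.node [] (.node [] (.node [] (.node [] .nil (.node [] .nil (.node [(183,(.ofNat 1),1)] .nil .nil))) (.node [] (.node [] (.node [] .nil (.node [(227,(.negSucc 0),1)] .nil .nil)) (.node [] .nil (.node [(245,(.ofNat 1),1)] .nil .nil))) .nil)) (.node [(45,(.negSucc 0),1)] (.node [] .nil (.node [(0,(.ofNat 1),1),(1,(.ofNat 2),1),(2,(.ofNat 2),1),(3,(.ofNat 3),1),(4,(.ofNat 2),1),(5,(.ofNat 1),1),(212,(.negSucc 0),2)] .nil .nil)) (.node [(107,(.ofNat 1),1)] (.node [] .nil (.node [(177,(.negSucc 0),1)] .nil .nil)) (.node [(150,(.negSucc 0),1)] .nil .nil)))) (.node [] (.node [] (.node [] .nil (.node [(122,(.negSucc 0),1)] .nil (.node [(192,(.ofNat 1),1)] .nil .nil))) .nil) (.node [] (.node [] (.node [] .nil (.node [] .nil (.node [(243,(.ofNat 1),1)] .nil .nil))) (.node [] (.node [] .nil (.node [(234,(.ofNat 1),1)] .nil .nil)) .nil)) (.node [] (.node [] .nil (.node [(179,(.negSucc 0),1)] .nil .nil)) (.node [(152,(.negSucc 0),1)] (.node [] .nil (.node [(241,(.ofNat 1),1)] .nil .nil)) .nil)))))))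
noncomputable def ex205 : Trie (List (ℕ × ℤ × ℕ)) := (.node [] (.node [] (.node [] (.node [] (.node [] (.node [] (.node [] (.node [] .nil (.node [(214,(.negSucc 0),1)] .nil .nil)) .nil) .nil) (.node [] .nil (.node [] (.node [] .nil (.node [(236,(.ofNat 1),1)] .nil .nil)) .nil))) (.node [] (.node [] (.node [] .nil (.node [] .nil (.node [(242,(.negSucc 0),1)] .nil .nil))) (.node [(124,(.ofNat 1),1)] (.node [] .nil (.node [(233,(.ofNat 1),1)] .nil .nil)) (.node [(194,(.negSucc 0),1)] .nil .nil))) .nil)) (.node [] (.node [] (.node [] (.node [] .nil (.node [(155,(.ofNat 1),1)] .nil .nil)) (.node [] .nil (.node [(187,(.negSucc 0),1)] .nil .nil))) (.node [] (.node [] (.node [] .nil (.node [(229,(.negSucc 0),1)] .nil .nil)) .nil) (.node [(149,(.ofNat 1),1)] .nil .nil))) (.node [(49,(.ofNat 1),1)] (.node [] (.node [] (.node [] .nil (.node [(222,(.negSucc 0),1)] .nil .nil)) .nil) .nil) (.node [(109,(.negSucc 0),1)] .nil .nil)))) (.node [] (.node [] (.node [] .nil (.node [] (.node [] (.node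 [] .nil (.node [(227,(.ofNat 1),1)] .nil .nil)) .nil) .nil)) (.node [] (.node [] .nil (.node [(0,(.ofNat 1),1),(1,(.ofNat 2),1),(2,(.ofNat 2),1),(3,(.ofNat 3),1),(4,(.ofNat 2),1),(5,(.ofNat 1),1),(6,(.ofNat 1),1),(213,(.negSucc 0),2)] .nil (.node [(203,(.negSucc 0),1)] .nil .nil))) (.node [(107,(.ofNat 1),1)] (.node [] .nil (.node [(177,(.negSucc 0),1)] .nil .nil)) (.node [(150,(.negSucc 0),1)] .nil .nil)))) (.node [(213,(.negSucc 0),1)] (.node [] (.node [] .nil (.node [(122,(.negSucc 0),1)] .nil (.node [(192,(.ofNat 1),1)] .nil .nil))) (.node [(87,(.negSucc 0),1)] .nil .nil)) (.node [(65,(.ofNat 1),1)] (.node [] (.node [] (.node [] .nil (.node [(224,(.ofNat 1),1)] .nil .nil)) (.node [(165,(.ofNat 1),1)] .nil (.node [(243,(.negSucc 0),1)] .nil .nil))) (.node [] (.node [] .nil (.node [(234,(.negSucc 0),1)] .nil .nil)) .nil)) (.node [] .nil (.node [] (.node [] .nil (.node [(241,(.negSucc 0),1)] .nil .nil)) (.node [(212,(.negSucc 0),1)] .nil .nil))))))) (.node [(213,(.negSucc 0),1)]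 (.node [] (.node [] (.node [] (.node [] .nil (.node [(115,(.ofNat 1),1)] .nil (.node [(182,(.negSucc 0),1)] .nil .nil))) (.node [] (.node [] .nil (.node [] .nil (.node [(244,(.negSucc 0),1)] .nil .nil))) .nil)) (.node [(44,(.negSucc 0),1)] (.node [] (.node [] (.node [] .nil (.node [(220,(.negSucc 0),1)] .nil .nil)) (.node [(158,(.ofNat 1),1)] .nil .nil)) (.node [(127,(.ofNat 1),1)] .nil (.node [(197,(.ofNat 1),1)] .nil .nil))) .nil)) (.node [(213,(.ofNat 1),1)] (.node [] (.node [] (.node [] (.node [] .nil (.node [(217,(.ofNat 1),1)] .nil .nil)) .nil) (.node [(120,(.negSucc 0),1)] .nil .nil)) (.node [(81,(.ofNat 1),1)] (.node [] .nil (.node [] .nil (.node [] .nil .nil))) .nil)) (.node [(55,(.ofNat 1),1)] (.node [] (.node [] .nil (.node [(162,(.negSucc 0),1)] .nil .nil)) .nil) (.node [] (.node [] .nil (.node [(178,(.ofNat 1),1)] .nil .nil)) (.node [(151,(.ofNat 1),1)] .nil .nil))))) (.node [] (.node [] (.node [] (.node [] (.node [] (.node [] .nil (.node [(215,(.negSucc 0),1)] .nil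 .nil)) .nil) (.node [(118,(.ofNat 1),1)] .nil (.node [(184,(.ofNat 1),1)] .nil .nil))) (.node [(79,(.negSucc 0),1)] (.node [] .nil (.node [] .nil (.node [(246,(.ofNat 1),1)] .nil .nil))) .nil)) (.node [(46,(.ofNat 1),1)] (.node [] (.node [] .nil (.node [(160,(.ofNat 1),1)] .nil .nil)) (.node [(129,(.ofNat 1),1)] .nil .nil)) .nil)) (.node [(213,(.ofNat 1),1)] (.node [] (.node [] (.node [] (.node [] .nil (.node [(218,(.ofNat 1),1)] .nil .nil)) (.node [(156,(.negSucc 0),1)] .nil .nil)) .nil) .nil) (.node [] .nil (.node [(113,(.negSucc 0),1)] (.node [] .nil (.node [(180,(.negSucc 0),1)] .nil .nil)) (.node [(153,(.negSucc 0),1)] .nil .nil)))))))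
noncomputable def ex206 : Trie (List (ℕ × ℤ × ℕ)) := (.node [] (.node [] (.node [] (.node [] (.node [] (.node [] .nil (.node [(115,(.ofNat 1),1)] .nil (.node [(182,(.negSucc 0),1)] .nil .nil))) (.node [] (.node [] .nil (.node [] .nil (.node [(244,(.ofNat 1),1)] .nil .nil))) .nil)) (.node [(44,(.negSucc 0),1)] (.node [] (.node [] (.node [] .nil (.node [(220,(.ofNat 1),1)] .nil .nil)) .nil) (.node [] .nil (.node [(195,(.negSucc 0),1)] .nil .nil))) .nil)) (.node [] (.node [] (.node [] (.node [] (.node [] .nil (.node [(217,(.negSucc 0),1)] .nil .nil)) .nil) (.node [(120,(.negSucc 0),1)] .nil (.node [(188,(.negSucc 0),1)] .nil .nil))) (.node [(81,(.ofNat 1),1)] .nil .nil)) (.node [(50,(.negSucc 0),1)] (.node [] (.node [] (.node [] .nil (.node [(223,(.negSucc 0),1)] .nil .nil)) .nil) .nil) (.node [] (.node [] .nil (.node [(178,(.ofNat 1),1)] .nil .nil)) (.node [(151,(.ofNat 1),1)] .nil .nil))))) (.node [] (.node [] (.node [] .nil (.node [] (.node [] (.node [] .nil (.node [(228,(.ofNat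 1),1)] .nil .nil)) .nil) .nil)) (.node [] (.node [] (.node [] .nil (.node [(160,(.ofNat 1),1)] .nil .nil)) (.node [(128,(.ofNat 1),1)] .nil (.node [(204,(.negSucc 0),1)] .nil .nil))) (.node [(108,(.negSucc 0),1)] .nil .nil))) (.node [] (.node [] (.node [] (.node [] .nil (.node [(156,(.negSucc 0),1)] .nil .nil)) (.node [(123,(.ofNat 1),1)] .nil .nil)) (.node [(88,(.ofNat 1),1)] (.node [] .nil (.node [] .nil (.node [] .nil .nil))) .nil)) (.node [(66,(.negSucc 0),1)] (.node [] (.node [] .nil (.node [(166,(.ofNat 1),1)] .nil .nil)) (.node [] (.node [] .nil (.node [(235,(.negSucc 0),1)] .nil .nil)) .nil)) .nil)))) (.node [(214,(.negSucc 0),1)] (.node [] (.node [] .nil (.node [] (.node [] (.node [] .nil (.node [(159,(.ofNat 1),1)] .nil .nil)) (.node [(0,(.ofNat 1),1),(1,(.ofNat 2),1),(2,(.ofNat 2),1),(3,(.ofNat 3),1),(4,(.ofNat 2),1),(5,(.ofNat 1),1),(6,(.ofNat 1),1),(7,(.ofNat 1),1),(214,(.negSucc 0),2)] .nil (.node [(198,(.ofNat 1),1)] .nil .nil))) (.node [] (.node [] .nil (.node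 [(177,(.negSucc 0),1)] .nil .nil)) (.node [(150,(.negSucc 0),1)] .nil .nil)))) (.node [(214,(.ofNat 1),1)] (.node [] (.node [] .nil (.node [] .nil (.node [(192,(.ofNat 1),1)] .nil .nil))) .nil) (.node [(56,(.negSucc 0),1)] (.node [] (.node [] (.node [] .nil (.node [(224,(.negSucc 0),1)] .nil .nil)) (.node [(163,(.negSucc 0),1)] .nil (.node [(243,(.ofNat 1),1)] .nil .nil))) .nil) (.node [] .nil (.node [] (.node [] .nil (.node [(241,(.ofNat 1),1)] .nil .nil)) (.node [(212,(.negSucc 0),1)] .nil .nil)))))) (.node [] (.node [] (.node [] (.node [] (.node [] (.node [] .nil (.node [(216,(.negSucc 0),1)] .nil .nil)) (.node [(155,(.ofNat 1),1)] .nil .nil)) (.node [(119,(.negSucc 0),1)] .nil (.node [(185,(.ofNat 1),1)] .nil .nil))) (.node [(80,(.ofNat 1),1)] (.node [] (.node [] .nil (.node [(229,(.ofNat 1),1)] .nil .nil)) (.node [] .nil (.node [(247,(.ofNat 1),1)] .nil .nil))) (.node [(149,(.ofNat 1),1)] .nil .nil))) (.node [(47,(.negSucc 0),1)] (.node [] .nil (.node [(130,(.ofNat 1),1)]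 .nil .nil)) (.node [(109,(.negSucc 0),1)] .nil .nil))) (.node [(214,(.negSucc 0),1)] (.node [] (.node [] (.node [] (.node [] .nil (.node [(219,(.ofNat 1),1)] .nil .nil)) (.node [] .nil (.node [(242,(.ofNat 1),1)] .nil .nil))) (.node [(124,(.ofNat 1),1)] (.node [] .nil (.node [(233,(.negSucc 0),1)] .nil .nil)) .nil)) .nil) (.node [] (.node [] .nil (.node [] (.node [] .nil (.node [(236,(.negSucc 0),1)] .nil .nil)) .nil)) (.node [(114,(.ofNat 1),1)] (.node [] .nil (.node [(181,(.negSucc 0),1)] .nil .nil)) (.node [(154,(.negSucc 0),1)] .nil (.node [(213,(.negSucc 0),1)] .nil .nil))))))))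
noncomputable def ex207 : Trie (List (ℕ × ℤ × ℕ)) := (.node [] (.node [] (.node [] (.node [] (.node [] (.node [] (.node [] (.node [] .nil (.node [(216,(.negSucc 0),1)] .nil .nil)) .nil) .nil) (.node [] .nil (.node [] (.node [] .nil (.node [(237,(.ofNat 1),1)] .nil .nil)) .nil))) (.node [] (.node [] (.node [] .nil (.node [(158,(.ofNat 1),1)] .nil .nil)) (.node [(0,(.ofNat 1),1),(1,(.ofNat 2),1),(2,(.ofNat 2),1),(3,(.ofNat 3),1),(4,(.ofNat 2),1),(5,(.ofNat 2),1),(6,(.ofNat 1),1),(215,(.negSucc 0),2)] .nil .nil)) (.node [] (.node [] .nil (.node [(177,(.negSucc 0),1)] .nil .nil)) (.node [(150,(.negSucc 0),1)] .nil .nil)))) (.node [(215,(.ofNat 1),1)] (.node [] (.node [] .nil (.node [] .nil (.node [(189,(.negSucc 0),1)] .nil .nil))) (.node [] (.node [] (.node [] .nil (.node [(230,(.negSucc 0),1)] .nil .nil)) .nil) .nil)) (.node [(51,(.negSucc 0),1)] (.node [] (.node [] .nil (.node [(162,(.negSucc 0),1)] .nil (.node [(243,(.ofNat 1),1)] .nil .nil))) .nil) (.node [(110,(.ofNat 1),1)]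 .nil (.node [] (.node [] .nil (.node [(241,(.ofNat 1),1)] .nil .nil)) (.node [(213,(.negSucc 0),1)] .nil .nil)))))) (.node [] (.node [] (.node [] (.node [] (.node [] (.node [] .nil (.node [(217,(.ofNat 1),1)] .nil .nil)) (.node [(155,(.ofNat 1),1)] .nil .nil)) (.node [(118,(.ofNat 1),1)] .nil (.node [(184,(.ofNat 1),1)] .nil .nil))) (.node [(79,(.negSucc 0),1)] (.node [] .nil (.node [] .nil (.node [(246,(.negSucc 0),1)] .nil .nil))) (.node [(149,(.ofNat 1),1)] .nil .nil))) (.node [(46,(.ofNat 1),1)] (.node [] .nil (.node [(131,(.ofNat 1),1)] .nil (.node [(205,(.negSucc 0),1)] .nil .nil))) .nil)) (.node [] (.node [] (.node [] (.node [] (.node [] .nil (.node [(218,(.negSucc 0),1)] .nil .nil)) (.node [] .nil (.node [(242,(.ofNat 1),1)] .nil .nil))) (.node [(125,(.negSucc 0),1)] (.node [] .nil (.node [(233,(.negSucc 0),1)] .nil .nil)) (.node [(193,(.ofNat 1),1)] .nil .nil))) (.node [(89,(.ofNat 1),1)] .nil .nil)) (.node [(67,(.negSucc 0),1)] (.node [] (.node [] (.node [] .nil (.node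 [(225,(.ofNat 1),1)] .nil .nil)) (.node [(167,(.ofNat 1),1)] .nil .nil)) .nil) (.node [(113,(.negSucc 0),1)] (.node [] .nil (.node [(180,(.negSucc 0),1)] .nil .nil)) (.node [(153,(.negSucc 0),1)] .nil .nil)))))) (.node [(215,(.negSucc 0),1)] (.node [] (.node [] (.node [] (.node [] .nil (.node [(116,(.negSucc 0),1)] .nil (.node [(183,(.negSucc 0),1)] .nil .nil))) (.node [] (.node [] (.node [] .nil (.node [(227,(.negSucc 0),1)] .nil .nil)) (.node [] .nil (.node [(245,(.negSucc 0),1)] .nil .nil))) .nil)) (.node [(45,(.ofNat 1),1)] (.node [] (.node [] (.node [] .nil (.node [(221,(.negSucc 0),1)] .nil .nil)) .nil) (.node [] .nil (.node [(199,(.ofNat 1),1)] .nil .nil))) (.node [(107,(.ofNat 1),1)] .nil .nil))) (.node [(215,(.negSucc 0),1)] (.node [] (.node [] .nil (.node [(121,(.ofNat 1),1)] .nil .nil)) (.node [(82,(.negSucc 0),1)] .nil .nil)) (.node [(57,(.negSucc 0),1)] (.node [] .nil (.node [] (.node [] .nil (.node [(234,(.ofNat 1),1)] .nil .nil)) .nil)) (.node [] (.node [] .nil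 (.node [(179,(.ofNat 1),1)] .nil .nil)) (.node [(152,(.ofNat 1),1)] .nil .nil))))) (.node [] (.node [] .nil (.node [] (.node [] (.node [] (.node [] .nil (.node [(222,(.ofNat 1),1)] .nil .nil)) (.node [(161,(.ofNat 1),1)] .nil .nil)) (.node [(132,(.negSucc 0),1)] .nil .nil)) (.node [] .nil (.node [] .nil (.node [(212,(.ofNat 1),1)] .nil .nil))))) (.node [(215,(.ofNat 1),1)] (.node [] (.node [] (.node [] .nil (.node [(157,(.negSucc 0),1)] .nil .nil)) (.node [(127,(.ofNat 1),1)] .nil (.node [(194,(.negSucc 0),1)] .nil .nil))) (.node [] (.node [] .nil (.node [] .nil (.node [] .nil .nil))) .nil)) .nil))))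
noncomputable def ex208 : Trie (List (ℕ × ℤ × ℕ)) := (.node [] (.node [] (.node [] (.node [] (.node [] (.node [] .nil (.node [(116,(.negSucc 0),1)] .nil (.node [(183,(.negSucc 0),1)] .nil .nil))) (.node [] (.node [] .nil (.node [] .nil (.node [(245,(.ofNat 1),1)] .nil .nil))) .nil)) (.node [(45,(.ofNat 1),1)] (.node [] (.node [] (.node [] .nil (.node [(221,(.ofNat 1),1)] .nil .nil)) (.node [(159,(.ofNat 1),1)] .nil .nil)) (.node [(128,(.ofNat 1),1)] .nil .nil)) (.node [] (.node [] .nil (.node [] .nil (.node [] .nil .nil))) .nil))) (.node [(216,(.ofNat 1),1)] (.node [] (.node [] .nil (.node [(121,(.ofNat 1),1)] .nil (.node [(190,(.negSucc 0),1)] .nil .nil))) (.node [(82,(.negSucc 0),1)] .nil .nil)) (.node [(52,(.ofNat 1),1)] (.node [] (.node [] .nil (.node [(163,(.negSucc 0),1)] .nil .nil)) .nil) (.node [] (.node [] .nil (.node [(179,(.ofNat 1),1)] .nil .nil)) (.node [(152,(.ofNat 1),1)] .nil (.node [(214,(.negSucc 0),1)] .nil .nil)))))) (.node [] (.node [] (.node [] (.node []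 .nil (.node [(119,(.negSucc 0),1)] .nil (.node [(185,(.ofNat 1),1)] .nil .nil))) (.node [(80,(.ofNat 1),1)] (.node [] .nil (.node [] .nil (.node [(247,(.negSucc 0),1)] .nil .nil))) .nil)) (.node [(47,(.negSucc 0),1)] (.node [] (.node [] .nil (.node [(161,(.ofNat 1),1)] .nil .nil)) (.node [] .nil (.node [(206,(.negSucc 0),1)] .nil .nil))) (.node [] .nil (.node [] .nil (.node [(212,(.ofNat 1),1)] .nil .nil))))) (.node [(216,(.ofNat 1),1)] (.node [] (.node [] (.node [] (.node [] .nil (.node [(219,(.negSucc 0),1)] .nil .nil)) (.node [(157,(.negSucc 0),1)] .nil .nil)) (.node [(126,(.ofNat 1),1)] .nil .nil)) (.node [(90,(.negSucc 0),1)] .nil .nil)) (.node [(68,(.ofNat 1),1)] (.node [] (.node [] .nil (.node [(168,(.ofNat 1),1)] .nil .nil)) .nil) (.node [(114,(.ofNat 1),1)] (.node [] .nil (.node [(181,(.negSucc 0),1)] .nil .nil)) (.node [(154,(.negSucc 0),1)] .nil .nil)))))) (.node [(216,(.negSucc 0),1)] (.node [] (.node [] (.node [] (.node [] (.node [] (.node [] .nil (.node [(217,(.negSucc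 0),1)] .nil .nil)) (.node [(155,(.ofNat 1),1)] .nil .nil)) .nil) (.node [] (.node [] (.node [] .nil (.node [(228,(.negSucc 0),1)] .nil .nil)) .nil) (.node [(149,(.ofNat 1),1)] .nil .nil))) (.node [] (.node [] .nil (.node [(131,(.ofNat 1),1)] .nil (.node [(200,(.ofNat 1),1)] .nil .nil))) (.node [(108,(.negSucc 0),1)] .nil .nil))) (.node [(216,(.negSucc 0),1)] (.node [] (.node [] (.node [] .nil (.node [] .nil (.node [(242,(.negSucc 0),1)] .nil .nil))) (.node [] (.node [] .nil (.node [(233,(.ofNat 1),1)] .nil .nil)) (.node [(193,(.ofNat 1),1)] .nil .nil))) .nil) (.node [(58,(.ofNat 1),1)] (.node [] (.node [] (.node [] .nil (.node [(225,(.negSucc 0),1)] .nil .nil)) .nil) (.node [] (.node [] .nil (.node [(235,(.ofNat 1),1)] .nil .nil)) .nil)) .nil))) (.node [] (.node [] (.node [] .nil (.node [] (.node [] (.node [] .nil (.node [(230,(.ofNat 1),1)] .nil .nil)) .nil) .nil)) (.node [] (.node [] (.node [] (.node [] .nil (.node [(223,(.ofNat 1),1)] .nil .nil)) (.node [] .nil (.node [(243,(.negSucc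 0),1)] .nil .nil))) (.node [(133,(.negSucc 0),1)] .nil .nil)) (.node [(110,(.ofNat 1),1)] .nil (.node [] (.node [] .nil (.node [(241,(.negSucc 0),1)] .nil .nil)) .nil)))) (.node [(216,(.negSucc 0),1)] (.node [] (.node [] .nil (.node [(0,(.ofNat 1),1),(1,(.ofNat 2),1),(2,(.ofNat 2),1),(3,(.ofNat 3),1),(4,(.ofNat 2),1),(5,(.ofNat 2),1),(6,(.ofNat 1),1),(7,(.ofNat 1),1),(216,(.negSucc 0),2)] .nil (.node [(195,(.negSucc 0),1)] .nil .nil))) (.node [] (.node [] .nil (.node [(177,(.negSucc 0),1)] .nil .nil)) (.node [(150,(.negSucc 0),1)] .nil .nil))) (.node [] (.node [] .nil (.node [] (.node [] .nil (.node [(237,(.negSucc 0),1)] .nil .nil)) .nil)) (.node [] .nil (.node [] .nil (.node [(215,(.negSucc 0),1)] .nil .nil))))))))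
noncomputable def ex209 : Trie (List (ℕ × ℤ × ℕ)) := (.node [] (.node [] (.node [] (.node [] (.node [] (.node [] (.node [] .nil (.node [(155,(.ofNat 1),1)] .nil .nil)) (.node [] .nil (.node [(184,(.negSucc 0),1)] .nil .nil))) (.node [] (.node [] .nil (.node [] .nil (.node [(246,(.ofNat 1),1)] .nil .nil))) (.node [(149,(.ofNat 1),1)] .nil .nil))) (.node [(46,(.negSucc 0),1)] (.node [] .nil (.node [(130,(.negSucc 0),1)] .nil .nil)) .nil)) (.node [(217,(.ofNat 1),1)] (.node [] (.node [] (.node [] .nil (.node [] .nil (.node [(242,(.ofNat 1),1)] .nil .nil))) (.node [] (.node [] .nil (.node [(233,(.negSucc 0),1)] .nil .nil)) (.node [(191,(.negSucc 0),1)] .nil .nil))) .nil) (.node [(53,(.negSucc 0),1)] (.node [] (.node [] (.node [] .nil (.node [(225,(.ofNat 1),1)] .nil .nil)) .nil) .nil) (.node [] (.node [] .nil (.node [(180,(.ofNat 1),1)] .nil .nil)) (.node [(153,(.ofNat 1),1)] .nil .nil))))) (.node [] (.node [] (.node [] (.node [] .nil (.node [(120,(.ofNat 1),1)] .nil .nil)) (.node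 [(81,(.negSucc 0),1)] (.node [] (.node [] .nil (.node [(230,(.negSucc 0),1)] .nil .nil)) .nil) .nil)) (.node [] (.node [] (.node [] .nil (.node [(162,(.ofNat 1),1)] .nil (.node [(243,(.ofNat 1),1)] .nil .nil))) (.node [(133,(.negSucc 0),1)] .nil (.node [(207,(.negSucc 0),1)] .nil .nil))) (.node [(110,(.ofNat 1),1)] .nil (.node [] (.node [] .nil (.node [(241,(.ofNat 1),1)] .nil .nil)) (.node [(213,(.ofNat 1),1)] .nil .nil))))) (.node [(217,(.negSucc 0),1)] (.node [] (.node [] (.node [] (.node [] .nil (.node [(220,(.negSucc 0),1)] .nil .nil)) (.node [(158,(.negSucc 0),1)] .nil .nil)) (.node [(0,(.ofNat 1),1),(1,(.ofNat 2),1),(2,(.ofNat 2),1),(3,(.ofNat 3),1),(4,(.ofNat 2),1),(5,(.ofNat 2),1),(6,(.ofNat 2),1),(7,(.ofNat 1),1),(217,(.negSucc 0),2)] .nil (.node [(195,(.negSucc 0),1)] .nil .nil))) (.node [(91,(.ofNat 1),1)] (.node [] .nil (.node [(177,(.negSucc 0),1)] .nil .nil)) (.node [(150,(.negSucc 0),1)] .nil .nil))) (.node [(69,(.negSucc 0),1)] (.node [] (.node [] .nil (.node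 [(169,(.ofNat 1),1)] .nil .nil)) (.node [] (.node [] .nil (.node [(237,(.ofNat 1),1)] .nil .nil)) .nil)) (.node [(115,(.negSucc 0),1)] .nil (.node [] .nil (.node [(216,(.negSucc 0),1)] .nil .nil))))))) (.node [(217,(.negSucc 0),1)] (.node [] (.node [] (.node [] (.node [] .nil (.node [] .nil (.node [(185,(.ofNat 1),1)] .nil .nil))) (.node [] (.node [] (.node [] .nil (.node [(229,(.negSucc 0),1)] .nil .nil)) (.node [] .nil (.node [(247,(.ofNat 1),1)] .nil .nil))) .nil)) (.node [(47,(.negSucc 0),1)] (.node [] .nil (.node [(132,(.ofNat 1),1)] .nil (.node [(201,(.ofNat 1),1)] .nil .nil))) (.node [(109,(.ofNat 1),1)] (.node [] .nil (.node [] .nil (.node [] .nil .nil))) .nil))) (.node [] (.node [] (.node [] .nil (.node [] .nil (.node [(194,(.ofNat 1),1)] .nil .nil))) .nil) (.node [(59,(.negSucc 0),1)] (.node [] .nil (.node [] (.node [] .nil (.node [(236,(.ofNat 1),1)] .nil .nil)) .nil)) (.node [] (.node [] .nil (.node [(181,(.negSucc 0),1)] .nil .nil)) (.node [(154,(.negSucc 0),1)] .nil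 (.node [(215,(.ofNat 1),1)] .nil .nil)))))) (.node [] (.node [] (.node [] (.node [] .nil (.node [(121,(.ofNat 1),1)] .nil .nil)) (.node [(82,(.negSucc 0),1)] .nil .nil)) (.node [] (.node [] (.node [] (.node [] .nil (.node [(224,(.ofNat 1),1)] .nil .nil)) (.node [(163,(.negSucc 0),1)] .nil .nil)) .nil) (.node [] .nil (.node [] .nil (.node [(214,(.negSucc 0),1)] .nil .nil))))) (.node [] (.node [] (.node [] (.node [] (.node [] .nil (.node [(221,(.negSucc 0),1)] .nil .nil)) (.node [(159,(.ofNat 1),1)] .nil .nil)) (.node [(129,(.ofNat 1),1)] .nil .nil)) .nil) (.node [] .nil (.node [(116,(.negSucc 0),1)] .nil .nil))))))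
noncomputable def ex210 : Trie (List (ℕ × ℤ × ℕ)) := (.node [] (.node [] (.node [] (.node [] (.node [] (.node [] (.node [] (.node [] .nil (.node [(219,(.negSucc 0),1)] .nil .nil)) .nil) .nil) (.node [] (.node [] (.node [] .nil (.node [(227,(.ofNat 1),1)] .nil .nil)) .nil) (.node [] (.node [] .nil (.node [(238,(.ofNat 1),1)] .nil .nil)) .nil))) (.node [] (.node [] .nil (.node [(134,(.ofNat 1),1)] .nil (.node [(199,(.ofNat 1),1)] .nil .nil))) (.node [(107,(.ofNat 1),1)] (.node [] .nil (.node [(178,(.negSucc 0),1)] .nil .nil)) (.node [(151,(.negSucc 0),1)] .nil (.node [(213,(.ofNat 1),1)] .nil .nil))))) (.node [(218,(.negSucc 0),1)] (.node [] (.node [] (.node [] .nil (.node [(157,(.negSucc 0),1)] .nil .nil)) (.node [(127,(.ofNat 1),1)] .nil .nil)) (.node [] (.node [] (.node [] .nil (.node [(231,(.negSucc 0),1)] .nil .nil)) .nil) .nil)) (.node [] (.node [] (.node [] .nil (.node [(165,(.negSucc 0),1)] .nil (.node [(244,(.ofNat 1),1)] .nil .nil))) (.node [] (.node [] .nil (.node [(234,(.negSucc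 0),1)] .nil .nil)) .nil)) (.node [(111,(.negSucc 0),1)] .nil .nil)))) (.node [] (.node [] (.node [] (.node [] (.node [] (.node [] .nil (.node [(220,(.ofNat 1),1)] .nil .nil)) (.node [(156,(.ofNat 1),1)] .nil .nil)) (.node [(122,(.ofNat 1),1)] .nil (.node [(187,(.ofNat 1),1)] .nil .nil))) .nil) (.node [(49,(.negSucc 0),1)] (.node [] (.node [] (.node [] .nil (.node [(222,(.negSucc 0),1)] .nil .nil)) .nil) (.node [(135,(.negSucc 0),1)] .nil (.node [(208,(.negSucc 0),1)] .nil .nil))) (.node [] (.node [] .nil (.node [(179,(.ofNat 1),1)] .nil (.node [] .nil .nil))) (.node [(152,(.ofNat 1),1)] .nil .nil)))) (.node [] (.node [] (.node [] .nil (.node [] .nil (.node [(196,(.ofNat 1),1)] .nil .nil))) (.node [(92,(.negSucc 0),1)] .nil .nil)) (.node [(70,(.ofNat 1),1)] (.node [] (.node [] (.node [] .nil (.node [(226,(.ofNat 1),1)] .nil .nil)) (.node [] .nil (.node [(245,(.ofNat 1),1)] .nil .nil))) .nil) .nil)))) (.node [(218,(.negSucc 0),1)] (.node [] (.node [] (.node [] (.node [] .nil (.node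 [(117,(.ofNat 1),1)] .nil (.node [(186,(.negSucc 0),1)] .nil .nil))) (.node [(79,(.negSucc 0),1)] .nil .nil)) (.node [(48,(.negSucc 0),1)] .nil (.node [] .nil (.node [] (.node [] .nil (.node [(241,(.negSucc 0),1)] .nil .nil)) (.node [(215,(.negSucc 0),1)] .nil .nil))))) (.node [] (.node [] (.node [] (.node [] (.node [] .nil (.node [(221,(.negSucc 0),1)] .nil .nil)) (.node [(158,(.ofNat 1),1)] .nil .nil)) (.node [(0,(.ofNat 1),1),(1,(.ofNat 2),1),(2,(.ofNat 2),1),(3,(.ofNat 3),1),(4,(.ofNat 3),1),(5,(.ofNat 2),1),(6,(.ofNat 1),1),(218,(.negSucc 0),2)] .nil .nil)) (.node [(83,(.ofNat 1),1)] .nil .nil)) (.node [(60,(.ofNat 1),1)] (.node [] (.node [] .nil (.node [(167,(.ofNat 1),1)] .nil .nil)) .nil) (.node [(113,(.negSucc 0),1)] .nil .nil)))) (.node [(218,(.ofNat 1),1)] (.node [] (.node [] (.node [] (.node [] .nil (.node [] .nil (.node [(242,(.negSucc 0),1)] .nil .nil))) (.node [(125,(.negSucc 0),1)] (.node [] .nil (.node [(233,(.ofNat 1),1)] .nil .nil)) (.node [(189,(.negSucc 0),1)]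 .nil .nil))) .nil) (.node [(51,(.negSucc 0),1)] (.node [] (.node [] .nil (.node [(164,(.ofNat 1),1)] .nil .nil)) (.node [(136,(.ofNat 1),1)] .nil .nil)) (.node [] (.node [] .nil (.node [(180,(.negSucc 0),1)] .nil .nil)) (.node [(153,(.negSucc 0),1)] .nil .nil)))) (.node [(218,(.ofNat 1),1)] (.node [] (.node [] .nil (.node [] .nil (.node [(197,(.negSucc 0),1)] .nil .nil))) (.node [] .nil (.node [] .nil (.node [(212,(.negSucc 0),1)] .nil .nil)))) (.node [] (.node [] (.node [] .nil (.node [] .nil (.node [(246,(.ofNat 1),1)] .nil .nil))) (.node [(149,(.ofNat 1),1)] .nil .nil)) .nil)))))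
noncomputable def ex211 : Trie (List (ℕ × ℤ × ℕ)) := (.node [] (.node [] (.node [] (.node [] (.node [] (.node [] .nil (.node [(117,(.ofNat 1),1)] .nil (.node [(186,(.negSucc 0),1)] .nil .nil))) (.node [] (.node [] (.node [] .nil (.node [(228,(.ofNat 1),1)] .nil .nil)) .nil) .nil)) (.node [(48,(.negSucc 0),1)] (.node [] .nil (.node [] .nil (.node [(200,(.ofNat 1),1)] .nil .nil))) (.node [(108,(.negSucc 0),1)] .nil (.node [] (.node [] .nil (.node [(241,(.ofNat 1),1)] .nil .nil)) (.node [(214,(.ofNat 1),1)] .nil .nil))))) (.node [(219,(.negSucc 0),1)] (.node [] (.node [] (.node [] (.node [] .nil (.node [(221,(.ofNat 1),1)] .nil .nil)) .nil) (.node [(0,(.ofNat 1),1),(1,(.ofNat 2),1),(2,(.ofNat 2),1),(3,(.ofNat 3),1),(4,(.ofNat 3),1),(5,(.ofNat 2),1),(6,(.ofNat 1),1),(7,(.ofNat 1),1),(219,(.negSucc 0),2)] .nil .nil)) (.node [(83,(.ofNat 1),1)] .nil .nil)) (.node [] (.node [] (.node [] .nil (.node [(166,(.negSucc 0),1)] .nil .nil)) (.node [] (.node [] .nil (.node [(235,(.negSucc 0),1)]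 .nil .nil)) .nil)) .nil))) (.node [] (.node [] (.node [] (.node [] (.node [] .nil (.node [] .nil (.node [(242,(.ofNat 1),1)] .nil .nil))) (.node [(123,(.negSucc 0),1)] (.node [] .nil (.node [(233,(.negSucc 0),1)] .nil .nil)) (.node [(188,(.ofNat 1),1)] .nil .nil))) .nil) (.node [(50,(.ofNat 1),1)] (.node [] (.node [] (.node [] .nil (.node [(223,(.negSucc 0),1)] .nil .nil)) (.node [(164,(.ofNat 1),1)] .nil .nil)) (.node [] .nil (.node [(209,(.negSucc 0),1)] .nil .nil))) .nil)) (.node [(219,(.ofNat 1),1)] (.node [] .nil (.node [(93,(.ofNat 1),1)] .nil (.node [] .nil (.node [(212,(.negSucc 0),1)] .nil .nil)))) (.node [(71,(.negSucc 0),1)] (.node [] .nil (.node [(149,(.ofNat 1),1)] .nil .nil)) .nil)))) (.node [(219,(.negSucc 0),1)] (.node [] (.node [] (.node [] (.node [] (.node [] (.node [] .nil (.node [(220,(.negSucc 0),1)] .nil .nil)) (.node [(156,(.ofNat 1),1)] .nil .nil)) .nil) (.node [(80,(.ofNat 1),1)] .nil .nil)) (.node [] (.node [] .nil (.node [(135,(.negSucc 0),1)] .nil .nil))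 (.node [] (.node [] .nil (.node [(179,(.ofNat 1),1)] .nil .nil)) (.node [(152,(.ofNat 1),1)] .nil (.node [(216,(.negSucc 0),1)] .nil .nil))))) (.node [] (.node [] (.node [] (.node [] .nil (.node [(159,(.ofNat 1),1)] .nil .nil)) (.node [(128,(.ofNat 1),1)] .nil (.node [(196,(.ofNat 1),1)] .nil .nil))) .nil) (.node [(61,(.negSucc 0),1)] (.node [] (.node [] (.node [] .nil (.node [(226,(.negSucc 0),1)] .nil .nil)) (.node [(168,(.ofNat 1),1)] .nil (.node [(245,(.negSucc 0),1)] .nil .nil))) .nil) (.node [(114,(.ofNat 1),1)] .nil .nil)))) (.node [(219,(.ofNat 1),1)] (.node [] (.node [] (.node [] (.node [] .nil (.node [(157,(.negSucc 0),1)] .nil .nil)) (.node [(126,(.ofNat 1),1)] .nil (.node [(190,(.negSucc 0),1)] .nil .nil))) (.node [] (.node [] (.node [] .nil (.node [(231,(.ofNat 1),1)] .nil .nil)) .nil) .nil)) (.node [(52,(.ofNat 1),1)] (.node [] (.node [] .nil (.node [] .nil (.node [(244,(.negSucc 0),1)] .nil .nil))) (.node [(137,(.ofNat 1),1)] .nil .nil)) (.node [(111,(.negSucc 0),1)]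 (.node [] .nil (.node [(181,(.negSucc 0),1)] .nil (.node [] .nil .nil))) (.node [(154,(.negSucc 0),1)] .nil .nil)))) (.node [(219,(.negSucc 0),1)] (.node [] (.node [] .nil (.node [(134,(.ofNat 1),1)] .nil (.node [(198,(.negSucc 0),1)] .nil .nil))) (.node [] (.node [] .nil (.node [(178,(.negSucc 0),1)] .nil .nil)) (.node [(151,(.negSucc 0),1)] .nil .nil))) (.node [] (.node [] (.node [] .nil (.node [] .nil (.node [(247,(.ofNat 1),1)] .nil .nil))) (.node [] (.node [] .nil (.node [(238,(.negSucc 0),1)] .nil .nil)) .nil)) (.node [] .nil (.node [] .nil (.node [(218,(.negSucc 0),1)] .nil .nil))))))))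
noncomputable def ex212 : Trie (List (ℕ × ℤ × ℕ)) := (.node [] (.node [] (.node [] (.node [] (.node [] (.node [] (.node [] .nil (.node [(156,(.ofNat 1),1)] .nil .nil)) (.node [] .nil (.node [(187,(.negSucc 0),1)] .nil .nil))) (.node [] (.node [] (.node [] .nil (.node [(229,(.ofNat 1),1)] .nil .nil)) .nil) .nil)) (.node [(49,(.ofNat 1),1)] (.node [] .nil (.node [] .nil (.node [(201,(.ofNat 1),1)] .nil .nil))) (.node [(109,(.ofNat 1),1)] .nil .nil))) (.node [(220,(.negSucc 0),1)] (.node [] (.node [] (.node [] .nil (.node [(159,(.ofNat 1),1)] .nil .nil)) (.node [(129,(.ofNat 1),1)] .nil .nil)) .nil) (.node [] (.node [] (.node [] (.node [] .nil (.node [(226,(.ofNat 1),1)] .nil .nil)) .nil) (.node [] (.node [] .nil (.node [(236,(.negSucc 0),1)] .nil .nil)) .nil)) (.node [] (.node [] .nil (.node [] .nil (.node [] .nil .nil))) .nil)))) (.node [] (.node [] (.node [] (.node [] .nil (.node [(124,(.ofNat 1),1)] .nil .nil)) (.node [] (.node [] (.node [] .nil (.node [(231,(.negSucc 0),1)]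 .nil .nil)) .nil) .nil)) (.node [] (.node [] (.node [] (.node [] .nil (.node [(224,(.negSucc 0),1)] .nil .nil)) (.node [(165,(.ofNat 1),1)] .nil (.node [(244,(.ofNat 1),1)] .nil .nil))) (.node [(137,(.ofNat 1),1)] .nil (.node [(210,(.negSucc 0),1)] .nil .nil))) (.node [(111,(.negSucc 0),1)] (.node [] .nil (.node [(181,(.negSucc 0),1)] .nil .nil)) (.node [(154,(.negSucc 0),1)] .nil .nil)))) (.node [(220,(.negSucc 0),1)] (.node [] (.node [] .nil (.node [(134,(.ofNat 1),1)] .nil (.node [(198,(.negSucc 0),1)] .nil .nil))) (.node [(94,(.negSucc 0),1)] (.node [] .nil (.node [(178,(.negSucc 0),1)] .nil .nil)) (.node [(151,(.negSucc 0),1)] .nil (.node [(213,(.negSucc 0),1)] .nil .nil)))) (.node [(72,(.ofNat 1),1)] (.node [] (.node [] .nil (.node [] .nil (.node [(247,(.negSucc 0),1)] .nil .nil))) (.node [] (.node [] .nil (.node [(238,(.ofNat 1),1)] .nil .nil)) .nil)) (.node [] .nil (.node [] .nil (.node [(219,(.negSucc 0),1)] .nil .nil))))))) (.node [(220,(.negSucc 0),1)] (.node [] (.node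 [] (.node [] (.node [] (.node [] .nil (.node [] .nil (.node [(242,(.negSucc 0),1)] .nil .nil))) (.node [] (.node [] .nil (.node [(233,(.ofNat 1),1)] .nil .nil)) (.node [(188,(.ofNat 1),1)] .nil .nil))) (.node [(81,(.negSucc 0),1)] .nil .nil)) (.node [(50,(.ofNat 1),1)] (.node [] .nil (.node [(136,(.negSucc 0),1)] .nil .nil)) (.node [] (.node [] .nil (.node [(180,(.ofNat 1),1)] .nil .nil)) (.node [(153,(.ofNat 1),1)] .nil (.node [(217,(.negSucc 0),1)] .nil .nil))))) (.node [(220,(.ofNat 1),1)] (.node [] (.node [] .nil (.node [(130,(.negSucc 0),1)] .nil (.node [(197,(.ofNat 1),1)] .nil .nil))) .nil) (.node [(62,(.ofNat 1),1)] (.node [] (.node [] .nil (.node [(169,(.ofNat 1),1)] .nil (.node [(246,(.negSucc 0),1)] .nil .nil))) (.node [(149,(.ofNat 1),1)] .nil .nil)) (.node [(115,(.negSucc 0),1)] .nil (.node [] .nil (.node [(218,(.ofNat 1),1)] .nil .nil)))))) (.node [(220,(.ofNat 1),1)] (.node [] (.node [] (.node [] (.node [] (.node [] .nil (.node [(221,(.negSucc 0),1)] .nil .nil))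 (.node [(158,(.negSucc 0),1)] .nil .nil)) (.node [(0,(.ofNat 1),1),(1,(.ofNat 2),1),(2,(.ofNat 2),1),(3,(.ofNat 3),1),(4,(.ofNat 3),1),(5,(.ofNat 2),1),(6,(.ofNat 2),1),(7,(.ofNat 1),1),(220,(.negSucc 0),2)] .nil (.node [(191,(.negSucc 0),1)] .nil .nil))) (.node [(83,(.ofNat 1),1)] .nil .nil)) (.node [(53,(.negSucc 0),1)] (.node [] (.node [] .nil (.node [(166,(.negSucc 0),1)] .nil .nil)) .nil) .nil)) (.node [] (.node [] .nil (.node [] .nil (.node [] (.node [] .nil (.node [(241,(.negSucc 0),1)] .nil .nil)) (.node [(214,(.ofNat 1),1)] .nil .nil)))) (.node [] .nil (.node [(117,(.ofNat 1),1)] .nil .nil))))))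
noncomputable def ex213 : Trie (List (ℕ × ℤ × ℕ)) := (.node [] (.node [] (.node [] (.node [] (.node [] (.node [] (.node [] .nil (.node [(157,(.ofNat 1),1)] .nil (.node [(242,(.ofNat 1),1)] .nil .nil))) (.node [] (.node [] .nil (.node [(233,(.negSucc 0),1)] .nil .nil)) (.node [(189,(.negSucc 0),1)] .nil .nil))) (.node [] (.node [] (.node [] .nil (.node [(230,(.ofNat 1),1)] .nil .nil)) .nil) .nil)) (.node [(51,(.negSucc 0),1)] (.node [] .nil (.node [(137,(.ofNat 1),1)] .nil .nil)) (.node [(110,(.negSucc 0),1)] (.node [] .nil (.node [(181,(.negSucc 0),1)] .nil .nil)) (.node [(154,(.negSucc 0),1)] .nil (.node [(217,(.negSucc 0),1)] .nil .nil))))) (.node [] (.node [] (.node [] .nil (.node [(132,(.negSucc 0),1)] .nil .nil)) .nil) (.node [] (.node [] (.node [] .nil (.node [(169,(.ofNat 1),1)] .nil (.node [(247,(.ofNat 1),1)] .nil .nil))) (.node [(149,(.ofNat 1),1)] (.node [] .nil (.node [(237,(.negSucc 0),1)] .nil .nil)) .nil)) (.node [] .nil (.node [] .nil (.node [(220,(.negSucc 0),1)]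 .nil .nil)))))) (.node [] (.node [] (.node [] (.node [] (.node [] .nil (.node [(159,(.ofNat 1),1)] .nil .nil)) (.node [(0,(.ofNat 1),1),(1,(.ofNat 2),1),(2,(.ofNat 2),1),(3,(.ofNat 3),1),(4,(.ofNat 3),1),(5,(.ofNat 3),1),(6,(.ofNat 2),1),(7,(.ofNat 1),1),(221,(.negSucc 0),2)] .nil (.node [(191,(.negSucc 0),1)] .nil .nil))) (.node [(83,(.ofNat 1),1)] .nil .nil)) (.node [(53,(.negSucc 0),1)] (.node [] (.node [] (.node [] .nil (.node [(225,(.negSucc 0),1)] .nil .nil)) (.node [(167,(.ofNat 1),1)] .nil (.node [(245,(.ofNat 1),1)] .nil .nil))) (.node [] .nil (.node [(211,(.negSucc 0),1)] .nil .nil))) (.node [] .nil (.node [] .nil (.node [(218,(.negSucc 0),1)] .nil .nil))))) (.node [] (.node [] (.node [] .nil (.node [(135,(.ofNat 1),1)] .nil (.node [(200,(.negSucc 0),1)] .nil .nil))) (.node [(95,(.ofNat 1),1)] (.node [] .nil (.node [(179,(.negSucc 0),1)] .nil .nil)) (.node [(152,(.negSucc 0),1)] (.node [] .nil (.node [(241,(.ofNat 1),1)] .nil .nil)) (.node [(215,(.negSucc 0),1)] .nil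 .nil)))) (.node [(73,(.negSucc 0),1)] .nil (.node [(117,(.ofNat 1),1)] .nil .nil))))) (.node [(221,(.negSucc 0),1)] (.node [] (.node [] (.node [] (.node [] (.node [] .nil (.node [(158,(.negSucc 0),1)] .nil .nil)) (.node [] .nil (.node [(190,(.ofNat 1),1)] .nil .nil))) (.node [(82,(.ofNat 1),1)] (.node [] (.node [] .nil (.node [(231,(.ofNat 1),1)] .nil .nil)) .nil) .nil)) (.node [(52,(.negSucc 0),1)] .nil (.node [(111,(.negSucc 0),1)] .nil .nil))) (.node [(221,(.negSucc 0),1)] (.node [] (.node [] .nil (.node [(133,(.ofNat 1),1)] .nil (.node [(199,(.ofNat 1),1)] .nil .nil))) .nil) (.node [(63,(.negSucc 0),1)] (.node [] .nil (.node [] (.node [] .nil (.node [(238,(.negSucc 0),1)] .nil .nil)) .nil)) (.node [(116,(.ofNat 1),1)] (.node [] .nil (.node [] .nil (.node [] .nil .nil))) .nil)))) (.node [(221,(.ofNat 1),1)] (.node [] (.node [] (.node [] .nil (.node [(131,(.ofNat 1),1)] .nil .nil)) .nil) (.node [] (.node [] (.node [] (.node [] .nil (.node [(226,(.negSucc 0),1)] .nil .nil)) (.node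 [(168,(.negSucc 0),1)] .nil (.node [(246,(.ofNat 1),1)] .nil .nil))) .nil) (.node [] .nil (.node [] .nil (.node [(219,(.ofNat 1),1)] .nil .nil))))) (.node [] (.node [] (.node [] .nil (.node [(136,(.negSucc 0),1)] .nil (.node [(201,(.ofNat 1),1)] .nil .nil))) (.node [] (.node [] .nil (.node [(180,(.ofNat 1),1)] .nil .nil)) (.node [(153,(.ofNat 1),1)] .nil (.node [(216,(.ofNat 1),1)] .nil .nil)))) .nil))))
noncomputable def ex214 : Trie (List (ℕ × ℤ × ℕ)) := (.node [] (.node [] (.node [] (.node [] (.node [] (.node [] (.node [] (.node [] .nil (.node [(223,(.negSucc 0),1)] .nil .nil)) .nil) (.node [(127,(.ofNat 1),1)] .nil .nil)) (.node [(79,(.negSucc 0),1)] .nil (.node [] (.node [] .nil (.node [(239,(.ofNat 1),1)] .nil .nil)) .nil))) (.node [] (.node [] (.node [] .nil (.node [(165,(.negSucc 0),1)] .nil (.node [(245,(.negSucc 0),1)] .nil .nil))) (.node [(139,(.negSucc 0),1)] .nil (.node [(205,(.ofNat 1),1)] .nil .nil))) (.node [] (.node [] .nil (.node [(182,(.negSucc 0),1)] .nil .nil))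 .nil))) (.node [] (.node [] (.node [] (.node [] .nil (.node [(161,(.negSucc 0),1)] .nil .nil)) .nil) (.node [] (.node [] (.node [] .nil (.node [(232,(.negSucc 0),1)] .nil .nil)) .nil) (.node [(152,(.ofNat 1),1)] .nil (.node [(215,(.ofNat 1),1)] .nil .nil)))) (.node [(60,(.ofNat 1),1)] .nil (.node [(112,(.ofNat 1),1)] .nil .nil)))) (.node [(222,(.ofNat 1),1)] (.node [] (.node [] (.node [] (.node [] (.node [] .nil (.node [(224,(.ofNat 1),1)] .nil .nil)) (.node [(160,(.ofNat 1),1)] .nil .nil)) .nil) (.node [] .nil (.node [(151,(.negSucc 0),1)] .nil (.node [(212,(.ofNat 1),1)] .nil .nil)))) (.node [(55,(.ofNat 1),1)] (.node [] .nil (.node [(140,(.ofNat 1),1)] .nil .nil)) (.node [] (.node [] .nil (.node [(183,(.ofNat 1),1)] .nil .nil)) .nil))) (.node [] (.node [] (.node [] (.node [] .nil (.node [] .nil (.node [(244,(.negSucc 0),1)] .nil .nil))) (.node [] .nil (.node [(202,(.ofNat 1),1)] .nil .nil))) (.node [(96,(.ofNat 1),1)] .nil .nil)) (.node [(74,(.negSucc 0),1)] .nil (.node [(122,(.ofNat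 1),1)] (.node [] .nil (.node [(187,(.ofNat 1),1)] .nil (.node [] .nil .nil))) .nil))))) (.node [] (.node [] (.node [] (.node [] (.node [] .nil (.node [(0,(.ofNat 1),1),(1,(.ofNat 2),1),(2,(.ofNat 2),1),(3,(.ofNat 4),1),(4,(.ofNat 3),1),(5,(.ofNat 2),1),(6,(.ofNat 1),1),(222,(.negSucc 0),2)] .nil .nil)) .nil) (.node [(54,(.ofNat 1),1)] (.node [] (.node [] (.node [] .nil (.node [(226,(.ofNat 1),1)] .nil .nil)) (.node [(167,(.ofNat 1),1)] .nil (.node [(246,(.negSucc 0),1)] .nil .nil))) (.node [] .nil (.node [(208,(.negSucc 0),1)] .nil .nil))) .nil)) (.node [] (.node [] (.node [] (.node [] (.node [] .nil (.node [(225,(.negSucc 0),1)] .nil .nil)) (.node [(162,(.ofNat 1),1)] .nil .nil)) (.node [(138,(.ofNat 1),1)] .nil .nil)) (.node [(84,(.negSucc 0),1)] .nil (.node [(153,(.negSucc 0),1)] (.node [] .nil (.node [(241,(.ofNat 1),1)] .nil .nil)) (.node [(218,(.negSucc 0),1)] .nil .nil)))) (.node [] .nil (.node [(118,(.negSucc 0),1)] (.node [] .nil (.node [(186,(.negSucc 0),1)] .nil .nil))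 .nil)))) (.node [(222,(.negSucc 0),1)] (.node [] (.node [] (.node [] (.node [] .nil (.node [] .nil (.node [(243,(.negSucc 0),1)] .nil .nil))) .nil) (.node [] .nil (.node [] .nil (.node [(213,(.negSucc 0),1)] .nil .nil)))) (.node [(57,(.ofNat 1),1)] (.node [] .nil (.node [(141,(.negSucc 0),1)] (.node [] .nil (.node [(234,(.ofNat 1),1)] .nil .nil)) .nil)) (.node [] (.node [] .nil (.node [(184,(.negSucc 0),1)] .nil .nil)) .nil))) (.node [(222,(.ofNat 1),1)] (.node [] (.node [] (.node [] .nil (.node [(164,(.ofNat 1),1)] .nil .nil)) (.node [] .nil (.node [(203,(.negSucc 0),1)] .nil .nil))) (.node [(107,(.ofNat 1),1)] .nil .nil)) (.node [] (.node [] (.node [] (.node [] .nil (.node [(227,(.negSucc 0),1)] .nil .nil)) .nil) (.node [(150,(.ofNat 1),1)] .nil .nil)) (.node [(125,(.negSucc 0),1)] (.node [] (.node [] .nil (.node [(233,(.negSucc 0),1)] .nil .nil)) (.node [(189,(.negSucc 0),1)] .nil .nil)) .nil))))))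
noncomputable def ex215 : Trie (List (ℕ × ℤ × ℕ)) := (.node [] (.node [] (.node [] (.node [] (.node [] (.node [] .nil (.node [(0,(.ofNat 1),1),(1,(.ofNat 2),1),(2,(.ofNat 2),1),(3,(.ofNat 4),1),(4,(.ofNat 3),1),(5,(.ofNat 2),1),(6,(.ofNat 1),1),(7,(.ofNat 1),1),(223,(.negSucc 0),2)] .nil .nil)) (.node [(80,(.ofNat 1),1)] .nil .nil)) (.node [(54,(.ofNat 1),1)] (.node [] (.node [] (.node [] .nil (.node [(226,(.negSucc 0),1)] .nil .nil)) (.node [(166,(.negSucc 0),1)] .nil .nil)) (.node [] .nil (.node [(206,(.ofNat 1),1)] .nil .nil))) .nil)) (.node [] (.node [] (.node [] (.node [] (.node [] .nil (.node [(225,(.ofNat 1),1)] .nil .nil)) .nil) (.node [(138,(.ofNat 1),1)] .nil .nil)) (.node [(84,(.negSucc 0),1)] .nil (.node [] (.node [] .nil (.node [(241,(.negSucc 0),1)] .nil .nil)) (.node [(216,(.ofNat 1),1)] .nil .nil)))) (.node [(61,(.negSucc 0),1)] .nil (.node [] (.node [] .nil (.node [(186,(.negSucc 0),1)] .nil .nil)) .nil)))) (.node [(223,(.ofNat 1),1)] (.node [] (.node [] (.node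 [] (.node [] .nil (.node [] .nil (.node [(243,(.ofNat 1),1)] .nil .nil))) .nil) .nil) (.node [(56,(.negSucc 0),1)] .nil .nil)) (.node [(223,(.ofNat 1),1)] (.node [] (.node [] (.node [] .nil (.node [(164,(.ofNat 1),1)] .nil .nil)) .nil) (.node [(97,(.negSucc 0),1)] .nil .nil)) (.node [(75,(.ofNat 1),1)] (.node [] .nil (.node [(150,(.ofNat 1),1)] .nil .nil)) (.node [(123,(.negSucc 0),1)] (.node [] (.node [] .nil (.node [(233,(.ofNat 1),1)] .nil .nil)) (.node [(188,(.ofNat 1),1)] .nil .nil)) .nil))))) (.node [] (.node [] (.node [] (.node [] (.node [] (.node [] (.node [] .nil (.node [(224,(.negSucc 0),1)] .nil .nil)) (.node [(160,(.ofNat 1),1)] .nil .nil)) (.node [(128,(.ofNat 1),1)] .nil .nil)) (.node [] .nil (.node [(151,(.negSucc 0),1)] .nil (.node [(212,(.ofNat 1),1)] .nil .nil)))) (.node [] (.node [] (.node [] .nil (.node [(168,(.ofNat 1),1)] .nil (.node [(247,(.negSucc 0),1)] .nil .nil))) (.node [(140,(.ofNat 1),1)] .nil (.node [(209,(.negSucc 0),1)] .nil .nil))) (.node [] (.node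 [] .nil (.node [(183,(.ofNat 1),1)] .nil .nil)) .nil))) (.node [] (.node [] (.node [] (.node [] .nil (.node [(163,(.ofNat 1),1)] .nil (.node [(244,(.ofNat 1),1)] .nil .nil))) (.node [] .nil (.node [(202,(.ofNat 1),1)] .nil .nil))) (.node [] .nil (.node [(154,(.negSucc 0),1)] .nil (.node [(219,(.negSucc 0),1)] .nil .nil)))) (.node [] .nil (.node [(119,(.ofNat 1),1)] .nil .nil)))) (.node [(223,(.negSucc 0),1)] (.node [] (.node [] (.node [] (.node [] .nil (.node [(161,(.negSucc 0),1)] .nil .nil)) .nil) (.node [] (.node [] (.node [] .nil (.node [(232,(.ofNat 1),1)] .nil .nil)) .nil) (.node [(152,(.ofNat 1),1)] .nil (.node [(214,(.negSucc 0),1)] .nil .nil)))) (.node [(58,(.negSucc 0),1)] (.node [] .nil (.node [(142,(.negSucc 0),1)] (.node [] .nil (.node [(235,(.ofNat 1),1)] .nil .nil)) .nil)) (.node [(112,(.ofNat 1),1)] (.node [] .nil (.node [(185,(.negSucc 0),1)] .nil .nil)) .nil))) (.node [(223,(.negSucc 0),1)] (.node [] (.node [] (.node [] .nil (.node [] .nil (.node [(245,(.ofNat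 1),1)] .nil .nil))) (.node [(139,(.negSucc 0),1)] .nil (.node [(204,(.negSucc 0),1)] .nil .nil))) (.node [(108,(.negSucc 0),1)] (.node [] .nil (.node [(182,(.negSucc 0),1)] .nil .nil)) .nil)) (.node [] (.node [] (.node [] (.node [] .nil (.node [(228,(.negSucc 0),1)] .nil .nil)) .nil) (.node [] (.node [] .nil (.node [(239,(.negSucc 0),1)] .nil .nil)) .nil)) (.node [(126,(.ofNat 1),1)] (.node [] .nil (.node [(190,(.negSucc 0),1)] .nil (.node [] .nil .nil))) (.node [] .nil (.node [(222,(.negSucc 0),1)] .nil .nil))))))))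
noncomputable def ex216 : Trie (List (ℕ × ℤ × ℕ)) := (.node [] (.node [] (.node [] (.node [] (.node [] (.node [] (.node [] .nil (.node [(160,(.ofNat 1),1)] .nil .nil)) (.node [(129,(.ofNat 1),1)] .nil (.node [] .nil (.node [] .nil .nil)))) (.node [(81,(.negSucc 0),1)] .nil (.node [(151,(.negSucc 0),1)] .nil .nil))) (.node [(55,(.negSucc 0),1)] (.node [] (.node [] .nil (.node [] .nil (.node [(247,(.ofNat 1),1)] .nil .nil))) (.node [] .nil (.node [(207,(.ofNat 1),1)] .nil .nil))) .nil)) (.node [] (.node [] (.node [] (.node [] .nil (.node [(163,(.ofNat 1),1)] .nil (.node [(244,(.negSucc 0),1)] .nil .nil))) .nil) (.node [] .nil (.node [(154,(.negSucc 0),1)] .nil (.node [(217,(.ofNat 1),1)] .nil .nil)))) (.node [(62,(.ofNat 1),1)] .nil (.node [] (.node [] .nil (.node [(187,(.negSucc 0),1)] .nil .nil)) .nil)))) (.node [(224,(.ofNat 1),1)] (.node [] (.node [] .nil (.node [] (.node [] (.node [] .nil (.node [(232,(.negSucc 0),1)] .nil .nil)) .nil) (.node [] .nil (.node [(214,(.negSucc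 0),1)] .nil .nil)))) (.node [] (.node [] .nil (.node [(142,(.negSucc 0),1)] .nil .nil)) (.node [(112,(.ofNat 1),1)] (.node [] .nil (.node [(185,(.negSucc 0),1)] .nil .nil)) .nil))) (.node [(224,(.negSucc 0),1)] (.node [] (.node [] (.node [] .nil (.node [(165,(.ofNat 1),1)] .nil .nil)) (.node [(139,(.negSucc 0),1)] .nil (.node [(204,(.negSucc 0),1)] .nil .nil))) (.node [(98,(.ofNat 1),1)] (.node [] .nil (.node [(182,(.negSucc 0),1)] .nil .nil)) .nil)) (.node [(76,(.negSucc 0),1)] (.node [] .nil (.node [] (.node [] .nil (.node [(239,(.ofNat 1),1)] .nil .nil)) .nil)) (.node [(124,(.ofNat 1),1)] .nil (.node [] .nil (.node [(223,(.negSucc 0),1)] .nil .nil))))))) (.node [] (.node [] (.node [] (.node [] (.node [] (.node [] .nil (.node [] .nil (.node [(243,(.negSucc 0),1)] .nil .nil))) (.node [(130,(.negSucc 0),1)] .nil .nil)) (.node [] .nil (.node [] .nil (.node [(213,(.ofNat 1),1)] .nil .nil)))) (.node [(56,(.negSucc 0),1)] (.node [] (.node [] .nil (.node [(169,(.ofNat 1),1)] .nil .nil))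 (.node [(141,(.ofNat 1),1)] .nil (.node [(210,(.negSucc 0),1)] .nil .nil))) (.node [] (.node [] .nil (.node [(184,(.ofNat 1),1)] .nil .nil)) .nil))) (.node [(224,(.ofNat 1),1)] (.node [] (.node [] .nil (.node [] .nil (.node [(203,(.ofNat 1),1)] .nil .nil))) (.node [] .nil (.node [] .nil (.node [(220,(.negSucc 0),1)] .nil .nil)))) (.node [] (.node [] .nil (.node [(150,(.ofNat 1),1)] .nil .nil)) (.node [(120,(.negSucc 0),1)] (.node [] (.node [] .nil (.node [(233,(.negSucc 0),1)] .nil .nil)) (.node [(188,(.ofNat 1),1)] .nil .nil)) (.node [] .nil (.node [(222,(.ofNat 1),1)] .nil .nil)))))) (.node [(224,(.negSucc 0),1)] (.node [] (.node [] (.node [] (.node [] (.node [] .nil (.node [(225,(.negSucc 0),1)] .nil .nil)) (.node [(162,(.negSucc 0),1)] .nil .nil)) (.node [(138,(.ofNat 1),1)] .nil .nil)) (.node [(84,(.negSucc 0),1)] .nil (.node [(153,(.ofNat 1),1)] (.node [] .nil (.node [(241,(.ofNat 1),1)] .nil .nil)) .nil))) (.node [(59,(.ofNat 1),1)] (.node [] .nil (.node [] (.node [] .nil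 (.node [(236,(.ofNat 1),1)] .nil .nil)) .nil)) .nil)) (.node [] (.node [] (.node [] (.node [] (.node [] .nil (.node [(226,(.ofNat 1),1)] .nil .nil)) (.node [(166,(.negSucc 0),1)] .nil (.node [(246,(.ofNat 1),1)] .nil .nil))) .nil) (.node [(109,(.ofNat 1),1)] .nil .nil)) (.node [] (.node [] (.node [] (.node [] .nil (.node [(229,(.negSucc 0),1)] .nil .nil)) .nil) .nil) (.node [(0,(.ofNat 1),1),(1,(.ofNat 2),1),(2,(.ofNat 2),1),(3,(.ofNat 4),1),(4,(.ofNat 3),1),(5,(.ofNat 2),1),(6,(.ofNat 2),1),(7,(.ofNat 1),1),(224,(.negSucc 0),2)] (.node [] .nil (.node [(191,(.negSucc 0),1)] .nil .nil)) .nil))))))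
noncomputable def ex217 : Trie (List (ℕ × ℤ × ℕ)) := (.node [] (.node [] (.node [] (.node [] (.node [] (.node [] (.node [] .nil (.node [(161,(.ofNat 1),1)] .nil (.node [(243,(.ofNat 1),1)] .nil .nil))) (.node [(132,(.negSucc 0),1)] .nil .nil)) (.node [(82,(.ofNat 1),1)] .nil (.node [(152,(.negSucc 0),1)] .nil .nil))) (.node [(57,(.ofNat 1),1)] (.node [] (.node [] .nil (.node [(169,(.ofNat 1),1)] .nil .nil)) (.node [(142,(.negSucc 0),1)] .nil .nil)) (.node [] (.node [] .nil (.node [(185,(.negSucc 0),1)] .nil .nil)) .nil))) (.node [(225,(.ofNat 1),1)] (.node [] (.node [] (.node [] .nil (.node [] .nil (.node [(245,(.negSucc 0),1)] .nil .nil))) .nil) .nil) (.node [(63,(.negSucc 0),1)] (.node [] .nil (.node [(150,(.ofNat 1),1)] .nil .nil)) (.node [] (.node [] (.node [] .nil (.node [(233,(.ofNat 1),1)] .nil .nil)) (.node [(189,(.negSucc 0),1)] .nil .nil)) (.node [] .nil (.node [(224,(.negSucc 0),1)] .nil .nil)))))) (.node [(225,(.ofNat 1),1)] (.node [] (.node [] (.node [] (.node []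 .nil (.node [(163,(.ofNat 1),1)] .nil .nil)) (.node [(138,(.ofNat 1),1)] .nil .nil)) (.node [(84,(.negSucc 0),1)] .nil (.node [(154,(.negSucc 0),1)] (.node [] .nil (.node [(241,(.negSucc 0),1)] .nil .nil)) (.node [(216,(.negSucc 0),1)] .nil .nil)))) (.node [(59,(.ofNat 1),1)] .nil (.node [] .nil (.node [] .nil (.node [(222,(.negSucc 0),1)] .nil .nil))))) (.node [] (.node [] (.node [] (.node [] (.node [] .nil (.node [(226,(.negSucc 0),1)] .nil .nil)) (.node [(167,(.ofNat 1),1)] .nil (.node [(247,(.negSucc 0),1)] .nil .nil))) (.node [(140,(.negSucc 0),1)] .nil (.node [(206,(.negSucc 0),1)] .nil .nil))) (.node [(99,(.negSucc 0),1)] (.node [] .nil (.node [(183,(.negSucc 0),1)] .nil .nil)) .nil)) (.node [(77,(.ofNat 1),1)] .nil (.node [(0,(.ofNat 1),1),(1,(.ofNat 2),1),(2,(.ofNat 2),1),(3,(.ofNat 4),1),(4,(.ofNat 3),1),(5,(.ofNat 3),1),(6,(.ofNat 2),1),(7,(.ofNat 1),1),(225,(.negSucc 0),2)] (.node [] .nil (.node [(191,(.negSucc 0),1)] .nil .nil)) .nil))))) (.node [] (.node [] (.node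 [] (.node [] (.node [] (.node [] .nil (.node [(162,(.negSucc 0),1)] .nil .nil)) (.node [(133,(.ofNat 1),1)] .nil (.node [] .nil (.node [] .nil .nil)))) (.node [] (.node [] (.node [] .nil (.node [(232,(.ofNat 1),1)] .nil .nil)) .nil) (.node [(153,(.ofNat 1),1)] .nil (.node [(215,(.ofNat 1),1)] .nil .nil)))) (.node [(58,(.ofNat 1),1)] (.node [] .nil (.node [] .nil (.node [(211,(.negSucc 0),1)] .nil .nil))) (.node [(112,(.ofNat 1),1)] .nil .nil))) (.node [(225,(.negSucc 0),1)] (.node [] (.node [] (.node [] .nil (.node [] .nil (.node [(246,(.negSucc 0),1)] .nil .nil))) (.node [] .nil (.node [(205,(.ofNat 1),1)] .nil .nil))) (.node [] .nil (.node [] .nil (.node [(221,(.negSucc 0),1)] .nil .nil)))) (.node [] (.node [] .nil (.node [] (.node [] .nil (.node [(239,(.negSucc 0),1)] .nil .nil)) .nil)) (.node [(121,(.ofNat 1),1)] (.node [] .nil (.node [(190,(.ofNat 1),1)] .nil .nil)) .nil)))) (.node [(225,(.negSucc 0),1)] (.node [] (.node [] .nil (.node [] .nil (.node [] .nil (.node [(217,(.ofNat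 1),1)] .nil .nil)))) (.node [] (.node [] .nil (.node [] (.node [] .nil (.node [(237,(.ofNat 1),1)] .nil .nil)) .nil)) (.node [] .nil (.node [] .nil (.node [(223,(.ofNat 1),1)] .nil .nil))))) (.node [] (.node [] (.node [] (.node [] .nil (.node [(168,(.negSucc 0),1)] .nil .nil)) (.node [(141,(.ofNat 1),1)] .nil (.node [(207,(.ofNat 1),1)] .nil .nil))) (.node [(110,(.negSucc 0),1)] (.node [] .nil (.node [(184,(.ofNat 1),1)] .nil .nil)) .nil)) (.node [] (.node [] (.node [] (.node [] .nil (.node [(230,(.negSucc 0),1)] .nil .nil)) .nil) .nil) (.node [(131,(.ofNat 1),1)] .nil .nil))))))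
noncomputable def ex218 : Trie (List (ℕ × ℤ × ℕ)) := (.node [] (.node [] (.node [] (.node [] (.node [] (.node [] (.node [] .nil (.node [(164,(.ofNat 1),1)] .nil (.node [(244,(.ofNat 1),1)] .nil .nil))) (.node [(136,(.ofNat 1),1)] .nil .nil)) (.node [(83,(.negSucc 0),1)] (.node [] (.node [] .nil (.node [(232,(.negSucc 0),1)] .nil .nil)) .nil) .nil)) (.node [(60,(.negSucc 0),1)] (.node [] .nil (.node [] .nil (.node [(211,(.negSucc 0),1)] .nil .nil))) (.node [(112,(.ofNat 1),1)] (.node [] .nil (.node [(188,(.negSucc 0),1)] .nil .nil)) (.node [] .nil (.node [(224,(.ofNat 1),1)] .nil .nil))))) (.node [(226,(.negSucc 0),1)] (.node [] (.node [] (.node [] .nil (.node [(168,(.negSucc 0),1)] .nil .nil)) (.node [(141,(.ofNat 1),1)] .nil .nil)) (.node [] .nil (.node [] .nil (.node [(221,(.negSucc 0),1)] .nil .nil)))) (.node [] (.node [] .nil (.node [(151,(.ofNat 1),1)] (.node [] .nil (.node [(239,(.ofNat 1),1)] .nil .nil)) .nil)) .nil))) (.node [(226,(.ofNat 1),1)] (.node [] (.node [] (.node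 [] (.node [] .nil (.node [(166,(.ofNat 1),1)] .nil (.node [(246,(.ofNat 1),1)] .nil .nil))) (.node [(139,(.ofNat 1),1)] .nil (.node [] .nil (.node [] .nil .nil)))) (.node [] .nil (.node [] .nil (.node [(219,(.negSucc 0),1)] .nil .nil)))) (.node [(62,(.negSucc 0),1)] .nil (.node [] (.node [] .nil (.node [(190,(.ofNat 1),1)] .nil .nil)) .nil))) (.node [] (.node [] (.node [] .nil (.node [] .nil (.node [(209,(.negSucc 0),1)] .nil .nil))) (.node [(100,(.ofNat 1),1)] (.node [] .nil (.node [(186,(.negSucc 0),1)] .nil .nil)) (.node [] .nil (.node [(222,(.ofNat 1),1)] .nil .nil)))) (.node [(78,(.negSucc 0),1)] (.node [] .nil (.node [(153,(.ofNat 1),1)] .nil .nil)) (.node [(134,(.ofNat 1),1)] .nil .nil))))) (.node [] (.node [] (.node [] (.node [] (.node [] (.node [] .nil (.node [(165,(.negSucc 0),1)] .nil (.node [(245,(.ofNat 1),1)] .nil .nil))) (.node [(137,(.negSucc 0),1)] .nil .nil)) (.node [(84,(.negSucc 0),1)] .nil (.node [] (.node [] .nil (.node [(241,(.ofNat 1),1)] .nil .nil)) (.node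 [(218,(.ofNat 1),1)] .nil .nil)))) (.node [(61,(.negSucc 0),1)] .nil (.node [] (.node [] .nil (.node [(189,(.negSucc 0),1)] .nil .nil)) (.node [] .nil (.node [(225,(.negSucc 0),1)] .nil .nil))))) (.node [] (.node [] (.node [] (.node [] .nil (.node [(169,(.ofNat 1),1)] .nil .nil)) (.node [(142,(.negSucc 0),1)] .nil (.node [(208,(.ofNat 1),1)] .nil .nil))) .nil) (.node [] (.node [] .nil (.node [(152,(.negSucc 0),1)] .nil .nil)) (.node [(0,(.ofNat 1),1),(1,(.ofNat 2),1),(2,(.ofNat 2),1),(3,(.ofNat 4),1),(4,(.ofNat 4),1),(5,(.ofNat 3),1),(6,(.ofNat 2),1),(7,(.ofNat 1),1),(226,(.negSucc 0),2)] .nil .nil)))) (.node [] (.node [] (.node [] (.node [] (.node [] .nil (.node [(167,(.ofNat 1),1)] .nil (.node [(247,(.ofNat 1),1)] .nil .nil))) (.node [(140,(.negSucc 0),1)] .nil .nil)) (.node [] .nil (.node [] .nil (.node [(220,(.ofNat 1),1)] .nil .nil)))) (.node [(63,(.negSucc 0),1)] (.node [] .nil (.node [] (.node [] .nil (.node [(238,(.ofNat 1),1)] .nil .nil)) .nil)) (.node [] (.node [] (.node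 [] .nil (.node [(233,(.negSucc 0),1)] .nil .nil)) (.node [(191,(.negSucc 0),1)] .nil .nil)) .nil))) (.node [] (.node [] (.node [] .nil (.node [] .nil (.node [(210,(.ofNat 1),1)] .nil .nil))) (.node [(111,(.ofNat 1),1)] (.node [] .nil (.node [(187,(.ofNat 1),1)] .nil .nil)) (.node [] .nil (.node [(223,(.negSucc 0),1)] .nil .nil)))) (.node [] (.node [] (.node [] (.node [] .nil (.node [(231,(.negSucc 0),1)] .nil .nil)) .nil) (.node [(154,(.negSucc 0),1)] .nil .nil)) (.node [(135,(.negSucc 0),1)] .nil .nil))))))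
noncomputable def ex219 : Trie (List (ℕ × ℤ × ℕ)) := (.node [(227,(.ofNat 1),1)] (.node [] (.node [] (.node [] (.node [] (.node [] (.node [] (.node [] .nil (.node [(228,(.negSucc 0),1)] .nil .nil)) .nil) .nil) (.node [] .nil (.node [] (.node [] .nil (.node [(240,(.ofNat 1),1)] .nil .nil)) (.node [(222,(.negSucc 0),1)] .nil .nil)))) (.node [] (.node [] .nil (.node [(145,(.ofNat 1),1)] .nil .nil)) (.node [(118,(.negSucc 0),1)] (.node [] .nil (.node [(192,(.negSucc 0),1)] .nil .nil)) (.node [(160,(.ofNat 1),1)] .nil .nil)))) (.node [] (.node [] (.node [] .nil (.node [] .nil (.node [(208,(.negSucc 0),1)] .nil .nil))) (.node [] .nil (.node [(157,(.ofNat 1),1)] .nil .nil))) (.node [(70,(.negSucc 0),1)] (.node [] .nil (.node [] .nil (.node [(212,(.negSucc 0),1)] .nil .nil))) (.node [(0,(.ofNat 1),1),(1,(.ofNat 2),1),(2,(.ofNat 3),1),(3,(.ofNat 4),1),(4,(.ofNat 3),1),(5,(.ofNat 2),1),(6,(.ofNat 1),1),(227,(.negSucc 0),2)] .nil (.node [] (.node [] .nil (.node [(244,(.ofNat 1),1)] .nil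 .nil)) .nil))))) (.node [(227,(.negSucc 0),1)] (.node [] (.node [] (.node [] (.node [] (.node [] .nil (.node [(229,(.ofNat 1),1)] .nil .nil)) .nil) (.node [] .nil (.node [(203,(.negSucc 0),1)] .nil .nil))) (.node [] .nil (.node [(156,(.negSucc 0),1)] .nil .nil))) (.node [(65,(.negSucc 0),1)] (.node [] .nil (.node [(146,(.negSucc 0),1)] (.node [] .nil (.node [(234,(.negSucc 0),1)] .nil .nil)) .nil)) (.node [(125,(.negSucc 0),1)] (.node [] (.node [] .nil (.node [(233,(.ofNat 1),1)] .nil .nil)) (.node [(193,(.ofNat 1),1)] .nil .nil)) (.node [(161,(.negSucc 0),1)] .nil .nil)))) (.node [] (.node [] .nil (.node [(101,(.negSucc 0),1)] .nil .nil)) (.node [] (.node [] (.node [] (.node [] .nil (.node [(232,(.negSucc 0),1)] .nil .nil)) .nil) (.node [] .nil (.node [(215,(.negSucc 0),1)] .nil .nil))) (.node [] (.node [] .nil (.node [(197,(.ofNat 1),1)] .nil .nil)) (.node [(165,(.negSucc 0),1)] (.node [] .nil (.node [(245,(.ofNat 1),1)] .nil .nil)) .nil)))))) (.node [] (.node [] (.node [] (.node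 [] (.node [] .nil (.node [(143,(.ofNat 1),1)] .nil (.node [(202,(.ofNat 1),1)] .nil .nil))) .nil) (.node [(64,(.negSucc 0),1)] (.node [] (.node [] (.node [] .nil (.node [(231,(.ofNat 1),1)] .nil .nil)) .nil) .nil) (.node [(122,(.ofNat 1),1)] .nil (.node [] (.node [] .nil (.node [(243,(.ofNat 1),1)] .nil .nil)) .nil)))) (.node [] (.node [] (.node [] (.node [] (.node [] .nil (.node [(230,(.negSucc 0),1)] .nil .nil)) .nil) (.node [(144,(.negSucc 0),1)] .nil .nil)) (.node [(85,(.ofNat 1),1)] .nil (.node [(158,(.negSucc 0),1)] (.node [] .nil (.node [(242,(.ofNat 1),1)] .nil .nil)) .nil))) (.node [(74,(.negSucc 0),1)] (.node [] .nil (.node [] .nil (.node [(213,(.ofNat 1),1)] .nil .nil))) (.node [] (.node [] .nil (.node [(196,(.negSucc 0),1)] .nil .nil)) (.node [(164,(.ofNat 1),1)] .nil .nil))))) (.node [] (.node [] (.node [] (.node [] .nil (.node [] .nil (.node [(205,(.ofNat 1),1)] .nil (.node [] .nil .nil)))) .nil) (.node [(67,(.negSucc 0),1)] (.node [] .nil (.node [(147,(.ofNat 1),1)]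 .nil .nil)) (.node [(127,(.ofNat 1),1)] (.node [] .nil (.node [(194,(.negSucc 0),1)] .nil .nil)) (.node [(162,(.ofNat 1),1)] .nil .nil)))) (.node [(227,(.ofNat 1),1)] (.node [] .nil (.node [(113,(.ofNat 1),1)] .nil .nil)) (.node [(79,(.negSucc 0),1)] (.node [] .nil (.node [(155,(.ofNat 1),1)] .nil (.node [(218,(.ofNat 1),1)] .nil .nil))) (.node [] (.node [] .nil (.node [(199,(.negSucc 0),1)] .nil .nil)) (.node [(167,(.ofNat 1),1)] (.node [] .nil (.node [(246,(.ofNat 1),1)] .nil .nil)) .nil)))))))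
noncomputable def ex220 : Trie (List (ℕ × ℤ × ℕ)) := (.node [(228,(.ofNat 1),1)] (.node [] (.node [] (.node [] (.node [] (.node [] .nil (.node [(143,(.ofNat 1),1)] .nil (.node [(202,(.ofNat 1),1)] .nil .nil))) (.node [] .nil (.node [] .nil (.node [(223,(.negSucc 0),1)] .nil .nil)))) (.node [(64,(.negSucc 0),1)] (.node [] (.node [] (.node [] .nil (.node [(231,(.negSucc 0),1)] .nil .nil)) .nil) .nil) (.node [(119,(.ofNat 1),1)] .nil (.node [] (.node [] .nil (.node [(243,(.negSucc 0),1)] .nil .nil)) .nil)))) (.node [] (.node [] (.node [] (.node [] (.node [] .nil (.node [(230,(.ofNat 1),1)] .nil .nil)) .nil) (.node [(144,(.negSucc 0),1)] .nil (.node [(209,(.negSucc 0),1)] .nil (.node [] .nil .nil)))) (.node [(85,(.ofNat 1),1)] .nil (.node [] (.node [] .nil (.node [(242,(.negSucc 0),1)] .nil .nil)) .nil))) (.node [(71,(.ofNat 1),1)] .nil (.node [(128,(.ofNat 1),1)] (.node [] .nil (.node [(196,(.negSucc 0),1)] .nil .nil)) (.node [(164,(.ofNat 1),1)] .nil .nil))))) (.node [(228,(.negSucc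 0),1)] (.node [] (.node [] (.node [] .nil (.node [] .nil (.node [(204,(.negSucc 0),1)] .nil .nil))) .nil) (.node [(66,(.ofNat 1),1)] (.node [] .nil (.node [] (.node [] .nil (.node [(235,(.negSucc 0),1)] .nil .nil)) .nil)) (.node [(126,(.ofNat 1),1)] .nil .nil))) (.node [(228,(.ofNat 1),1)] (.node [] .nil (.node [(102,(.ofNat 1),1)] .nil .nil)) (.node [] (.node [] .nil (.node [(155,(.ofNat 1),1)] .nil (.node [(216,(.negSucc 0),1)] .nil .nil))) (.node [] (.node [] .nil (.node [(198,(.ofNat 1),1)] .nil .nil)) (.node [(166,(.negSucc 0),1)] .nil .nil)))))) (.node [] (.node [] (.node [] (.node [] (.node [] (.node [] (.node [] .nil (.node [(229,(.negSucc 0),1)] .nil .nil)) .nil) .nil) (.node [] .nil (.node [(156,(.negSucc 0),1)] .nil .nil))) (.node [] (.node [] .nil (.node [(146,(.negSucc 0),1)] .nil .nil)) (.node [(123,(.negSucc 0),1)] (.node [] (.node [] .nil (.node [(233,(.negSucc 0),1)] .nil .nil)) (.node [(193,(.ofNat 1),1)] .nil .nil)) (.node [(161,(.negSucc 0),1)] .nil .nil))))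 (.node [] (.node [] .nil (.node [] .nil (.node [(159,(.negSucc 0),1)] .nil .nil))) (.node [(75,(.ofNat 1),1)] (.node [] (.node [] (.node [] .nil (.node [(232,(.ofNat 1),1)] .nil .nil)) .nil) (.node [] .nil (.node [(214,(.ofNat 1),1)] .nil .nil))) (.node [] .nil (.node [] (.node [] .nil (.node [(245,(.negSucc 0),1)] .nil .nil)) .nil))))) (.node [] (.node [] (.node [] (.node [] .nil (.node [] .nil (.node [(206,(.ofNat 1),1)] .nil .nil))) (.node [] .nil (.node [(157,(.ofNat 1),1)] .nil .nil))) (.node [(68,(.ofNat 1),1)] (.node [] .nil (.node [(148,(.ofNat 1),1)] .nil (.node [(212,(.negSucc 0),1)] .nil .nil))) (.node [(0,(.ofNat 1),1),(1,(.ofNat 2),1),(2,(.ofNat 3),1),(3,(.ofNat 4),1),(4,(.ofNat 3),1),(5,(.ofNat 2),1),(6,(.ofNat 1),1),(7,(.ofNat 1),1),(228,(.negSucc 0),2)] (.node [] .nil (.node [(195,(.negSucc 0),1)] .nil .nil)) (.node [(163,(.ofNat 1),1)] (.node [] .nil (.node [(244,(.negSucc 0),1)] .nil .nil)) .nil)))) (.node [(228,(.negSucc 0),1)] (.node [] (.node [] .nil (.node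 [(145,(.ofNat 1),1)] .nil .nil)) (.node [(114,(.negSucc 0),1)] (.node [] .nil (.node [(192,(.negSucc 0),1)] .nil .nil)) (.node [(160,(.ofNat 1),1)] .nil .nil))) (.node [(80,(.ofNat 1),1)] (.node [] .nil (.node [] (.node [] .nil (.node [(240,(.negSucc 0),1)] .nil .nil)) (.node [(219,(.ofNat 1),1)] .nil .nil))) (.node [] (.node [] .nil (.node [(200,(.negSucc 0),1)] .nil .nil)) (.node [(168,(.ofNat 1),1)] (.node [] .nil (.node [(247,(.ofNat 1),1)] .nil .nil)) (.node [(227,(.negSucc 0),1)] .nil .nil))))))))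
noncomputable def ex221 : Trie (List (ℕ × ℤ × ℕ)) := (.node [(229,(.ofNat 1),1)] (.node [] (.node [] (.node [] (.node [] (.node [] .nil (.node [] .nil (.node [(203,(.ofNat 1),1)] .nil .nil))) (.node [] .nil (.node [(156,(.negSucc 0),1)] .nil (.node [(224,(.negSucc 0),1)] .nil .nil)))) (.node [(65,(.ofNat 1),1)] .nil (.node [(120,(.negSucc 0),1)] (.node [] (.node [] .nil (.node [(233,(.ofNat 1),1)] .nil .nil)) .nil) .nil))) (.node [] (.node [] (.node [] .nil (.node [] .nil (.node [(210,(.negSucc 0),1)] .nil .nil))) (.node [] .nil (.node [(159,(.negSucc 0),1)] .nil .nil))) (.node [(72,(.negSucc 0),1)] (.node [] (.node [] (.node [] .nil (.node [(232,(.negSucc 0),1)] .nil .nil)) .nil) (.node [] .nil (.node [(214,(.ofNat 1),1)] .nil .nil))) (.node [(130,(.negSucc 0),1)] (.node [] .nil (.node [(197,(.negSucc 0),1)] .nil .nil)) (.node [(165,(.ofNat 1),1)] .nil .nil))))) (.node [(229,(.negSucc 0),1)] (.node [] .nil (.node [] (.node [] .nil (.node [(148,(.ofNat 1),1)] (.node [] .nil (.node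 [(236,(.negSucc 0),1)] .nil .nil)) .nil)) (.node [(0,(.ofNat 1),1),(1,(.ofNat 2),1),(2,(.ofNat 3),1),(3,(.ofNat 4),1),(4,(.ofNat 3),1),(5,(.ofNat 2),1),(6,(.ofNat 2),1),(7,(.ofNat 1),1),(229,(.negSucc 0),2)] (.node [] .nil (.node [(195,(.negSucc 0),1)] .nil .nil)) (.node [(163,(.ofNat 1),1)] (.node [] .nil (.node [(244,(.ofNat 1),1)] .nil .nil)) .nil)))) (.node [(229,(.negSucc 0),1)] (.node [] (.node [] .nil (.node [(145,(.ofNat 1),1)] .nil .nil)) (.node [(103,(.negSucc 0),1)] (.node [] .nil (.node [(192,(.negSucc 0),1)] .nil .nil)) (.node [(160,(.ofNat 1),1)] .nil .nil))) (.node [] (.node [] .nil (.node [] (.node [] .nil (.node [(240,(.ofNat 1),1)] .nil .nil)) (.node [(217,(.negSucc 0),1)] .nil .nil))) (.node [] .nil (.node [] (.node [] .nil (.node [(247,(.negSucc 0),1)] .nil .nil)) (.node [(228,(.negSucc 0),1)] .nil .nil))))))) (.node [] (.node [] (.node [] (.node [] (.node [] .nil (.node [] .nil (.node [(204,(.negSucc 0),1)] .nil .nil))) .nil) (.node [(66,(.ofNat 1),1)] (.node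 [] .nil (.node [(147,(.negSucc 0),1)] .nil .nil)) (.node [(124,(.ofNat 1),1)] (.node [] .nil (.node [(194,(.ofNat 1),1)] .nil .nil)) (.node [(162,(.negSucc 0),1)] .nil .nil)))) (.node [(229,(.ofNat 1),1)] (.node [] (.node [] .nil (.node [] .nil (.node [] .nil (.node [] .nil .nil)))) .nil) (.node [(76,(.negSucc 0),1)] (.node [] .nil (.node [(155,(.ofNat 1),1)] .nil .nil)) (.node [] (.node [] .nil (.node [(198,(.ofNat 1),1)] .nil .nil)) (.node [(166,(.negSucc 0),1)] (.node [] .nil (.node [(246,(.negSucc 0),1)] .nil .nil)) (.node [(227,(.ofNat 1),1)] .nil .nil)))))) (.node [] (.node [] (.node [] (.node [] (.node [] (.node [] .nil (.node [(230,(.negSucc 0),1)] .nil .nil)) .nil) (.node [(144,(.negSucc 0),1)] .nil (.node [(207,(.ofNat 1),1)] .nil .nil))) (.node [(85,(.ofNat 1),1)] .nil (.node [(158,(.ofNat 1),1)] (.node [] .nil (.node [(242,(.ofNat 1),1)] .nil .nil)) .nil))) (.node [(69,(.negSucc 0),1)] (.node [] .nil (.node [] .nil (.node [(213,(.negSucc 0),1)] .nil .nil))) (.node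 [(129,(.ofNat 1),1)] .nil .nil))) (.node [] (.node [] (.node [] (.node [] (.node [] .nil (.node [(231,(.ofNat 1),1)] .nil .nil)) .nil) .nil) (.node [(115,(.ofNat 1),1)] .nil (.node [] (.node [] .nil (.node [(243,(.ofNat 1),1)] .nil .nil)) .nil))) (.node [(81,(.negSucc 0),1)] (.node [] .nil (.node [] .nil (.node [(220,(.ofNat 1),1)] .nil .nil))) (.node [(143,(.ofNat 1),1)] (.node [] .nil (.node [(201,(.negSucc 0),1)] .nil .nil)) (.node [(169,(.ofNat 1),1)] .nil .nil)))))))
noncomputable def ex222 : Trie (List (ℕ × ℤ × ℕ)) := (.node [(230,(.ofNat 1),1)] (.node [] (.node [] (.node [] (.node [] (.node [] .nil (.node [] .nil (.node [(205,(.ofNat 1),1)] .nil .nil))) (.node [] .nil (.node [(157,(.negSucc 0),1)] .nil (.node [(225,(.negSucc 0),1)] .nil .nil)))) (.node [(67,(.negSucc 0),1)] (.node [] .nil (.node [(148,(.ofNat 1),1)] .nil .nil)) (.node [(121,(.ofNat 1),1)] (.node [] .nil (.node [(195,(.negSucc 0),1)] .nil .nil)) (.node [(163,(.ofNat 1),1)] .nil .nil)))) (.node [(230,(.ofNat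 1),1)] (.node [] (.node [] .nil (.node [] .nil (.node [(211,(.negSucc 0),1)] .nil .nil))) .nil) (.node [(73,(.ofNat 1),1)] (.node [] .nil (.node [(155,(.ofNat 1),1)] .nil (.node [(216,(.ofNat 1),1)] .nil .nil))) (.node [(133,(.ofNat 1),1)] (.node [] .nil (.node [(199,(.negSucc 0),1)] .nil .nil)) (.node [(167,(.ofNat 1),1)] (.node [] .nil (.node [(247,(.ofNat 1),1)] .nil .nil)) (.node [(229,(.negSucc 0),1)] .nil .nil)))))) (.node [(230,(.negSucc 0),1)] (.node [] (.node [] (.node [] .nil (.node [(144,(.negSucc 0),1)] .nil (.node [(207,(.ofNat 1),1)] .nil .nil))) (.node [(85,(.ofNat 1),1)] .nil (.node [(159,(.negSucc 0),1)] (.node [] .nil (.node [(242,(.negSucc 0),1)] .nil .nil)) .nil))) (.node [(69,(.negSucc 0),1)] (.node [] .nil (.node [] (.node [] .nil (.node [(237,(.negSucc 0),1)] .nil .nil)) .nil)) (.node [(131,(.ofNat 1),1)] .nil (.node [] (.node [] .nil (.node [(245,(.ofNat 1),1)] .nil .nil)) (.node [(227,(.negSucc 0),1)] .nil .nil))))) (.node [] (.node [] (.node [] (.node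 [] (.node [] .nil (.node [(231,(.negSucc 0),1)] .nil .nil)) .nil) (.node [(146,(.ofNat 1),1)] .nil (.node [] .nil (.node [] .nil .nil)))) (.node [(104,(.ofNat 1),1)] (.node [] .nil (.node [(193,(.negSucc 0),1)] .nil .nil)) (.node [(161,(.ofNat 1),1)] (.node [] .nil (.node [(243,(.negSucc 0),1)] .nil .nil)) .nil))) (.node [] .nil (.node [(143,(.ofNat 1),1)] (.node [] .nil (.node [(201,(.negSucc 0),1)] .nil .nil)) (.node [(169,(.ofNat 1),1)] .nil .nil)))))) (.node [] (.node [] (.node [] (.node [] (.node [] .nil (.node [] .nil (.node [(206,(.negSucc 0),1)] .nil .nil))) (.node [] .nil (.node [(158,(.ofNat 1),1)] .nil .nil))) (.node [(68,(.negSucc 0),1)] .nil (.node [(0,(.ofNat 1),1),(1,(.ofNat 2),1),(2,(.ofNat 3),1),(3,(.ofNat 4),1),(4,(.ofNat 3),1),(5,(.ofNat 3),1),(6,(.ofNat 2),1),(7,(.ofNat 1),1),(230,(.negSucc 0),2)] .nil .nil))) (.node [(230,(.negSucc 0),1)] .nil (.node [(77,(.ofNat 1),1)] (.node [] .nil (.node [] (.node [] .nil (.node [(240,(.negSucc 0),1)] .nil .nil)) (.node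 [(217,(.negSucc 0),1)] .nil .nil))) (.node [] (.node [] .nil (.node [(200,(.ofNat 1),1)] .nil .nil)) (.node [(168,(.negSucc 0),1)] .nil .nil))))) (.node [] (.node [] .nil (.node [] (.node [] (.node [] (.node [] .nil (.node [(232,(.ofNat 1),1)] .nil .nil)) .nil) (.node [] .nil (.node [(215,(.negSucc 0),1)] .nil .nil))) (.node [(132,(.negSucc 0),1)] .nil (.node [] (.node [] .nil (.node [(246,(.ofNat 1),1)] .nil .nil)) (.node [(228,(.ofNat 1),1)] .nil .nil))))) (.node [] (.node [] (.node [] .nil (.node [(147,(.negSucc 0),1)] .nil .nil)) (.node [(116,(.negSucc 0),1)] (.node [] (.node [] .nil (.node [(233,(.negSucc 0),1)] .nil .nil)) (.node [(194,(.ofNat 1),1)] .nil .nil)) (.node [(162,(.negSucc 0),1)] .nil .nil))) (.node [(82,(.ofNat 1),1)] (.node [] .nil (.node [] .nil (.node [(221,(.ofNat 1),1)] .nil .nil))) .nil)))))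
noncomputable def ex223 : Trie (List (ℕ × ℤ × ℕ)) := (.node [(231,(.ofNat 1),1)] (.node [] (.node [] (.node [] (.node [] (.node [] .nil (.node [] .nil (.node [(208,(.ofNat 1),1)] .nil .nil))) (.node [] .nil (.node [] .nil (.node [(226,(.negSucc 0),1)] .nil .nil)))) (.node [(70,(.ofNat 1),1)] .nil (.node [(0,(.ofNat 1),1),(1,(.ofNat 2),1),(2,(.ofNat 3),1),(3,(.ofNat 4),1),(4,(.ofNat 4),1),(5,(.ofNat 3),1),(6,(.ofNat 2),1),(7,(.ofNat 1),1),(231,(.negSucc 0),2)] (.node [] .nil (.node [(198,(.negSucc 0),1)] .nil .nil)) (.node [(166,(.ofNat 1),1)] (.node [] .nil (.node [(246,(.negSucc 0),1)] .nil .nil)) (.node [(229,(.ofNat 1),1)] .nil .nil))))) (.node [(231,(.negSucc 0),1)] (.node [] (.node [] .nil (.node [(147,(.negSucc 0),1)] .nil .nil)) .nil) (.node [] (.node [] .nil (.node [(156,(.ofNat 1),1)] (.node [] .nil (.node [(240,(.ofNat 1),1)] .nil .nil)) (.node [(219,(.ofNat 1),1)] .nil .nil))) (.node [(137,(.negSucc 0),1)] .nil .nil)))) (.node [(231,(.negSucc 0),1)] (.node [] (.node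 [] (.node [] .nil (.node [(145,(.negSucc 0),1)] .nil (.node [(210,(.ofNat 1),1)] .nil .nil))) .nil) (.node [(72,(.ofNat 1),1)] (.node [] (.node [] (.node [] .nil (.node [(232,(.negSucc 0),1)] .nil .nil)) .nil) (.node [] (.node [] .nil (.node [(238,(.negSucc 0),1)] .nil .nil)) .nil)) (.node [(135,(.negSucc 0),1)] (.node [] .nil (.node [(200,(.ofNat 1),1)] .nil .nil)) (.node [(168,(.negSucc 0),1)] .nil .nil)))) (.node [] (.node [] .nil (.node [(105,(.negSucc 0),1)] (.node [] (.node [] .nil (.node [(233,(.ofNat 1),1)] .nil .nil)) (.node [(196,(.negSucc 0),1)] .nil .nil)) (.node [(164,(.ofNat 1),1)] (.node [] .nil (.node [(244,(.negSucc 0),1)] .nil .nil)) (.node [(227,(.ofNat 1),1)] .nil .nil)))) (.node [] (.node [] .nil (.node [(158,(.ofNat 1),1)] .nil (.node [(221,(.ofNat 1),1)] .nil .nil))) .nil)))) (.node [] (.node [] (.node [] (.node [] (.node [] .nil (.node [] .nil (.node [(209,(.negSucc 0),1)] .nil .nil))) (.node [(85,(.ofNat 1),1)] .nil (.node [] (.node [] .nil (.node [(242,(.ofNat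 1),1)] .nil .nil)) .nil))) (.node [(71,(.ofNat 1),1)] .nil (.node [(134,(.ofNat 1),1)] (.node [] .nil (.node [(199,(.negSucc 0),1)] .nil .nil)) (.node [(167,(.ofNat 1),1)] (.node [] .nil (.node [(247,(.negSucc 0),1)] .nil .nil)) (.node [(230,(.negSucc 0),1)] .nil .nil))))) (.node [] (.node [] (.node [] .nil (.node [(148,(.ofNat 1),1)] .nil .nil)) .nil) (.node [(78,(.negSucc 0),1)] (.node [] .nil (.node [(157,(.negSucc 0),1)] .nil (.node [(220,(.negSucc 0),1)] .nil .nil))) (.node [(143,(.ofNat 1),1)] .nil .nil)))) (.node [(231,(.ofNat 1),1)] (.node [] (.node [] (.node [] .nil (.node [(146,(.ofNat 1),1)] .nil (.node [(211,(.negSucc 0),1)] .nil .nil))) .nil) (.node [(73,(.ofNat 1),1)] (.node [] .nil (.node [] .nil (.node [(218,(.negSucc 0),1)] .nil .nil))) (.node [(136,(.ofNat 1),1)] (.node [] .nil (.node [(201,(.negSucc 0),1)] .nil .nil)) (.node [(169,(.ofNat 1),1)] .nil .nil)))) (.node [] (.node [] (.node [] .nil (.node [] .nil (.node [] .nil (.node [] .nil .nil)))) (.node [(117,(.ofNat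 1),1)] (.node [] .nil (.node [(197,(.ofNat 1),1)] .nil .nil)) (.node [(165,(.negSucc 0),1)] (.node [] .nil (.node [(245,(.negSucc 0),1)] .nil .nil)) (.node [(228,(.negSucc 0),1)] .nil .nil)))) (.node [(83,(.negSucc 0),1)] (.node [] .nil (.node [(159,(.negSucc 0),1)] .nil .nil)) .nil)))))
noncomputable def ex224 : Trie (List (ℕ × ℤ × ℕ)) := (.node [(232,(.ofNat 1),1)] (.node [] (.node [] (.node [] (.node [] (.node [] .nil (.node [(147,(.negSucc 0),1)] .nil .nil)) (.node [(85,(.ofNat 1),1)] .nil (.node [(164,(.ofNat 1),1)] .nil .nil))) (.node [(74,(.negSucc 0),1)] (.node [] .nil (.node [] .nil (.node [] .nil (.node [] .nil .nil)))) (.node [(138,(.ofNat 1),1)] (.node [] .nil (.node [(204,(.negSucc 0),1)] .nil .nil)) .nil))) (.node [] (.node [] .nil (.node [] .nil (.node [(168,(.negSucc 0),1)] (.node [] .nil (.node [(246,(.ofNat 1),1)] .nil .nil)) (.node [(230,(.ofNat 1),1)] .nil .nil)))) (.node [(78,(.negSucc 0),1)] (.node [] .nil (.node [(160,(.ofNat 1),1)] .nil (.node [(223,(.ofNat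 1),1)] .nil .nil))) (.node [(142,(.ofNat 1),1)] (.node [] .nil (.node [(208,(.ofNat 1),1)] .nil .nil)) .nil)))) (.node [] (.node [] (.node [] .nil (.node [] .nil (.node [(166,(.ofNat 1),1)] (.node [] .nil (.node [(244,(.ofNat 1),1)] .nil .nil)) (.node [(228,(.ofNat 1),1)] .nil .nil)))) (.node [(76,(.negSucc 0),1)] (.node [] .nil (.node [] (.node [] .nil (.node [(239,(.negSucc 0),1)] .nil .nil)) .nil)) (.node [(140,(.ofNat 1),1)] (.node [] .nil (.node [(206,(.ofNat 1),1)] .nil .nil)) .nil))) (.node [] (.node [] .nil (.node [(106,(.ofNat 1),1)] (.node [] .nil (.node [(202,(.negSucc 0),1)] .nil .nil)) .nil)) (.node [] (.node [] .nil (.node [(162,(.ofNat 1),1)] .nil (.node [(225,(.ofNat 1),1)] .nil .nil))) (.node [(145,(.negSucc 0),1)] (.node [] .nil (.node [(210,(.ofNat 1),1)] .nil .nil)) .nil))))) (.node [(232,(.ofNat 1),1)] (.node [] (.node [] (.node [] (.node [] .nil (.node [(148,(.ofNat 1),1)] .nil .nil)) (.node [] .nil (.node [(165,(.negSucc 0),1)] (.node [] .nil (.node [(243,(.ofNat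 1),1)] .nil .nil)) (.node [(227,(.negSucc 0),1)] .nil .nil)))) (.node [(75,(.negSucc 0),1)] .nil (.node [(139,(.negSucc 0),1)] (.node [] .nil (.node [(205,(.negSucc 0),1)] .nil .nil)) .nil))) (.node [] (.node [] .nil (.node [] (.node [] (.node [] .nil (.node [(233,(.negSucc 0),1)] .nil .nil)) .nil) (.node [(169,(.ofNat 1),1)] (.node [] .nil (.node [(247,(.ofNat 1),1)] .nil .nil)) (.node [(231,(.negSucc 0),1)] .nil .nil)))) (.node [] (.node [] .nil (.node [(161,(.negSucc 0),1)] .nil (.node [(224,(.negSucc 0),1)] .nil .nil))) (.node [(144,(.ofNat 1),1)] (.node [] .nil (.node [(209,(.negSucc 0),1)] .nil .nil)) .nil)))) (.node [(232,(.negSucc 0),1)] (.node [] (.node [] .nil (.node [] .nil (.node [(167,(.ofNat 1),1)] (.node [] .nil (.node [(245,(.ofNat 1),1)] .nil .nil)) (.node [(229,(.negSucc 0),1)] .nil .nil)))) (.node [(77,(.negSucc 0),1)] (.node [] .nil (.node [] (.node [] .nil (.node [(240,(.negSucc 0),1)] .nil .nil)) (.node [(222,(.negSucc 0),1)] .nil .nil))) (.node [(141,(.negSucc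 0),1)] (.node [] .nil (.node [(207,(.negSucc 0),1)] .nil .nil)) .nil))) (.node [] (.node [] .nil (.node [(0,(.ofNat 1),1),(1,(.ofNat 2),1),(2,(.ofNat 3),1),(3,(.ofNat 5),1),(4,(.ofNat 4),1),(5,(.ofNat 3),1),(6,(.ofNat 2),1),(7,(.ofNat 1),1),(232,(.negSucc 0),2)] (.node [] .nil (.node [(203,(.ofNat 1),1)] .nil .nil)) .nil)) (.node [(84,(.ofNat 1),1)] (.node [] .nil (.node [(163,(.negSucc 0),1)] .nil (.node [(226,(.negSucc 0),1)] .nil .nil))) (.node [(146,(.ofNat 1),1)] (.node [] .nil (.node [(211,(.negSucc 0),1)] .nil .nil)) .nil))))))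
noncomputable def ex225 : Trie (List (ℕ × ℤ × ℕ)) := (.node [(233,(.ofNat 1),1)] (.node [] (.node [] (.node [] (.node [] (.node [] .nil (.node [(158,(.negSucc 0),1)] .nil (.node [(222,(.negSucc 0),1)] .nil .nil))) (.node [] .nil (.node [] (.node [] .nil (.node [(247,(.negSucc 0),1)] .nil .nil)) .nil))) (.node [(79,(.ofNat 1),1)] (.node [] .nil (.node [(166,(.ofNat 1),1)] .nil (.node [(230,(.negSucc 0),1)] .nil .nil))) (.node [(150,(.negSucc 0),1)] (.node [] .nil (.node [(214,(.negSucc 0),1)] .nil .nil)) .nil))) (.node [] (.node [] (.node [] .nil (.node [(162,(.ofNat 1),1)] .nil (.node [(226,(.negSucc 0),1)] .nil .nil))) .nil) (.node [(83,(.ofNat 1),1)] (.node [] .nil (.node [] (.node [] .nil (.node [(243,(.negSucc 0),1)] .nil .nil)) .nil)) (.node [(154,(.negSucc 0),1)] (.node [] .nil (.node [(218,(.ofNat 1),1)] .nil .nil)) .nil)))) (.node [] (.node [] (.node [] (.node [] .nil (.node [(160,(.ofNat 1),1)] .nil (.node [(224,(.negSucc 0),1)] .nil .nil))) .nil) (.node [(81,(.ofNat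 1),1)] (.node [] .nil (.node [(168,(.negSucc 0),1)] (.node [] .nil (.node [(241,(.negSucc 0),1)] .nil .nil)) (.node [(232,(.negSucc 0),1)] .nil .nil))) (.node [(152,(.negSucc 0),1)] (.node [] .nil (.node [(216,(.ofNat 1),1)] .nil .nil)) .nil))) (.node [] (.node [] (.node [] .nil (.node [(164,(.ofNat 1),1)] .nil (.node [(228,(.negSucc 0),1)] .nil .nil))) (.node [(0,(.ofNat 1),1),(1,(.ofNat 3),1),(2,(.ofNat 3),1),(3,(.ofNat 5),1),(4,(.ofNat 4),1),(5,(.ofNat 3),1),(6,(.ofNat 2),1),(7,(.ofNat 1),1),(233,(.negSucc 0),2)] (.node [] .nil (.node [(212,(.negSucc 0),1)] .nil .nil)) .nil)) (.node [(85,(.ofNat 1),1)] (.node [] .nil (.node [] (.node [] .nil (.node [(245,(.negSucc 0),1)] .nil .nil)) .nil)) (.node [(156,(.negSucc 0),1)] (.node [] .nil (.node [(220,(.ofNat 1),1)] .nil .nil)) .nil))))) (.node [(233,(.negSucc 0),1)] (.node [] (.node [] (.node [] (.node [] .nil (.node [(159,(.ofNat 1),1)] .nil (.node [(223,(.ofNat 1),1)] .nil .nil))) .nil) (.node [(80,(.ofNat 1),1)] (.node [] .nil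 (.node [(167,(.ofNat 1),1)] .nil (.node [(231,(.ofNat 1),1)] .nil (.node [] .nil .nil)))) (.node [(151,(.ofNat 1),1)] (.node [] .nil (.node [(215,(.negSucc 0),1)] .nil .nil)) .nil))) (.node [] (.node [] (.node [] .nil (.node [(163,(.negSucc 0),1)] .nil (.node [(227,(.ofNat 1),1)] .nil .nil))) .nil) (.node [(84,(.ofNat 1),1)] (.node [] .nil (.node [] (.node [] .nil (.node [(244,(.negSucc 0),1)] .nil .nil)) .nil)) (.node [(155,(.ofNat 1),1)] (.node [] .nil (.node [(219,(.negSucc 0),1)] .nil .nil)) .nil)))) (.node [] (.node [] (.node [] (.node [] .nil (.node [(161,(.negSucc 0),1)] .nil (.node [(225,(.ofNat 1),1)] .nil .nil))) .nil) (.node [(82,(.ofNat 1),1)] (.node [] .nil (.node [(169,(.ofNat 1),1)] (.node [] .nil (.node [(242,(.negSucc 0),1)] .nil .nil)) .nil)) (.node [(153,(.ofNat 1),1)] (.node [] .nil (.node [(217,(.negSucc 0),1)] .nil .nil)) .nil))) (.node [] (.node [] (.node [] .nil (.node [(165,(.negSucc 0),1)] .nil (.node [(229,(.ofNat 1),1)] .nil .nil))) (.node [(149,(.ofNat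 1),1)] (.node [] .nil (.node [(213,(.ofNat 1),1)] .nil .nil)) .nil)) (.node [] (.node [] .nil (.node [] (.node [] .nil (.node [(246,(.negSucc 0),1)] .nil .nil)) .nil)) (.node [(157,(.ofNat 1),1)] (.node [] .nil (.node [(221,(.negSucc 0),1)] .nil .nil)) .nil))))))
noncomputable def ex226 : Trie (List (ℕ × ℤ × ℕ)) := (.node [(234,(.negSucc 0),1)] (.node [] (.node [] (.node [] (.node [] (.node [] (.node [] (.node [] .nil (.node [(235,(.negSucc 0),1)] .nil .nil)) .nil) .nil) (.node [(113,(.ofNat 1),1)] (.node [] .nil (.node [(212,(.ofNat 1),1)] .nil .nil)) .nil)) (.node [] (.node [] (.node [] .nil (.node [(197,(.negSucc 0),1)] .nil .nil)) (.node [(173,(.negSucc 0),1)] (.node [] .nil (.node [(245,(.ofNat 1),1)] .nil .nil)) .nil)) (.node [] .nil (.node [(182,(.negSucc 0),1)] .nil .nil)))) (.node [] (.node [] (.node [] (.node [] .nil (.node [(193,(.negSucc 0),1)] .nil .nil)) .nil) (.node [(127,(.ofNat 1),1)] (.node [] (.node [] .nil (.node [(240,(.ofNat 1),1)] .nil .nil)) (.node [(222,(.ofNat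 1),1)] .nil .nil)) (.node [(179,(.negSucc 0),1)] .nil .nil))) (.node [(92,(.negSucc 0),1)] (.node [] (.node [] .nil (.node [(203,(.ofNat 1),1)] .nil .nil)) .nil) (.node [(170,(.ofNat 1),1)] .nil .nil)))) (.node [] (.node [] (.node [] (.node [] (.node [] (.node [] .nil (.node [(236,(.ofNat 1),1)] .nil .nil)) (.node [(192,(.ofNat 1),1)] .nil .nil)) .nil) (.node [(122,(.ofNat 1),1)] (.node [] .nil (.node [(215,(.ofNat 1),1)] .nil .nil)) (.node [(178,(.ofNat 1),1)] .nil .nil))) (.node [(87,(.negSucc 0),1)] (.node [] .nil (.node [(174,(.ofNat 1),1)] .nil (.node [] .nil (.node [] .nil .nil)))) (.node [] (.node [] (.node [] .nil (.node [(241,(.ofNat 1),1)] .nil .nil)) .nil) (.node [(183,(.ofNat 1),1)] .nil .nil)))) (.node [] (.node [] (.node [] .nil (.node [] (.node [] .nil (.node [(244,(.ofNat 1),1)] .nil .nil)) .nil)) .nil) (.node [(101,(.negSucc 0),1)] (.node [] (.node [] (.node [] .nil (.node [(239,(.negSucc 0),1)] .nil .nil)) (.node [(208,(.ofNat 1),1)] .nil .nil)) .nil) (.node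 [] .nil (.node [(187,(.ofNat 1),1)] .nil .nil)))))) (.node [] (.node [] (.node [] (.node [] (.node [] .nil (.node [(171,(.negSucc 0),1)] .nil .nil)) (.node [(118,(.negSucc 0),1)] (.node [] .nil (.node [(213,(.negSucc 0),1)] .nil .nil)) .nil)) (.node [(86,(.negSucc 0),1)] (.node [] (.node [] (.node [] .nil (.node [(238,(.ofNat 1),1)] .nil .nil)) (.node [(199,(.ofNat 1),1)] .nil .nil)) (.node [] (.node [] .nil (.node [(246,(.ofNat 1),1)] .nil .nil)) .nil)) .nil)) (.node [] (.node [] (.node [] (.node [] (.node [] .nil (.node [(237,(.negSucc 0),1)] .nil .nil)) (.node [(194,(.ofNat 1),1)] .nil .nil)) (.node [(172,(.ofNat 1),1)] .nil .nil)) (.node [(0,(.ofNat 2),1),(1,(.ofNat 2),1),(2,(.ofNat 3),1),(3,(.ofNat 4),1),(4,(.ofNat 3),1),(5,(.ofNat 2),1),(6,(.ofNat 1),1),(234,(.negSucc 0),2)] (.node [] .nil (.node [(227,(.negSucc 0),1)] .nil .nil)) (.node [(180,(.ofNat 1),1)] .nil .nil))) (.node [(96,(.negSucc 0),1)] (.node [] (.node [] .nil (.node [(205,(.negSucc 0),1)] .nil .nil)) .nil)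 (.node [] .nil (.node [(186,(.negSucc 0),1)] .nil .nil))))) (.node [] (.node [] (.node [] (.node [] .nil (.node [] (.node [] .nil (.node [(243,(.ofNat 1),1)] .nil .nil)) .nil)) (.node [(125,(.negSucc 0),1)] (.node [] .nil (.node [(218,(.negSucc 0),1)] .nil .nil)) .nil)) (.node [(89,(.negSucc 0),1)] (.node [] (.node [] .nil (.node [(202,(.negSucc 0),1)] .nil .nil)) (.node [(175,(.negSucc 0),1)] .nil .nil)) (.node [] .nil (.node [(184,(.negSucc 0),1)] .nil .nil)))) (.node [(234,(.ofNat 1),1)] (.node [] (.node [] (.node [] .nil (.node [(196,(.ofNat 1),1)] .nil .nil)) .nil) .nil) (.node [(107,(.negSucc 0),1)] (.node [] .nil (.node [(177,(.negSucc 0),1)] .nil .nil)) (.node [] (.node [] (.node [] .nil (.node [(242,(.ofNat 1),1)] .nil .nil)) .nil) (.node [(189,(.negSucc 0),1)] .nil .nil)))))))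
noncomputable def ex227 : Trie (List (ℕ × ℤ × ℕ)) := (.node [(235,(.negSucc 0),1)] (.node [] (.node [] (.node [] (.node [] (.node [] .nil (.node [(171,(.negSucc 0),1)] .nil .nil)) (.node [(114,(.negSucc 0),1)] .nil .nil)) (.node [(86,(.negSucc 0),1)] (.node [] (.node [] (.node [] .nil (.node [(238,(.negSucc 0),1)] .nil .nil)) (.node [(198,(.negSucc 0),1)] .nil .nil)) .nil) .nil)) (.node [] (.node [] (.node [] (.node [] (.node [] .nil (.node [(237,(.ofNat 1),1)] .nil .nil)) .nil) (.node [(172,(.ofNat 1),1)] .nil .nil)) (.node [(0,(.ofNat 2),1),(1,(.ofNat 2),1),(2,(.ofNat 3),1),(3,(.ofNat 4),1),(4,(.ofNat 3),1),(5,(.ofNat 2),1),(6,(.ofNat 1),1),(7,(.ofNat 1),1),(235,(.negSucc 0),2)] (.node [] .nil (.node [(223,(.ofNat 1),1)] .nil .nil)) .nil)) (.node [(93,(.ofNat 1),1)] (.node [] (.node [] .nil (.node [(204,(.ofNat 1),1)] .nil .nil)) .nil) (.node [] .nil (.node [(186,(.negSucc 0),1)] .nil .nil))))) (.node [] (.node [] (.node [] (.node [] .nil (.node [] (.node [] .nil (.node [(243,(.negSucc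 0),1)] .nil .nil)) .nil)) (.node [(123,(.negSucc 0),1)] (.node [] .nil (.node [(216,(.ofNat 1),1)] .nil .nil)) .nil)) (.node [(88,(.ofNat 1),1)] (.node [] (.node [] .nil (.node [(202,(.negSucc 0),1)] .nil .nil)) .nil) .nil)) (.node [(235,(.ofNat 1),1)] (.node [] (.node [] (.node [] .nil (.node [(196,(.ofNat 1),1)] .nil .nil)) .nil) .nil) (.node [(102,(.ofNat 1),1)] (.node [] (.node [] .nil (.node [(209,(.ofNat 1),1)] .nil .nil)) (.node [(177,(.negSucc 0),1)] .nil .nil)) (.node [] (.node [] (.node [] .nil (.node [(242,(.negSucc 0),1)] .nil .nil)) .nil) (.node [(188,(.ofNat 1),1)] .nil .nil)))))) (.node [] (.node [] (.node [] (.node [] (.node [] (.node [] (.node [] .nil (.node [(236,(.negSucc 0),1)] .nil .nil)) (.node [(192,(.ofNat 1),1)] .nil .nil)) .nil) (.node [(119,(.ofNat 1),1)] (.node [] .nil (.node [(214,(.negSucc 0),1)] .nil .nil)) (.node [(178,(.ofNat 1),1)] .nil .nil))) (.node [] (.node [] (.node [] .nil (.node [(200,(.ofNat 1),1)] .nil .nil)) (.node [(174,(.ofNat 1),1)]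 (.node [] .nil (.node [(247,(.ofNat 1),1)] .nil .nil)) .nil)) (.node [] (.node [] (.node [] .nil (.node [(241,(.negSucc 0),1)] .nil .nil)) .nil) (.node [(183,(.ofNat 1),1)] .nil .nil)))) (.node [] (.node [] (.node [] (.node [] .nil (.node [(195,(.ofNat 1),1)] .nil .nil)) (.node [] (.node [] .nil (.node [(244,(.negSucc 0),1)] .nil .nil)) .nil)) (.node [(128,(.ofNat 1),1)] (.node [] .nil (.node [(228,(.negSucc 0),1)] .nil .nil)) (.node [(181,(.ofNat 1),1)] .nil .nil))) (.node [(97,(.ofNat 1),1)] (.node [] (.node [] (.node [] .nil (.node [(239,(.ofNat 1),1)] .nil .nil)) (.node [(206,(.negSucc 0),1)] .nil .nil)) .nil) .nil))) (.node [] (.node [] (.node [] (.node [] (.node [] .nil (.node [(193,(.negSucc 0),1)] .nil .nil)) .nil) (.node [(126,(.ofNat 1),1)] (.node [] (.node [] .nil (.node [(240,(.negSucc 0),1)] .nil .nil)) (.node [(219,(.negSucc 0),1)] .nil .nil)) (.node [(179,(.negSucc 0),1)] .nil .nil))) (.node [(90,(.ofNat 1),1)] (.node [] .nil (.node [(176,(.negSucc 0),1)] .nil (.node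 [] .nil (.node [] .nil .nil)))) (.node [(170,(.ofNat 1),1)] .nil (.node [(185,(.negSucc 0),1)] .nil .nil)))) (.node [(235,(.negSucc 0),1)] (.node [] (.node [] .nil (.node [(173,(.negSucc 0),1)] (.node [] .nil (.node [(245,(.negSucc 0),1)] .nil .nil)) .nil)) (.node [] .nil (.node [(182,(.negSucc 0),1)] .nil .nil))) (.node [(108,(.ofNat 1),1)] (.node [] (.node [] .nil (.node [(212,(.ofNat 1),1)] .nil .nil)) .nil) (.node [] .nil (.node [(190,(.negSucc 0),1)] .nil (.node [(234,(.negSucc 0),1)] .nil .nil))))))))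
noncomputable def ex228 : Trie (List (ℕ × ℤ × ℕ)) := (.node [(236,(.negSucc 0),1)] (.node [] (.node [] (.node [] (.node [] (.node [] (.node [] .nil (.node [(192,(.ofNat 1),1)] .nil .nil)) .nil) (.node [(115,(.ofNat 1),1)] (.node [] .nil (.node [(214,(.negSucc 0),1)] .nil .nil)) (.node [(178,(.ofNat 1),1)] .nil .nil))) (.node [(87,(.ofNat 1),1)] (.node [] .nil (.node [] (.node [] .nil (.node [(247,(.negSucc 0),1)] .nil .nil)) .nil)) (.node [] (.node [] (.node [] .nil (.node [(241,(.ofNat 1),1)] .nil .nil)) .nil) .nil))) (.node [] (.node [] (.node [] (.node [] .nil (.node [(195,(.ofNat 1),1)] .nil .nil)) (.node [] (.node [] .nil (.node [(244,(.ofNat 1),1)] .nil .nil)) .nil)) (.node [(129,(.ofNat 1),1)] (.node [] .nil (.node [(224,(.ofNat 1),1)] .nil .nil)) (.node [(181,(.ofNat 1),1)] .nil .nil))) (.node [(94,(.negSucc 0),1)] (.node [] (.node [] (.node [] .nil (.node [(239,(.negSucc 0),1)] .nil .nil)) .nil) (.node [] .nil (.node [] .nil (.node [] .nil .nil)))) (.node [] .nil (.node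 [(187,(.negSucc 0),1)] .nil .nil))))) (.node [] (.node [] (.node [] .nil (.node [(124,(.ofNat 1),1)] (.node [] (.node [] .nil (.node [(240,(.ofNat 1),1)] .nil .nil)) (.node [(217,(.ofNat 1),1)] .nil .nil)) .nil)) (.node [] (.node [] (.node [] .nil (.node [(203,(.negSucc 0),1)] .nil .nil)) (.node [(176,(.negSucc 0),1)] .nil .nil)) (.node [(170,(.ofNat 1),1)] .nil (.node [(185,(.negSucc 0),1)] .nil .nil)))) (.node [(236,(.negSucc 0),1)] (.node [] (.node [] (.node [] .nil (.node [(197,(.ofNat 1),1)] .nil .nil)) (.node [(173,(.negSucc 0),1)] .nil .nil)) (.node [] .nil (.node [(182,(.negSucc 0),1)] .nil .nil))) (.node [(103,(.negSucc 0),1)] (.node [] (.node [] .nil (.node [(210,(.ofNat 1),1)] .nil .nil)) .nil) (.node [] .nil (.node [] .nil (.node [(235,(.negSucc 0),1)] .nil .nil))))))) (.node [] (.node [] (.node [] (.node [] (.node [] .nil (.node [] (.node [] .nil (.node [(243,(.ofNat 1),1)] .nil .nil)) .nil)) (.node [(120,(.negSucc 0),1)] .nil .nil)) (.node [(88,(.ofNat 1),1)] (.node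 [] (.node [] .nil (.node [(201,(.ofNat 1),1)] .nil .nil)) (.node [(175,(.ofNat 1),1)] .nil .nil)) (.node [] .nil (.node [(184,(.ofNat 1),1)] .nil .nil)))) (.node [(236,(.ofNat 1),1)] (.node [] .nil (.node [(130,(.negSucc 0),1)] (.node [] .nil (.node [(229,(.negSucc 0),1)] .nil .nil)) .nil)) (.node [(98,(.negSucc 0),1)] (.node [] (.node [] .nil (.node [(207,(.negSucc 0),1)] .nil .nil)) (.node [(177,(.negSucc 0),1)] .nil .nil)) (.node [] (.node [] (.node [] .nil (.node [(242,(.ofNat 1),1)] .nil .nil)) .nil) (.node [(188,(.ofNat 1),1)] .nil (.node [(234,(.ofNat 1),1)] .nil .nil)))))) (.node [] (.node [] (.node [] (.node [] (.node [] (.node [] .nil (.node [(237,(.negSucc 0),1)] .nil .nil)) (.node [(194,(.negSucc 0),1)] .nil .nil)) (.node [(172,(.ofNat 1),1)] .nil .nil)) (.node [(0,(.ofNat 2),1),(1,(.ofNat 2),1),(2,(.ofNat 3),1),(3,(.ofNat 4),1),(4,(.ofNat 3),1),(5,(.ofNat 2),1),(6,(.ofNat 2),1),(7,(.ofNat 1),1),(236,(.negSucc 0),2)] (.node [] .nil (.node [(220,(.negSucc 0),1)] .nil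 .nil)) (.node [(180,(.negSucc 0),1)] .nil .nil))) (.node [(91,(.negSucc 0),1)] (.node [] (.node [] .nil (.node [(204,(.ofNat 1),1)] .nil .nil)) .nil) .nil)) (.node [] (.node [] (.node [] (.node [] (.node [] .nil (.node [(238,(.ofNat 1),1)] .nil .nil)) (.node [(198,(.negSucc 0),1)] .nil .nil)) (.node [] (.node [] .nil (.node [(246,(.negSucc 0),1)] .nil .nil)) .nil)) .nil) (.node [(109,(.negSucc 0),1)] (.node [] (.node [] .nil (.node [(213,(.ofNat 1),1)] .nil .nil)) .nil) (.node [(171,(.negSucc 0),1)] .nil (.node [(191,(.negSucc 0),1)] .nil .nil)))))))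
noncomputable def ex229 : Trie (List (ℕ × ℤ × ℕ)) := (.node [(237,(.negSucc 0),1)] (.node [] (.node [] (.node [] (.node [] (.node [] (.node [] .nil (.node [(193,(.ofNat 1),1)] .nil .nil)) (.node [] (.node [] .nil (.node [(243,(.negSucc 0),1)] .nil .nil)) .nil)) (.node [(116,(.negSucc 0),1)] (.node [] .nil (.node [(216,(.negSucc 0),1)] .nil .nil)) (.node [(179,(.ofNat 1),1)] .nil .nil))) (.node [(89,(.negSucc 0),1)] (.node [] (.node [] .nil (.node [(201,(.ofNat 1),1)] .nil .nil)) (.node [(176,(.negSucc 0),1)] .nil .nil)) (.node [] .nil (.node [(185,(.negSucc 0),1)] .nil .nil)))) (.node [(237,(.ofNat 1),1)] (.node [] (.node [] .nil (.node [] (.node [] .nil (.node [(245,(.ofNat 1),1)] .nil .nil)) .nil)) (.node [(132,(.negSucc 0),1)] (.node [] .nil (.node [(225,(.ofNat 1),1)] .nil .nil)) .nil)) (.node [(95,(.ofNat 1),1)] (.node [] (.node [] .nil (.node [(207,(.negSucc 0),1)] .nil .nil)) (.node [(177,(.negSucc 0),1)] .nil .nil)) (.node [] (.node [] (.node [] .nil (.node [(242,(.negSucc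 0),1)] .nil .nil)) .nil) (.node [(189,(.negSucc 0),1)] .nil (.node [(236,(.negSucc 0),1)] .nil .nil)))))) (.node [] (.node [] (.node [] (.node [] (.node [] .nil (.node [(195,(.ofNat 1),1)] .nil .nil)) (.node [(172,(.ofNat 1),1)] .nil .nil)) (.node [(0,(.ofNat 2),1),(1,(.ofNat 2),1),(2,(.ofNat 3),1),(3,(.ofNat 4),1),(4,(.ofNat 3),1),(5,(.ofNat 3),1),(6,(.ofNat 2),1),(7,(.ofNat 1),1),(237,(.negSucc 0),2)] .nil (.node [(181,(.ofNat 1),1)] .nil .nil))) (.node [(91,(.negSucc 0),1)] (.node [] (.node [] .nil (.node [(205,(.negSucc 0),1)] .nil .nil)) .nil) (.node [] .nil (.node [] .nil (.node [(234,(.negSucc 0),1)] .nil .nil))))) (.node [] (.node [] (.node [] (.node [] (.node [] .nil (.node [(238,(.negSucc 0),1)] .nil .nil)) (.node [(199,(.ofNat 1),1)] .nil .nil)) (.node [(174,(.negSucc 0),1)] (.node [] .nil (.node [(247,(.ofNat 1),1)] .nil .nil)) .nil)) (.node [] .nil (.node [(183,(.negSucc 0),1)] .nil .nil))) (.node [(104,(.ofNat 1),1)] (.node [] (.node [] .nil (.node [(211,(.ofNat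 1),1)] .nil .nil)) .nil) (.node [(171,(.negSucc 0),1)] .nil (.node [(191,(.negSucc 0),1)] .nil .nil)))))) (.node [] (.node [] (.node [] (.node [] (.node [] (.node [] .nil (.node [(194,(.negSucc 0),1)] .nil .nil)) .nil) (.node [(121,(.ofNat 1),1)] (.node [] (.node [] .nil (.node [(240,(.negSucc 0),1)] .nil .nil)) (.node [(217,(.ofNat 1),1)] .nil .nil)) (.node [(180,(.negSucc 0),1)] .nil .nil))) (.node [(90,(.negSucc 0),1)] .nil (.node [(170,(.ofNat 1),1)] .nil .nil))) (.node [(237,(.negSucc 0),1)] (.node [] (.node [] .nil (.node [] (.node [] .nil (.node [(246,(.ofNat 1),1)] .nil .nil)) .nil)) (.node [(133,(.ofNat 1),1)] (.node [] .nil (.node [(230,(.negSucc 0),1)] .nil .nil)) .nil)) (.node [(99,(.ofNat 1),1)] (.node [] .nil (.node [] .nil (.node [] .nil (.node [] .nil .nil)))) (.node [] .nil (.node [(190,(.ofNat 1),1)] .nil .nil))))) (.node [] (.node [] (.node [] .nil (.node [(131,(.ofNat 1),1)] (.node [] .nil (.node [(221,(.negSucc 0),1)] .nil .nil)) .nil)) (.node [] (.node []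 (.node [] (.node [] .nil (.node [(239,(.ofNat 1),1)] .nil .nil)) (.node [(206,(.ofNat 1),1)] .nil .nil)) .nil) (.node [] .nil (.node [] .nil (.node [(235,(.ofNat 1),1)] .nil .nil))))) (.node [] (.node [] (.node [] (.node [] .nil (.node [(200,(.negSucc 0),1)] .nil .nil)) (.node [(175,(.ofNat 1),1)] .nil .nil)) (.node [] (.node [] (.node [] .nil (.node [(241,(.negSucc 0),1)] .nil .nil)) .nil) (.node [(184,(.ofNat 1),1)] .nil .nil))) (.node [(110,(.ofNat 1),1)] (.node [] (.node [] .nil (.node [(215,(.ofNat 1),1)] .nil .nil)) .nil) .nil)))))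
noncomputable def ex230 : Trie (List (ℕ × ℤ × ℕ)) := (.node [(238,(.negSucc 0),1)] (.node [] (.node [] (.node [] (.node [] (.node [] (.node [] .nil (.node [(196,(.ofNat 1),1)] .nil .nil)) (.node [] (.node [] .nil (.node [(244,(.negSucc 0),1)] .nil .nil)) .nil)) (.node [(117,(.ofNat 1),1)] (.node [] (.node [] .nil (.node [(240,(.ofNat 1),1)] .nil .nil)) (.node [(219,(.negSucc 0),1)] .nil .nil)) .nil)) (.node [(92,(.ofNat 1),1)] .nil (.node [(170,(.ofNat 1),1)] .nil (.node [(188,(.negSucc 0),1)] .nil (.node [(236,(.ofNat 1),1)] .nil .nil))))) (.node [(238,(.negSucc 0),1)] (.node [] (.node [] (.node [] .nil (.node [(200,(.negSucc 0),1)] .nil .nil)) (.node [(175,(.ofNat 1),1)] .nil .nil)) (.node [(136,(.ofNat 1),1)] (.node [] .nil (.node [(226,(.ofNat 1),1)] .nil .nil)) .nil)) (.node [] (.node [] (.node [] .nil (.node [(210,(.negSucc 0),1)] .nil .nil)) (.node [(178,(.negSucc 0),1)] .nil .nil)) .nil))) (.node [] (.node [] (.node [] (.node [] (.node [] .nil (.node [(198,(.ofNat 1),1)]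 .nil .nil)) (.node [(173,(.ofNat 1),1)] (.node [] .nil (.node [(246,(.negSucc 0),1)] .nil .nil)) .nil)) (.node [(134,(.ofNat 1),1)] (.node [] .nil (.node [(221,(.negSucc 0),1)] .nil .nil)) .nil)) (.node [(94,(.ofNat 1),1)] (.node [] (.node [] (.node [] .nil (.node [(239,(.negSucc 0),1)] .nil .nil)) (.node [(208,(.negSucc 0),1)] .nil .nil)) .nil) (.node [] .nil (.node [(190,(.ofNat 1),1)] .nil .nil)))) (.node [] (.node [] .nil (.node [] (.node [] (.node [] .nil (.node [(241,(.ofNat 1),1)] .nil .nil)) .nil) (.node [(186,(.negSucc 0),1)] .nil (.node [(234,(.ofNat 1),1)] .nil .nil)))) (.node [(105,(.negSucc 0),1)] (.node [] .nil (.node [(180,(.negSucc 0),1)] .nil (.node [] .nil (.node [] .nil .nil)))) .nil)))) (.node [] (.node [] (.node [] (.node [] (.node [] (.node [] .nil (.node [(197,(.negSucc 0),1)] .nil .nil)) (.node [] (.node [] .nil (.node [(245,(.negSucc 0),1)] .nil .nil)) .nil)) (.node [(0,(.ofNat 2),1),(1,(.ofNat 2),1),(2,(.ofNat 3),1),(3,(.ofNat 4),1),(4,(.ofNat 4),1),(5,(.ofNat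 3),1),(6,(.ofNat 2),1),(7,(.ofNat 1),1),(238,(.negSucc 0),2)] (.node [] .nil (.node [(220,(.ofNat 1),1)] .nil .nil)) .nil)) (.node [(93,(.ofNat 1),1)] .nil (.node [] .nil (.node [(189,(.negSucc 0),1)] .nil (.node [(237,(.negSucc 0),1)] .nil .nil))))) (.node [] (.node [] (.node [] (.node [] .nil (.node [(201,(.ofNat 1),1)] .nil .nil)) (.node [(176,(.negSucc 0),1)] .nil .nil)) (.node [(137,(.negSucc 0),1)] (.node [] .nil (.node [(231,(.negSucc 0),1)] .nil .nil)) .nil)) (.node [(100,(.negSucc 0),1)] (.node [] (.node [] .nil (.node [(211,(.ofNat 1),1)] .nil .nil)) (.node [(179,(.ofNat 1),1)] .nil .nil)) (.node [(171,(.negSucc 0),1)] .nil .nil)))) (.node [(238,(.ofNat 1),1)] (.node [] (.node [] (.node [] (.node [] .nil (.node [(199,(.ofNat 1),1)] .nil .nil)) (.node [(174,(.negSucc 0),1)] (.node [] .nil (.node [(247,(.negSucc 0),1)] .nil .nil)) .nil)) (.node [(135,(.negSucc 0),1)] .nil .nil)) (.node [(95,(.ofNat 1),1)] (.node [] (.node [] .nil (.node [(209,(.ofNat 1),1)] .nil .nil))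 .nil) (.node [] (.node [] (.node [] .nil (.node [(242,(.ofNat 1),1)] .nil .nil)) .nil) (.node [(191,(.negSucc 0),1)] .nil .nil)))) (.node [] (.node [] .nil (.node [] .nil (.node [(187,(.ofNat 1),1)] .nil (.node [(235,(.negSucc 0),1)] .nil .nil)))) (.node [(111,(.negSucc 0),1)] (.node [] (.node [] .nil (.node [(218,(.ofNat 1),1)] .nil .nil)) (.node [(181,(.ofNat 1),1)] .nil .nil)) .nil)))))
noncomputable def ex231 : Trie (List (ℕ × ℤ × ℕ)) := (.node [(239,(.negSucc 0),1)] (.node [] (.node [] (.node [] (.node [] (.node [] (.node [] .nil (.node [(202,(.ofNat 1),1)] .nil .nil)) (.node [(175,(.ofNat 1),1)] .nil .nil)) (.node [(0,(.ofNat 2),1),(1,(.ofNat 2),1),(2,(.ofNat 3),1),(3,(.ofNat 5),1),(4,(.ofNat 4),1),(5,(.ofNat 3),1),(6,(.ofNat 2),1),(7,(.ofNat 1),1),(239,(.negSucc 0),2)] (.node [] .nil (.node [(223,(.negSucc 0),1)] .nil .nil)) (.node [(186,(.negSucc 0),1)] .nil .nil))) (.node [(96,(.negSucc 0),1)] (.node [] (.node [] .nil (.node [(210,(.negSucc 0),1)] .nil .nil)) .nil) .nil))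 (.node [] (.node [] (.node [] (.node [] .nil (.node [(206,(.negSucc 0),1)] .nil .nil)) .nil) (.node [(141,(.negSucc 0),1)] .nil (.node [(190,(.ofNat 1),1)] .nil (.node [(237,(.ofNat 1),1)] .nil .nil)))) (.node [(100,(.negSucc 0),1)] (.node [] .nil (.node [(182,(.negSucc 0),1)] .nil .nil)) (.node [] (.node [] (.node [] .nil (.node [(244,(.ofNat 1),1)] .nil .nil)) .nil) .nil)))) (.node [(239,(.ofNat 1),1)] (.node [] (.node [] (.node [] (.node [] .nil (.node [(204,(.ofNat 1),1)] .nil .nil)) .nil) (.node [(139,(.negSucc 0),1)] (.node [] .nil (.node [(225,(.negSucc 0),1)] .nil .nil)) (.node [(188,(.negSucc 0),1)] .nil (.node [(235,(.ofNat 1),1)] .nil .nil)))) (.node [(98,(.negSucc 0),1)] .nil .nil)) (.node [] (.node [] (.node [] (.node [] .nil (.node [(208,(.negSucc 0),1)] .nil .nil)) .nil) .nil) (.node [(106,(.ofNat 1),1)] (.node [] .nil (.node [(184,(.negSucc 0),1)] .nil .nil)) (.node [(173,(.ofNat 1),1)] (.node [] (.node [] .nil (.node [(246,(.ofNat 1),1)] .nil .nil)) .nil) .nil)))))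 (.node [(239,(.ofNat 1),1)] (.node [] (.node [] (.node [] (.node [] (.node [] .nil (.node [(203,(.negSucc 0),1)] .nil .nil)) (.node [(176,(.negSucc 0),1)] .nil .nil)) (.node [(138,(.ofNat 1),1)] (.node [] .nil (.node [(224,(.ofNat 1),1)] .nil .nil)) (.node [(187,(.ofNat 1),1)] .nil (.node [(234,(.negSucc 0),1)] .nil .nil)))) (.node [(97,(.negSucc 0),1)] (.node [] (.node [] .nil (.node [(211,(.ofNat 1),1)] .nil .nil)) .nil) .nil)) (.node [] (.node [] (.node [] (.node [] .nil (.node [(207,(.ofNat 1),1)] .nil .nil)) .nil) (.node [(142,(.ofNat 1),1)] (.node [] (.node [] .nil (.node [(241,(.negSucc 0),1)] .nil .nil)) (.node [(232,(.negSucc 0),1)] .nil .nil)) (.node [(191,(.negSucc 0),1)] .nil (.node [(238,(.negSucc 0),1)] .nil .nil)))) (.node [] (.node [] .nil (.node [(183,(.ofNat 1),1)] .nil .nil)) (.node [(172,(.negSucc 0),1)] (.node [] (.node [] .nil (.node [(245,(.ofNat 1),1)] .nil .nil)) .nil) .nil)))) (.node [(239,(.negSucc 0),1)] (.node [] (.node [] (.node [] (.node [] .nil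 (.node [(205,(.ofNat 1),1)] .nil .nil)) .nil) (.node [(140,(.ofNat 1),1)] (.node [] .nil (.node [(226,(.ofNat 1),1)] .nil .nil)) (.node [(189,(.negSucc 0),1)] .nil (.node [(236,(.negSucc 0),1)] .nil .nil)))) (.node [(99,(.negSucc 0),1)] .nil (.node [] (.node [] (.node [] .nil (.node [(243,(.ofNat 1),1)] .nil .nil)) .nil) .nil))) (.node [] (.node [] (.node [] (.node [] .nil (.node [(209,(.ofNat 1),1)] .nil .nil)) .nil) (.node [(170,(.ofNat 1),1)] .nil .nil)) (.node [(112,(.ofNat 1),1)] (.node [] (.node [] (.node [] .nil (.node [(240,(.negSucc 0),1)] .nil .nil)) (.node [(222,(.ofNat 1),1)] .nil .nil)) (.node [(185,(.ofNat 1),1)] .nil (.node [] .nil (.node [] .nil .nil)))) (.node [(174,(.negSucc 0),1)] (.node [] (.node [] .nil (.node [(247,(.ofNat 1),1)] .nil .nil)) .nil) .nil))))))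
noncomputable def ex232 : Trie (List (ℕ × ℤ × ℕ)) := (.node [] (.node [] (.node [] (.node [] (.node [] .nil (.node [(143,(.ofNat 1),1)] (.node [] .nil (.node [(228,(.negSucc 0),1)] .nil .nil)) (.node [(196,(.negSucc 0),1)] .nil (.node [(239,(.negSucc 0),1)] .nil (.node [] .nil .nil))))) (.node [(101,(.ofNat 1),1)] .nil (.node [(172,(.negSucc 0),1)] (.node [] (.node [] .nil (.node [(245,(.negSucc 0),1)] .nil .nil)) .nil) (.node [(204,(.ofNat 1),1)] .nil .nil)))) (.node [] (.node [] .nil (.node [(147,(.ofNat 1),1)] (.node [] .nil (.node [(232,(.negSucc 0),1)] .nil .nil)) (.node [(200,(.ofNat 1),1)] .nil .nil))) (.node [(105,(.ofNat 1),1)] (.node [] .nil (.node [(192,(.negSucc 0),1)] .nil (.node [(235,(.negSucc 0),1)] .nil .nil))) (.node [(176,(.negSucc 0),1)] .nil (.node [(208,(.negSucc 0),1)] .nil .nil))))) (.node [(240,(.negSucc 0),1)] (.node [] (.node [] .nil (.node [(145,(.ofNat 1),1)] (.node [] .nil (.node [(230,(.negSucc 0),1)] .nil .nil)) (.node [(198,(.negSucc 0),1)] .nil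 .nil))) (.node [(103,(.ofNat 1),1)] .nil (.node [(174,(.negSucc 0),1)] (.node [] (.node [] .nil (.node [(247,(.negSucc 0),1)] .nil .nil)) .nil) (.node [(206,(.negSucc 0),1)] .nil .nil)))) (.node [] (.node [] .nil (.node [] (.node [] (.node [] .nil (.node [(243,(.negSucc 0),1)] .nil .nil)) .nil) (.node [(202,(.ofNat 1),1)] .nil .nil))) (.node [] (.node [] .nil (.node [(194,(.negSucc 0),1)] .nil (.node [(237,(.negSucc 0),1)] .nil .nil))) (.node [] .nil (.node [(210,(.negSucc 0),1)] .nil .nil)))))) (.node [(240,(.ofNat 1),1)] (.node [] (.node [] (.node [] .nil (.node [(144,(.negSucc 0),1)] (.node [] .nil (.node [(229,(.ofNat 1),1)] .nil .nil)) (.node [(197,(.ofNat 1),1)] .nil .nil))) (.node [(102,(.ofNat 1),1)] .nil (.node [(173,(.ofNat 1),1)] (.node [] (.node [] .nil (.node [(246,(.negSucc 0),1)] .nil .nil)) .nil) (.node [(205,(.ofNat 1),1)] .nil .nil)))) (.node [] (.node [] .nil (.node [(148,(.negSucc 0),1)] (.node [] (.node [] .nil (.node [(242,(.negSucc 0),1)] .nil .nil)) .nil)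 (.node [(201,(.negSucc 0),1)] .nil .nil))) (.node [(106,(.ofNat 1),1)] (.node [] .nil (.node [(193,(.ofNat 1),1)] .nil (.node [(236,(.ofNat 1),1)] .nil .nil))) (.node [] .nil (.node [(209,(.ofNat 1),1)] .nil .nil))))) (.node [] (.node [] (.node [] .nil (.node [(146,(.negSucc 0),1)] (.node [] .nil (.node [(231,(.ofNat 1),1)] .nil .nil)) (.node [(199,(.negSucc 0),1)] .nil .nil))) (.node [(104,(.ofNat 1),1)] (.node [] .nil (.node [] .nil (.node [(234,(.ofNat 1),1)] .nil .nil))) (.node [(175,(.ofNat 1),1)] .nil (.node [(207,(.ofNat 1),1)] .nil .nil)))) (.node [] (.node [] .nil (.node [(171,(.ofNat 1),1)] (.node [] (.node [] .nil (.node [(244,(.negSucc 0),1)] .nil .nil)) .nil) (.node [(203,(.negSucc 0),1)] .nil .nil))) (.node [(0,(.ofNat 2),1),(1,(.ofNat 2),1),(2,(.ofNat 4),1),(3,(.ofNat 5),1),(4,(.ofNat 4),1),(5,(.ofNat 3),1),(6,(.ofNat 2),1),(7,(.ofNat 1),1),(240,(.negSucc 0),2)] (.node [] (.node [] .nil (.node [(227,(.ofNat 1),1)] .nil .nil)) (.node [(195,(.ofNat 1),1)] .nil (.node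 [(238,(.ofNat 1),1)] .nil .nil))) (.node [] .nil (.node [(211,(.ofNat 1),1)] .nil .nil)))))))
noncomputable def ex233 : Trie (List (ℕ × ℤ × ℕ)) := (.node [(241,(.negSucc 0),1)] (.node [] (.node [] (.node [] (.node [] (.node [] (.node [] .nil (.node [(212,(.ofNat 1),1)] .nil .nil)) (.node [(180,(.ofNat 1),1)] .nil .nil)) (.node [(149,(.ofNat 1),1)] (.node [] (.node [] .nil (.node [(243,(.negSucc 0),1)] .nil .nil)) .nil) .nil)) (.node [(107,(.ofNat 1),1)] (.node [] (.node [] .nil (.node [(220,(.negSucc 0),1)] .nil .nil)) (.node [(188,(.negSucc 0),1)] .nil (.node [(237,(.negSucc 0),1)] .nil .nil))) .nil)) (.node [] (.node [] (.node [] (.node [] .nil (.node [(216,(.negSucc 0),1)] .nil .nil)) (.node [(184,(.negSucc 0),1)] .nil .nil)) (.node [(153,(.ofNat 1),1)] (.node [] (.node [] .nil (.node [(247,(.negSucc 0),1)] .nil .nil)) .nil) .nil)) (.node [(111,(.ofNat 1),1)] (.node [] (.node [] .nil (.node [(224,(.ofNat 1),1)] .nil .nil)) .nil) .nil))) (.node [(241,(.ofNat 1),1)] (.node []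 (.node [] (.node [] (.node [] .nil (.node [(214,(.ofNat 1),1)] .nil .nil)) (.node [(182,(.negSucc 0),1)] .nil .nil)) (.node [(151,(.ofNat 1),1)] (.node [] (.node [] .nil (.node [(245,(.negSucc 0),1)] .nil .nil)) .nil) .nil)) (.node [(109,(.ofNat 1),1)] (.node [] (.node [] .nil (.node [(222,(.ofNat 1),1)] .nil .nil)) (.node [(190,(.ofNat 1),1)] .nil (.node [(239,(.negSucc 0),1)] .nil .nil))) .nil)) (.node [] (.node [] (.node [] (.node [] .nil (.node [(218,(.negSucc 0),1)] .nil .nil)) (.node [(186,(.negSucc 0),1)] .nil (.node [(235,(.negSucc 0),1)] .nil .nil))) (.node [(170,(.ofNat 1),1)] .nil .nil)) (.node [(0,(.ofNat 2),1),(1,(.ofNat 3),1),(2,(.ofNat 3),1),(3,(.ofNat 5),1),(4,(.ofNat 4),1),(5,(.ofNat 3),1),(6,(.ofNat 2),1),(7,(.ofNat 1),1),(241,(.negSucc 0),2)] (.node [] (.node [] .nil (.node [(226,(.ofNat 1),1)] .nil .nil)) .nil) (.node [(178,(.ofNat 1),1)] .nil .nil))))) (.node [(241,(.negSucc 0),1)] (.node [] (.node [] (.node [] (.node [] (.node [] .nil (.node [(213,(.negSucc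 0),1)] .nil .nil)) (.node [(181,(.negSucc 0),1)] .nil .nil)) (.node [(150,(.negSucc 0),1)] (.node [] (.node [] .nil (.node [(244,(.negSucc 0),1)] .nil .nil)) .nil) (.node [] .nil (.node [] .nil (.node [] .nil .nil))))) (.node [(108,(.ofNat 1),1)] (.node [] (.node [] .nil (.node [(221,(.ofNat 1),1)] .nil .nil)) (.node [(189,(.negSucc 0),1)] .nil (.node [(238,(.ofNat 1),1)] .nil .nil))) .nil)) (.node [] (.node [] (.node [] (.node [] .nil (.node [(217,(.ofNat 1),1)] .nil .nil)) (.node [(185,(.ofNat 1),1)] .nil (.node [(234,(.ofNat 1),1)] .nil .nil))) (.node [(154,(.negSucc 0),1)] (.node [] .nil (.node [(233,(.negSucc 0),1)] .nil .nil)) .nil)) (.node [(112,(.ofNat 1),1)] (.node [] (.node [] .nil (.node [(225,(.negSucc 0),1)] .nil .nil)) .nil) (.node [(177,(.negSucc 0),1)] .nil .nil)))) (.node [] (.node [] (.node [] (.node [] (.node [] .nil (.node [(215,(.ofNat 1),1)] .nil .nil)) (.node [(183,(.ofNat 1),1)] .nil .nil)) (.node [(152,(.negSucc 0),1)] (.node [] (.node [] .nil (.node [(246,(.negSucc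 0),1)] .nil .nil)) .nil) .nil)) (.node [(110,(.ofNat 1),1)] (.node [] (.node [] .nil (.node [(223,(.negSucc 0),1)] .nil .nil)) (.node [(191,(.negSucc 0),1)] .nil .nil)) .nil)) (.node [] (.node [] (.node [] (.node [] .nil (.node [(219,(.ofNat 1),1)] .nil .nil)) (.node [(187,(.ofNat 1),1)] .nil (.node [(236,(.ofNat 1),1)] .nil .nil))) .nil) (.node [] (.node [] (.node [] (.node [] .nil (.node [(242,(.negSucc 0),1)] .nil .nil)) .nil) .nil) (.node [(179,(.negSucc 0),1)] .nil .nil))))))
noncomputable def ex234 : Trie (List (ℕ × ℤ × ℕ)) := (.node [] (.node [] (.node [] (.node [] (.node [] (.node [] .nil (.node [] .nil (.node [(234,(.ofNat 1),1)] .nil .nil))) (.node [] .nil (.node [] .nil (.node [(241,(.negSucc 0),1)] .nil .nil)))) (.node [(113,(.ofNat 1),1)] (.node [] .nil (.node [(198,(.negSucc 0),1)] .nil .nil)) (.node [(177,(.negSucc 0),1)] .nil (.node [(214,(.ofNat 1),1)] .nil .nil)))) (.node [] (.node [] (.node [] .nil (.node [(194,(.negSucc 0),1)] .nil (.node [(238,(.ofNat 1),1)]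 .nil .nil))) (.node [(158,(.ofNat 1),1)] (.node [] .nil (.node [(233,(.negSucc 0),1)] .nil .nil)) .nil)) (.node [(117,(.ofNat 1),1)] (.node [] (.node [] (.node [] .nil (.node [(245,(.negSucc 0),1)] .nil .nil)) (.node [(229,(.ofNat 1),1)] .nil .nil)) .nil) (.node [(181,(.negSucc 0),1)] .nil (.node [(218,(.negSucc 0),1)] .nil .nil))))) (.node [(242,(.negSucc 0),1)] (.node [] (.node [] (.node [] .nil (.node [(192,(.negSucc 0),1)] .nil (.node [(236,(.ofNat 1),1)] .nil .nil))) (.node [(156,(.ofNat 1),1)] .nil (.node [] .nil (.node [] .nil (.node [] .nil .nil))))) (.node [(115,(.ofNat 1),1)] (.node [] (.node [] (.node [] .nil (.node [(243,(.negSucc 0),1)] .nil .nil)) (.node [(227,(.ofNat 1),1)] .nil .nil)) (.node [(200,(.ofNat 1),1)] .nil (.node [(240,(.negSucc 0),1)] .nil .nil))) (.node [(179,(.negSucc 0),1)] .nil (.node [(216,(.negSucc 0),1)] .nil .nil)))) (.node [] (.node [] (.node [] .nil (.node [(196,(.negSucc 0),1)] .nil .nil)) (.node [(171,(.ofNat 1),1)] .nil (.node [(212,(.ofNat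 1),1)] .nil .nil))) (.node [(143,(.ofNat 1),1)] (.node [] (.node [] (.node [] .nil (.node [(247,(.negSucc 0),1)] .nil .nil)) (.node [(231,(.ofNat 1),1)] .nil .nil)) .nil) (.node [] .nil (.node [(220,(.negSucc 0),1)] .nil .nil)))))) (.node [(242,(.negSucc 0),1)] (.node [] (.node [] (.node [] (.node [] .nil (.node [] .nil (.node [(235,(.negSucc 0),1)] .nil .nil))) (.node [(155,(.negSucc 0),1)] .nil .nil)) (.node [(114,(.ofNat 1),1)] (.node [] .nil (.node [(199,(.negSucc 0),1)] .nil .nil)) (.node [(178,(.ofNat 1),1)] .nil (.node [(215,(.ofNat 1),1)] .nil .nil)))) (.node [] (.node [] (.node [] .nil (.node [(195,(.ofNat 1),1)] .nil .nil)) (.node [(159,(.negSucc 0),1)] .nil .nil)) (.node [(0,(.ofNat 2),1),(1,(.ofNat 3),1),(2,(.ofNat 4),1),(3,(.ofNat 5),1),(4,(.ofNat 4),1),(5,(.ofNat 3),1),(6,(.ofNat 2),1),(7,(.ofNat 1),1),(242,(.negSucc 0),2)] (.node [] (.node [] (.node [] .nil (.node [(246,(.negSucc 0),1)] .nil .nil)) (.node [(230,(.negSucc 0),1)] .nil .nil)) .nil) (.node [] .nil (.node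 [(219,(.ofNat 1),1)] .nil .nil))))) (.node [(242,(.ofNat 1),1)] (.node [] (.node [] (.node [] .nil (.node [(193,(.ofNat 1),1)] .nil (.node [(237,(.negSucc 0),1)] .nil .nil))) (.node [(157,(.negSucc 0),1)] .nil .nil)) (.node [(116,(.ofNat 1),1)] (.node [] (.node [] (.node [] .nil (.node [(244,(.negSucc 0),1)] .nil .nil)) (.node [(228,(.negSucc 0),1)] .nil .nil)) (.node [(201,(.negSucc 0),1)] .nil .nil)) (.node [(180,(.ofNat 1),1)] .nil (.node [(217,(.ofNat 1),1)] .nil .nil)))) (.node [] (.node [] (.node [] .nil (.node [(197,(.ofNat 1),1)] .nil .nil)) (.node [] .nil (.node [(213,(.negSucc 0),1)] .nil .nil))) (.node [(149,(.ofNat 1),1)] .nil (.node [] .nil (.node [(221,(.ofNat 1),1)] .nil .nil)))))))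
noncomputable def ex235 : Trie (List (ℕ × ℤ × ℕ)) := (.node [] (.node [] (.node [] (.node [] (.node [] (.node [] .nil (.node [(194,(.negSucc 0),1)] .nil .nil)) (.node [(155,(.negSucc 0),1)] .nil (.node [(212,(.ofNat 1),1)] .nil .nil))) (.node [(118,(.ofNat 1),1)] (.node [] (.node [] (.node [] .nil (.node [(246,(.negSucc 0),1)] .nil .nil)) (.node [(229,(.ofNat 1),1)] .nil .nil)) (.node [(204,(.negSucc 0),1)] .nil .nil)) .nil)) (.node [(243,(.ofNat 1),1)] (.node [] (.node [] .nil (.node [] .nil (.node [(239,(.ofNat 1),1)] .nil .nil))) (.node [(162,(.ofNat 1),1)] .nil (.node [(216,(.negSucc 0),1)] .nil .nil))) (.node [(0,(.ofNat 2),1),(1,(.ofNat 3),1),(2,(.ofNat 4),1),(3,(.ofNat 6),1),(4,(.ofNat 4),1),(5,(.ofNat 3),1),(6,(.ofNat 2),1),(7,(.ofNat 1),1),(243,(.negSucc 0),2)] .nil (.node [(185,(.negSucc 0),1)] (.node [] .nil (.node [(234,(.ofNat 1),1)] .nil .nil)) (.node [(222,(.negSucc 0),1)] .nil .nil))))) (.node [] (.node [] (.node [] .nil (.node [(160,(.ofNat 1),1)] .nil (.node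 [(214,(.ofNat 1),1)] .nil .nil))) (.node [(120,(.ofNat 1),1)] (.node [] .nil (.node [(206,(.ofNat 1),1)] .nil .nil)) (.node [(183,(.negSucc 0),1)] .nil .nil))) (.node [] (.node [] (.node [] (.node [] (.node [] .nil (.node [(244,(.negSucc 0),1)] .nil .nil)) (.node [(227,(.ofNat 1),1)] .nil .nil)) (.node [(202,(.negSucc 0),1)] .nil .nil)) (.node [(172,(.ofNat 1),1)] .nil .nil)) (.node [(144,(.ofNat 1),1)] (.node [] (.node [] .nil (.node [(232,(.ofNat 1),1)] .nil .nil)) .nil) (.node [(192,(.negSucc 0),1)] (.node [] .nil (.node [(236,(.ofNat 1),1)] .nil .nil)) (.node [(224,(.negSucc 0),1)] .nil .nil)))))) (.node [] (.node [] (.node [] (.node [] (.node [] .nil (.node [(195,(.ofNat 1),1)] .nil .nil)) (.node [] .nil (.node [(213,(.negSucc 0),1)] .nil .nil))) (.node [(119,(.ofNat 1),1)] (.node [] (.node [] (.node [] .nil (.node [(247,(.negSucc 0),1)] .nil .nil)) (.node [(230,(.negSucc 0),1)] .nil .nil)) (.node [(205,(.negSucc 0),1)] .nil (.node [(240,(.negSucc 0),1)] .nil .nil))) (.node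 [(182,(.ofNat 1),1)] .nil .nil))) (.node [] (.node [] .nil (.node [(163,(.negSucc 0),1)] .nil (.node [(217,(.ofNat 1),1)] .nil (.node [(242,(.negSucc 0),1)] .nil .nil)))) (.node [(138,(.ofNat 1),1)] .nil (.node [] (.node [] .nil (.node [(235,(.negSucc 0),1)] .nil .nil)) (.node [(223,(.ofNat 1),1)] .nil .nil))))) (.node [(243,(.negSucc 0),1)] (.node [] (.node [] .nil (.node [(161,(.negSucc 0),1)] (.node [] .nil (.node [(233,(.negSucc 0),1)] .nil .nil)) (.node [(215,(.ofNat 1),1)] .nil (.node [] .nil (.node [] .nil .nil))))) (.node [(121,(.ofNat 1),1)] (.node [] .nil (.node [(207,(.negSucc 0),1)] .nil .nil)) (.node [(184,(.ofNat 1),1)] .nil .nil))) (.node [] (.node [] (.node [] (.node [] (.node [] .nil (.node [(245,(.negSucc 0),1)] .nil .nil)) (.node [(228,(.negSucc 0),1)] .nil .nil)) (.node [(203,(.ofNat 1),1)] .nil .nil)) (.node [(177,(.negSucc 0),1)] .nil .nil)) (.node [(150,(.ofNat 1),1)] (.node [] .nil (.node [] .nil (.node [(241,(.negSucc 0),1)] .nil .nil))) (.node [(193,(.ofNat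 1),1)] (.node [] .nil (.node [(237,(.negSucc 0),1)] .nil .nil)) (.node [(225,(.ofNat 1),1)] .nil .nil)))))))
noncomputable def ex236 : Trie (List (ℕ × ℤ × ℕ)) := (.node [] (.node [] (.node [] (.node [] (.node [] (.node [] .nil (.node [(197,(.negSucc 0),1)] .nil .nil)) (.node [(156,(.negSucc 0),1)] .nil .nil)) (.node [(122,(.ofNat 1),1)] (.node [] .nil (.node [] .nil (.node [(240,(.negSucc 0),1)] .nil .nil))) (.node [(182,(.ofNat 1),1)] .nil .nil))) (.node [(244,(.negSucc 0),1)] (.node [] (.node [] (.node [] (.node [] .nil (.node [(246,(.negSucc 0),1)] .nil .nil)) (.node [(228,(.negSucc 0),1)] .nil .nil)) (.node [(203,(.ofNat 1),1)] .nil .nil)) (.node [(165,(.ofNat 1),1)] .nil (.node [(219,(.negSucc 0),1)] .nil (.node [(242,(.negSucc 0),1)] .nil (.node [] .nil .nil))))) (.node [(134,(.ofNat 1),1)] .nil (.node [(188,(.negSucc 0),1)] .nil .nil)))) (.node [] (.node [] (.node [] .nil (.node [] (.node [] .nil (.node [(233,(.negSucc 0),1)] .nil .nil)) .nil)) (.node [(124,(.ofNat 1),1)]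 (.node [] .nil (.node [(209,(.ofNat 1),1)] .nil .nil)) (.node [(186,(.negSucc 0),1)] (.node [] .nil (.node [(235,(.negSucc 0),1)] .nil .nil)) (.node [(223,(.ofNat 1),1)] .nil .nil)))) (.node [] (.node [] .nil (.node [(173,(.ofNat 1),1)] .nil .nil)) (.node [(145,(.ofNat 1),1)] (.node [] .nil (.node [(213,(.negSucc 0),1)] .nil (.node [(241,(.negSucc 0),1)] .nil .nil))) .nil)))) (.node [] (.node [] (.node [] (.node [] (.node [] .nil (.node [(198,(.ofNat 1),1)] .nil .nil)) (.node [(160,(.ofNat 1),1)] .nil .nil)) (.node [(123,(.ofNat 1),1)] (.node [] (.node [] .nil (.node [(231,(.negSucc 0),1)] .nil .nil)) (.node [(208,(.negSucc 0),1)] .nil .nil)) (.node [] (.node [] .nil (.node [(234,(.ofNat 1),1)] .nil .nil)) (.node [(222,(.negSucc 0),1)] .nil (.node [(243,(.negSucc 0),1)] .nil .nil))))) (.node [(244,(.ofNat 1),1)] (.node [] (.node [] (.node [] (.node [] .nil (.node [(247,(.negSucc 0),1)] .nil .nil)) (.node [(229,(.ofNat 1),1)] .nil .nil)) (.node [(204,(.negSucc 0),1)] .nil .nil))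 (.node [(166,(.negSucc 0),1)] .nil (.node [(220,(.ofNat 1),1)] .nil .nil))) (.node [(139,(.ofNat 1),1)] (.node [] (.node [] .nil (.node [(232,(.ofNat 1),1)] .nil .nil)) (.node [(212,(.ofNat 1),1)] .nil .nil)) (.node [(192,(.negSucc 0),1)] .nil .nil)))) (.node [] (.node [] (.node [] (.node [] (.node [] (.node [] .nil (.node [(245,(.negSucc 0),1)] .nil .nil)) (.node [(227,(.ofNat 1),1)] .nil .nil)) (.node [(202,(.negSucc 0),1)] .nil (.node [(239,(.ofNat 1),1)] .nil .nil))) (.node [(164,(.negSucc 0),1)] .nil (.node [(218,(.ofNat 1),1)] .nil .nil))) (.node [(0,(.ofNat 2),1),(1,(.ofNat 3),1),(2,(.ofNat 4),1),(3,(.ofNat 6),1),(4,(.ofNat 5),1),(5,(.ofNat 3),1),(6,(.ofNat 2),1),(7,(.ofNat 1),1),(244,(.negSucc 0),2)] (.node [] .nil (.node [(210,(.negSucc 0),1)] .nil .nil)) (.node [(187,(.ofNat 1),1)] (.node [] .nil (.node [(236,(.ofNat 1),1)] .nil .nil)) (.node [(224,(.negSucc 0),1)] .nil .nil)))) (.node [] (.node [] .nil (.node [(178,(.negSucc 0),1)] .nil .nil)) (.node [(151,(.ofNat 1),1)]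 (.node [] .nil (.node [(214,(.ofNat 1),1)] .nil .nil)) (.node [(196,(.ofNat 1),1)] (.node [] .nil (.node [(238,(.negSucc 0),1)] .nil .nil)) (.node [(226,(.ofNat 1),1)] .nil .nil)))))))
noncomputable def ex237 : Trie (List (ℕ × ℤ × ℕ)) := (.node [] (.node [] (.node [] (.node [] (.node [] (.node [] .nil (.node [(199,(.negSucc 0),1)] .nil .nil)) (.node [(157,(.negSucc 0),1)] .nil .nil)) (.node [(125,(.ofNat 1),1)] (.node [] (.node [] .nil (.node [(231,(.negSucc 0),1)] .nil .nil)) (.node [(209,(.ofNat 1),1)] .nil .nil)) (.node [(183,(.ofNat 1),1)] (.node [] .nil (.node [(235,(.negSucc 0),1)] .nil .nil)) (.node [(223,(.ofNat 1),1)] .nil (.node [(243,(.negSucc 0),1)] .nil .nil))))) (.node [] (.node [] (.node [] .nil (.node [(205,(.ofNat 1),1)] .nil .nil)) (.node [(167,(.ofNat 1),1)] .nil .nil)) (.node [(135,(.ofNat 1),1)] (.node [] (.node [] .nil (.node [(232,(.ofNat 1),1)] .nil .nil)) (.node [(212,(.ofNat 1),1)] .nil .nil)) (.node [(190,(.negSucc 0),1)] .nil (.node [] .nil (.node [(244,(.negSucc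 0),1)] .nil .nil)))))) (.node [] (.node [] (.node [] (.node [] (.node [] (.node [] .nil (.node [(247,(.negSucc 0),1)] .nil .nil)) (.node [(228,(.negSucc 0),1)] .nil .nil)) (.node [(202,(.negSucc 0),1)] .nil (.node [(239,(.ofNat 1),1)] .nil .nil))) (.node [(164,(.negSucc 0),1)] .nil (.node [(219,(.negSucc 0),1)] .nil .nil))) (.node [(0,(.ofNat 2),1),(1,(.ofNat 3),1),(2,(.ofNat 4),1),(3,(.ofNat 6),1),(4,(.ofNat 5),1),(5,(.ofNat 4),1),(6,(.ofNat 2),1),(7,(.ofNat 1),1),(245,(.negSucc 0),2)] .nil .nil)) (.node [(245,(.ofNat 1),1)] (.node [] .nil (.node [(174,(.ofNat 1),1)] .nil .nil)) (.node [(146,(.ofNat 1),1)] (.node [] .nil (.node [(215,(.negSucc 0),1)] .nil .nil)) (.node [(196,(.ofNat 1),1)] (.node [] .nil (.node [(238,(.negSucc 0),1)] .nil .nil)) (.node [(226,(.ofNat 1),1)] .nil .nil)))))) (.node [] (.node [] (.node [] (.node [] (.node [] (.node [] (.node [] .nil (.node [(246,(.negSucc 0),1)] .nil .nil)) (.node [(227,(.ofNat 1),1)] .nil .nil)) (.node [(200,(.ofNat 1),1)] .nil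 .nil)) (.node [(161,(.ofNat 1),1)] (.node [] .nil (.node [(233,(.negSucc 0),1)] .nil .nil)) (.node [(218,(.ofNat 1),1)] .nil .nil))) (.node [(126,(.ofNat 1),1)] .nil (.node [(186,(.negSucc 0),1)] .nil .nil))) (.node [(245,(.negSucc 0),1)] (.node [] (.node [] (.node [] .nil (.node [(230,(.ofNat 1),1)] .nil .nil)) (.node [(206,(.negSucc 0),1)] .nil .nil)) (.node [(168,(.negSucc 0),1)] .nil (.node [(221,(.ofNat 1),1)] .nil (.node [] .nil (.node [] .nil .nil))))) (.node [(140,(.ofNat 1),1)] (.node [] .nil (.node [] .nil (.node [(241,(.negSucc 0),1)] .nil .nil))) (.node [(193,(.negSucc 0),1)] .nil .nil)))) (.node [] (.node [] (.node [] .nil (.node [] .nil (.node [] .nil (.node [(242,(.negSucc 0),1)] .nil .nil)))) (.node [(131,(.ofNat 1),1)] (.node [] .nil (.node [(211,(.negSucc 0),1)] .nil .nil)) (.node [(189,(.ofNat 1),1)] (.node [] .nil (.node [(237,(.ofNat 1),1)] .nil .nil)) (.node [(225,(.negSucc 0),1)] .nil .nil)))) (.node [] (.node [] (.node [] .nil (.node [(208,(.negSucc 0),1)]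 .nil (.node [(240,(.negSucc 0),1)] .nil .nil))) (.node [(179,(.negSucc 0),1)] (.node [] .nil (.node [(234,(.ofNat 1),1)] .nil .nil)) (.node [(222,(.negSucc 0),1)] .nil .nil))) (.node [(152,(.ofNat 1),1)] (.node [] .nil (.node [(216,(.ofNat 1),1)] .nil .nil)) .nil)))))
noncomputable def ex238 : Trie (List (ℕ × ℤ × ℕ)) := (.node [] (.node [] (.node [] (.node [] (.node [] (.node [] (.node [] (.node [] .nil (.node [(247,(.negSucc 0),1)] .nil .nil)) (.node [(227,(.ofNat 1),1)] .nil .nil)) .nil) (.node [(158,(.negSucc 0),1)] (.node [] .nil (.node [(233,(.negSucc 0),1)] .nil .nil)) (.node [(218,(.ofNat 1),1)] .nil .nil))) (.node [(127,(.ofNat 1),1)] (.node [] .nil (.node [(210,(.ofNat 1),1)] .nil .nil)) (.node [(184,(.ofNat 1),1)] (.node [] .nil (.node [(236,(.negSucc 0),1)] .nil .nil)) (.node [(224,(.ofNat 1),1)] .nil .nil)))) (.node [] (.node [] (.node [] (.node [] .nil (.node [(230,(.ofNat 1),1)] .nil .nil)) .nil) (.node [] .nil (.node [(221,(.ofNat 1),1)] .nil .nil))) (.node [(136,(.ofNat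 1),1)] (.node [] .nil (.node [(213,(.ofNat 1),1)] .nil (.node [(241,(.negSucc 0),1)] .nil .nil))) (.node [(191,(.negSucc 0),1)] .nil .nil)))) (.node [] (.node [] (.node [] (.node [] (.node [] .nil (.node [(229,(.negSucc 0),1)] .nil .nil)) (.node [(203,(.negSucc 0),1)] .nil .nil)) (.node [(165,(.negSucc 0),1)] .nil (.node [(220,(.negSucc 0),1)] .nil (.node [(242,(.negSucc 0),1)] .nil .nil)))) (.node [(129,(.ofNat 1),1)] (.node [] .nil (.node [(211,(.negSucc 0),1)] .nil .nil)) (.node [(189,(.ofNat 1),1)] (.node [] .nil (.node [(237,(.ofNat 1),1)] .nil .nil)) (.node [(225,(.negSucc 0),1)] .nil .nil)))) (.node [(246,(.negSucc 0),1)] (.node [] (.node [] .nil (.node [(208,(.negSucc 0),1)] .nil (.node [(240,(.negSucc 0),1)] .nil .nil))) (.node [(175,(.ofNat 1),1)] (.node [] .nil (.node [(234,(.ofNat 1),1)] .nil .nil)) (.node [(222,(.negSucc 0),1)] .nil (.node [] .nil (.node [] .nil .nil))))) (.node [(147,(.ofNat 1),1)] .nil (.node [(197,(.ofNat 1),1)] .nil (.node [] .nil (.node [(245,(.negSucc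 0),1)] .nil .nil))))))) (.node [] (.node [] (.node [] (.node [] (.node [] .nil (.node [(201,(.ofNat 1),1)] .nil (.node [(239,(.ofNat 1),1)] .nil .nil))) (.node [(162,(.ofNat 1),1)] .nil .nil)) (.node [(0,(.ofNat 2),1),(1,(.ofNat 3),1),(2,(.ofNat 4),1),(3,(.ofNat 6),1),(4,(.ofNat 5),1),(5,(.ofNat 4),1),(6,(.ofNat 3),1),(7,(.ofNat 1),1),(246,(.negSucc 0),2)] .nil (.node [(187,(.negSucc 0),1)] .nil .nil))) (.node [] (.node [] (.node [] .nil (.node [(207,(.negSucc 0),1)] .nil .nil)) (.node [(169,(.negSucc 0),1)] .nil .nil)) (.node [(141,(.ofNat 1),1)] (.node [] .nil (.node [(215,(.negSucc 0),1)] .nil .nil)) (.node [(194,(.negSucc 0),1)] (.node [] .nil (.node [(238,(.negSucc 0),1)] .nil .nil)) (.node [(226,(.ofNat 1),1)] .nil .nil))))) (.node [] (.node [] (.node [] (.node [] .nil (.node [(205,(.ofNat 1),1)] .nil .nil)) (.node [(167,(.ofNat 1),1)] .nil .nil)) (.node [(132,(.ofNat 1),1)] (.node [] (.node [] .nil (.node [(232,(.ofNat 1),1)] .nil .nil)) .nil) (.node [] .nil (.node [] .nil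 (.node [(244,(.negSucc 0),1)] .nil .nil))))) (.node [(246,(.ofNat 1),1)] (.node [] (.node [] (.node [] .nil (.node [(231,(.negSucc 0),1)] .nil .nil)) .nil) (.node [(180,(.negSucc 0),1)] .nil (.node [] .nil (.node [(243,(.negSucc 0),1)] .nil .nil)))) (.node [(153,(.ofNat 1),1)] (.node [] .nil (.node [(217,(.ofNat 1),1)] .nil .nil)) (.node [(199,(.negSucc 0),1)] .nil .nil))))))
noncomputable def ex239 : Trie (List (ℕ × ℤ × ℕ)) := (.node [] (.node [] (.node [] (.node [] (.node [] (.node [] (.node [] .nil (.node [(228,(.ofNat 1),1)] .nil .nil)) (.node [(201,(.ofNat 1),1)] .nil (.node [(239,(.ofNat 1),1)] .nil .nil))) (.node [(159,(.negSucc 0),1)] .nil (.node [(219,(.ofNat 1),1)] .nil .nil))) (.node [(0,(.ofNat 2),1),(1,(.ofNat 3),1),(2,(.ofNat 4),1),(3,(.ofNat 6),1),(4,(.ofNat 5),1),(5,(.ofNat 4),1),(6,(.ofNat 3),1),(7,(.ofNat 2),1),(247,(.negSucc 0),2)] .nil (.node [(185,(.ofNat 1),1)] .nil .nil))) (.node [] (.node [] (.node [] .nil (.node [(207,(.negSucc 0),1)] .nil .nil)) (.node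 [(169,(.negSucc 0),1)] .nil .nil)) (.node [(137,(.ofNat 1),1)] (.node [] .nil (.node [(214,(.ofNat 1),1)] .nil .nil)) (.node [] (.node [] .nil (.node [(238,(.negSucc 0),1)] .nil .nil)) (.node [(226,(.ofNat 1),1)] .nil .nil))))) (.node [] (.node [] (.node [] (.node [] .nil (.node [(204,(.negSucc 0),1)] .nil .nil)) (.node [(166,(.negSucc 0),1)] .nil .nil)) (.node [(130,(.ofNat 1),1)] (.node [] (.node [] .nil (.node [(232,(.ofNat 1),1)] .nil .nil)) .nil) (.node [(190,(.ofNat 1),1)] .nil (.node [] .nil (.node [(244,(.negSucc 0),1)] .nil .nil))))) (.node [] (.node [] (.node [] (.node [] .nil (.node [(231,(.negSucc 0),1)] .nil .nil)) (.node [(209,(.negSucc 0),1)] .nil .nil)) (.node [(176,(.ofNat 1),1)] (.node [] .nil (.node [(235,(.ofNat 1),1)] .nil .nil)) (.node [(223,(.negSucc 0),1)] .nil (.node [(243,(.negSucc 0),1)] .nil .nil)))) (.node [(148,(.ofNat 1),1)] (.node [] .nil (.node [(217,(.ofNat 1),1)] .nil .nil)) (.node [(198,(.ofNat 1),1)] .nil .nil))))) (.node [] (.node [] (.node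 [] (.node [] (.node [] (.node [] .nil (.node [(229,(.negSucc 0),1)] .nil .nil)) .nil) (.node [(163,(.ofNat 1),1)] .nil (.node [(220,(.negSucc 0),1)] .nil (.node [(242,(.negSucc 0),1)] .nil .nil)))) (.node [(128,(.ofNat 1),1)] (.node [] .nil (.node [(211,(.negSucc 0),1)] .nil .nil)) (.node [(188,(.negSucc 0),1)] (.node [] .nil (.node [(237,(.ofNat 1),1)] .nil .nil)) (.node [(225,(.negSucc 0),1)] .nil .nil)))) (.node [] (.node [] (.node [] .nil (.node [] .nil (.node [(240,(.negSucc 0),1)] .nil .nil))) .nil) (.node [(142,(.ofNat 1),1)] (.node [] .nil (.node [(216,(.negSucc 0),1)] .nil .nil)) (.node [(195,(.negSucc 0),1)] .nil (.node [] .nil (.node [(245,(.negSucc 0),1)] .nil .nil)))))) (.node [] (.node [] (.node [] (.node [] (.node [] .nil (.node [(230,(.ofNat 1),1)] .nil .nil)) (.node [(206,(.ofNat 1),1)] .nil .nil)) (.node [(168,(.ofNat 1),1)] .nil (.node [(221,(.ofNat 1),1)] .nil .nil))) (.node [(133,(.ofNat 1),1)] (.node [] .nil (.node [] .nil (.node [(241,(.negSucc 0),1)] .nil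 .nil))) (.node [(191,(.negSucc 0),1)] .nil .nil))) (.node [(247,(.negSucc 0),1)] (.node [] (.node [] .nil (.node [(210,(.ofNat 1),1)] .nil .nil)) (.node [(181,(.negSucc 0),1)] (.node [] .nil (.node [(236,(.negSucc 0),1)] .nil .nil)) (.node [(224,(.ofNat 1),1)] .nil (.node [] .nil (.node [] .nil .nil))))) (.node [(154,(.ofNat 1),1)] (.node [] (.node [] .nil (.node [(233,(.negSucc 0),1)] .nil .nil)) .nil) (.node [(200,(.negSucc 0),1)] .nil (.node [] .nil (.node [(246,(.negSucc 0),1)] .nil .nil))))))))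
noncomputable def ex : Trie (Trie (List (ℕ × ℤ × ℕ))) := (.node ex0 (.node .nil (.node .nil (.node .nil (.node .nil (.node .nil (.node .nil (.node .nil .nil (.node ex128 .nil .nil)) (.node ex64 .nil (.node ex192 .nil .nil))) (.node ex32 (.node .nil .nil (.node ex160 .nil .nil)) (.node ex96 .nil (.node ex224 .nil .nil)))) (.node ex16 (.node .nil (.node .nil .nil (.node ex144 .nil .nil)) (.node ex80 .nil (.node ex208 .nil .nil))) (.node ex48 (.node .nil .nil (.node ex176 .nil .nil)) (.node ex112 .nil .nil)))) (.node ex8 (.node .nil (.node .nil (.node .nil .nil (.node ex136 .nil .nil)) (.node ex72 .nil (.node ex200 .nil .nil))) (.node ex40 (.node .nil .nil (.node ex168 .nil .nil)) (.node ex104 .nil (.node ex232 .nil .nil)))) (.node ex24 (.node .nil (.node .nil .nil (.node ex152 .nil .nil)) (.node ex88 .nil (.node ex216 .nil .nil))) (.node ex56 (.node .nil .nil (.node ex184 .nil .nil)) (.node ex120 .nil .nil))))) (.node ex4 (.node .nil (.node .nil (.node .nil (.node .nil .nil (.node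 ex132 .nil .nil)) (.node ex68 .nil (.node ex196 .nil .nil))) (.node ex36 (.node .nil .nil (.node ex164 .nil .nil)) (.node ex100 .nil (.node ex228 .nil .nil)))) (.node ex20 (.node .nil (.node .nil .nil (.node ex148 .nil .nil)) (.node ex84 .nil (.node ex212 .nil .nil))) (.node ex52 (.node .nil .nil (.node ex180 .nil .nil)) (.node ex116 .nil .nil)))) (.node ex12 (.node .nil (.node .nil (.node .nil .nil (.node ex140 .nil .nil)) (.node ex76 .nil (.node ex204 .nil .nil))) (.node ex44 (.node .nil .nil (.node ex172 .nil .nil)) (.node ex108 .nil (.node ex236 .nil .nil)))) (.node ex28 (.node .nil (.node .nil .nil (.node ex156 .nil .nil)) (.node ex92 .nil (.node ex220 .nil .nil))) (.node ex60 (.node .nil .nil (.node ex188 .nil .nil)) (.node ex124 .nil .nil)))))) (.node ex2 (.node .nil (.node .nil (.node .nil (.node .nil (.node .nil .nil (.node ex130 .nil .nil)) (.node ex66 .nil (.node ex194 .nil .nil))) (.node ex34 (.node .nil .nil (.node ex162 .nil .nil)) (.node ex98 .nil (.node ex226 .nil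 .nil)))) (.node ex18 (.node .nil (.node .nil .nil (.node ex146 .nil .nil)) (.node ex82 .nil (.node ex210 .nil .nil))) (.node ex50 (.node .nil .nil (.node ex178 .nil .nil)) (.node ex114 .nil .nil)))) (.node ex10 (.node .nil (.node .nil (.node .nil .nil (.node ex138 .nil .nil)) (.node ex74 .nil (.node ex202 .nil .nil))) (.node ex42 (.node .nil .nil (.node ex170 .nil .nil)) (.node ex106 .nil (.node ex234 .nil .nil)))) (.node ex26 (.node .nil (.node .nil .nil (.node ex154 .nil .nil)) (.node ex90 .nil (.node ex218 .nil .nil))) (.node ex58 (.node .nil .nil (.node ex186 .nil .nil)) (.node ex122 .nil .nil))))) (.node ex6 (.node .nil (.node .nil (.node .nil (.node .nil .nil (.node ex134 .nil .nil)) (.node ex70 .nil (.node ex198 .nil .nil))) (.node ex38 (.node .nil .nil (.node ex166 .nil .nil)) (.node ex102 .nil (.node ex230 .nil .nil)))) (.node ex22 (.node .nil (.node .nil .nil (.node ex150 .nil .nil)) (.node ex86 .nil (.node ex214 .nil .nil))) (.node ex54 (.node .nil .nil (.node ex182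 .nil .nil)) (.node ex118 .nil .nil)))) (.node ex14 (.node .nil (.node .nil (.node .nil .nil (.node ex142 .nil .nil)) (.node ex78 .nil (.node ex206 .nil .nil))) (.node ex46 (.node .nil .nil (.node ex174 .nil .nil)) (.node ex110 .nil (.node ex238 .nil .nil)))) (.node ex30 (.node .nil (.node .nil .nil (.node ex158 .nil .nil)) (.node ex94 .nil (.node ex222 .nil .nil))) (.node ex62 (.node .nil .nil (.node ex190 .nil .nil)) (.node ex126 .nil .nil))))))) (.node ex1 (.node .nil (.node .nil (.node .nil (.node .nil (.node .nil (.node .nil .nil (.node ex129 .nil .nil)) (.node ex65 .nil (.node ex193 .nil .nil))) (.node ex33 (.node .nil .nil (.node ex161 .nil .nil)) (.node ex97 .nil (.node ex225 .nil .nil)))) (.node ex17 (.node .nil (.node .nil .nil (.node ex145 .nil .nil)) (.node ex81 .nil (.node ex209 .nil .nil))) (.node ex49 (.node .nil .nil (.node ex177 .nil .nil)) (.node ex113 .nil .nil)))) (.node ex9 (.node .nil (.node .nil (.node .nil .nil (.node ex137 .nil .nil)) (.node ex73 .nil (.node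 ex201 .nil .nil))) (.node ex41 (.node .nil .nil (.node ex169 .nil .nil)) (.node ex105 .nil (.node ex233 .nil .nil)))) (.node ex25 (.node .nil (.node .nil .nil (.node ex153 .nil .nil)) (.node ex89 .nil (.node ex217 .nil .nil))) (.node ex57 (.node .nil .nil (.node ex185 .nil .nil)) (.node ex121 .nil .nil))))) (.node ex5 (.node .nil (.node .nil (.node .nil (.node .nil .nil (.node ex133 .nil .nil)) (.node ex69 .nil (.node ex197 .nil .nil))) (.node ex37 (.node .nil .nil (.node ex165 .nil .nil)) (.node ex101 .nil (.node ex229 .nil .nil)))) (.node ex21 (.node .nil (.node .nil .nil (.node ex149 .nil .nil)) (.node ex85 .nil (.node ex213 .nil .nil))) (.node ex53 (.node .nil .nil (.node ex181 .nil .nil)) (.node ex117 .nil .nil)))) (.node ex13 (.node .nil (.node .nil (.node .nil .nil (.node ex141 .nil .nil)) (.node ex77 .nil (.node ex205 .nil .nil))) (.node ex45 (.node .nil .nil (.node ex173 .nil .nil)) (.node ex109 .nil (.node ex237 .nil .nil)))) (.node ex29 (.node .nil (.node .nil .nil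 (.node ex157 .nil .nil)) (.node ex93 .nil (.node ex221 .nil .nil))) (.node ex61 (.node .nil .nil (.node ex189 .nil .nil)) (.node ex125 .nil .nil)))))) (.node ex3 (.node .nil (.node .nil (.node .nil (.node .nil (.node .nil .nil (.node ex131 .nil .nil)) (.node ex67 .nil (.node ex195 .nil .nil))) (.node ex35 (.node .nil .nil (.node ex163 .nil .nil)) (.node ex99 .nil (.node ex227 .nil .nil)))) (.node ex19 (.node .nil (.node .nil .nil (.node ex147 .nil .nil)) (.node ex83 .nil (.node ex211 .nil .nil))) (.node ex51 (.node .nil .nil (.node ex179 .nil .nil)) (.node ex115 .nil .nil)))) (.node ex11 (.node .nil (.node .nil (.node .nil .nil (.node ex139 .nil .nil)) (.node ex75 .nil (.node ex203 .nil .nil))) (.node ex43 (.node .nil .nil (.node ex171 .nil .nil)) (.node ex107 .nil (.node ex235 .nil .nil)))) (.node ex27 (.node .nil (.node .nil .nil (.node ex155 .nil .nil)) (.node ex91 .nil (.node ex219 .nil .nil))) (.node ex59 (.node .nil .nil (.node ex187 .nil .nil)) (.node ex123 .nil .nil)))))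 (.node ex7 (.node .nil (.node .nil (.node .nil (.node .nil .nil (.node ex135 .nil .nil)) (.node ex71 .nil (.node ex199 .nil .nil))) (.node ex39 (.node .nil .nil (.node ex167 .nil .nil)) (.node ex103 .nil (.node ex231 .nil .nil)))) (.node ex23 (.node .nil (.node .nil .nil (.node ex151 .nil .nil)) (.node ex87 .nil (.node ex215 .nil .nil))) (.node ex55 (.node .nil .nil (.node ex183 .nil .nil)) (.node ex119 .nil .nil)))) (.node ex15 (.node .nil (.node .nil (.node .nil .nil (.node ex143 .nil .nil)) (.node ex79 .nil (.node ex207 .nil .nil))) (.node ex47 (.node .nil .nil (.node ex175 .nil .nil)) (.node ex111 .nil (.node ex239 .nil .nil)))) (.node ex31 (.node .nil (.node .nil .nil (.node ex159 .nil .nil)) (.node ex95 .nil (.node ex223 .nil .nil))) (.node ex63 (.node .nil .nil (.node ex191 .nil .nil)) (.node ex127 .nil .nil))))))))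
noncomputable def nt7 : Trie (List (ℕ × ℤ)) := (.node [(0,(.ofNat 1))] (.node [] (.node [] (.node [] (.node [] (.node [] (.node [] (.node [] .nil (.node [(127,(.negSucc 0))] .nil .nil)) (.node [(64,(.ofNat 1))] .nil (.node [(192,(.ofNat 1))] .nil .nil))) (.node [(33,(.negSucc 0))] (.node [] .nil (.node [(160,(.ofNat 1))] .nil .nil)) (.node [(97,(.negSucc 0))] .nil (.node [(224,(.ofNat 1))] .nil .nil)))) (.node [(16,(.ofNat 1))] (.node [] (.node [] .nil (.node [(144,(.ofNat 1))] .nil .nil)) (.node [(79,(.ofNat 1))] .nil (.node [(209,(.ofNat 1))] .nil .nil))) (.node [(48,(.ofNat 1))] (.node [] .nil (.node [(175,(.negSucc 0))] .nil .nil)) (.node [(112,(.ofNat 1))] .nil (.node [(240,(.ofNat 1))] .nil .nil))))) (.node [(9,(.negSucc 0))] (.node [] (.node [] (.node [] .nil (.node [(137,(.ofNat 1))] .nil .nil)) (.node [(72,(.ofNat 1))] .nil (.node [(199,(.negSucc 0))] .nil .nil))) (.node [(39,(.ofNat 1))] (.node [] .nil (.node [(167,(.negSucc 0))] .nil .nil)) (.node [(104,(.ofNat 1))]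 .nil (.node [(232,(.ofNat 1))] .nil .nil)))) (.node [(24,(.ofNat 1))] (.node [] (.node [] .nil (.node [(152,(.ofNat 1))] .nil .nil)) (.node [(87,(.ofNat 1))] .nil (.node [(215,(.negSucc 0))] .nil .nil))) (.node [(55,(.ofNat 1))] (.node [] .nil (.node [(185,(.ofNat 1))] .nil .nil)) (.node [(120,(.ofNat 1))] .nil .nil))))) (.node [(4,(.ofNat 1))] (.node [] (.node [] (.node [] (.node [] .nil (.node [(133,(.ofNat 1))] .nil .nil)) (.node [(67,(.ofNat 1))] .nil (.node [(196,(.ofNat 1))] .nil .nil))) (.node [(37,(.negSucc 0))] (.node [] .nil (.node [(164,(.ofNat 1))] .nil .nil)) (.node [(100,(.ofNat 1))] .nil (.node [(227,(.negSucc 0))] .nil .nil)))) (.node [(21,(.negSucc 0))] (.node [] (.node [] .nil (.node [(147,(.negSucc 0))] .nil .nil)) (.node [(84,(.ofNat 1))] .nil (.node [(212,(.ofNat 1))] .nil .nil))) (.node [(51,(.ofNat 1))] (.node [] .nil (.node [(181,(.ofNat 1))] .nil .nil)) (.node [(116,(.ofNat 1))] .nil (.node [(244,(.ofNat 1))] .nil .nil))))) (.node [(12,(.ofNat 1))] (.node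 [] (.node [] (.node [] .nil (.node [(140,(.ofNat 1))] .nil .nil)) (.node [(76,(.ofNat 1))] .nil (.node [(203,(.negSucc 0))] .nil .nil))) (.node [(44,(.ofNat 1))] (.node [] .nil (.node [(172,(.ofNat 1))] .nil .nil)) (.node [(107,(.ofNat 1))] .nil (.node [(236,(.ofNat 1))] .nil .nil)))) (.node [(27,(.ofNat 1))] (.node [] (.node [] .nil (.node [(156,(.ofNat 1))] .nil .nil)) (.node [(93,(.negSucc 0))] .nil (.node [(220,(.ofNat 1))] .nil .nil))) (.node [(61,(.negSucc 0))] (.node [] .nil (.node [(187,(.negSucc 0))] .nil .nil)) (.node [(124,(.ofNat 1))] .nil .nil)))))) (.node [(2,(.ofNat 1))] (.node [] (.node [] (.node [] (.node [] (.node [] .nil (.node [(129,(.negSucc 0))] .nil .nil)) (.node [(65,(.ofNat 1))] .nil (.node [(195,(.ofNat 1))] .nil .nil))) (.node [(34,(.ofNat 1))] (.node [] .nil (.node [(163,(.ofNat 1))] .nil .nil)) (.node [(98,(.ofNat 1))] .nil (.node [(226,(.ofNat 1))] .nil .nil)))) (.node [(18,(.ofNat 1))] (.node [] (.node [] .nil (.node [(146,(.ofNat 1))] .nil .nil))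 (.node [(82,(.ofNat 1))] .nil (.node [(210,(.ofNat 1))] .nil .nil))) (.node [(49,(.ofNat 1))] (.node [] .nil (.node [(178,(.ofNat 1))] .nil .nil)) (.node [(113,(.ofNat 1))] .nil (.node [(242,(.ofNat 1))] .nil .nil))))) (.node [(10,(.ofNat 1))] (.node [] (.node [] (.node [] .nil (.node [(138,(.ofNat 1))] .nil .nil)) (.node [(75,(.negSucc 0))] .nil (.node [(202,(.ofNat 1))] .nil .nil))) (.node [(41,(.ofNat 1))] (.node [] .nil (.node [(170,(.ofNat 1))] .nil .nil)) (.node [(106,(.ofNat 1))] .nil (.node [(235,(.ofNat 1))] .nil .nil)))) (.node [(26,(.ofNat 1))] (.node [] (.node [] .nil (.node [(153,(.negSucc 0))] .nil .nil)) (.node [(89,(.ofNat 1))] .nil (.node [(219,(.ofNat 1))] .nil .nil))) (.node [(57,(.ofNat 1))] (.node [] .nil (.node [(186,(.ofNat 1))] .nil .nil)) (.node [(123,(.negSucc 0))] .nil .nil))))) (.node [(6,(.ofNat 1)),(7,(.ofNat 1))] (.node [] (.node [] (.node [] (.node [] .nil (.node [(134,(.ofNat 1))] .nil .nil)) (.node [(71,(.negSucc 0))] .nil (.node [(197,(.negSucc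 0))] .nil .nil))) (.node [(38,(.ofNat 1))] (.node [] .nil (.node [(165,(.negSucc 0))] .nil .nil)) (.node [(101,(.ofNat 1))] .nil (.node [(230,(.ofNat 1))] .nil .nil)))) (.node [(22,(.ofNat 1))] (.node [] (.node [] .nil (.node [(150,(.ofNat 1))] .nil .nil)) (.node [(86,(.ofNat 1))] .nil (.node [(213,(.negSucc 0))] .nil .nil))) (.node [(54,(.ofNat 1))] (.node [] .nil (.node [(182,(.ofNat 1))] .nil .nil)) (.node [(119,(.negSucc 0))] .nil (.node [(247,(.ofNat 1))] .nil .nil))))) (.node [(14,(.ofNat 1))] (.node [] (.node [] (.node [] .nil (.node [(141,(.negSucc 0))] .nil .nil)) (.node [(78,(.ofNat 1))] .nil (.node [(205,(.negSucc 0))] .nil .nil))) (.node [(47,(.negSucc 0))] (.node [] .nil (.node [(174,(.ofNat 1))] .nil .nil)) (.node [(110,(.ofNat 1))] .nil (.node [(238,(.ofNat 1))] .nil .nil)))) (.node [(30,(.ofNat 1))] (.node [] (.node [] .nil (.node [(159,(.ofNat 1))] .nil .nil)) (.node [(94,(.ofNat 1))] .nil (.node [(223,(.ofNat 1))] .nil .nil))) (.node [(62,(.ofNat 1))] (.node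 [] .nil (.node [(189,(.negSucc 0))] .nil .nil)) (.node [(125,(.ofNat 1))] .nil .nil))))))) (.node [(1,(.ofNat 1))] (.node [] (.node [] (.node [] (.node [] (.node [] (.node [] .nil (.node [(130,(.ofNat 1))] .nil .nil)) (.node [(66,(.negSucc 0))] .nil (.node [(193,(.ofNat 1))] .nil .nil))) (.node [(32,(.ofNat 1))] (.node [] .nil (.node [(161,(.ofNat 1))] .nil .nil)) (.node [(96,(.ofNat 1))] .nil (.node [(225,(.ofNat 1))] .nil .nil)))) (.node [(17,(.ofNat 1))] (.node [] (.node [] .nil (.node [(145,(.ofNat 1))] .nil .nil)) (.node [(81,(.ofNat 1))] .nil (.node [(208,(.negSucc 0))] .nil .nil))) (.node [(50,(.negSucc 0))] (.node [] .nil (.node [(177,(.ofNat 1))] .nil .nil)) (.node [(114,(.negSucc 0))] .nil (.node [(241,(.ofNat 1))] .nil .nil))))) (.node [(8,(.ofNat 1))] (.node [] (.node [] (.node [] .nil (.node [(136,(.negSucc 0))] .nil .nil)) (.node [(73,(.ofNat 1))] .nil (.node [(201,(.ofNat 1))] .nil .nil))) (.node [(42,(.negSucc 0))] (.node [] .nil (.node [(169,(.ofNat 1))] .nil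 .nil)) (.node [(105,(.ofNat 1))] .nil (.node [(233,(.ofNat 1))] .nil .nil)))) (.node [(25,(.ofNat 1))] (.node [] (.node [] .nil (.node [(154,(.ofNat 1))] .nil .nil)) (.node [(90,(.negSucc 0))] .nil (.node [(217,(.ofNat 1))] .nil .nil))) (.node [(58,(.negSucc 0))] (.node [] .nil (.node [(184,(.negSucc 0))] .nil .nil)) (.node [(121,(.ofNat 1))] .nil .nil))))) (.node [(5,(.ofNat 1))] (.node [] (.node [] (.node [] (.node [] .nil (.node [(132,(.negSucc 0))] .nil .nil)) (.node [(69,(.ofNat 1))] .nil (.node [(198,(.ofNat 1))] .nil .nil))) (.node [(36,(.ofNat 1))] (.node [] .nil (.node [(166,(.ofNat 1))] .nil .nil)) (.node [(102,(.negSucc 0))] .nil (.node [(229,(.ofNat 1))] .nil .nil)))) (.node [(20,(.ofNat 1))] (.node [] (.node [] .nil (.node [(149,(.ofNat 1))] .nil .nil)) (.node [(85,(.ofNat 1))] .nil (.node [(214,(.ofNat 1))] .nil .nil))) (.node [(53,(.ofNat 1))] (.node [] .nil (.node [(180,(.negSucc 0))] .nil .nil)) (.node [(117,(.ofNat 1))] .nil (.node [(245,(.ofNat 1))] .nil .nil)))))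 (.node [(13,(.ofNat 1))] (.node [] (.node [] (.node [] .nil (.node [(142,(.ofNat 1))] .nil .nil)) (.node [(77,(.ofNat 1))] .nil (.node [(206,(.ofNat 1))] .nil .nil))) (.node [(45,(.ofNat 1))] (.node [] .nil (.node [(173,(.ofNat 1))] .nil .nil)) (.node [(109,(.ofNat 1))] .nil (.node [(237,(.ofNat 1))] .nil .nil)))) (.node [(29,(.ofNat 1))] (.node [] (.node [] .nil (.node [(157,(.ofNat 1))] .nil .nil)) (.node [(92,(.ofNat 1))] .nil (.node [(221,(.ofNat 1))] .nil .nil))) (.node [(60,(.ofNat 1))] (.node [] .nil (.node [(190,(.ofNat 1))] .nil .nil)) (.node [(126,(.negSucc 0))] .nil .nil)))))) (.node [(3,(.ofNat 1))] (.node [] (.node [] (.node [] (.node [] (.node [] .nil (.node [(131,(.ofNat 1))] .nil .nil)) (.node [(68,(.negSucc 0))] .nil (.node [(194,(.negSucc 0))] .nil .nil))) (.node [(35,(.ofNat 1))] (.node [] .nil (.node [(162,(.negSucc 0))] .nil .nil)) (.node [(99,(.ofNat 1))] .nil (.node [(228,(.ofNat 1))] .nil .nil)))) (.node [(19,(.ofNat 1))] (.node [] (.node [] .nil (.node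 [(148,(.ofNat 1))] .nil .nil)) (.node [(83,(.ofNat 1))] .nil (.node [(211,(.ofNat 1))] .nil .nil))) (.node [(52,(.negSucc 0))] (.node [] .nil (.node [(179,(.ofNat 1))] .nil .nil)) (.node [(115,(.ofNat 1))] .nil (.node [(243,(.ofNat 1))] .nil .nil))))) (.node [(11,(.ofNat 1))] (.node [] (.node [] (.node [] .nil (.node [(139,(.ofNat 1))] .nil .nil)) (.node [(74,(.ofNat 1))] .nil (.node [(204,(.ofNat 1))] .nil .nil))) (.node [(43,(.ofNat 1))] (.node [] .nil (.node [(171,(.ofNat 1))] .nil .nil)) (.node [(108,(.negSucc 0))] .nil (.node [(234,(.negSucc 0))] .nil .nil)))) (.node [(28,(.negSucc 0))] (.node [] (.node [] .nil (.node [(155,(.ofNat 1))] .nil .nil)) (.node [(91,(.ofNat 1))] .nil (.node [(218,(.negSucc 0))] .nil .nil))) (.node [(59,(.ofNat 1))] (.node [] .nil (.node [(188,(.ofNat 1))] .nil .nil)) (.node [(122,(.ofNat 1))] .nil .nil))))) (.node [(7,(.negSucc 0))] (.node [] (.node [] (.node [] (.node [] .nil (.node [(135,(.ofNat 1))] .nil .nil)) (.node [(70,(.ofNat 1))] .nil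 (.node [(200,(.ofNat 1))] .nil .nil))) (.node [(40,(.negSucc 0))] (.node [] .nil (.node [(168,(.ofNat 1))] .nil .nil)) (.node [(103,(.ofNat 1))] .nil (.node [(231,(.ofNat 1))] .nil .nil)))) (.node [(23,(.ofNat 1))] (.node [] (.node [] .nil (.node [(151,(.ofNat 1))] .nil .nil)) (.node [(88,(.negSucc 0))] .nil (.node [(216,(.ofNat 1))] .nil .nil))) (.node [(56,(.negSucc 0))] (.node [] .nil (.node [(183,(.ofNat 1))] .nil .nil)) (.node [(118,(.ofNat 1))] .nil (.node [(246,(.negSucc 0))] .nil .nil))))) (.node [(15,(.ofNat 1))] (.node [] (.node [] (.node [] .nil (.node [(143,(.ofNat 1))] .nil .nil)) (.node [(80,(.negSucc 0))] .nil (.node [(207,(.ofNat 1))] .nil .nil))) (.node [(46,(.ofNat 1))] (.node [] .nil (.node [(176,(.ofNat 1))] .nil .nil)) (.node [(111,(.ofNat 1))] .nil (.node [(239,(.ofNat 1))] .nil .nil)))) (.node [(31,(.ofNat 1))] (.node [] (.node [] .nil (.node [(158,(.negSucc 0))] .nil .nil)) (.node [(95,(.ofNat 1))] .nil (.node [(222,(.negSucc 0))] .nil .nil))) (.node [(63,(.ofNat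 1))] (.node [] .nil (.node [(191,(.ofNat 1))] .nil .nil)) (.node [(128,(.negSucc 0))] .nil .nil))))))))
noncomputable def nt6 : Trie (List (ℕ × ℤ)) := (.node [(0,(.ofNat 1))] (.node [] (.node [] (.node [] (.node [] (.node [] (.node [] (.node [] .nil (.node [(130,(.negSucc 0))] .nil .nil)) (.node [(65,(.negSucc 0))] .nil (.node [(192,(.ofNat 1))] .nil .nil))) (.node [(31,(.ofNat 1))] (.node [] .nil (.node [(160,(.ofNat 1))] .nil .nil)) (.node [(96,(.ofNat 1))] .nil (.node [(223,(.negSucc 0))] .nil .nil)))) (.node [(16,(.ofNat 1))] (.node [] (.node [] .nil (.node [(144,(.ofNat 1))] .nil .nil)) (.node [(81,(.negSucc 0))] .nil (.node [(208,(.ofNat 1))] .nil .nil))) (.node [(49,(.negSucc 0))] (.node [] .nil (.node [(176,(.ofNat 1))] .nil .nil)) (.node [(112,(.ofNat 1))] .nil (.node [(240,(.ofNat 1))] .nil .nil))))) (.node [(8,(.ofNat 1))] (.node [] (.node [] (.node [] .nil (.node [(135,(.negSucc 0))] .nil .nil)) (.node [(71,(.ofNat 1))] .nil (.node [(201,(.ofNat 1))] .nil .nil))) (.node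 [(40,(.ofNat 1))] (.node [] .nil (.node [(169,(.ofNat 1))] .nil .nil)) (.node [(104,(.ofNat 1))] .nil (.node [(232,(.ofNat 1))] .nil .nil)))) (.node [(24,(.ofNat 1))] (.node [] (.node [] .nil (.node [(153,(.ofNat 1))] .nil .nil)) (.node [(88,(.ofNat 1))] .nil (.node [(217,(.ofNat 1))] .nil .nil))) (.node [(56,(.ofNat 1))] (.node [] .nil (.node [(183,(.negSucc 0))] .nil .nil)) (.node [(119,(.ofNat 1))] .nil .nil))))) (.node [(4,(.ofNat 1))] (.node [] (.node [] (.node [] (.node [] .nil (.node [(131,(.negSucc 0))] .nil .nil)) (.node [(69,(.negSucc 0))] .nil (.node [(197,(.ofNat 1))] .nil .nil))) (.node [(35,(.ofNat 1))] (.node [] .nil (.node [(165,(.ofNat 1))] .nil .nil)) (.node [(100,(.ofNat 1))] .nil (.node [(229,(.ofNat 1))] .nil .nil)))) (.node [(19,(.ofNat 1))] (.node [] (.node [] .nil (.node [(148,(.ofNat 1))] .nil .nil)) (.node [(84,(.ofNat 1))] .nil (.node [(213,(.ofNat 1))] .nil .nil))) (.node [(53,(.negSucc 0))] (.node [] .nil (.node [(179,(.negSucc 0))] .nil .nil)) (.node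 [(116,(.ofNat 1))] .nil (.node [(244,(.ofNat 1))] .nil .nil))))) (.node [(12,(.ofNat 1))] (.node [] (.node [] (.node [] .nil (.node [(141,(.ofNat 1))] .nil .nil)) (.node [(75,(.ofNat 1))] .nil (.node [(204,(.ofNat 1))] .nil .nil))) (.node [(44,(.ofNat 1))] (.node [] .nil (.node [(172,(.ofNat 1))] .nil .nil)) (.node [(109,(.negSucc 0))] .nil (.node [(235,(.negSucc 0))] .nil .nil)))) (.node [(28,(.ofNat 1))] (.node [] (.node [] .nil (.node [(156,(.ofNat 1))] .nil .nil)) (.node [(92,(.ofNat 1))] .nil (.node [(219,(.negSucc 0))] .nil .nil))) (.node [(60,(.ofNat 1))] (.node [] .nil (.node [(188,(.ofNat 1))] .nil .nil)) (.node [(123,(.ofNat 1))] .nil .nil)))))) (.node [(2,(.ofNat 1))] (.node [] (.node [] (.node [] (.node [] (.node [] .nil (.node [(128,(.ofNat 1))] .nil .nil)) (.node [(66,(.ofNat 1))] .nil (.node [(193,(.negSucc 0))] .nil .nil))) (.node [(34,(.ofNat 1))] (.node [] .nil (.node [(161,(.negSucc 0))] .nil .nil)) (.node [(97,(.ofNat 1))] .nil (.node [(226,(.ofNat 1))] .nil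 .nil)))) (.node [(18,(.ofNat 1))] (.node [] (.node [] .nil (.node [(147,(.ofNat 1))] .nil .nil)) (.node [(82,(.ofNat 1))] .nil (.node [(209,(.negSucc 0))] .nil .nil))) (.node [(50,(.ofNat 1))] (.node [] .nil (.node [(178,(.ofNat 1))] .nil .nil)) (.node [(115,(.negSucc 0))] .nil (.node [(242,(.ofNat 1))] .nil .nil))))) (.node [(9,(.ofNat 1))] (.node [] (.node [] (.node [] .nil (.node [(138,(.ofNat 1))] .nil .nil)) (.node [(74,(.ofNat 1))] .nil (.node [(203,(.ofNat 1))] .nil .nil))) (.node [(43,(.negSucc 0))] (.node [] .nil (.node [(170,(.ofNat 1))] .nil .nil)) (.node [(106,(.ofNat 1))] .nil (.node [(234,(.ofNat 1))] .nil .nil)))) (.node [(27,(.negSucc 0))] (.node [] (.node [] .nil (.node [(154,(.ofNat 1))] .nil .nil)) (.node [(91,(.negSucc 0))] .nil (.node [(218,(.ofNat 1))] .nil .nil))) (.node [(59,(.negSucc 0))] (.node [] .nil (.node [(187,(.ofNat 1))] .nil .nil)) (.node [(122,(.ofNat 1))] .nil .nil))))) (.node [(6,(.negSucc 0))] (.node [] (.node [] (.node [] (.node [] .nil (.node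 [(134,(.ofNat 1))] .nil .nil)) (.node [(70,(.ofNat 1))] .nil (.node [(198,(.ofNat 1))] .nil .nil))) (.node [(39,(.negSucc 0))] (.node [] .nil (.node [(166,(.ofNat 1))] .nil .nil)) (.node [(103,(.negSucc 0))] .nil (.node [(230,(.ofNat 1))] .nil .nil)))) (.node [(22,(.ofNat 1))] (.node [] (.node [] .nil (.node [(150,(.ofNat 1))] .nil .nil)) (.node [(87,(.negSucc 0))] .nil (.node [(214,(.ofNat 1))] .nil .nil))) (.node [(55,(.negSucc 0))] (.node [] .nil (.node [(182,(.ofNat 1))] .nil .nil)) (.node [(118,(.ofNat 1))] .nil (.node [(245,(.negSucc 0))] .nil .nil))))) (.node [(14,(.ofNat 1))] (.node [] (.node [] (.node [] .nil (.node [(142,(.ofNat 1))] .nil .nil)) (.node [(78,(.ofNat 1))] .nil (.node [(207,(.ofNat 1))] .nil .nil))) (.node [(45,(.ofNat 1))] (.node [] .nil (.node [(175,(.ofNat 1))] .nil .nil)) (.node [(110,(.ofNat 1))] .nil (.node [(238,(.ofNat 1))] .nil .nil)))) (.node [(30,(.ofNat 1))] (.node [] (.node [] .nil (.node [(157,(.negSucc 0))] .nil .nil)) (.node [(93,(.ofNat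 1))] .nil (.node [(222,(.ofNat 1))] .nil .nil))) (.node [(61,(.ofNat 1))] (.node [] .nil (.node [(191,(.ofNat 1))] .nil .nil)) (.node [(129,(.negSucc 0))] .nil .nil))))))) (.node [(1,(.ofNat 1))] (.node [] (.node [] (.node [] (.node [] (.node [] (.node [] .nil (.node [(126,(.negSucc 0))] .nil .nil)) (.node [(64,(.ofNat 1))] .nil (.node [(194,(.ofNat 1))] .nil .nil))) (.node [(33,(.ofNat 1))] (.node [] .nil (.node [(162,(.ofNat 1))] .nil .nil)) (.node [(98,(.negSucc 0))] .nil (.node [(225,(.ofNat 1))] .nil .nil)))) (.node [(17,(.ofNat 1))] (.node [] (.node [] .nil (.node [(145,(.ofNat 1))] .nil .nil)) (.node [(80,(.ofNat 1))] .nil (.node [(210,(.ofNat 1))] .nil .nil))) (.node [(48,(.ofNat 1))] (.node [] .nil (.node [(177,(.ofNat 1))] .nil .nil)) (.node [(113,(.ofNat 1))] .nil (.node [(241,(.ofNat 1))] .nil .nil))))) (.node [(10,(.negSucc 0))] (.node [] (.node [] (.node [] .nil (.node [(137,(.ofNat 1))] .nil .nil)) (.node [(73,(.ofNat 1))] .nil (.node [(200,(.negSucc 0))] .nil .nil)))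 (.node [(41,(.ofNat 1))] (.node [] .nil (.node [(168,(.negSucc 0))] .nil .nil)) (.node [(105,(.ofNat 1))] .nil (.node [(233,(.ofNat 1))] .nil .nil)))) (.node [(25,(.ofNat 1))] (.node [] (.node [] .nil (.node [(152,(.negSucc 0))] .nil .nil)) (.node [(89,(.ofNat 1))] .nil (.node [(216,(.negSucc 0))] .nil .nil))) (.node [(57,(.ofNat 1))] (.node [] .nil (.node [(185,(.ofNat 1))] .nil .nil)) (.node [(121,(.ofNat 1))] .nil .nil))))) (.node [(5,(.ofNat 1)),(6,(.ofNat 1))] (.node [] (.node [] (.node [] (.node [] .nil (.node [(133,(.ofNat 1))] .nil .nil)) (.node [(68,(.ofNat 1))] .nil (.node [(196,(.negSucc 0))] .nil .nil))) (.node [(37,(.ofNat 1))] (.node [] .nil (.node [(164,(.negSucc 0))] .nil .nil)) (.node [(101,(.ofNat 1))] .nil (.node [(228,(.negSucc 0))] .nil .nil)))) (.node [(21,(.ofNat 1))] (.node [] (.node [] .nil (.node [(149,(.ofNat 1))] .nil .nil)) (.node [(85,(.ofNat 1))] .nil (.node [(212,(.negSucc 0))] .nil .nil))) (.node [(52,(.ofNat 1))] (.node [] .nil (.node [(181,(.ofNat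 1))] .nil .nil)) (.node [(117,(.ofNat 1))] .nil (.node [(246,(.ofNat 1))] .nil .nil))))) (.node [(13,(.ofNat 1))] (.node [] (.node [] (.node [] .nil (.node [(140,(.negSucc 0))] .nil .nil)) (.node [(77,(.ofNat 1))] .nil (.node [(205,(.ofNat 1))] .nil .nil))) (.node [(46,(.negSucc 0))] (.node [] .nil (.node [(173,(.ofNat 1))] .nil .nil)) (.node [(108,(.ofNat 1))] .nil (.node [(237,(.ofNat 1))] .nil .nil)))) (.node [(29,(.ofNat 1))] (.node [] (.node [] .nil (.node [(158,(.ofNat 1))] .nil .nil)) (.node [(94,(.negSucc 0))] .nil (.node [(221,(.ofNat 1))] .nil .nil))) (.node [(62,(.negSucc 0))] (.node [] .nil (.node [(189,(.ofNat 1))] .nil .nil)) (.node [(127,(.ofNat 1))] .nil .nil)))))) (.node [(3,(.ofNat 1))] (.node [] (.node [] (.node [] (.node [] (.node [] .nil (.node [(132,(.ofNat 1))] .nil .nil)) (.node [(67,(.ofNat 1))] .nil (.node [(195,(.ofNat 1))] .nil .nil))) (.node [(36,(.negSucc 0))] (.node [] .nil (.node [(163,(.ofNat 1))] .nil .nil)) (.node [(99,(.ofNat 1))] .nil (.node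 [(227,(.ofNat 1))] .nil .nil)))) (.node [(20,(.negSucc 0))] (.node [] (.node [] .nil (.node [(146,(.negSucc 0))] .nil .nil)) (.node [(83,(.ofNat 1))] .nil (.node [(211,(.ofNat 1))] .nil .nil))) (.node [(51,(.ofNat 1))] (.node [] .nil (.node [(180,(.ofNat 1))] .nil .nil)) (.node [(114,(.ofNat 1))] .nil (.node [(243,(.ofNat 1))] .nil .nil))))) (.node [(11,(.ofNat 1))] (.node [] (.node [] (.node [] .nil (.node [(139,(.ofNat 1))] .nil .nil)) (.node [(76,(.negSucc 0))] .nil (.node [(202,(.negSucc 0))] .nil .nil))) (.node [(42,(.ofNat 1))] (.node [] .nil (.node [(171,(.ofNat 1))] .nil .nil)) (.node [(107,(.ofNat 1))] .nil (.node [(236,(.ofNat 1))] .nil .nil)))) (.node [(26,(.ofNat 1))] (.node [] (.node [] .nil (.node [(155,(.ofNat 1))] .nil .nil)) (.node [(90,(.ofNat 1))] .nil (.node [(220,(.ofNat 1))] .nil .nil))) (.node [(58,(.ofNat 1))] (.node [] .nil (.node [(186,(.negSucc 0))] .nil .nil)) (.node [(124,(.negSucc 0))] .nil .nil))))) (.node [(6,(.ofNat 1)),(7,(.ofNat 1))] (.node []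 (.node [] (.node [] (.node [] .nil (.node [(136,(.ofNat 1))] .nil .nil)) (.node [(72,(.negSucc 0))] .nil (.node [(199,(.ofNat 1))] .nil .nil))) (.node [(38,(.ofNat 1))] (.node [] .nil (.node [(167,(.ofNat 1))] .nil .nil)) (.node [(102,(.ofNat 1))] .nil (.node [(231,(.ofNat 1))] .nil .nil)))) (.node [(23,(.ofNat 1))] (.node [] (.node [] .nil (.node [(151,(.ofNat 1))] .nil .nil)) (.node [(86,(.ofNat 1))] .nil (.node [(215,(.ofNat 1))] .nil .nil))) (.node [(54,(.ofNat 1))] (.node [] .nil (.node [(184,(.ofNat 1))] .nil .nil)) (.node [(120,(.negSucc 0))] .nil (.node [(247,(.ofNat 1))] .nil .nil))))) (.node [(15,(.ofNat 1))] (.node [] (.node [] (.node [] .nil (.node [(143,(.ofNat 1))] .nil .nil)) (.node [(79,(.ofNat 1))] .nil (.node [(206,(.negSucc 0))] .nil .nil))) (.node [(47,(.ofNat 1))] (.node [] .nil (.node [(174,(.negSucc 0))] .nil .nil)) (.node [(111,(.ofNat 1))] .nil (.node [(239,(.ofNat 1))] .nil .nil)))) (.node [(32,(.negSucc 0))] (.node [] (.node [] .nil (.node [(159,(.ofNat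 1))] .nil .nil)) (.node [(95,(.ofNat 1))] .nil (.node [(224,(.ofNat 1))] .nil .nil))) (.node [(63,(.ofNat 1))] (.node [] .nil (.node [(190,(.negSucc 0))] .nil .nil)) (.node [(125,(.negSucc 0))] .nil .nil))))))))
noncomputable def nt5 : Trie (List (ℕ × ℤ)) := (.node [(0,(.ofNat 1))] (.node [] (.node [] (.node [] (.node [] (.node [] (.node [] (.node [] .nil (.node [(128,(.ofNat 1))] .nil .nil)) (.node [(64,(.ofNat 1))] .nil (.node [(193,(.ofNat 1))] .nil .nil))) (.node [(32,(.ofNat 1))] (.node [] .nil (.node [(161,(.ofNat 1))] .nil .nil)) (.node [(96,(.ofNat 1))] .nil (.node [(225,(.ofNat 1))] .nil .nil)))) (.node [(16,(.ofNat 1))] (.node [] (.node [] .nil (.node [(144,(.ofNat 1))] .nil .nil)) (.node [(80,(.ofNat 1))] .nil (.node [(208,(.ofNat 1))] .nil .nil))) (.node [(48,(.ofNat 1))] (.node [] .nil (.node [(176,(.ofNat 1))] .nil .nil)) (.node [(112,(.ofNat 1))] .nil (.node [(240,(.ofNat 1))] .nil .nil))))) (.node [(8,(.ofNat 1))] (.node [] (.node [] (.node [] .nil (.node [(136,(.ofNat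 1))] .nil .nil)) (.node [(73,(.negSucc 0))] .nil (.node [(198,(.negSucc 0))] .nil .nil))) (.node [(42,(.negSucc 0))] (.node [] .nil (.node [(166,(.negSucc 0))] .nil .nil)) (.node [(103,(.ofNat 1))] .nil (.node [(232,(.ofNat 1))] .nil .nil)))) (.node [(24,(.ofNat 1))] (.node [] (.node [] .nil (.node [(151,(.negSucc 0))] .nil .nil)) (.node [(90,(.negSucc 0))] .nil (.node [(214,(.negSucc 0))] .nil .nil))) (.node [(58,(.negSucc 0))] (.node [] .nil (.node [(184,(.ofNat 1))] .nil .nil)) (.node [(121,(.negSucc 0))] .nil .nil))))) (.node [(4,(.ofNat 1)),(5,(.ofNat 1))] (.node [] (.node [] (.node [] (.node [] .nil (.node [(129,(.ofNat 1))] .nil .nil)) (.node [(66,(.ofNat 1))] .nil (.node [(196,(.ofNat 1))] .nil .nil))) (.node [(36,(.ofNat 1))] (.node [] .nil (.node [(164,(.ofNat 1))] .nil .nil)) (.node [(100,(.ofNat 1))] .nil (.node [(228,(.ofNat 1))] .nil .nil)))) (.node [(20,(.ofNat 1))] (.node [] (.node [] .nil (.node [(148,(.ofNat 1))] .nil .nil)) (.node [(84,(.ofNat 1))] .nil (.node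 [(212,(.ofNat 1))] .nil .nil))) (.node [(50,(.ofNat 1))] (.node [] .nil (.node [(180,(.ofNat 1))] .nil .nil)) (.node [(115,(.ofNat 1))] .nil (.node [(245,(.ofNat 1))] .nil .nil))))) (.node [(12,(.ofNat 1))] (.node [] (.node [] (.node [] .nil (.node [(139,(.negSucc 0))] .nil .nil)) (.node [(77,(.negSucc 0))] .nil (.node [(206,(.ofNat 1))] .nil .nil))) (.node [(45,(.negSucc 0))] (.node [] .nil (.node [(172,(.ofNat 1))] .nil .nil)) (.node [(108,(.ofNat 1))] .nil (.node [(237,(.ofNat 1))] .nil .nil)))) (.node [(28,(.ofNat 1))] (.node [] (.node [] .nil (.node [(157,(.ofNat 1))] .nil .nil)) (.node [(92,(.ofNat 1))] .nil (.node [(221,(.ofNat 1))] .nil .nil))) (.node [(60,(.ofNat 1))] (.node [] .nil (.node [(190,(.ofNat 1))] .nil .nil)) (.node [(131,(.negSucc 0))] .nil .nil)))))) (.node [(2,(.ofNat 1))] (.node [] (.node [] (.node [] (.node [] (.node [] .nil (.node [(133,(.negSucc 0))] .nil .nil)) (.node [(68,(.negSucc 0))] .nil (.node [(194,(.ofNat 1))] .nil .nil))) (.node [(35,(.negSucc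 0))] (.node [] .nil (.node [(162,(.ofNat 1))] .nil .nil)) (.node [(99,(.negSucc 0))] .nil (.node [(226,(.ofNat 1))] .nil .nil)))) (.node [(19,(.negSucc 0))] (.node [] (.node [] .nil (.node [(145,(.negSucc 0))] .nil .nil)) (.node [(81,(.ofNat 1))] .nil (.node [(211,(.ofNat 1))] .nil .nil))) (.node [(52,(.negSucc 0))] (.node [] .nil (.node [(179,(.ofNat 1))] .nil .nil)) (.node [(114,(.ofNat 1))] .nil (.node [(242,(.ofNat 1))] .nil .nil))))) (.node [(11,(.negSucc 0))] (.node [] (.node [] (.node [] .nil (.node [(138,(.ofNat 1))] .nil .nil)) (.node [(74,(.ofNat 1))] .nil (.node [(202,(.ofNat 1))] .nil .nil))) (.node [(40,(.ofNat 1))] (.node [] .nil (.node [(170,(.ofNat 1))] .nil .nil)) (.node [(106,(.ofNat 1))] .nil (.node [(234,(.ofNat 1))] .nil .nil)))) (.node [(25,(.ofNat 1))] (.node [] (.node [] .nil (.node [(154,(.ofNat 1))] .nil .nil)) (.node [(88,(.ofNat 1))] .nil (.node [(218,(.ofNat 1))] .nil .nil))) (.node [(56,(.ofNat 1))] (.node [] .nil (.node [(186,(.ofNat 1))] .nil .nil))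 (.node [(125,(.ofNat 1))] .nil .nil))))) (.node [(5,(.ofNat 1)),(6,(.ofNat 1))] (.node [] (.node [] (.node [] (.node [] .nil (.node [(135,(.ofNat 1))] .nil .nil)) (.node [(70,(.ofNat 1))] .nil (.node [(200,(.ofNat 1))] .nil .nil))) (.node [(38,(.ofNat 1))] (.node [] .nil (.node [(168,(.ofNat 1))] .nil .nil)) (.node [(102,(.ofNat 1))] .nil (.node [(229,(.negSucc 0))] .nil .nil)))) (.node [(22,(.ofNat 1))] (.node [] (.node [] .nil (.node [(150,(.ofNat 1))] .nil .nil)) (.node [(86,(.ofNat 1))] .nil (.node [(216,(.ofNat 1))] .nil .nil))) (.node [(54,(.ofNat 1))] (.node [] .nil (.node [(183,(.ofNat 1))] .nil .nil)) (.node [(118,(.ofNat 1))] .nil (.node [(246,(.ofNat 1))] .nil .nil))))) (.node [(14,(.ofNat 1))] (.node [] (.node [] (.node [] .nil (.node [(142,(.ofNat 1))] .nil .nil)) (.node [(78,(.ofNat 1))] .nil (.node [(204,(.negSucc 0))] .nil .nil))) (.node [(46,(.ofNat 1))] (.node [] .nil (.node [(173,(.negSucc 0))] .nil .nil)) (.node [(109,(.ofNat 1))] .nil (.node [(238,(.ofNat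 1))] .nil .nil)))) (.node [(31,(.negSucc 0))] (.node [] (.node [] .nil (.node [(158,(.ofNat 1))] .nil .nil)) (.node [(95,(.negSucc 0))] .nil (.node [(222,(.ofNat 1))] .nil .nil))) (.node [(63,(.negSucc 0))] (.node [] .nil (.node [(188,(.negSucc 0))] .nil .nil)) (.node [(123,(.negSucc 0))] .nil .nil))))))) (.node [(1,(.ofNat 1))] (.node [] (.node [] (.node [] (.node [] (.node [] (.node [] .nil (.node [(132,(.negSucc 0))] .nil .nil)) (.node [(67,(.negSucc 0))] .nil (.node [(192,(.negSucc 0))] .nil .nil))) (.node [(33,(.ofNat 1))] (.node [] .nil (.node [(160,(.negSucc 0))] .nil .nil)) (.node [(97,(.ofNat 1))] .nil (.node [(224,(.negSucc 0))] .nil .nil)))) (.node [(17,(.ofNat 1))] (.node [] (.node [] .nil (.node [(146,(.ofNat 1))] .nil .nil)) (.node [(82,(.negSucc 0))] .nil (.node [(209,(.ofNat 1))] .nil .nil))) (.node [(51,(.negSucc 0))] (.node [] .nil (.node [(177,(.ofNat 1))] .nil .nil)) (.node [(113,(.ofNat 1))] .nil (.node [(241,(.ofNat 1))] .nil .nil))))) (.node [(9,(.ofNat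 1))] (.node [] (.node [] (.node [] .nil (.node [(137,(.ofNat 1))] .nil .nil)) (.node [(72,(.ofNat 1))] .nil (.node [(201,(.ofNat 1))] .nil .nil))) (.node [(39,(.ofNat 1))] (.node [] .nil (.node [(169,(.ofNat 1))] .nil .nil)) (.node [(105,(.ofNat 1))] .nil (.node [(233,(.ofNat 1))] .nil .nil)))) (.node [(26,(.negSucc 0))] (.node [] (.node [] .nil (.node [(153,(.ofNat 1))] .nil .nil)) (.node [(87,(.ofNat 1))] .nil (.node [(217,(.ofNat 1))] .nil .nil))) (.node [(55,(.ofNat 1))] (.node [] .nil (.node [(185,(.ofNat 1))] .nil .nil)) (.node [(120,(.ofNat 1))] .nil .nil))))) (.node [(5,(.negSucc 0))] (.node [] (.node [] (.node [] (.node [] .nil (.node [(130,(.ofNat 1))] .nil .nil)) (.node [(69,(.ofNat 1))] .nil (.node [(199,(.ofNat 1))] .nil .nil))) (.node [(37,(.ofNat 1))] (.node [] .nil (.node [(167,(.ofNat 1))] .nil .nil)) (.node [(101,(.ofNat 1))] .nil (.node [(230,(.ofNat 1))] .nil .nil)))) (.node [(21,(.ofNat 1))] (.node [] (.node [] .nil (.node [(149,(.ofNat 1))] .nil .nil)) (.node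 [(85,(.ofNat 1))] .nil (.node [(215,(.ofNat 1))] .nil .nil))) (.node [(53,(.ofNat 1))] (.node [] .nil (.node [(181,(.ofNat 1))] .nil .nil)) (.node [(117,(.ofNat 1))] .nil (.node [(244,(.negSucc 0))] .nil .nil))))) (.node [(13,(.ofNat 1))] (.node [] (.node [] (.node [] .nil (.node [(141,(.ofNat 1))] .nil .nil)) (.node [(76,(.ofNat 1))] .nil (.node [(203,(.negSucc 0))] .nil .nil))) (.node [(44,(.ofNat 1))] (.node [] .nil (.node [(174,(.ofNat 1))] .nil .nil)) (.node [(110,(.negSucc 0))] .nil (.node [(236,(.negSucc 0))] .nil .nil)))) (.node [(29,(.ofNat 1))] (.node [] (.node [] .nil (.node [(156,(.negSucc 0))] .nil .nil)) (.node [(93,(.ofNat 1))] .nil (.node [(220,(.negSucc 0))] .nil .nil))) (.node [(61,(.ofNat 1))] (.node [] .nil (.node [(187,(.negSucc 0))] .nil .nil)) (.node [(122,(.negSucc 0))] .nil .nil)))))) (.node [(3,(.ofNat 1))] (.node [] (.node [] (.node [] (.node [] (.node [] .nil (.node [(124,(.negSucc 0))] .nil .nil)) (.node [(65,(.ofNat 1))] .nil (.node [(195,(.ofNat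 1))] .nil .nil))) (.node [(34,(.ofNat 1))] (.node [] .nil (.node [(163,(.ofNat 1))] .nil .nil)) (.node [(98,(.ofNat 1))] .nil (.node [(227,(.ofNat 1))] .nil .nil)))) (.node [(18,(.ofNat 1))] (.node [] (.node [] .nil (.node [(147,(.ofNat 1))] .nil .nil)) (.node [(83,(.ofNat 1))] .nil (.node [(210,(.negSucc 0))] .nil .nil))) (.node [(49,(.ofNat 1))] (.node [] .nil (.node [(178,(.negSucc 0))] .nil .nil)) (.node [(116,(.negSucc 0))] .nil (.node [(243,(.ofNat 1))] .nil .nil))))) (.node [(10,(.ofNat 1))] (.node [] (.node [] (.node [] .nil (.node [(140,(.ofNat 1))] .nil .nil)) (.node [(75,(.ofNat 1))] .nil (.node [(205,(.ofNat 1))] .nil .nil))) (.node [(43,(.ofNat 1))] (.node [] .nil (.node [(171,(.ofNat 1))] .nil .nil)) (.node [(107,(.ofNat 1))] .nil (.node [(235,(.ofNat 1))] .nil .nil)))) (.node [(27,(.ofNat 1))] (.node [] (.node [] .nil (.node [(155,(.ofNat 1))] .nil .nil)) (.node [(91,(.ofNat 1))] .nil (.node [(219,(.ofNat 1))] .nil .nil))) (.node [(59,(.ofNat 1))] (.node [] .nil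 (.node [(189,(.ofNat 1))] .nil .nil)) (.node [(126,(.ofNat 1))] .nil .nil))))) (.node [(7,(.ofNat 1))] (.node [] (.node [] (.node [] (.node [] .nil (.node [(134,(.negSucc 0))] .nil .nil)) (.node [(71,(.ofNat 1))] .nil (.node [(197,(.negSucc 0))] .nil .nil))) (.node [(41,(.negSucc 0))] (.node [] .nil (.node [(165,(.negSucc 0))] .nil .nil)) (.node [(104,(.negSucc 0))] .nil (.node [(231,(.ofNat 1))] .nil .nil)))) (.node [(23,(.ofNat 1))] (.node [] (.node [] .nil (.node [(152,(.ofNat 1))] .nil .nil)) (.node [(89,(.negSucc 0))] .nil (.node [(213,(.negSucc 0))] .nil .nil))) (.node [(57,(.negSucc 0))] (.node [] .nil (.node [(182,(.negSucc 0))] .nil .nil)) (.node [(119,(.ofNat 1))] .nil (.node [(247,(.ofNat 1))] .nil .nil))))) (.node [(15,(.ofNat 1))] (.node [] (.node [] (.node [] .nil (.node [(143,(.ofNat 1))] .nil .nil)) (.node [(79,(.ofNat 1))] .nil (.node [(207,(.ofNat 1))] .nil .nil))) (.node [(47,(.ofNat 1))] (.node [] .nil (.node [(175,(.ofNat 1))] .nil .nil)) (.node [(111,(.ofNat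 1))] .nil (.node [(239,(.ofNat 1))] .nil .nil)))) (.node [(30,(.ofNat 1))] (.node [] (.node [] .nil (.node [(159,(.ofNat 1))] .nil .nil)) (.node [(94,(.ofNat 1))] .nil (.node [(223,(.ofNat 1))] .nil .nil))) (.node [(62,(.ofNat 1))] (.node [] .nil (.node [(191,(.ofNat 1))] .nil .nil)) (.node [(127,(.ofNat 1))] .nil .nil))))))))
noncomputable def nt4 : Trie (List (ℕ × ℤ)) := (.node [(0,(.ofNat 1))] (.node [] (.node [] (.node [] (.node [] (.node [] (.node [] (.node [] .nil (.node [(128,(.ofNat 1))] .nil .nil)) (.node [(64,(.ofNat 1))] .nil (.node [(192,(.ofNat 1))] .nil .nil))) (.node [(32,(.ofNat 1))] (.node [] .nil (.node [(160,(.ofNat 1))] .nil .nil)) (.node [(96,(.ofNat 1))] .nil (.node [(224,(.ofNat 1))] .nil .nil)))) (.node [(16,(.ofNat 1))] (.node [] (.node [] .nil (.node [(145,(.ofNat 1))] .nil .nil)) (.node [(80,(.ofNat 1))] .nil (.node [(205,(.negSucc 0))] .nil .nil))) (.node [(45,(.ofNat 1))] (.node [] .nil (.node [(176,(.ofNat 1))] .nil .nil)) (.node [(112,(.ofNat 1))]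 .nil (.node [(240,(.ofNat 1))] .nil .nil))))) (.node [(8,(.ofNat 1))] (.node [] (.node [] (.node [] .nil (.node [(132,(.ofNat 1))] .nil .nil)) (.node [(69,(.ofNat 1))] .nil (.node [(200,(.ofNat 1))] .nil .nil))) (.node [(37,(.ofNat 1))] (.node [] .nil (.node [(168,(.ofNat 1))] .nil .nil)) (.node [(105,(.negSucc 0))] .nil (.node [(232,(.ofNat 1))] .nil .nil)))) (.node [(25,(.negSucc 0))] (.node [] (.node [] .nil (.node [(152,(.ofNat 1))] .nil .nil)) (.node [(88,(.ofNat 1))] .nil (.node [(219,(.ofNat 1))] .nil .nil))) (.node [(56,(.ofNat 1))] (.node [] .nil (.node [(187,(.ofNat 1))] .nil .nil)) (.node [(124,(.ofNat 1))] .nil .nil))))) (.node [(4,(.negSucc 0))] (.node [] (.node [] (.node [] (.node [] .nil (.node [(136,(.negSucc 0))] .nil .nil)) (.node [(71,(.negSucc 0))] .nil (.node [(193,(.negSucc 0))] .nil .nil))) (.node [(39,(.negSucc 0))] (.node [] .nil (.node [(161,(.negSucc 0))] .nil .nil)) (.node [(99,(.ofNat 1))] .nil (.node [(228,(.ofNat 1))] .nil .nil)))) (.node [(20,(.ofNat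 1))] (.node [] (.node [] .nil (.node [(148,(.ofNat 1))] .nil .nil)) (.node [(84,(.ofNat 1))] .nil (.node [(212,(.ofNat 1))] .nil .nil))) (.node [(52,(.ofNat 1))] (.node [] .nil (.node [(180,(.ofNat 1))] .nil .nil)) (.node [(117,(.negSucc 0))] .nil (.node [(243,(.negSucc 0))] .nil .nil))))) (.node [(11,(.ofNat 1))] (.node [] (.node [] (.node [] .nil (.node [(140,(.ofNat 1))] .nil .nil)) (.node [(76,(.ofNat 1))] .nil (.node [(204,(.ofNat 1))] .nil .nil))) (.node [(44,(.ofNat 1))] (.node [] .nil (.node [(173,(.ofNat 1))] .nil .nil)) (.node [(108,(.ofNat 1))] .nil (.node [(236,(.ofNat 1))] .nil .nil)))) (.node [(28,(.ofNat 1))] (.node [] (.node [] .nil (.node [(155,(.negSucc 0))] .nil .nil)) (.node [(89,(.ofNat 1))] .nil (.node [(217,(.negSucc 0))] .nil .nil))) (.node [(57,(.ofNat 1))] (.node [] .nil (.node [(185,(.negSucc 0))] .nil .nil)) (.node [(120,(.negSucc 0))] .nil .nil)))))) (.node [(2,(.ofNat 1))] (.node [] (.node [] (.node [] (.node [] (.node [] .nil (.node [(130,(.ofNat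 1))] .nil .nil)) (.node [(66,(.ofNat 1))] .nil (.node [(197,(.ofNat 1))] .nil .nil))) (.node [(34,(.ofNat 1))] (.node [] .nil (.node [(165,(.ofNat 1))] .nil .nil)) (.node [(98,(.ofNat 1))] .nil (.node [(225,(.negSucc 0))] .nil .nil)))) (.node [(17,(.ofNat 1))] (.node [] (.node [] .nil (.node [(146,(.ofNat 1))] .nil .nil)) (.node [(83,(.negSucc 0))] .nil (.node [(207,(.negSucc 0))] .nil .nil))) (.node [(47,(.ofNat 1))] (.node [] .nil (.node [(177,(.negSucc 0))] .nil .nil)) (.node [(114,(.ofNat 1))] .nil (.node [(242,(.ofNat 1))] .nil .nil))))) (.node [(10,(.ofNat 1))] (.node [] (.node [] (.node [] .nil (.node [(139,(.ofNat 1))] .nil .nil)) (.node [(74,(.ofNat 1))] .nil (.node [(202,(.ofNat 1))] .nil .nil))) (.node [(42,(.ofNat 1))] (.node [] .nil (.node [(170,(.ofNat 1))] .nil .nil)) (.node [(106,(.ofNat 1))] .nil (.node [(234,(.ofNat 1))] .nil .nil)))) (.node [(26,(.ofNat 1))] (.node [] (.node [] .nil (.node [(154,(.ofNat 1))] .nil .nil)) (.node [(93,(.negSucc 0))] .nil (.node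 [(215,(.negSucc 0))] .nil .nil))) (.node [(61,(.negSucc 0))] (.node [] .nil (.node [(183,(.negSucc 0))] .nil .nil)) (.node [(118,(.negSucc 0))] .nil .nil))))) (.node [(6,(.ofNat 1))] (.node [] (.node [] (.node [] (.node [] .nil (.node [(121,(.negSucc 0))] .nil .nil)) (.node [(67,(.ofNat 1))] .nil (.node [(195,(.negSucc 0))] .nil .nil))) (.node [(35,(.ofNat 1))] (.node [] .nil (.node [(163,(.negSucc 0))] .nil .nil)) (.node [(102,(.ofNat 1))] .nil (.node [(231,(.ofNat 1))] .nil .nil)))) (.node [(22,(.ofNat 1))] (.node [] (.node [] .nil (.node [(151,(.ofNat 1))] .nil .nil)) (.node [(86,(.ofNat 1))] .nil (.node [(214,(.ofNat 1))] .nil .nil))) (.node [(54,(.ofNat 1))] (.node [] .nil (.node [(182,(.ofNat 1))] .nil .nil)) (.node [(122,(.ofNat 1))] .nil (.node [(246,(.ofNat 1))] .nil .nil))))) (.node [(14,(.ofNat 1))] (.node [] (.node [] (.node [] .nil (.node [(142,(.ofNat 1))] .nil .nil)) (.node [(77,(.ofNat 1))] .nil (.node [(209,(.ofNat 1))] .nil .nil))) (.node [(49,(.negSucc 0))]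 (.node [] .nil (.node [(174,(.ofNat 1))] .nil .nil)) (.node [(111,(.negSucc 0))] .nil (.node [(237,(.negSucc 0))] .nil .nil)))) (.node [(29,(.ofNat 1))] (.node [] (.node [] .nil (.node [(158,(.ofNat 1))] .nil .nil)) (.node [(91,(.ofNat 1))] .nil (.node [(222,(.ofNat 1))] .nil .nil))) (.node [(59,(.ofNat 1))] (.node [] .nil (.node [(190,(.ofNat 1))] .nil .nil)) (.node [(126,(.ofNat 1))] .nil .nil))))))) (.node [(1,(.ofNat 1))] (.node [] (.node [] (.node [] (.node [] (.node [] (.node [] .nil (.node [(129,(.ofNat 1))] .nil .nil)) (.node [(65,(.ofNat 1))] .nil (.node [(196,(.ofNat 1))] .nil .nil))) (.node [(33,(.ofNat 1))] (.node [] .nil (.node [(164,(.ofNat 1))] .nil .nil)) (.node [(97,(.ofNat 1))] .nil (.node [(226,(.ofNat 1))] .nil .nil)))) (.node [(18,(.negSucc 0))] (.node [] (.node [] .nil (.node [(144,(.negSucc 0))] .nil .nil)) (.node [(81,(.ofNat 1))] .nil (.node [(206,(.negSucc 0))] .nil .nil))) (.node [(46,(.ofNat 1))] (.node [] .nil (.node [(178,(.ofNat 1))] .nil .nil))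 (.node [(113,(.ofNat 1))] .nil (.node [(241,(.ofNat 1))] .nil .nil))))) (.node [(9,(.ofNat 1))] (.node [] (.node [] (.node [] .nil (.node [(133,(.ofNat 1))] .nil .nil)) (.node [(73,(.ofNat 1))] .nil (.node [(201,(.ofNat 1))] .nil .nil))) (.node [(41,(.ofNat 1))] (.node [] .nil (.node [(169,(.ofNat 1))] .nil .nil)) (.node [(104,(.ofNat 1))] .nil (.node [(233,(.ofNat 1))] .nil .nil)))) (.node [(24,(.ofNat 1))] (.node [] (.node [] .nil (.node [(153,(.ofNat 1))] .nil .nil)) (.node [(92,(.negSucc 0))] .nil (.node [(220,(.ofNat 1))] .nil .nil))) (.node [(60,(.negSucc 0))] (.node [] .nil (.node [(188,(.ofNat 1))] .nil .nil)) (.node [(134,(.negSucc 0))] .nil .nil))))) (.node [(4,(.ofNat 1)),(5,(.ofNat 1))] (.node [] (.node [] (.node [] (.node [] .nil (.node [(137,(.negSucc 0))] .nil .nil)) (.node [(72,(.negSucc 0))] .nil (.node [(194,(.negSucc 0))] .nil .nil))) (.node [(40,(.negSucc 0))] (.node [] .nil (.node [(162,(.negSucc 0))] .nil .nil)) (.node [(101,(.ofNat 1))] .nil (.node [(229,(.ofNat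 1))] .nil .nil)))) (.node [(21,(.ofNat 1))] (.node [] (.node [] .nil (.node [(149,(.ofNat 1))] .nil .nil)) (.node [(85,(.ofNat 1))] .nil (.node [(213,(.ofNat 1))] .nil .nil))) (.node [(53,(.ofNat 1))] (.node [] .nil (.node [(181,(.ofNat 1))] .nil .nil)) (.node [(116,(.ofNat 1))] .nil (.node [(245,(.ofNat 1))] .nil .nil))))) (.node [(13,(.ofNat 1))] (.node [] (.node [] (.node [] .nil (.node [(141,(.ofNat 1))] .nil .nil)) (.node [(78,(.negSucc 0))] .nil (.node [(208,(.ofNat 1))] .nil .nil))) (.node [(48,(.negSucc 0))] (.node [] .nil (.node [(172,(.negSucc 0))] .nil .nil)) (.node [(109,(.ofNat 1))] .nil (.node [(238,(.ofNat 1))] .nil .nil)))) (.node [(30,(.negSucc 0))] (.node [] (.node [] .nil (.node [(157,(.ofNat 1))] .nil .nil)) (.node [(90,(.ofNat 1))] .nil (.node [(221,(.ofNat 1))] .nil .nil))) (.node [(58,(.ofNat 1))] (.node [] .nil (.node [(189,(.ofNat 1))] .nil .nil)) (.node [(125,(.ofNat 1))] .nil .nil)))))) (.node [(3,(.ofNat 1)),(4,(.ofNat 1))] (.node [] (.node [] (.node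 [] (.node [] (.node [] .nil (.node [(135,(.negSucc 0))] .nil .nil)) (.node [(70,(.negSucc 0))] .nil (.node [(198,(.ofNat 1))] .nil .nil))) (.node [(38,(.negSucc 0))] (.node [] .nil (.node [(166,(.ofNat 1))] .nil .nil)) (.node [(100,(.negSucc 0))] .nil (.node [(227,(.ofNat 1))] .nil .nil)))) (.node [(19,(.ofNat 1))] (.node [] (.node [] .nil (.node [(147,(.ofNat 1))] .nil .nil)) (.node [(82,(.ofNat 1))] .nil (.node [(211,(.ofNat 1))] .nil .nil))) (.node [(51,(.ofNat 1))] (.node [] .nil (.node [(179,(.ofNat 1))] .nil .nil)) (.node [(115,(.ofNat 1))] .nil (.node [(244,(.ofNat 1))] .nil .nil))))) (.node [(12,(.negSucc 0))] (.node [] (.node [] (.node [] .nil (.node [(138,(.negSucc 0))] .nil .nil)) (.node [(75,(.ofNat 1))] .nil (.node [(203,(.ofNat 1))] .nil .nil))) (.node [(43,(.ofNat 1))] (.node [] .nil (.node [(171,(.ofNat 1))] .nil .nil)) (.node [(107,(.ofNat 1))] .nil (.node [(235,(.ofNat 1))] .nil .nil)))) (.node [(27,(.ofNat 1))] (.node [] (.node [] .nil (.node [(156,(.ofNat 1))]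 .nil .nil)) (.node [(94,(.negSucc 0))] .nil (.node [(216,(.negSucc 0))] .nil .nil))) (.node [(62,(.negSucc 0))] (.node [] .nil (.node [(184,(.negSucc 0))] .nil .nil)) (.node [(119,(.negSucc 0))] .nil .nil))))) (.node [(7,(.ofNat 1))] (.node [] (.node [] (.node [] (.node [] .nil (.node [(131,(.ofNat 1))] .nil .nil)) (.node [(68,(.ofNat 1))] .nil (.node [(199,(.ofNat 1))] .nil .nil))) (.node [(36,(.ofNat 1))] (.node [] .nil (.node [(167,(.ofNat 1))] .nil .nil)) (.node [(103,(.ofNat 1))] .nil (.node [(230,(.negSucc 0))] .nil .nil)))) (.node [(23,(.ofNat 1))] (.node [] (.node [] .nil (.node [(150,(.negSucc 0))] .nil .nil)) (.node [(87,(.ofNat 1))] .nil (.node [(218,(.ofNat 1))] .nil .nil))) (.node [(55,(.ofNat 1))] (.node [] .nil (.node [(186,(.ofNat 1))] .nil .nil)) (.node [(123,(.ofNat 1))] .nil (.node [(247,(.ofNat 1))] .nil .nil))))) (.node [(15,(.ofNat 1))] (.node [] (.node [] (.node [] .nil (.node [(143,(.ofNat 1))] .nil .nil)) (.node [(79,(.ofNat 1))] .nil (.node [(210,(.ofNat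 1))] .nil .nil))) (.node [(50,(.negSucc 0))] (.node [] .nil (.node [(175,(.ofNat 1))] .nil .nil)) (.node [(110,(.ofNat 1))] .nil (.node [(239,(.ofNat 1))] .nil .nil)))) (.node [(31,(.ofNat 1))] (.node [] (.node [] .nil (.node [(159,(.ofNat 1))] .nil .nil)) (.node [(95,(.ofNat 1))] .nil (.node [(223,(.ofNat 1))] .nil .nil))) (.node [(63,(.ofNat 1))] (.node [] .nil (.node [(191,(.ofNat 1))] .nil .nil)) (.node [(127,(.ofNat 1))] .nil .nil))))))))
noncomputable def nt3 : Trie (List (ℕ × ℤ)) := (.node [(0,(.ofNat 1))] (.node [] (.node [] (.node [] (.node [] (.node [] (.node [] (.node [] .nil (.node [(128,(.ofNat 1))] .nil .nil)) (.node [(64,(.ofNat 1))] .nil (.node [(192,(.ofNat 1))] .nil .nil))) (.node [(36,(.negSucc 0))] (.node [] .nil (.node [(156,(.negSucc 0))] .nil .nil)) (.node [(92,(.ofNat 1))] .nil (.node [(220,(.negSucc 0))] .nil .nil)))) (.node [(17,(.negSucc 0))] (.node [] (.node [] .nil (.node [(143,(.negSucc 0))] .nil .nil)) (.node [(80,(.ofNat 1))] .nil (.node [(208,(.ofNat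 1))] .nil .nil))) (.node [(54,(.negSucc 0))] (.node [] .nil (.node [(176,(.ofNat 1))] .nil .nil)) (.node [(111,(.ofNat 1))] .nil (.node [(240,(.ofNat 1))] .nil .nil))))) (.node [(8,(.ofNat 1))] (.node [] (.node [] (.node [] .nil (.node [(141,(.negSucc 0))] .nil .nil)) (.node [(76,(.negSucc 0))] .nil (.node [(206,(.ofNat 1))] .nil .nil))) (.node [(40,(.ofNat 1))] (.node [] .nil (.node [(168,(.ofNat 1))] .nil .nil)) (.node [(104,(.ofNat 1))] .nil (.node [(231,(.negSucc 0))] .nil .nil)))) (.node [(23,(.ofNat 1))] (.node [] (.node [] .nil (.node [(152,(.ofNat 1))] .nil .nil)) (.node [(88,(.ofNat 1))] .nil (.node [(216,(.ofNat 1))] .nil .nil))) (.node [(50,(.ofNat 1))] (.node [] .nil (.node [(180,(.negSucc 0))] .nil .nil)) (.node [(115,(.negSucc 0))] .nil .nil))))) (.node [(3,(.ofNat 1)),(4,(.ofNat 1))] (.node [] (.node [] (.node [] (.node [] .nil (.node [(132,(.ofNat 1))] .nil .nil)) (.node [(68,(.ofNat 1))] .nil (.node [(202,(.ofNat 1))] .nil .nil))) (.node [(32,(.ofNat 1))] (.node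 [] .nil (.node [(164,(.ofNat 1))] .nil .nil)) (.node [(100,(.ofNat 1))] .nil (.node [(228,(.ofNat 1))] .nil .nil)))) (.node [(20,(.ofNat 1))] (.node [] (.node [] .nil (.node [(148,(.ofNat 1))] .nil .nil)) (.node [(83,(.ofNat 1))] .nil (.node [(212,(.ofNat 1))] .nil .nil))) (.node [(58,(.negSucc 0))] (.node [] .nil (.node [(184,(.ofNat 1))] .nil .nil)) (.node [(121,(.ofNat 1))] .nil (.node [(244,(.ofNat 1))] .nil .nil))))) (.node [(13,(.negSucc 0))] (.node [] (.node [] (.node [] .nil (.node [(135,(.ofNat 1))] .nil .nil)) (.node [(72,(.ofNat 1))] .nil (.node [(198,(.negSucc 0))] .nil .nil))) (.node [(44,(.ofNat 1))] (.node [] .nil (.node [(171,(.negSucc 0))] .nil .nil)) (.node [(108,(.ofNat 1))] .nil (.node [(236,(.ofNat 1))] .nil .nil)))) (.node [(28,(.ofNat 1))] (.node [] (.node [] .nil (.node [(160,(.ofNat 1))] .nil .nil)) (.node [(96,(.negSucc 0))] .nil (.node [(224,(.ofNat 1))] .nil .nil))) (.node [(60,(.ofNat 1))] (.node [] .nil (.node [(188,(.ofNat 1))] .nil .nil)) (.node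 [(124,(.ofNat 1))] .nil .nil)))))) (.node [(2,(.ofNat 1)),(3,(.ofNat 1))] (.node [] (.node [] (.node [] (.node [] (.node [] .nil (.node [(130,(.ofNat 1))] .nil .nil)) (.node [(66,(.ofNat 1))] .nil (.node [(194,(.ofNat 1))] .nil .nil))) (.node [(30,(.ofNat 1))] (.node [] .nil (.node [(158,(.negSucc 0))] .nil .nil)) (.node [(94,(.ofNat 1))] .nil (.node [(226,(.ofNat 1))] .nil .nil)))) (.node [(18,(.ofNat 1))] (.node [] (.node [] .nil (.node [(146,(.ofNat 1))] .nil .nil)) (.node [(82,(.ofNat 1))] .nil (.node [(210,(.ofNat 1))] .nil .nil))) (.node [(56,(.negSucc 0))] (.node [] .nil (.node [(182,(.ofNat 1))] .nil .nil)) (.node [(119,(.ofNat 1))] .nil (.node [(243,(.ofNat 1))] .nil .nil))))) (.node [(10,(.ofNat 1))] (.node [] (.node [] (.node [] .nil (.node [(117,(.negSucc 0))] .nil .nil)) (.node [(70,(.ofNat 1))] .nil (.node [(196,(.negSucc 0))] .nil .nil))) (.node [(42,(.ofNat 1))] (.node [] .nil (.node [(170,(.ofNat 1))] .nil .nil)) (.node [(105,(.ofNat 1))] .nil (.node [(234,(.ofNat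 1))] .nil .nil)))) (.node [(26,(.ofNat 1))] (.node [] (.node [] .nil (.node [(154,(.ofNat 1))] .nil .nil)) (.node [(90,(.ofNat 1))] .nil (.node [(222,(.ofNat 1))] .nil .nil))) (.node [(52,(.ofNat 1))] (.node [] .nil (.node [(186,(.ofNat 1))] .nil .nil)) (.node [(122,(.ofNat 1))] .nil .nil))))) (.node [(6,(.ofNat 1))] (.node [] (.node [] (.node [] (.node [] .nil (.node [(139,(.negSucc 0))] .nil .nil)) (.node [(74,(.negSucc 0))] .nil (.node [(204,(.ofNat 1))] .nil .nil))) (.node [(38,(.ofNat 1))] (.node [] .nil (.node [(166,(.ofNat 1))] .nil .nil)) (.node [(102,(.ofNat 1))] .nil (.node [(230,(.ofNat 1))] .nil .nil)))) (.node [(22,(.ofNat 1))] (.node [] (.node [] .nil (.node [(149,(.negSucc 0))] .nil .nil)) (.node [(86,(.ofNat 1))] .nil (.node [(214,(.ofNat 1))] .nil .nil))) (.node [(48,(.ofNat 1))] (.node [] .nil (.node [(178,(.negSucc 0))] .nil .nil)) (.node [(113,(.negSucc 0))] .nil (.node [(246,(.ofNat 1))] .nil .nil))))) (.node [(14,(.ofNat 1))] (.node [] (.node [] (.node []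 .nil (.node [(137,(.ofNat 1))] .nil .nil)) (.node [(78,(.ofNat 1))] .nil (.node [(200,(.negSucc 0))] .nil .nil))) (.node [(46,(.ofNat 1))] (.node [] .nil (.node [(174,(.ofNat 1))] .nil .nil)) (.node [(110,(.ofNat 1))] .nil (.node [(239,(.ofNat 1))] .nil .nil)))) (.node [(34,(.negSucc 0))] (.node [] (.node [] .nil (.node [(162,(.ofNat 1))] .nil .nil)) (.node [(98,(.negSucc 0))] .nil (.node [(218,(.negSucc 0))] .nil .nil))) (.node [(62,(.ofNat 1))] (.node [] .nil (.node [(190,(.ofNat 1))] .nil .nil)) (.node [(126,(.ofNat 1))] .nil .nil))))))) (.node [(1,(.ofNat 1)),(3,(.ofNat 1))] (.node [] (.node [] (.node [] (.node [] (.node [] (.node [] .nil (.node [(129,(.ofNat 1))] .nil .nil)) (.node [(65,(.ofNat 1))] .nil (.node [(193,(.ofNat 1))] .nil .nil))) (.node [(37,(.negSucc 0))] (.node [] .nil (.node [(157,(.negSucc 0))] .nil .nil)) (.node [(93,(.ofNat 1))] .nil (.node [(221,(.negSucc 0))] .nil .nil)))) (.node [(16,(.ofNat 1))] (.node [] (.node [] .nil (.node [(145,(.ofNat 1))] .nil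 .nil)) (.node [(81,(.ofNat 1))] .nil (.node [(209,(.ofNat 1))] .nil .nil))) (.node [(55,(.negSucc 0))] (.node [] .nil (.node [(177,(.ofNat 1))] .nil .nil)) (.node [(118,(.ofNat 1))] .nil (.node [(241,(.ofNat 1))] .nil .nil))))) (.node [(9,(.ofNat 1))] (.node [] (.node [] (.node [] .nil (.node [(142,(.negSucc 0))] .nil .nil)) (.node [(77,(.negSucc 0))] .nil (.node [(207,(.ofNat 1))] .nil .nil))) (.node [(41,(.ofNat 1))] (.node [] .nil (.node [(169,(.ofNat 1))] .nil .nil)) (.node [(106,(.negSucc 0))] .nil (.node [(233,(.ofNat 1))] .nil .nil)))) (.node [(25,(.ofNat 1))] (.node [] (.node [] .nil (.node [(153,(.ofNat 1))] .nil .nil)) (.node [(89,(.ofNat 1))] .nil (.node [(217,(.ofNat 1))] .nil .nil))) (.node [(51,(.ofNat 1))] (.node [] .nil (.node [(181,(.negSucc 0))] .nil .nil)) (.node [(116,(.negSucc 0))] .nil .nil))))) (.node [(5,(.ofNat 1))] (.node [] (.node [] (.node [] (.node [] .nil (.node [(133,(.ofNat 1))] .nil .nil)) (.node [(69,(.ofNat 1))] .nil (.node [(203,(.ofNat 1))]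 .nil .nil))) (.node [(33,(.ofNat 1))] (.node [] .nil (.node [(165,(.ofNat 1))] .nil .nil)) (.node [(101,(.ofNat 1))] .nil (.node [(229,(.ofNat 1))] .nil .nil)))) (.node [(21,(.ofNat 1))] (.node [] (.node [] .nil (.node [(150,(.ofNat 1))] .nil .nil)) (.node [(85,(.ofNat 1))] .nil (.node [(213,(.ofNat 1))] .nil .nil))) (.node [(59,(.negSucc 0))] (.node [] .nil (.node [(185,(.ofNat 1))] .nil .nil)) (.node [(138,(.negSucc 0))] .nil (.node [(245,(.ofNat 1))] .nil .nil))))) (.node [(12,(.ofNat 1))] (.node [] (.node [] (.node [] .nil (.node [(136,(.ofNat 1))] .nil .nil)) (.node [(73,(.ofNat 1))] .nil (.node [(199,(.negSucc 0))] .nil .nil))) (.node [(45,(.ofNat 1))] (.node [] .nil (.node [(173,(.ofNat 1))] .nil .nil)) (.node [(109,(.ofNat 1))] .nil (.node [(237,(.ofNat 1))] .nil .nil)))) (.node [(29,(.ofNat 1))] (.node [] (.node [] .nil (.node [(161,(.ofNat 1))] .nil .nil)) (.node [(97,(.negSucc 0))] .nil (.node [(225,(.ofNat 1))] .nil .nil))) (.node [(61,(.ofNat 1))] (.node [] .nil (.node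 [(189,(.ofNat 1))] .nil .nil)) (.node [(125,(.ofNat 1))] .nil .nil)))))) (.node [(3,(.negSucc 0))] (.node [] (.node [] (.node [] (.node [] (.node [] .nil (.node [(131,(.ofNat 1))] .nil .nil)) (.node [(67,(.ofNat 1))] .nil (.node [(195,(.ofNat 1))] .nil .nil))) (.node [(31,(.ofNat 1))] (.node [] .nil (.node [(159,(.negSucc 0))] .nil .nil)) (.node [(95,(.ofNat 1))] .nil (.node [(227,(.ofNat 1))] .nil .nil)))) (.node [(19,(.ofNat 1))] (.node [] (.node [] .nil (.node [(147,(.ofNat 1))] .nil .nil)) (.node [(84,(.negSucc 0))] .nil (.node [(211,(.ofNat 1))] .nil .nil))) (.node [(57,(.negSucc 0))] (.node [] .nil (.node [(183,(.ofNat 1))] .nil .nil)) (.node [(120,(.ofNat 1))] .nil (.node [(242,(.negSucc 0))] .nil .nil))))) (.node [(11,(.ofNat 1))] (.node [] (.node [] (.node [] .nil (.node [(134,(.ofNat 1))] .nil .nil)) (.node [(71,(.ofNat 1))] .nil (.node [(197,(.negSucc 0))] .nil .nil))) (.node [(43,(.ofNat 1))] (.node [] .nil (.node [(172,(.ofNat 1))] .nil .nil)) (.node [(107,(.ofNat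 1))] .nil (.node [(235,(.ofNat 1))] .nil .nil)))) (.node [(27,(.ofNat 1))] (.node [] (.node [] .nil (.node [(155,(.ofNat 1))] .nil .nil)) (.node [(91,(.ofNat 1))] .nil (.node [(223,(.ofNat 1))] .nil .nil))) (.node [(53,(.ofNat 1))] (.node [] .nil (.node [(187,(.ofNat 1))] .nil .nil)) (.node [(123,(.ofNat 1))] .nil .nil))))) (.node [(7,(.ofNat 1))] (.node [] (.node [] (.node [] (.node [] .nil (.node [(140,(.negSucc 0))] .nil .nil)) (.node [(75,(.negSucc 0))] .nil (.node [(205,(.ofNat 1))] .nil .nil))) (.node [(39,(.ofNat 1))] (.node [] .nil (.node [(167,(.ofNat 1))] .nil .nil)) (.node [(103,(.ofNat 1))] .nil (.node [(232,(.ofNat 1))] .nil .nil)))) (.node [(24,(.negSucc 0))] (.node [] (.node [] .nil (.node [(151,(.ofNat 1))] .nil .nil)) (.node [(87,(.ofNat 1))] .nil (.node [(215,(.ofNat 1))] .nil .nil))) (.node [(49,(.ofNat 1))] (.node [] .nil (.node [(179,(.negSucc 0))] .nil .nil)) (.node [(114,(.negSucc 0))] .nil (.node [(247,(.ofNat 1))] .nil .nil))))) (.node [(15,(.ofNat 1))]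 (.node [] (.node [] (.node [] .nil (.node [(144,(.ofNat 1))] .nil .nil)) (.node [(79,(.ofNat 1))] .nil (.node [(201,(.negSucc 0))] .nil .nil))) (.node [(47,(.ofNat 1))] (.node [] .nil (.node [(175,(.ofNat 1))] .nil .nil)) (.node [(112,(.negSucc 0))] .nil (.node [(238,(.negSucc 0))] .nil .nil)))) (.node [(35,(.negSucc 0))] (.node [] (.node [] .nil (.node [(163,(.ofNat 1))] .nil .nil)) (.node [(99,(.negSucc 0))] .nil (.node [(219,(.negSucc 0))] .nil .nil))) (.node [(63,(.ofNat 1))] (.node [] .nil (.node [(191,(.ofNat 1))] .nil .nil)) (.node [(127,(.ofNat 1))] .nil .nil))))))))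
noncomputable def nt2 : Trie (List (ℕ × ℤ)) := (.node [(0,(.ofNat 1)),(2,(.ofNat 1))] (.node [] (.node [] (.node [] (.node [] (.node [] (.node [] (.node [] .nil (.node [(128,(.ofNat 1))] .nil .nil)) (.node [(54,(.ofNat 1))] .nil (.node [(182,(.negSucc 0))] .nil .nil))) (.node [(27,(.ofNat 1))] (.node [] .nil (.node [(160,(.ofNat 1))] .nil .nil)) (.node [(101,(.negSucc 0))] .nil (.node [(229,(.ofNat 1))] .nil .nil)))) (.node [(15,(.ofNat 1))] (.node [] (.node [] .nil (.node [(138,(.ofNat 1))] .nil .nil)) (.node [(80,(.ofNat 1))] .nil (.node [(208,(.ofNat 1))] .nil .nil))) (.node [(48,(.ofNat 1))] (.node [] .nil (.node [(176,(.ofNat 1))] .nil .nil)) (.node [(143,(.negSucc 0))] .nil (.node [(239,(.negSucc 0))] .nil .nil))))) (.node [(8,(.ofNat 1))] (.node [] (.node [] (.node [] .nil (.node [(136,(.ofNat 1))] .nil .nil)) (.node [(62,(.ofNat 1))] .nil (.node [(190,(.negSucc 0))] .nil .nil))) (.node [(40,(.ofNat 1))] (.node [] .nil (.node [(168,(.ofNat 1))] .nil .nil)) (.node [(99,(.ofNat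 1))] .nil (.node [(232,(.ofNat 1))] .nil .nil)))) (.node [(29,(.negSucc 0))] (.node [] (.node [] .nil (.node [(157,(.ofNat 1))] .nil .nil)) (.node [(88,(.ofNat 1))] .nil (.node [(216,(.ofNat 1))] .nil .nil))) (.node [(66,(.negSucc 0))] (.node [] .nil (.node [(194,(.ofNat 1))] .nil .nil)) (.node [(120,(.ofNat 1))] .nil .nil))))) (.node [(4,(.ofNat 1))] (.node [] (.node [] (.node [] (.node [] .nil (.node [(132,(.ofNat 1))] .nil .nil)) (.node [(58,(.ofNat 1))] .nil (.node [(186,(.negSucc 0))] .nil .nil))) (.node [(36,(.ofNat 1))] (.node [] .nil (.node [(164,(.ofNat 1))] .nil .nil)) (.node [(105,(.negSucc 0))] .nil (.node [(223,(.negSucc 0))] .nil .nil)))) (.node [(20,(.ofNat 1))] (.node [] (.node [] .nil (.node [(142,(.ofNat 1))] .nil .nil)) (.node [(85,(.negSucc 0))] .nil (.node [(212,(.ofNat 1))] .nil .nil))) (.node [(52,(.ofNat 1))] (.node [] .nil (.node [(180,(.ofNat 1))] .nil .nil)) (.node [(110,(.negSucc 0))] .nil (.node [(244,(.ofNat 1))] .nil .nil))))) (.node [(12,(.ofNat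 1))] (.node [] (.node [] (.node [] .nil (.node [(146,(.negSucc 0))] .nil .nil)) (.node [(76,(.ofNat 1))] .nil (.node [(204,(.ofNat 1))] .nil .nil))) (.node [(44,(.ofNat 1))] (.node [] .nil (.node [(172,(.ofNat 1))] .nil .nil)) (.node [(114,(.ofNat 1))] .nil (.node [(236,(.ofNat 1))] .nil .nil)))) (.node [(33,(.negSucc 0))] (.node [] (.node [] .nil (.node [(151,(.negSucc 0))] .nil .nil)) (.node [(92,(.ofNat 1))] .nil (.node [(220,(.ofNat 1))] .nil .nil))) (.node [(70,(.negSucc 0))] (.node [] .nil (.node [(198,(.ofNat 1))] .nil .nil)) (.node [(124,(.ofNat 1))] .nil .nil)))))) (.node [(2,(.negSucc 0))] (.node [] (.node [] (.node [] (.node [] (.node [] .nil (.node [(130,(.ofNat 1))] .nil .nil)) (.node [(56,(.ofNat 1))] .nil (.node [(184,(.negSucc 0))] .nil .nil))) (.node [(34,(.ofNat 1))] (.node [] .nil (.node [(162,(.ofNat 1))] .nil .nil)) (.node [(103,(.negSucc 0))] .nil (.node [(231,(.ofNat 1))] .nil .nil)))) (.node [(18,(.ofNat 1))] (.node [] (.node [] .nil (.node [(140,(.ofNat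 1))] .nil .nil)) (.node [(82,(.ofNat 1))] .nil (.node [(210,(.ofNat 1))] .nil .nil))) (.node [(50,(.ofNat 1))] (.node [] .nil (.node [(178,(.ofNat 1))] .nil .nil)) (.node [(108,(.negSucc 0))] .nil (.node [(241,(.negSucc 0))] .nil .nil))))) (.node [(10,(.ofNat 1))] (.node [] (.node [] (.node [] .nil (.node [(144,(.negSucc 0))] .nil .nil)) (.node [(74,(.ofNat 1))] .nil (.node [(202,(.ofNat 1))] .nil .nil))) (.node [(42,(.ofNat 1))] (.node [] .nil (.node [(171,(.ofNat 1))] .nil .nil)) (.node [(106,(.ofNat 1))] .nil (.node [(234,(.ofNat 1))] .nil .nil)))) (.node [(31,(.negSucc 0))] (.node [] (.node [] .nil (.node [(159,(.ofNat 1))] .nil .nil)) (.node [(90,(.ofNat 1))] .nil (.node [(218,(.ofNat 1))] .nil .nil))) (.node [(68,(.negSucc 0))] (.node [] .nil (.node [(196,(.ofNat 1))] .nil .nil)) (.node [(122,(.ofNat 1))] .nil .nil))))) (.node [(6,(.ofNat 1))] (.node [] (.node [] (.node [] (.node [] .nil (.node [(134,(.ofNat 1))] .nil .nil)) (.node [(60,(.ofNat 1))] .nil (.node [(188,(.negSucc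 0))] .nil .nil))) (.node [(38,(.ofNat 1))] (.node [] .nil (.node [(166,(.ofNat 1))] .nil .nil)) (.node [(97,(.ofNat 1))] .nil (.node [(225,(.negSucc 0))] .nil .nil)))) (.node [(22,(.ofNat 1))] (.node [] (.node [] .nil (.node [(155,(.ofNat 1))] .nil .nil)) (.node [(86,(.ofNat 1))] .nil (.node [(214,(.ofNat 1))] .nil .nil))) (.node [(64,(.negSucc 0))] (.node [] .nil (.node [(192,(.ofNat 1))] .nil .nil)) (.node [(118,(.ofNat 1))] .nil (.node [(246,(.ofNat 1))] .nil .nil))))) (.node [(13,(.ofNat 1))] (.node [] (.node [] (.node [] .nil (.node [(148,(.negSucc 0))] .nil .nil)) (.node [(78,(.ofNat 1))] .nil (.node [(206,(.ofNat 1))] .nil .nil))) (.node [(46,(.ofNat 1))] (.node [] .nil (.node [(174,(.ofNat 1))] .nil .nil)) (.node [(116,(.ofNat 1))] .nil (.node [(238,(.ofNat 1))] .nil .nil)))) (.node [(25,(.ofNat 1))] (.node [] (.node [] .nil (.node [(153,(.negSucc 0))] .nil .nil)) (.node [(94,(.ofNat 1))] .nil (.node [(227,(.ofNat 1))] .nil .nil))) (.node [(72,(.negSucc 0))] (.node []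 .nil (.node [(200,(.ofNat 1))] .nil .nil)) (.node [(126,(.ofNat 1))] .nil .nil))))))) (.node [(1,(.ofNat 1))] (.node [] (.node [] (.node [] (.node [] (.node [] (.node [] .nil (.node [(129,(.ofNat 1))] .nil .nil)) (.node [(55,(.ofNat 1))] .nil (.node [(183,(.negSucc 0))] .nil .nil))) (.node [(28,(.ofNat 1))] (.node [] .nil (.node [(161,(.ofNat 1))] .nil .nil)) (.node [(102,(.negSucc 0))] .nil (.node [(230,(.ofNat 1))] .nil .nil)))) (.node [(17,(.ofNat 1))] (.node [] (.node [] .nil (.node [(139,(.ofNat 1))] .nil .nil)) (.node [(81,(.ofNat 1))] .nil (.node [(209,(.ofNat 1))] .nil .nil))) (.node [(49,(.ofNat 1))] (.node [] .nil (.node [(177,(.ofNat 1))] .nil .nil)) (.node [(107,(.negSucc 0))] .nil (.node [(242,(.ofNat 1))] .nil .nil))))) (.node [(9,(.ofNat 1))] (.node [] (.node [] (.node [] .nil (.node [(137,(.ofNat 1))] .nil .nil)) (.node [(63,(.ofNat 1))] .nil (.node [(191,(.negSucc 0))] .nil .nil))) (.node [(41,(.ofNat 1))] (.node [] .nil (.node [(169,(.ofNat 1))] .nil .nil)) (.node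 [(100,(.ofNat 1))] .nil (.node [(233,(.ofNat 1))] .nil .nil)))) (.node [(30,(.negSucc 0))] (.node [] (.node [] .nil (.node [(158,(.ofNat 1))] .nil .nil)) (.node [(89,(.ofNat 1))] .nil (.node [(217,(.ofNat 1))] .nil .nil))) (.node [(67,(.negSucc 0))] (.node [] .nil (.node [(195,(.ofNat 1))] .nil .nil)) (.node [(121,(.ofNat 1))] .nil .nil))))) (.node [(5,(.ofNat 1))] (.node [] (.node [] (.node [] (.node [] .nil (.node [(133,(.ofNat 1))] .nil .nil)) (.node [(59,(.ofNat 1))] .nil (.node [(187,(.negSucc 0))] .nil .nil))) (.node [(37,(.ofNat 1))] (.node [] .nil (.node [(165,(.ofNat 1))] .nil .nil)) (.node [(96,(.ofNat 1))] .nil (.node [(224,(.negSucc 0))] .nil .nil)))) (.node [(21,(.ofNat 1))] (.node [] (.node [] .nil (.node [(149,(.ofNat 1))] .nil .nil)) (.node [(84,(.ofNat 1))] .nil (.node [(213,(.ofNat 1))] .nil .nil))) (.node [(53,(.ofNat 1))] (.node [] .nil (.node [(181,(.ofNat 1))] .nil .nil)) (.node [(111,(.negSucc 0))] .nil (.node [(245,(.ofNat 1))] .nil .nil))))) (.node [(14,(.negSucc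 0))] (.node [] (.node [] (.node [] .nil (.node [(147,(.negSucc 0))] .nil .nil)) (.node [(77,(.ofNat 1))] .nil (.node [(205,(.ofNat 1))] .nil .nil))) (.node [(45,(.ofNat 1))] (.node [] .nil (.node [(173,(.ofNat 1))] .nil .nil)) (.node [(115,(.ofNat 1))] .nil (.node [(237,(.ofNat 1))] .nil .nil)))) (.node [(24,(.ofNat 1))] (.node [] (.node [] .nil (.node [(152,(.negSucc 0))] .nil .nil)) (.node [(93,(.ofNat 1))] .nil (.node [(221,(.ofNat 1))] .nil .nil))) (.node [(71,(.negSucc 0))] (.node [] .nil (.node [(199,(.ofNat 1))] .nil .nil)) (.node [(125,(.ofNat 1))] .nil .nil)))))) (.node [(2,(.ofNat 1)),(3,(.ofNat 1))] (.node [] (.node [] (.node [] (.node [] (.node [] .nil (.node [(131,(.ofNat 1))] .nil .nil)) (.node [(57,(.ofNat 1))] .nil (.node [(185,(.negSucc 0))] .nil .nil))) (.node [(35,(.ofNat 1))] (.node [] .nil (.node [(163,(.ofNat 1))] .nil .nil)) (.node [(104,(.negSucc 0))] .nil (.node [(222,(.negSucc 0))] .nil .nil)))) (.node [(19,(.ofNat 1))] (.node [] (.node [] .nil (.node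 [(141,(.ofNat 1))] .nil .nil)) (.node [(83,(.ofNat 1))] .nil (.node [(211,(.ofNat 1))] .nil .nil))) (.node [(51,(.ofNat 1))] (.node [] .nil (.node [(179,(.ofNat 1))] .nil .nil)) (.node [(109,(.negSucc 0))] .nil (.node [(243,(.ofNat 1))] .nil .nil))))) (.node [(11,(.ofNat 1))] (.node [] (.node [] (.node [] .nil (.node [(145,(.negSucc 0))] .nil .nil)) (.node [(75,(.ofNat 1))] .nil (.node [(203,(.ofNat 1))] .nil .nil))) (.node [(43,(.ofNat 1))] (.node [] .nil (.node [(170,(.negSucc 0))] .nil .nil)) (.node [(113,(.ofNat 1))] .nil (.node [(235,(.ofNat 1))] .nil .nil)))) (.node [(32,(.negSucc 0))] (.node [] (.node [] .nil (.node [(150,(.negSucc 0))] .nil .nil)) (.node [(91,(.ofNat 1))] .nil (.node [(219,(.ofNat 1))] .nil .nil))) (.node [(69,(.negSucc 0))] (.node [] .nil (.node [(197,(.ofNat 1))] .nil .nil)) (.node [(123,(.ofNat 1))] .nil .nil))))) (.node [(7,(.ofNat 1))] (.node [] (.node [] (.node [] (.node [] .nil (.node [(135,(.ofNat 1))] .nil .nil)) (.node [(61,(.ofNat 1))] .nil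 (.node [(189,(.negSucc 0))] .nil .nil))) (.node [(39,(.ofNat 1))] (.node [] .nil (.node [(167,(.ofNat 1))] .nil .nil)) (.node [(98,(.ofNat 1))] .nil (.node [(226,(.negSucc 0))] .nil .nil)))) (.node [(23,(.ofNat 1))] (.node [] (.node [] .nil (.node [(156,(.ofNat 1))] .nil .nil)) (.node [(87,(.ofNat 1))] .nil (.node [(215,(.ofNat 1))] .nil .nil))) (.node [(65,(.negSucc 0))] (.node [] .nil (.node [(193,(.ofNat 1))] .nil .nil)) (.node [(119,(.ofNat 1))] .nil (.node [(247,(.ofNat 1))] .nil .nil))))) (.node [(16,(.negSucc 0))] (.node [] (.node [] (.node [] .nil (.node [(112,(.negSucc 0))] .nil .nil)) (.node [(79,(.ofNat 1))] .nil (.node [(207,(.ofNat 1))] .nil .nil))) (.node [(47,(.ofNat 1))] (.node [] .nil (.node [(175,(.ofNat 1))] .nil .nil)) (.node [(117,(.ofNat 1))] .nil (.node [(240,(.ofNat 1))] .nil .nil)))) (.node [(26,(.ofNat 1))] (.node [] (.node [] .nil (.node [(154,(.negSucc 0))] .nil .nil)) (.node [(95,(.ofNat 1))] .nil (.node [(228,(.ofNat 1))] .nil .nil))) (.node [(73,(.negSucc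 0))] (.node [] .nil (.node [(201,(.ofNat 1))] .nil .nil)) (.node [(127,(.ofNat 1))] .nil .nil))))))))
noncomputable def nt1 : Trie (List (ℕ × ℤ)) := (.node [(0,(.ofNat 1))] (.node [] (.node [] (.node [] (.node [] (.node [] (.node [] (.node [] .nil (.node [(128,(.ofNat 1))] .nil .nil)) (.node [(64,(.ofNat 1))] .nil (.node [(192,(.ofNat 1))] .nil .nil))) (.node [(32,(.ofNat 1))] (.node [] .nil (.node [(160,(.ofNat 1))] .nil .nil)) (.node [(107,(.negSucc 0))] .nil (.node [(224,(.ofNat 1))] .nil .nil)))) (.node [(14,(.ofNat 1))] (.node [] (.node [] .nil (.node [(155,(.ofNat 1))] .nil .nil)) (.node [(75,(.ofNat 1))] .nil (.node [(218,(.ofNat 1))] .nil .nil))) (.node [(38,(.ofNat 1))] (.node [] .nil (.node [(181,(.ofNat 1))] .nil .nil)) (.node [(112,(.ofNat 1))] .nil (.node [(242,(.ofNat 1))] .nil .nil))))) (.node [(8,(.ofNat 1))] (.node [] (.node [] (.node [] .nil (.node [(136,(.ofNat 1))] .nil .nil)) (.node [(72,(.ofNat 1))] .nil (.node [(200,(.ofNat 1))] .nil .nil))) (.node [(50,(.negSucc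 0))] (.node [] .nil (.node [(168,(.ofNat 1))] .nil .nil)) (.node [(116,(.ofNat 1))] .nil (.node [(233,(.ofNat 1))] .nil .nil)))) (.node [(24,(.ofNat 1))] (.node [] (.node [] .nil (.node [(140,(.ofNat 1))] .nil .nil)) (.node [(88,(.ofNat 1))] .nil (.node [(206,(.negSucc 0))] .nil .nil))) (.node [(56,(.ofNat 1))] (.node [] .nil (.node [(184,(.ofNat 1))] .nil .nil)) (.node [(120,(.ofNat 1))] .nil .nil))))) (.node [(4,(.ofNat 1))] (.node [] (.node [] (.node [] (.node [] .nil (.node [(132,(.ofNat 1))] .nil .nil)) (.node [(68,(.ofNat 1))] .nil (.node [(196,(.ofNat 1))] .nil .nil))) (.node [(46,(.negSucc 0))] (.node [] .nil (.node [(164,(.ofNat 1))] .nil .nil)) (.node [(111,(.negSucc 0))] .nil (.node [(228,(.ofNat 1))] .nil .nil)))) (.node [(20,(.ofNat 1))] (.node [] (.node [] .nil (.node [(159,(.ofNat 1))] .nil .nil)) (.node [(84,(.ofNat 1))] .nil (.node [(202,(.negSucc 0))] .nil .nil))) (.node [(42,(.ofNat 1))] (.node [] .nil (.node [(175,(.negSucc 0))] .nil .nil)) (.node [(104,(.negSucc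 0))] .nil (.node [(244,(.ofNat 1))] .nil .nil))))) (.node [(12,(.ofNat 1))] (.node [] (.node [] (.node [] .nil (.node [(152,(.negSucc 0))] .nil .nil)) (.node [(81,(.negSucc 0))] .nil (.node [(214,(.ofNat 1))] .nil .nil))) (.node [(34,(.ofNat 1))] (.node [] .nil (.node [(177,(.ofNat 1))] .nil .nil)) (.node [(97,(.ofNat 1))] .nil (.node [(236,(.ofNat 1))] .nil .nil)))) (.node [(28,(.ofNat 1))] (.node [] (.node [] .nil (.node [(145,(.negSucc 0))] .nil .nil)) (.node [(92,(.ofNat 1))] .nil (.node [(210,(.negSucc 0))] .nil .nil))) (.node [(60,(.ofNat 1))] (.node [] .nil (.node [(188,(.ofNat 1))] .nil .nil)) (.node [(124,(.ofNat 1))] .nil .nil)))))) (.node [(2,(.ofNat 1))] (.node [] (.node [] (.node [] (.node [] (.node [] .nil (.node [(130,(.ofNat 1))] .nil .nil)) (.node [(66,(.ofNat 1))] .nil (.node [(194,(.ofNat 1))] .nil .nil))) (.node [(44,(.negSucc 0))] (.node [] .nil (.node [(162,(.ofNat 1))] .nil .nil)) (.node [(109,(.negSucc 0))] .nil (.node [(226,(.ofNat 1))] .nil .nil)))) (.node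 [(18,(.ofNat 1))] (.node [] (.node [] .nil (.node [(157,(.ofNat 1))] .nil .nil)) (.node [(77,(.ofNat 1))] .nil (.node [(220,(.ofNat 1))] .nil .nil))) (.node [(40,(.ofNat 1))] (.node [] .nil (.node [(173,(.negSucc 0))] .nil .nil)) (.node [(102,(.negSucc 0))] .nil (.node [(240,(.negSucc 0))] .nil .nil))))) (.node [(10,(.ofNat 1))] (.node [] (.node [] (.node [] .nil (.node [(150,(.negSucc 0))] .nil .nil)) (.node [(79,(.negSucc 0))] .nil (.node [(212,(.ofNat 1))] .nil .nil))) (.node [(52,(.negSucc 0))] (.node [] .nil (.node [(170,(.ofNat 1))] .nil .nil)) (.node [(149,(.negSucc 0))] .nil (.node [(234,(.ofNat 1))] .nil .nil)))) (.node [(26,(.ofNat 1))] (.node [] (.node [] .nil (.node [(142,(.ofNat 1))] .nil .nil)) (.node [(90,(.ofNat 1))] .nil (.node [(208,(.negSucc 0))] .nil .nil))) (.node [(58,(.ofNat 1))] (.node [] .nil (.node [(186,(.ofNat 1))] .nil .nil)) (.node [(122,(.ofNat 1))] .nil .nil))))) (.node [(6,(.ofNat 1))] (.node [] (.node [] (.node [] (.node [] .nil (.node [(134,(.ofNat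 1))] .nil .nil)) (.node [(70,(.ofNat 1))] .nil (.node [(198,(.ofNat 1))] .nil .nil))) (.node [(48,(.negSucc 0))] (.node [] .nil (.node [(166,(.ofNat 1))] .nil .nil)) (.node [(114,(.ofNat 1))] .nil (.node [(230,(.ofNat 1))] .nil .nil)))) (.node [(23,(.negSucc 0))] (.node [] (.node [] .nil (.node [(138,(.ofNat 1))] .nil .nil)) (.node [(86,(.ofNat 1))] .nil (.node [(204,(.negSucc 0))] .nil .nil))) (.node [(54,(.ofNat 1))] (.node [] .nil (.node [(182,(.ofNat 1))] .nil .nil)) (.node [(118,(.ofNat 1))] .nil (.node [(246,(.ofNat 1))] .nil .nil))))) (.node [(16,(.negSucc 0))] (.node [] (.node [] (.node [] .nil (.node [(154,(.negSucc 0))] .nil .nil)) (.node [(83,(.negSucc 0))] .nil (.node [(216,(.ofNat 1))] .nil .nil))) (.node [(36,(.ofNat 1))] (.node [] .nil (.node [(179,(.ofNat 1))] .nil .nil)) (.node [(99,(.ofNat 1))] .nil (.node [(238,(.ofNat 1))] .nil .nil)))) (.node [(30,(.ofNat 1))] (.node [] (.node [] .nil (.node [(147,(.negSucc 0))] .nil .nil)) (.node [(94,(.ofNat 1))] .nil (.node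 [(222,(.ofNat 1))] .nil .nil))) (.node [(62,(.ofNat 1))] (.node [] .nil (.node [(190,(.ofNat 1))] .nil .nil)) (.node [(126,(.ofNat 1))] .nil .nil))))))) (.node [(1,(.negSucc 0))] (.node [] (.node [] (.node [] (.node [] (.node [] (.node [] .nil (.node [(129,(.ofNat 1))] .nil .nil)) (.node [(65,(.ofNat 1))] .nil (.node [(193,(.ofNat 1))] .nil .nil))) (.node [(33,(.ofNat 1))] (.node [] .nil (.node [(161,(.ofNat 1))] .nil .nil)) (.node [(108,(.negSucc 0))] .nil (.node [(225,(.ofNat 1))] .nil .nil)))) (.node [(17,(.ofNat 1))] (.node [] (.node [] .nil (.node [(156,(.ofNat 1))] .nil .nil)) (.node [(76,(.ofNat 1))] .nil (.node [(219,(.ofNat 1))] .nil .nil))) (.node [(39,(.ofNat 1))] (.node [] .nil (.node [(172,(.negSucc 0))] .nil .nil)) (.node [(101,(.negSucc 0))] .nil (.node [(239,(.negSucc 0))] .nil .nil))))) (.node [(9,(.ofNat 1))] (.node [] (.node [] (.node [] .nil (.node [(137,(.ofNat 1))] .nil .nil)) (.node [(73,(.ofNat 1))] .nil (.node [(201,(.ofNat 1))] .nil .nil))) (.node [(51,(.negSucc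 0))] (.node [] .nil (.node [(169,(.ofNat 1))] .nil .nil)) (.node [(117,(.ofNat 1))] .nil (.node [(232,(.negSucc 0))] .nil .nil)))) (.node [(25,(.ofNat 1))] (.node [] (.node [] .nil (.node [(141,(.ofNat 1))] .nil .nil)) (.node [(89,(.ofNat 1))] .nil (.node [(207,(.negSucc 0))] .nil .nil))) (.node [(57,(.ofNat 1))] (.node [] .nil (.node [(185,(.ofNat 1))] .nil .nil)) (.node [(121,(.ofNat 1))] .nil .nil))))) (.node [(5,(.ofNat 1))] (.node [] (.node [] (.node [] (.node [] .nil (.node [(133,(.ofNat 1))] .nil .nil)) (.node [(69,(.ofNat 1))] .nil (.node [(197,(.ofNat 1))] .nil .nil))) (.node [(47,(.negSucc 0))] (.node [] .nil (.node [(165,(.ofNat 1))] .nil .nil)) (.node [(113,(.ofNat 1))] .nil (.node [(229,(.ofNat 1))] .nil .nil)))) (.node [(21,(.ofNat 1))] (.node [] (.node [] .nil (.node [(106,(.negSucc 0))] .nil .nil)) (.node [(85,(.ofNat 1))] .nil (.node [(203,(.negSucc 0))] .nil .nil))) (.node [(43,(.ofNat 1))] (.node [] .nil (.node [(176,(.negSucc 0))] .nil .nil)) (.node [(105,(.negSucc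 0))] .nil (.node [(245,(.ofNat 1))] .nil .nil))))) (.node [(15,(.negSucc 0))] (.node [] (.node [] (.node [] .nil (.node [(153,(.negSucc 0))] .nil .nil)) (.node [(82,(.negSucc 0))] .nil (.node [(215,(.ofNat 1))] .nil .nil))) (.node [(35,(.ofNat 1))] (.node [] .nil (.node [(178,(.ofNat 1))] .nil .nil)) (.node [(98,(.ofNat 1))] .nil (.node [(237,(.ofNat 1))] .nil .nil)))) (.node [(29,(.ofNat 1))] (.node [] (.node [] .nil (.node [(146,(.negSucc 0))] .nil .nil)) (.node [(93,(.ofNat 1))] .nil (.node [(211,(.negSucc 0))] .nil .nil))) (.node [(61,(.ofNat 1))] (.node [] .nil (.node [(189,(.ofNat 1))] .nil .nil)) (.node [(125,(.ofNat 1))] .nil .nil)))))) (.node [(1,(.ofNat 1)),(3,(.ofNat 1))] (.node [] (.node [] (.node [] (.node [] (.node [] .nil (.node [(131,(.ofNat 1))] .nil .nil)) (.node [(67,(.ofNat 1))] .nil (.node [(195,(.ofNat 1))] .nil .nil))) (.node [(45,(.negSucc 0))] (.node [] .nil (.node [(163,(.ofNat 1))] .nil .nil)) (.node [(110,(.negSucc 0))] .nil (.node [(227,(.ofNat 1))]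 .nil .nil)))) (.node [(19,(.ofNat 1))] (.node [] (.node [] .nil (.node [(158,(.ofNat 1))] .nil .nil)) (.node [(78,(.ofNat 1))] .nil (.node [(221,(.ofNat 1))] .nil .nil))) (.node [(41,(.ofNat 1))] (.node [] .nil (.node [(174,(.negSucc 0))] .nil .nil)) (.node [(103,(.negSucc 0))] .nil (.node [(243,(.ofNat 1))] .nil .nil))))) (.node [(11,(.ofNat 1))] (.node [] (.node [] (.node [] .nil (.node [(151,(.negSucc 0))] .nil .nil)) (.node [(80,(.negSucc 0))] .nil (.node [(213,(.ofNat 1))] .nil .nil))) (.node [(53,(.negSucc 0))] (.node [] .nil (.node [(171,(.ofNat 1))] .nil .nil)) (.node [(96,(.ofNat 1))] .nil (.node [(235,(.ofNat 1))] .nil .nil)))) (.node [(27,(.ofNat 1))] (.node [] (.node [] .nil (.node [(144,(.negSucc 0))] .nil .nil)) (.node [(91,(.ofNat 1))] .nil (.node [(209,(.negSucc 0))] .nil .nil))) (.node [(59,(.ofNat 1))] (.node [] .nil (.node [(187,(.ofNat 1))] .nil .nil)) (.node [(123,(.ofNat 1))] .nil .nil))))) (.node [(7,(.ofNat 1))] (.node [] (.node [] (.node [] (.node [] .nil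 (.node [(135,(.ofNat 1))] .nil .nil)) (.node [(71,(.ofNat 1))] .nil (.node [(199,(.ofNat 1))] .nil .nil))) (.node [(49,(.negSucc 0))] (.node [] .nil (.node [(167,(.ofNat 1))] .nil .nil)) (.node [(115,(.ofNat 1))] .nil (.node [(231,(.ofNat 1))] .nil .nil)))) (.node [(22,(.ofNat 1))] (.node [] (.node [] .nil (.node [(139,(.ofNat 1))] .nil .nil)) (.node [(87,(.ofNat 1))] .nil (.node [(205,(.negSucc 0))] .nil .nil))) (.node [(55,(.ofNat 1))] (.node [] .nil (.node [(183,(.ofNat 1))] .nil .nil)) (.node [(119,(.ofNat 1))] .nil (.node [(247,(.ofNat 1))] .nil .nil))))) (.node [(13,(.ofNat 1))] (.node [] (.node [] (.node [] .nil (.node [(143,(.ofNat 1))] .nil .nil)) (.node [(74,(.ofNat 1))] .nil (.node [(217,(.ofNat 1))] .nil .nil))) (.node [(37,(.ofNat 1))] (.node [] .nil (.node [(180,(.ofNat 1))] .nil .nil)) (.node [(100,(.ofNat 1))] .nil (.node [(241,(.ofNat 1))] .nil .nil)))) (.node [(31,(.ofNat 1))] (.node [] (.node [] .nil (.node [(148,(.negSucc 0))] .nil .nil)) (.node [(95,(.ofNat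 1))] .nil (.node [(223,(.ofNat 1))] .nil .nil))) (.node [(63,(.ofNat 1))] (.node [] .nil (.node [(191,(.ofNat 1))] .nil .nil)) (.node [(127,(.ofNat 1))] .nil .nil))))))))
noncomputable def nt0 : Trie (List (ℕ × ℤ)) := (.node [(0,(.negSucc 0))] (.node [] (.node [] (.node [] (.node [] (.node [] (.node [] (.node [] .nil (.node [(128,(.ofNat 1))] .nil .nil)) (.node [(86,(.ofNat 1))] .nil (.node [(192,(.ofNat 1))] .nil .nil))) (.node [(32,(.ofNat 1))] (.node [] .nil (.node [(182,(.negSucc 0))] .nil .nil)) (.node [(74,(.negSucc 0))] .nil (.node [(224,(.ofNat 1))] .nil .nil)))) (.node [(23,(.negSucc 0))] (.node [] (.node [] .nil (.node [(172,(.negSucc 0))] .nil .nil)) (.node [(108,(.ofNat 1))] .nil (.node [(208,(.ofNat 1))] .nil .nil))) (.node [(48,(.ofNat 1))] (.node [] .nil (.node [(148,(.ofNat 1))] .nil .nil)) (.node [(84,(.negSucc 0))] .nil (.node [(240,(.ofNat 1))] .nil .nil))))) (.node [(8,(.ofNat 1))] (.node [] (.node [] (.node [] .nil (.node [(136,(.ofNat 1))] .nil .nil)) (.node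 [(94,(.ofNat 1))] .nil (.node [(200,(.ofNat 1))] .nil .nil))) (.node [(40,(.ofNat 1))] (.node [] .nil (.node [(190,(.negSucc 0))] .nil .nil)) (.node [(104,(.ofNat 1))] .nil (.node [(239,(.ofNat 1))] .nil .nil)))) (.node [(17,(.ofNat 1))] (.node [] (.node [] .nil (.node [(152,(.ofNat 1))] .nil .nil)) (.node [(66,(.negSucc 0))] .nil (.node [(216,(.ofNat 1))] .nil .nil))) (.node [(56,(.ofNat 1))] (.node [] .nil (.node [(162,(.ofNat 1))] .nil .nil)) (.node [(120,(.ofNat 1))] .nil .nil))))) (.node [(4,(.ofNat 1))] (.node [] (.node [] (.node [] (.node [] .nil (.node [(132,(.ofNat 1))] .nil .nil)) (.node [(90,(.ofNat 1))] .nil (.node [(196,(.ofNat 1))] .nil .nil))) (.node [(36,(.ofNat 1))] (.node [] .nil (.node [(186,(.negSucc 0))] .nil .nil)) (.node [(78,(.negSucc 0))] .nil (.node [(235,(.ofNat 1))] .nil .nil)))) (.node [(27,(.negSucc 0))] (.node [] (.node [] .nil (.node [(176,(.negSucc 0))] .nil .nil)) (.node [(112,(.ofNat 1))] .nil (.node [(212,(.ofNat 1))] .nil .nil))) (.node [(52,(.ofNat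 1))] (.node [] .nil (.node [(158,(.ofNat 1))] .nil .nil)) (.node [(116,(.ofNat 1))] .nil (.node [(244,(.ofNat 1))] .nil .nil))))) (.node [(12,(.ofNat 1))] (.node [] (.node [] (.node [] .nil (.node [(140,(.ofNat 1))] .nil .nil)) (.node [(98,(.ofNat 1))] .nil (.node [(204,(.ofNat 1))] .nil .nil))) (.node [(44,(.ofNat 1))] (.node [] .nil (.node [(144,(.ofNat 1))] .nil .nil)) (.node [(80,(.negSucc 0))] .nil (.node [(229,(.negSucc 0))] .nil .nil)))) (.node [(21,(.ofNat 1))] (.node [] (.node [] .nil (.node [(178,(.negSucc 0))] .nil .nil)) (.node [(70,(.negSucc 0))] .nil (.node [(220,(.ofNat 1))] .nil .nil))) (.node [(60,(.ofNat 1))] (.node [] .nil (.node [(166,(.ofNat 1))] .nil .nil)) (.node [(124,(.ofNat 1))] .nil .nil)))))) (.node [(0,(.ofNat 1)),(2,(.ofNat 1))] (.node [] (.node [] (.node [] (.node [] (.node [] .nil (.node [(130,(.ofNat 1))] .nil .nil)) (.node [(88,(.ofNat 1))] .nil (.node [(194,(.ofNat 1))] .nil .nil))) (.node [(34,(.ofNat 1))] (.node [] .nil (.node [(184,(.negSucc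 0))] .nil .nil)) (.node [(76,(.negSucc 0))] .nil (.node [(226,(.ofNat 1))] .nil .nil)))) (.node [(25,(.negSucc 0))] (.node [] (.node [] .nil (.node [(174,(.negSucc 0))] .nil .nil)) (.node [(110,(.ofNat 1))] .nil (.node [(210,(.ofNat 1))] .nil .nil))) (.node [(50,(.ofNat 1))] (.node [] .nil (.node [(156,(.ofNat 1))] .nil .nil)) (.node [(114,(.ofNat 1))] .nil (.node [(242,(.ofNat 1))] .nil .nil))))) (.node [(10,(.ofNat 1))] (.node [] (.node [] (.node [] .nil (.node [(138,(.ofNat 1))] .nil .nil)) (.node [(96,(.ofNat 1))] .nil (.node [(202,(.ofNat 1))] .nil .nil))) (.node [(42,(.ofNat 1))] (.node [] .nil (.node [(85,(.negSucc 0))] .nil .nil)) (.node [(106,(.ofNat 1))] .nil (.node [(227,(.negSucc 0))] .nil .nil)))) (.node [(19,(.ofNat 1))] (.node [] (.node [] .nil (.node [(154,(.ofNat 1))] .nil .nil)) (.node [(68,(.negSucc 0))] .nil (.node [(218,(.ofNat 1))] .nil .nil))) (.node [(58,(.ofNat 1))] (.node [] .nil (.node [(164,(.ofNat 1))] .nil .nil)) (.node [(122,(.ofNat 1))] .nil .nil)))))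 (.node [(6,(.ofNat 1))] (.node [] (.node [] (.node [] (.node [] .nil (.node [(134,(.ofNat 1))] .nil .nil)) (.node [(92,(.ofNat 1))] .nil (.node [(198,(.ofNat 1))] .nil .nil))) (.node [(38,(.ofNat 1))] (.node [] .nil (.node [(188,(.negSucc 0))] .nil .nil)) (.node [(102,(.ofNat 1))] .nil (.node [(237,(.ofNat 1))] .nil .nil)))) (.node [(14,(.ofNat 1))] (.node [] (.node [] .nil (.node [(150,(.ofNat 1))] .nil .nil)) (.node [(64,(.negSucc 0))] .nil (.node [(214,(.ofNat 1))] .nil .nil))) (.node [(54,(.ofNat 1))] (.node [] .nil (.node [(160,(.ofNat 1))] .nil .nil)) (.node [(118,(.ofNat 1))] .nil (.node [(246,(.ofNat 1))] .nil .nil))))) (.node [(22,(.negSucc 0))] (.node [] (.node [] (.node [] .nil (.node [(142,(.ofNat 1))] .nil .nil)) (.node [(100,(.ofNat 1))] .nil (.node [(206,(.ofNat 1))] .nil .nil))) (.node [(46,(.ofNat 1))] (.node [] .nil (.node [(146,(.ofNat 1))] .nil .nil)) (.node [(82,(.negSucc 0))] .nil (.node [(231,(.negSucc 0))] .nil .nil)))) (.node [(30,(.ofNat 1))] (.node []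 (.node [] .nil (.node [(180,(.negSucc 0))] .nil .nil)) (.node [(72,(.negSucc 0))] .nil (.node [(222,(.ofNat 1))] .nil .nil))) (.node [(62,(.ofNat 1))] (.node [] .nil (.node [(168,(.ofNat 1))] .nil .nil)) (.node [(126,(.ofNat 1))] .nil .nil))))))) (.node [(1,(.ofNat 1))] (.node [] (.node [] (.node [] (.node [] (.node [] (.node [] .nil (.node [(129,(.ofNat 1))] .nil .nil)) (.node [(87,(.ofNat 1))] .nil (.node [(193,(.ofNat 1))] .nil .nil))) (.node [(33,(.ofNat 1))] (.node [] .nil (.node [(183,(.negSucc 0))] .nil .nil)) (.node [(75,(.negSucc 0))] .nil (.node [(225,(.ofNat 1))] .nil .nil)))) (.node [(24,(.negSucc 0))] (.node [] (.node [] .nil (.node [(173,(.negSucc 0))] .nil .nil)) (.node [(109,(.ofNat 1))] .nil (.node [(209,(.ofNat 1))] .nil .nil))) (.node [(49,(.ofNat 1))] (.node [] .nil (.node [(155,(.ofNat 1))] .nil .nil)) (.node [(113,(.ofNat 1))] .nil (.node [(233,(.negSucc 0))] .nil .nil))))) (.node [(9,(.ofNat 1))] (.node [] (.node [] (.node [] .nil (.node [(137,(.ofNat 1))]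 .nil .nil)) (.node [(95,(.ofNat 1))] .nil (.node [(201,(.ofNat 1))] .nil .nil))) (.node [(41,(.ofNat 1))] (.node [] .nil (.node [(191,(.negSucc 0))] .nil .nil)) (.node [(105,(.ofNat 1))] .nil (.node [(241,(.ofNat 1))] .nil .nil)))) (.node [(18,(.ofNat 1))] (.node [] (.node [] .nil (.node [(153,(.ofNat 1))] .nil .nil)) (.node [(67,(.negSucc 0))] .nil (.node [(217,(.ofNat 1))] .nil .nil))) (.node [(57,(.ofNat 1))] (.node [] .nil (.node [(163,(.ofNat 1))] .nil .nil)) (.node [(121,(.ofNat 1))] .nil .nil))))) (.node [(5,(.ofNat 1))] (.node [] (.node [] (.node [] (.node [] .nil (.node [(133,(.ofNat 1))] .nil .nil)) (.node [(91,(.ofNat 1))] .nil (.node [(197,(.ofNat 1))] .nil .nil))) (.node [(37,(.ofNat 1))] (.node [] .nil (.node [(187,(.negSucc 0))] .nil .nil)) (.node [(101,(.ofNat 1))] .nil (.node [(236,(.ofNat 1))] .nil .nil)))) (.node [(28,(.negSucc 0))] (.node [] (.node [] .nil (.node [(149,(.ofNat 1))] .nil .nil)) (.node [(170,(.negSucc 0))] .nil (.node [(213,(.ofNat 1))] .nil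 .nil))) (.node [(53,(.ofNat 1))] (.node [] .nil (.node [(159,(.ofNat 1))] .nil .nil)) (.node [(117,(.ofNat 1))] .nil (.node [(245,(.ofNat 1))] .nil .nil))))) (.node [(13,(.ofNat 1))] (.node [] (.node [] (.node [] .nil (.node [(141,(.ofNat 1))] .nil .nil)) (.node [(99,(.ofNat 1))] .nil (.node [(205,(.ofNat 1))] .nil .nil))) (.node [(45,(.ofNat 1))] (.node [] .nil (.node [(145,(.ofNat 1))] .nil .nil)) (.node [(81,(.negSucc 0))] .nil (.node [(230,(.negSucc 0))] .nil .nil)))) (.node [(29,(.ofNat 1))] (.node [] (.node [] .nil (.node [(179,(.negSucc 0))] .nil .nil)) (.node [(71,(.negSucc 0))] .nil (.node [(221,(.ofNat 1))] .nil .nil))) (.node [(61,(.ofNat 1))] (.node [] .nil (.node [(167,(.ofNat 1))] .nil .nil)) (.node [(125,(.ofNat 1))] .nil .nil)))))) (.node [(3,(.ofNat 1))] (.node [] (.node [] (.node [] (.node [] (.node [] .nil (.node [(131,(.ofNat 1))] .nil .nil)) (.node [(89,(.ofNat 1))] .nil (.node [(195,(.ofNat 1))] .nil .nil))) (.node [(35,(.ofNat 1))] (.node [] .nil (.node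 [(185,(.negSucc 0))] .nil .nil)) (.node [(77,(.negSucc 0))] .nil (.node [(234,(.ofNat 1))] .nil .nil)))) (.node [(26,(.negSucc 0))] (.node [] (.node [] .nil (.node [(175,(.negSucc 0))] .nil .nil)) (.node [(111,(.ofNat 1))] .nil (.node [(211,(.ofNat 1))] .nil .nil))) (.node [(51,(.ofNat 1))] (.node [] .nil (.node [(157,(.ofNat 1))] .nil .nil)) (.node [(115,(.ofNat 1))] .nil (.node [(243,(.ofNat 1))] .nil .nil))))) (.node [(11,(.ofNat 1))] (.node [] (.node [] (.node [] .nil (.node [(139,(.ofNat 1))] .nil .nil)) (.node [(97,(.ofNat 1))] .nil (.node [(203,(.ofNat 1))] .nil .nil))) (.node [(43,(.ofNat 1))] (.node [] .nil (.node [(143,(.ofNat 1))] .nil .nil)) (.node [(79,(.negSucc 0))] .nil (.node [(228,(.negSucc 0))] .nil .nil)))) (.node [(20,(.ofNat 1))] (.node [] (.node [] .nil (.node [(177,(.negSucc 0))] .nil .nil)) (.node [(69,(.negSucc 0))] .nil (.node [(219,(.ofNat 1))] .nil .nil))) (.node [(59,(.ofNat 1))] (.node [] .nil (.node [(165,(.ofNat 1))] .nil .nil)) (.node [(123,(.ofNat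 1))] .nil .nil))))) (.node [(7,(.ofNat 1))] (.node [] (.node [] (.node [] (.node [] .nil (.node [(135,(.ofNat 1))] .nil .nil)) (.node [(93,(.ofNat 1))] .nil (.node [(199,(.ofNat 1))] .nil .nil))) (.node [(39,(.ofNat 1))] (.node [] .nil (.node [(189,(.negSucc 0))] .nil .nil)) (.node [(103,(.ofNat 1))] .nil (.node [(238,(.ofNat 1))] .nil .nil)))) (.node [(16,(.ofNat 1))] (.node [] (.node [] .nil (.node [(151,(.ofNat 1))] .nil .nil)) (.node [(65,(.negSucc 0))] .nil (.node [(215,(.ofNat 1))] .nil .nil))) (.node [(55,(.ofNat 1))] (.node [] .nil (.node [(161,(.ofNat 1))] .nil .nil)) (.node [(119,(.ofNat 1))] .nil (.node [(247,(.ofNat 1))] .nil .nil))))) (.node [(15,(.ofNat 1))] (.node [] (.node [] (.node [] .nil (.node [(171,(.negSucc 0))] .nil .nil)) (.node [(107,(.ofNat 1))] .nil (.node [(207,(.ofNat 1))] .nil .nil))) (.node [(47,(.ofNat 1))] (.node [] .nil (.node [(147,(.ofNat 1))] .nil .nil)) (.node [(83,(.negSucc 0))] .nil (.node [(232,(.negSucc 0))] .nil .nil)))) (.node [(31,(.ofNat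 1))] (.node [] (.node [] .nil (.node [(181,(.negSucc 0))] .nil .nil)) (.node [(73,(.negSucc 0))] .nil (.node [(223,(.ofNat 1))] .nil .nil))) (.node [(63,(.ofNat 1))] (.node [] .nil (.node [(169,(.ofNat 1))] .nil .nil)) (.node [(127,(.ofNat 1))] .nil .nil))))))))
noncomputable def nt : Trie (Trie (List (ℕ × ℤ))) := (.node nt0 (.node .nil (.node .nil .nil (.node nt4 .nil .nil)) (.node nt2 .nil (.node nt6 .nil .nil))) (.node nt1 (.node .nil .nil (.node nt5 .nil .nil)) (.node nt3 .nil (.node nt7 .nil .nil))))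
noncomputable def w7 : Trie (ℕ × ℤ) := (.node (1,(.negSucc 0)) (.node (0,0) (.node (0,0) (.node (0,0) (.node (0,0) (.node (0,0) (.node (0,0) (.node (0,0) .nil (.node (129,(.ofNat 1)) .nil .nil)) (.node (64,(.ofNat 1)) .nil (.node (191,(.negSucc 0)) .nil .nil))) (.node (31,(.ofNat 1)) (.node (0,0) .nil (.node (159,(.negSucc 0)) .nil .nil)) (.node (96,(.ofNat 1)) .nil (.node (224,(.ofNat 1)) .nil .nil)))) (.node (16,(.ofNat 1)) (.node (0,0) (.node (0,0) .nil (.node (144,(.ofNat 1)) .nil .nil)) (.node (79,(.ofNat 1)) .nil (.node (207,(.negSucc 0)) .nil .nil))) (.node (47,(.ofNat 1)) (.node (0,0) .nil (.node (177,(.ofNat 1)) .nil .nil)) (.node (112,(.ofNat 1)) .nil .nil)))) (.node (8,(.ofNat 1)) (.node (0,0) (.node (0,0) (.node (0,0) .nil (.node (136,(.ofNat 1)) .nil .nil)) (.node (71,(.ofNat 1)) .nil (.node (201,(.ofNat 1)) .nil .nil))) (.node (40,(.ofNat 1)) (.node (0,0) .nil (.node (167,(.negSucc 0)) .nil .nil)) (.node (104,(.ofNat 1)) .nil (.node (232,(.ofNat 1)) .nil .nil))))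 (.node (25,(.negSucc 0)) (.node (0,0) (.node (0,0) .nil (.node (152,(.ofNat 1)) .nil .nil)) (.node (89,(.negSucc 0)) .nil (.node (216,(.ofNat 1)) .nil .nil))) (.node (56,(.ofNat 1)) (.node (0,0) .nil (.node (184,(.ofNat 1)) .nil .nil)) (.node (119,(.negSucc 0)) .nil .nil))))) (.node (4,(.ofNat 1)) (.node (0,0) (.node (0,0) (.node (0,0) (.node (0,0) .nil (.node (132,(.ofNat 1)) .nil .nil)) (.node (68,(.ofNat 1)) .nil (.node (195,(.negSucc 0)) .nil .nil))) (.node (36,(.ofNat 1)) (.node (0,0) .nil (.node (164,(.ofNat 1)) .nil .nil)) (.node (99,(.ofNat 1)) .nil (.node (228,(.ofNat 1)) .nil .nil)))) (.node (19,(.ofNat 1)) (.node (0,0) (.node (0,0) .nil (.node (148,(.ofNat 1)) .nil .nil)) (.node (85,(.negSucc 0)) .nil (.node (212,(.ofNat 1)) .nil .nil))) (.node (53,(.negSucc 0)) (.node (0,0) .nil (.node (179,(.negSucc 0)) .nil .nil)) (.node (116,(.ofNat 1)) .nil .nil)))) (.node (13,(.negSucc 0)) (.node (0,0) (.node (0,0) (.node (0,0) .nil (.node (139,(.negSucc 0)) .nil .nil)) (.node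 (76,(.ofNat 1)) .nil (.node (204,(.ofNat 1)) .nil .nil))) (.node (43,(.ofNat 1)) (.node (0,0) .nil (.node (173,(.ofNat 1)) .nil .nil)) (.node (108,(.ofNat 1)) .nil (.node (236,(.ofNat 1)) .nil .nil)))) (.node (29,(.negSucc 0)) (.node (0,0) (.node (0,0) .nil (.node (156,(.ofNat 1)) .nil .nil)) (.node (92,(.ofNat 1)) .nil (.node (219,(.negSucc 0)) .nil .nil))) (.node (59,(.ofNat 1)) (.node (0,0) .nil (.node (188,(.ofNat 1)) .nil .nil)) (.node (125,(.ofNat 1)) .nil .nil)))))) (.node (2,(.ofNat 1)) (.node (0,0) (.node (0,0) (.node (0,0) (.node (0,0) (.node (0,0) .nil (.node (130,(.ofNat 1)) .nil .nil)) (.node (67,(.negSucc 0)) .nil (.node (194,(.ofNat 1)) .nil .nil))) (.node (33,(.ofNat 1)) (.node (0,0) .nil (.node (162,(.ofNat 1)) .nil .nil)) (.node (98,(.ofNat 1)) .nil (.node (227,(.ofNat 1)) .nil .nil)))) (.node (18,(.ofNat 1)) (.node (0,0) (.node (0,0) .nil (.node (145,(.negSucc 0)) .nil .nil)) (.node (81,(.ofNat 1)) .nil (.node (211,(.ofNat 1)) .nil .nil))) (.node (49,(.ofNat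 1)) (.node (0,0) .nil (.node (178,(.ofNat 1)) .nil .nil)) (.node (115,(.negSucc 0)) .nil .nil)))) (.node (10,(.ofNat 1)) (.node (0,0) (.node (0,0) (.node (0,0) .nil (.node (138,(.ofNat 1)) .nil .nil)) (.node (74,(.ofNat 1)) .nil (.node (202,(.ofNat 1)) .nil .nil))) (.node (41,(.ofNat 1)) (.node (0,0) .nil (.node (170,(.ofNat 1)) .nil .nil)) (.node (105,(.ofNat 1)) .nil (.node (234,(.ofNat 1)) .nil .nil)))) (.node (26,(.ofNat 1)) (.node (0,0) (.node (0,0) .nil (.node (155,(.ofNat 1)) .nil .nil)) (.node (90,(.ofNat 1)) .nil (.node (218,(.ofNat 1)) .nil .nil))) (.node (57,(.ofNat 1)) (.node (0,0) .nil (.node (187,(.ofNat 1)) .nil .nil)) (.node (121,(.negSucc 0)) .nil .nil))))) (.node (6,(.ofNat 1)) (.node (0,0) (.node (0,0) (.node (0,0) (.node (0,0) .nil (.node (133,(.negSucc 0)) .nil .nil)) (.node (70,(.ofNat 1)) .nil (.node (197,(.negSucc 0)) .nil .nil))) (.node (39,(.negSucc 0)) (.node (0,0) .nil (.node (166,(.ofNat 1)) .nil .nil)) (.node (102,(.ofNat 1)) .nil (.node (230,(.ofNat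 1)) .nil .nil)))) (.node (22,(.ofNat 1)) (.node (0,0) (.node (0,0) .nil (.node (151,(.ofNat 1)) .nil .nil)) (.node (86,(.ofNat 1)) .nil (.node (215,(.ofNat 1)) .nil .nil))) (.node (54,(.ofNat 1)) (.node (0,0) .nil (.node (181,(.negSucc 0)) .nil .nil)) (.node (117,(.ofNat 1)) .nil .nil)))) (.node (14,(.ofNat 1)) (.node (0,0) (.node (0,0) (.node (0,0) .nil (.node (142,(.ofNat 1)) .nil .nil)) (.node (78,(.ofNat 1)) .nil (.node (205,(.negSucc 0)) .nil .nil))) (.node (46,(.ofNat 1)) (.node (0,0) .nil (.node (174,(.ofNat 1)) .nil .nil)) (.node (111,(.negSucc 0)) .nil (.node (239,(.ofNat 1)) .nil .nil)))) (.node (30,(.ofNat 1)) (.node (0,0) (.node (0,0) .nil (.node (157,(.negSucc 0)) .nil .nil)) (.node (93,(.ofNat 1)) .nil (.node (222,(.ofNat 1)) .nil .nil))) (.node (63,(.negSucc 0)) (.node (0,0) .nil (.node (189,(.negSucc 0)) .nil .nil)) (.node (126,(.ofNat 1)) .nil .nil))))))) (.node (0,(.ofNat 1)) (.node (0,0) (.node (0,0) (.node (0,0) (.node (0,0) (.node (0,0) (.node (0,0) .nil (.node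 (128,(.negSucc 0)) .nil .nil)) (.node (65,(.ofNat 1)) .nil (.node (193,(.ofNat 1)) .nil .nil))) (.node (34,(.negSucc 0)) (.node (0,0) .nil (.node (161,(.ofNat 1)) .nil .nil)) (.node (97,(.ofNat 1)) .nil (.node (225,(.ofNat 1)) .nil .nil)))) (.node (17,(.ofNat 1)) (.node (0,0) (.node (0,0) .nil (.node (146,(.ofNat 1)) .nil .nil)) (.node (82,(.negSucc 0)) .nil (.node (209,(.ofNat 1)) .nil .nil))) (.node (50,(.negSucc 0)) (.node (0,0) .nil (.node (176,(.negSucc 0)) .nil .nil)) (.node (113,(.ofNat 1)) .nil .nil)))) (.node (9,(.ofNat 1)) (.node (0,0) (.node (0,0) (.node (0,0) .nil (.node (137,(.ofNat 1)) .nil .nil)) (.node (73,(.ofNat 1)) .nil (.node (200,(.negSucc 0)) .nil .nil))) (.node (42,(.negSucc 0)) (.node (0,0) .nil (.node (169,(.ofNat 1)) .nil .nil)) (.node (106,(.negSucc 0)) .nil (.node (233,(.ofNat 1)) .nil .nil)))) (.node (24,(.ofNat 1)) (.node (0,0) (.node (0,0) .nil (.node (153,(.ofNat 1)) .nil .nil)) (.node (88,(.ofNat 1)) .nil (.node (217,(.ofNat 1)) .nil .nil))) (.node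 (58,(.negSucc 0)) (.node (0,0) .nil (.node (185,(.ofNat 1)) .nil .nil)) (.node (122,(.ofNat 1)) .nil .nil))))) (.node (5,(.ofNat 1)) (.node (0,0) (.node (0,0) (.node (0,0) (.node (0,0) .nil (.node (134,(.ofNat 1)) .nil .nil)) (.node (69,(.ofNat 1)) .nil (.node (198,(.ofNat 1)) .nil .nil))) (.node (37,(.ofNat 1)) (.node (0,0) .nil (.node (165,(.ofNat 1)) .nil .nil)) (.node (101,(.ofNat 1)) .nil (.node (229,(.ofNat 1)) .nil .nil)))) (.node (21,(.ofNat 1)) (.node (0,0) (.node (0,0) .nil (.node (149,(.ofNat 1)) .nil .nil)) (.node (84,(.ofNat 1)) .nil (.node (213,(.ofNat 1)) .nil .nil))) (.node (52,(.ofNat 1)) (.node (0,0) .nil (.node (182,(.ofNat 1)) .nil .nil)) (.node (118,(.negSucc 0)) .nil .nil)))) (.node (12,(.ofNat 1)) (.node (0,0) (.node (0,0) (.node (0,0) .nil (.node (141,(.ofNat 1)) .nil .nil)) (.node (77,(.ofNat 1)) .nil (.node (206,(.ofNat 1)) .nil .nil))) (.node (45,(.ofNat 1)) (.node (0,0) .nil (.node (172,(.negSucc 0)) .nil .nil)) (.node (109,(.ofNat 1)) .nil (.node (237,(.ofNat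 1)) .nil .nil)))) (.node (28,(.ofNat 1)) (.node (0,0) (.node (0,0) .nil (.node (158,(.ofNat 1)) .nil .nil)) (.node (94,(.negSucc 0)) .nil (.node (221,(.ofNat 1)) .nil .nil))) (.node (61,(.ofNat 1)) (.node (0,0) .nil (.node (190,(.ofNat 1)) .nil .nil)) (.node (124,(.negSucc 0)) .nil .nil)))))) (.node (3,(.ofNat 1)) (.node (0,0) (.node (0,0) (.node (0,0) (.node (0,0) (.node (0,0) .nil (.node (131,(.ofNat 1)) .nil .nil)) (.node (66,(.ofNat 1)) .nil (.node (196,(.ofNat 1)) .nil .nil))) (.node (35,(.ofNat 1)) (.node (0,0) .nil (.node (163,(.ofNat 1)) .nil .nil)) (.node (100,(.negSucc 0)) .nil (.node (226,(.negSucc 0)) .nil .nil)))) (.node (20,(.negSucc 0)) (.node (0,0) (.node (0,0) .nil (.node (147,(.ofNat 1)) .nil .nil)) (.node (83,(.ofNat 1)) .nil (.node (210,(.negSucc 0)) .nil .nil))) (.node (51,(.ofNat 1)) (.node (0,0) .nil (.node (180,(.ofNat 1)) .nil .nil)) (.node (114,(.ofNat 1)) .nil .nil)))) (.node (11,(.ofNat 1)) (.node (0,0) (.node (0,0) (.node (0,0) .nil (.node (140,(.ofNat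 1)) .nil .nil)) (.node (75,(.ofNat 1)) .nil (.node (203,(.ofNat 1)) .nil .nil))) (.node (44,(.negSucc 0)) (.node (0,0) .nil (.node (171,(.ofNat 1)) .nil .nil)) (.node (107,(.ofNat 1)) .nil (.node (235,(.ofNat 1)) .nil .nil)))) (.node (27,(.ofNat 1)) (.node (0,0) (.node (0,0) .nil (.node (154,(.negSucc 0)) .nil .nil)) (.node (91,(.ofNat 1)) .nil (.node (220,(.ofNat 1)) .nil .nil))) (.node (60,(.negSucc 0)) (.node (0,0) .nil (.node (186,(.negSucc 0)) .nil .nil)) (.node (123,(.ofNat 1)) .nil .nil))))) (.node (7,(.ofNat 1)) (.node (0,0) (.node (0,0) (.node (0,0) (.node (0,0) .nil (.node (135,(.ofNat 1)) .nil .nil)) (.node (72,(.negSucc 0)) .nil (.node (199,(.ofNat 1)) .nil .nil))) (.node (38,(.ofNat 1)) (.node (0,0) .nil (.node (168,(.ofNat 1)) .nil .nil)) (.node (103,(.ofNat 1)) .nil (.node (231,(.ofNat 1)) .nil .nil)))) (.node (23,(.ofNat 1)) (.node (0,0) (.node (0,0) .nil (.node (150,(.negSucc 0)) .nil .nil)) (.node (87,(.ofNat 1)) .nil (.node (214,(.negSucc 0)) .nil .nil))) (.node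 (55,(.ofNat 1)) (.node (0,0) .nil (.node (183,(.ofNat 1)) .nil .nil)) (.node (120,(.negSucc 0)) .nil .nil)))) (.node (15,(.ofNat 1)) (.node (0,0) (.node (0,0) (.node (0,0) .nil (.node (143,(.ofNat 1)) .nil .nil)) (.node (80,(.negSucc 0)) .nil (.node (208,(.ofNat 1)) .nil .nil))) (.node (48,(.negSucc 0)) (.node (0,0) .nil (.node (175,(.ofNat 1)) .nil .nil)) (.node (110,(.ofNat 1)) .nil (.node (238,(.negSucc 0)) .nil .nil)))) (.node (32,(.negSucc 0)) (.node (0,0) (.node (0,0) .nil (.node (160,(.ofNat 1)) .nil .nil)) (.node (95,(.ofNat 1)) .nil (.node (223,(.ofNat 1)) .nil .nil))) (.node (62,(.ofNat 1)) (.node (0,0) .nil (.node (192,(.ofNat 1)) .nil .nil)) (.node (127,(.ofNat 1)) .nil .nil))))))))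
noncomputable def w6 : Trie (ℕ × ℤ) := (.node (0,(.ofNat 1)) (.node (0,0) (.node (0,0) (.node (0,0) (.node (0,0) (.node (0,0) (.node (0,0) (.node (0,0) .nil (.node (127,(.negSucc 0)) .nil .nil)) (.node (63,(.ofNat 1)) .nil (.node (193,(.ofNat 1)) .nil .nil))) (.node (32,(.ofNat 1)) (.node (0,0) .nil (.node (161,(.ofNat 1)) .nil .nil)) (.node (96,(.ofNat 1)) .nil (.node (224,(.ofNat 1)) .nil .nil)))) (.node (16,(.ofNat 1)) (.node (0,0) (.node (0,0) .nil (.node (145,(.ofNat 1)) .nil .nil)) (.node (80,(.ofNat 1)) .nil (.node (209,(.ofNat 1)) .nil .nil))) (.node (48,(.ofNat 1)) (.node (0,0) .nil (.node (175,(.negSucc 0)) .nil .nil)) (.node (111,(.ofNat 1)) .nil .nil)))) (.node (8,(.ofNat 1)) (.node (0,0) (.node (0,0) (.node (0,0) .nil (.node (136,(.ofNat 1)) .nil .nil)) (.node (73,(.negSucc 0)) .nil (.node (200,(.ofNat 1)) .nil .nil))) (.node (41,(.negSucc 0)) (.node (0,0) .nil (.node (168,(.ofNat 1)) .nil .nil)) (.node (104,(.ofNat 1)) .nil (.node (232,(.ofNat 1)) .nil .nil)))) (.node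 (23,(.ofNat 1)) (.node (0,0) (.node (0,0) .nil (.node (152,(.ofNat 1)) .nil .nil)) (.node (88,(.ofNat 1)) .nil (.node (215,(.negSucc 0)) .nil .nil))) (.node (57,(.negSucc 0)) (.node (0,0) .nil (.node (184,(.ofNat 1)) .nil .nil)) (.node (122,(.negSucc 0)) .nil .nil))))) (.node (4,(.ofNat 1)) (.node (0,0) (.node (0,0) (.node (0,0) (.node (0,0) .nil (.node (133,(.ofNat 1)) .nil .nil)) (.node (67,(.ofNat 1)) .nil (.node (196,(.ofNat 1)) .nil .nil))) (.node (36,(.ofNat 1)) (.node (0,0) .nil (.node (164,(.ofNat 1)) .nil .nil)) (.node (101,(.negSucc 0)) .nil (.node (227,(.negSucc 0)) .nil .nil)))) (.node (20,(.ofNat 1)) (.node (0,0) (.node (0,0) .nil (.node (148,(.ofNat 1)) .nil .nil)) (.node (84,(.ofNat 1)) .nil (.node (211,(.negSucc 0)) .nil .nil))) (.node (52,(.ofNat 1)) (.node (0,0) .nil (.node (180,(.ofNat 1)) .nil .nil)) (.node (115,(.ofNat 1)) .nil .nil)))) (.node (11,(.ofNat 1)) (.node (0,0) (.node (0,0) (.node (0,0) .nil (.node (140,(.ofNat 1)) .nil .nil)) (.node (76,(.ofNat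 1)) .nil (.node (205,(.ofNat 1)) .nil .nil))) (.node (45,(.negSucc 0)) (.node (0,0) .nil (.node (171,(.negSucc 0)) .nil .nil)) (.node (108,(.ofNat 1)) .nil (.node (236,(.ofNat 1)) .nil .nil)))) (.node (27,(.ofNat 1)) (.node (0,0) (.node (0,0) .nil (.node (157,(.ofNat 1)) .nil .nil)) (.node (92,(.ofNat 1)) .nil (.node (221,(.ofNat 1)) .nil .nil))) (.node (61,(.negSucc 0)) (.node (0,0) .nil (.node (189,(.ofNat 1)) .nil .nil)) (.node (123,(.negSucc 0)) .nil .nil)))))) (.node (1,(.ofNat 1)) (.node (0,0) (.node (0,0) (.node (0,0) (.node (0,0) (.node (0,0) .nil (.node (130,(.ofNat 1)) .nil .nil)) (.node (66,(.ofNat 1)) .nil (.node (195,(.ofNat 1)) .nil .nil))) (.node (35,(.negSucc 0)) (.node (0,0) .nil (.node (162,(.ofNat 1)) .nil .nil)) (.node (98,(.ofNat 1)) .nil (.node (226,(.ofNat 1)) .nil .nil)))) (.node (19,(.negSucc 0)) (.node (0,0) (.node (0,0) .nil (.node (146,(.ofNat 1)) .nil .nil)) (.node (83,(.negSucc 0)) .nil (.node (210,(.ofNat 1)) .nil .nil))) (.node (51,(.negSucc 0))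 (.node (0,0) .nil (.node (179,(.ofNat 1)) .nil .nil)) (.node (114,(.ofNat 1)) .nil .nil)))) (.node (10,(.ofNat 1)) (.node (0,0) (.node (0,0) (.node (0,0) .nil (.node (139,(.ofNat 1)) .nil .nil)) (.node (74,(.ofNat 1)) .nil (.node (201,(.negSucc 0)) .nil .nil))) (.node (42,(.ofNat 1)) (.node (0,0) .nil (.node (170,(.ofNat 1)) .nil .nil)) (.node (107,(.negSucc 0)) .nil (.node (234,(.ofNat 1)) .nil .nil)))) (.node (26,(.ofNat 1)) (.node (0,0) (.node (0,0) .nil (.node (153,(.negSucc 0)) .nil .nil)) (.node (89,(.ofNat 1)) .nil (.node (218,(.ofNat 1)) .nil .nil))) (.node (58,(.ofNat 1)) (.node (0,0) .nil (.node (185,(.negSucc 0)) .nil .nil)) (.node (120,(.ofNat 1)) .nil .nil))))) (.node (6,(.ofNat 1)) (.node (0,0) (.node (0,0) (.node (0,0) (.node (0,0) .nil (.node (134,(.ofNat 1)) .nil .nil)) (.node (70,(.ofNat 1)) .nil (.node (199,(.ofNat 1)) .nil .nil))) (.node (37,(.ofNat 1)) (.node (0,0) .nil (.node (167,(.ofNat 1)) .nil .nil)) (.node (102,(.ofNat 1)) .nil (.node (230,(.ofNat 1))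 .nil .nil)))) (.node (22,(.ofNat 1)) (.node (0,0) (.node (0,0) .nil (.node (149,(.negSucc 0)) .nil .nil)) (.node (85,(.ofNat 1)) .nil (.node (214,(.ofNat 1)) .nil .nil))) (.node (53,(.ofNat 1)) (.node (0,0) .nil (.node (183,(.ofNat 1)) .nil .nil)) (.node (121,(.negSucc 0)) .nil .nil)))) (.node (14,(.ofNat 1)) (.node (0,0) (.node (0,0) (.node (0,0) .nil (.node (142,(.ofNat 1)) .nil .nil)) (.node (79,(.negSucc 0)) .nil (.node (206,(.ofNat 1)) .nil .nil))) (.node (47,(.negSucc 0)) (.node (0,0) .nil (.node (174,(.ofNat 1)) .nil .nil)) (.node (110,(.ofNat 1)) .nil (.node (237,(.negSucc 0)) .nil .nil)))) (.node (31,(.negSucc 0)) (.node (0,0) (.node (0,0) .nil (.node (158,(.ofNat 1)) .nil .nil)) (.node (95,(.negSucc 0)) .nil (.node (222,(.ofNat 1)) .nil .nil))) (.node (62,(.ofNat 1)) (.node (0,0) .nil (.node (190,(.ofNat 1)) .nil .nil)) (.node (126,(.ofNat 1)) .nil .nil))))))) (.node (2,(.negSucc 0)) (.node (0,0) (.node (0,0) (.node (0,0) (.node (0,0) (.node (0,0) (.node (0,0) .nil (.node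 (129,(.ofNat 1)) .nil .nil)) (.node (65,(.ofNat 1)) .nil (.node (192,(.negSucc 0)) .nil .nil))) (.node (33,(.ofNat 1)) (.node (0,0) .nil (.node (160,(.negSucc 0)) .nil .nil)) (.node (97,(.ofNat 1)) .nil (.node (225,(.ofNat 1)) .nil .nil)))) (.node (17,(.ofNat 1)) (.node (0,0) (.node (0,0) .nil (.node (144,(.negSucc 0)) .nil .nil)) (.node (81,(.ofNat 1)) .nil (.node (208,(.negSucc 0)) .nil .nil))) (.node (49,(.ofNat 1)) (.node (0,0) .nil (.node (177,(.ofNat 1)) .nil .nil)) (.node (113,(.ofNat 1)) .nil .nil)))) (.node (9,(.ofNat 1)) (.node (0,0) (.node (0,0) (.node (0,0) .nil (.node (137,(.ofNat 1)) .nil .nil)) (.node (72,(.ofNat 1)) .nil (.node (202,(.ofNat 1)) .nil .nil))) (.node (40,(.ofNat 1)) (.node (0,0) .nil (.node (169,(.ofNat 1)) .nil .nil)) (.node (105,(.ofNat 1)) .nil (.node (233,(.ofNat 1)) .nil .nil)))) (.node (25,(.ofNat 1)) (.node (0,0) (.node (0,0) .nil (.node (154,(.ofNat 1)) .nil .nil)) (.node (90,(.negSucc 0)) .nil (.node (217,(.ofNat 1)) .nil .nil))) (.node (56,(.ofNat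 1)) (.node (0,0) .nil (.node (186,(.ofNat 1)) .nil .nil)) (.node (118,(.negSucc 0)) .nil .nil))))) (.node (5,(.ofNat 1)) (.node (0,0) (.node (0,0) (.node (0,0) (.node (0,0) .nil (.node (132,(.negSucc 0)) .nil .nil)) (.node (69,(.ofNat 1)) .nil (.node (197,(.ofNat 1)) .nil .nil))) (.node (38,(.negSucc 0)) (.node (0,0) .nil (.node (165,(.ofNat 1)) .nil .nil)) (.node (100,(.ofNat 1)) .nil (.node (229,(.ofNat 1)) .nil .nil)))) (.node (21,(.ofNat 1)) (.node (0,0) (.node (0,0) .nil (.node (150,(.ofNat 1)) .nil .nil)) (.node (86,(.negSucc 0)) .nil (.node (213,(.ofNat 1)) .nil .nil))) (.node (54,(.negSucc 0)) (.node (0,0) .nil (.node (181,(.ofNat 1)) .nil .nil)) (.node (119,(.ofNat 1)) .nil .nil)))) (.node (13,(.ofNat 1)) (.node (0,0) (.node (0,0) (.node (0,0) .nil (.node (141,(.ofNat 1)) .nil .nil)) (.node (77,(.ofNat 1)) .nil (.node (204,(.negSucc 0)) .nil .nil))) (.node (44,(.ofNat 1)) (.node (0,0) .nil (.node (173,(.ofNat 1)) .nil .nil)) (.node (109,(.ofNat 1)) .nil (.node (238,(.ofNat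 1)) .nil .nil)))) (.node (29,(.ofNat 1)) (.node (0,0) (.node (0,0) .nil (.node (156,(.negSucc 0)) .nil .nil)) (.node (93,(.ofNat 1)) .nil (.node (220,(.negSucc 0)) .nil .nil))) (.node (60,(.ofNat 1)) (.node (0,0) .nil (.node (188,(.negSucc 0)) .nil .nil)) (.node (125,(.ofNat 1)) .nil .nil)))))) (.node (3,(.ofNat 1)) (.node (0,0) (.node (0,0) (.node (0,0) (.node (0,0) (.node (0,0) .nil (.node (131,(.ofNat 1)) .nil .nil)) (.node (68,(.negSucc 0)) .nil (.node (194,(.negSucc 0)) .nil .nil))) (.node (34,(.ofNat 1)) (.node (0,0) .nil (.node (163,(.ofNat 1)) .nil .nil)) (.node (99,(.ofNat 1)) .nil (.node (228,(.ofNat 1)) .nil .nil)))) (.node (18,(.ofNat 1)) (.node (0,0) (.node (0,0) .nil (.node (147,(.ofNat 1)) .nil .nil)) (.node (82,(.ofNat 1)) .nil (.node (212,(.ofNat 1)) .nil .nil))) (.node (50,(.ofNat 1)) (.node (0,0) .nil (.node (178,(.negSucc 0)) .nil .nil)) (.node (116,(.negSucc 0)) .nil .nil)))) (.node (12,(.negSucc 0)) (.node (0,0) (.node (0,0) (.node (0,0) .nil (.node (138,(.negSucc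 0)) .nil .nil)) (.node (75,(.ofNat 1)) .nil (.node (203,(.ofNat 1)) .nil .nil))) (.node (43,(.ofNat 1)) (.node (0,0) .nil (.node (172,(.ofNat 1)) .nil .nil)) (.node (106,(.ofNat 1)) .nil (.node (235,(.ofNat 1)) .nil .nil)))) (.node (28,(.negSucc 0)) (.node (0,0) (.node (0,0) .nil (.node (155,(.ofNat 1)) .nil .nil)) (.node (91,(.ofNat 1)) .nil (.node (219,(.ofNat 1)) .nil .nil))) (.node (59,(.ofNat 1)) (.node (0,0) .nil (.node (187,(.ofNat 1)) .nil .nil)) (.node (124,(.ofNat 1)) .nil .nil))))) (.node (7,(.ofNat 1)) (.node (0,0) (.node (0,0) (.node (0,0) (.node (0,0) .nil (.node (135,(.ofNat 1)) .nil .nil)) (.node (71,(.ofNat 1)) .nil (.node (198,(.negSucc 0)) .nil .nil))) (.node (39,(.ofNat 1)) (.node (0,0) .nil (.node (166,(.negSucc 0)) .nil .nil)) (.node (103,(.ofNat 1)) .nil (.node (231,(.ofNat 1)) .nil .nil)))) (.node (24,(.negSucc 0)) (.node (0,0) (.node (0,0) .nil (.node (151,(.ofNat 1)) .nil .nil)) (.node (87,(.ofNat 1)) .nil (.node (216,(.ofNat 1)) .nil .nil))) (.node (55,(.ofNat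 1)) (.node (0,0) .nil (.node (182,(.negSucc 0)) .nil .nil)) (.node (117,(.negSucc 0)) .nil .nil)))) (.node (15,(.ofNat 1)) (.node (0,0) (.node (0,0) (.node (0,0) .nil (.node (143,(.ofNat 1)) .nil .nil)) (.node (78,(.ofNat 1)) .nil (.node (207,(.ofNat 1)) .nil .nil))) (.node (46,(.ofNat 1)) (.node (0,0) .nil (.node (176,(.ofNat 1)) .nil .nil)) (.node (112,(.negSucc 0)) .nil (.node (239,(.ofNat 1)) .nil .nil)))) (.node (30,(.ofNat 1)) (.node (0,0) (.node (0,0) .nil (.node (159,(.ofNat 1)) .nil .nil)) (.node (94,(.ofNat 1)) .nil (.node (223,(.ofNat 1)) .nil .nil))) (.node (64,(.negSucc 0)) (.node (0,0) .nil (.node (191,(.ofNat 1)) .nil .nil)) (.node (128,(.ofNat 1)) .nil .nil))))))))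
noncomputable def w5 : Trie (ℕ × ℤ) := (.node (0,(.ofNat 1)) (.node (0,0) (.node (0,0) (.node (0,0) (.node (0,0) (.node (0,0) (.node (0,0) (.node (0,0) .nil (.node (128,(.ofNat 1)) .nil .nil)) (.node (65,(.negSucc 0)) .nil (.node (190,(.negSucc 0)) .nil .nil))) (.node (34,(.negSucc 0)) (.node (0,0) .nil (.node (158,(.negSucc 0)) .nil .nil)) (.node (95,(.ofNat 1)) .nil (.node (224,(.ofNat 1)) .nil .nil)))) (.node (16,(.ofNat 1)) (.node (0,0) (.node (0,0) .nil (.node (143,(.negSucc 0)) .nil .nil)) (.node (82,(.negSucc 0)) .nil (.node (206,(.negSucc 0)) .nil .nil))) (.node (50,(.negSucc 0)) (.node (0,0) .nil (.node (176,(.ofNat 1)) .nil .nil)) (.node (113,(.negSucc 0)) .nil .nil)))) (.node (8,(.ofNat 1)) (.node (0,0) (.node (0,0) (.node (0,0) .nil (.node (136,(.ofNat 1)) .nil .nil)) (.node (72,(.ofNat 1)) .nil (.node (200,(.ofNat 1)) .nil .nil))) (.node (40,(.ofNat 1)) (.node (0,0) .nil (.node (168,(.ofNat 1)) .nil .nil)) (.node (104,(.ofNat 1)) .nil (.node (232,(.ofNat 1)) .nil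 .nil)))) (.node (24,(.ofNat 1)) (.node (0,0) (.node (0,0) .nil (.node (153,(.ofNat 1)) .nil .nil)) (.node (88,(.ofNat 1)) .nil (.node (217,(.ofNat 1)) .nil .nil))) (.node (56,(.ofNat 1)) (.node (0,0) .nil (.node (185,(.ofNat 1)) .nil .nil)) (.node (120,(.ofNat 1)) .nil .nil))))) (.node (4,(.ofNat 1)) (.node (0,0) (.node (0,0) (.node (0,0) (.node (0,0) .nil (.node (131,(.negSucc 0)) .nil .nil)) (.node (69,(.negSucc 0)) .nil (.node (198,(.ofNat 1)) .nil .nil))) (.node (37,(.negSucc 0)) (.node (0,0) .nil (.node (164,(.ofNat 1)) .nil .nil)) (.node (100,(.ofNat 1)) .nil (.node (229,(.ofNat 1)) .nil .nil)))) (.node (20,(.ofNat 1)) (.node (0,0) (.node (0,0) .nil (.node (149,(.ofNat 1)) .nil .nil)) (.node (84,(.ofNat 1)) .nil (.node (213,(.ofNat 1)) .nil .nil))) (.node (52,(.ofNat 1)) (.node (0,0) .nil (.node (182,(.ofNat 1)) .nil .nil)) (.node (123,(.negSucc 0)) .nil .nil)))) (.node (12,(.ofNat 1)) (.node (0,0) (.node (0,0) (.node (0,0) .nil (.node (140,(.ofNat 1)) .nil .nil)) (.node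 (76,(.ofNat 1)) .nil (.node (204,(.ofNat 1)) .nil .nil))) (.node (42,(.ofNat 1)) (.node (0,0) .nil (.node (172,(.ofNat 1)) .nil .nil)) (.node (107,(.ofNat 1)) .nil (.node (237,(.ofNat 1)) .nil .nil)))) (.node (28,(.ofNat 1)) (.node (0,0) (.node (0,0) .nil (.node (156,(.ofNat 1)) .nil .nil)) (.node (92,(.ofNat 1)) .nil (.node (220,(.ofNat 1)) .nil .nil))) (.node (58,(.ofNat 1)) (.node (0,0) .nil (.node (188,(.ofNat 1)) .nil .nil)) (.node (121,(.ofNat 1)) .nil .nil)))))) (.node (3,(.negSucc 0)) (.node (0,0) (.node (0,0) (.node (0,0) (.node (0,0) (.node (0,0) .nil (.node (130,(.ofNat 1)) .nil .nil)) (.node (66,(.ofNat 1)) .nil (.node (194,(.ofNat 1)) .nil .nil))) (.node (32,(.ofNat 1)) (.node (0,0) .nil (.node (162,(.ofNat 1)) .nil .nil)) (.node (98,(.ofNat 1)) .nil (.node (226,(.ofNat 1)) .nil .nil)))) (.node (17,(.ofNat 1)) (.node (0,0) (.node (0,0) .nil (.node (146,(.ofNat 1)) .nil .nil)) (.node (80,(.ofNat 1)) .nil (.node (210,(.ofNat 1)) .nil .nil))) (.node (48,(.ofNat 1)) (.node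 (0,0) .nil (.node (178,(.ofNat 1)) .nil .nil)) (.node (117,(.ofNat 1)) .nil .nil)))) (.node (11,(.negSucc 0)) (.node (0,0) (.node (0,0) (.node (0,0) .nil (.node (137,(.negSucc 0)) .nil .nil)) (.node (73,(.ofNat 1)) .nil (.node (203,(.ofNat 1)) .nil .nil))) (.node (44,(.negSucc 0)) (.node (0,0) .nil (.node (171,(.ofNat 1)) .nil .nil)) (.node (106,(.ofNat 1)) .nil (.node (234,(.ofNat 1)) .nil .nil)))) (.node (27,(.negSucc 0)) (.node (0,0) (.node (0,0) .nil (.node (154,(.ofNat 1)) .nil .nil)) (.node (91,(.negSucc 0)) .nil (.node (218,(.ofNat 1)) .nil .nil))) (.node (60,(.negSucc 0)) (.node (0,0) .nil (.node (186,(.ofNat 1)) .nil .nil)) (.node (125,(.negSucc 0)) .nil .nil))))) (.node (6,(.ofNat 1)) (.node (0,0) (.node (0,0) (.node (0,0) (.node (0,0) .nil (.node (134,(.ofNat 1)) .nil .nil)) (.node (70,(.ofNat 1)) .nil (.node (196,(.negSucc 0)) .nil .nil))) (.node (38,(.ofNat 1)) (.node (0,0) .nil (.node (165,(.negSucc 0)) .nil .nil)) (.node (101,(.ofNat 1)) .nil (.node (230,(.ofNat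 1)) .nil .nil)))) (.node (23,(.negSucc 0)) (.node (0,0) (.node (0,0) .nil (.node (150,(.ofNat 1)) .nil .nil)) (.node (87,(.negSucc 0)) .nil (.node (214,(.ofNat 1)) .nil .nil))) (.node (55,(.negSucc 0)) (.node (0,0) .nil (.node (180,(.negSucc 0)) .nil .nil)) (.node (115,(.negSucc 0)) .nil .nil)))) (.node (14,(.ofNat 1)) (.node (0,0) (.node (0,0) (.node (0,0) .nil (.node (142,(.ofNat 1)) .nil .nil)) (.node (78,(.ofNat 1)) .nil (.node (208,(.ofNat 1)) .nil .nil))) (.node (46,(.ofNat 1)) (.node (0,0) .nil (.node (175,(.ofNat 1)) .nil .nil)) (.node (110,(.ofNat 1)) .nil (.node (238,(.ofNat 1)) .nil .nil)))) (.node (30,(.ofNat 1)) (.node (0,0) (.node (0,0) .nil (.node (160,(.ofNat 1)) .nil .nil)) (.node (94,(.ofNat 1)) .nil (.node (221,(.negSucc 0)) .nil .nil))) (.node (62,(.ofNat 1)) (.node (0,0) .nil (.node (192,(.ofNat 1)) .nil .nil)) (.node (127,(.ofNat 1)) .nil .nil))))))) (.node (1,(.ofNat 1)) (.node (0,0) (.node (0,0) (.node (0,0) (.node (0,0) (.node (0,0) (.node (0,0) .nil (.node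 (129,(.ofNat 1)) .nil .nil)) (.node (64,(.ofNat 1)) .nil (.node (193,(.ofNat 1)) .nil .nil))) (.node (31,(.ofNat 1)) (.node (0,0) .nil (.node (161,(.ofNat 1)) .nil .nil)) (.node (97,(.ofNat 1)) .nil (.node (225,(.ofNat 1)) .nil .nil)))) (.node (18,(.negSucc 0)) (.node (0,0) (.node (0,0) .nil (.node (145,(.ofNat 1)) .nil .nil)) (.node (79,(.ofNat 1)) .nil (.node (209,(.ofNat 1)) .nil .nil))) (.node (47,(.ofNat 1)) (.node (0,0) .nil (.node (177,(.ofNat 1)) .nil .nil)) (.node (112,(.ofNat 1)) .nil .nil)))) (.node (9,(.ofNat 1)) (.node (0,0) (.node (0,0) (.node (0,0) .nil (.node (138,(.ofNat 1)) .nil .nil)) (.node (74,(.negSucc 0)) .nil (.node (201,(.ofNat 1)) .nil .nil))) (.node (43,(.negSucc 0)) (.node (0,0) .nil (.node (169,(.ofNat 1)) .nil .nil)) (.node (105,(.ofNat 1)) .nil (.node (233,(.ofNat 1)) .nil .nil)))) (.node (25,(.ofNat 1)) (.node (0,0) (.node (0,0) .nil (.node (152,(.negSucc 0)) .nil .nil)) (.node (89,(.ofNat 1)) .nil (.node (216,(.negSucc 0)) .nil .nil))) (.node (59,(.negSucc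 0)) (.node (0,0) .nil (.node (184,(.negSucc 0)) .nil .nil)) (.node (124,(.negSucc 0)) .nil .nil))))) (.node (5,(.ofNat 1)) (.node (0,0) (.node (0,0) (.node (0,0) (.node (0,0) .nil (.node (133,(.ofNat 1)) .nil .nil)) (.node (68,(.ofNat 1)) .nil (.node (195,(.negSucc 0)) .nil .nil))) (.node (36,(.ofNat 1)) (.node (0,0) .nil (.node (166,(.ofNat 1)) .nil .nil)) (.node (102,(.negSucc 0)) .nil (.node (228,(.negSucc 0)) .nil .nil)))) (.node (21,(.ofNat 1)) (.node (0,0) (.node (0,0) .nil (.node (148,(.negSucc 0)) .nil .nil)) (.node (85,(.ofNat 1)) .nil (.node (212,(.negSucc 0)) .nil .nil))) (.node (53,(.ofNat 1)) (.node (0,0) .nil (.node (179,(.negSucc 0)) .nil .nil)) (.node (114,(.negSucc 0)) .nil .nil)))) (.node (13,(.ofNat 1)) (.node (0,0) (.node (0,0) (.node (0,0) .nil (.node (141,(.ofNat 1)) .nil .nil)) (.node (77,(.ofNat 1)) .nil (.node (207,(.ofNat 1)) .nil .nil))) (.node (45,(.ofNat 1)) (.node (0,0) .nil (.node (173,(.ofNat 1)) .nil .nil)) (.node (109,(.ofNat 1)) .nil (.node (236,(.negSucc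 0)) .nil .nil)))) (.node (29,(.ofNat 1)) (.node (0,0) (.node (0,0) .nil (.node (159,(.ofNat 1)) .nil .nil)) (.node (93,(.ofNat 1)) .nil (.node (222,(.ofNat 1)) .nil .nil))) (.node (61,(.ofNat 1)) (.node (0,0) .nil (.node (191,(.ofNat 1)) .nil .nil)) (.node (122,(.ofNat 1)) .nil .nil)))))) (.node (2,(.ofNat 1)) (.node (0,0) (.node (0,0) (.node (0,0) (.node (0,0) (.node (0,0) .nil (.node (132,(.ofNat 1)) .nil .nil)) (.node (67,(.ofNat 1)) .nil (.node (197,(.ofNat 1)) .nil .nil))) (.node (35,(.ofNat 1)) (.node (0,0) .nil (.node (163,(.ofNat 1)) .nil .nil)) (.node (99,(.ofNat 1)) .nil (.node (227,(.ofNat 1)) .nil .nil)))) (.node (19,(.ofNat 1)) (.node (0,0) (.node (0,0) .nil (.node (147,(.ofNat 1)) .nil .nil)) (.node (83,(.ofNat 1)) .nil (.node (211,(.ofNat 1)) .nil .nil))) (.node (51,(.ofNat 1)) (.node (0,0) .nil (.node (181,(.ofNat 1)) .nil .nil)) (.node (118,(.ofNat 1)) .nil .nil)))) (.node (10,(.ofNat 1)) (.node (0,0) (.node (0,0) (.node (0,0) .nil (.node (139,(.ofNat 1)) .nil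 .nil)) (.node (75,(.ofNat 1)) .nil (.node (202,(.negSucc 0)) .nil .nil))) (.node (41,(.ofNat 1)) (.node (0,0) .nil (.node (170,(.negSucc 0)) .nil .nil)) (.node (108,(.negSucc 0)) .nil (.node (235,(.ofNat 1)) .nil .nil)))) (.node (26,(.ofNat 1)) (.node (0,0) (.node (0,0) .nil (.node (155,(.ofNat 1)) .nil .nil)) (.node (90,(.ofNat 1)) .nil (.node (219,(.ofNat 1)) .nil .nil))) (.node (57,(.ofNat 1)) (.node (0,0) .nil (.node (187,(.ofNat 1)) .nil .nil)) (.node (116,(.negSucc 0)) .nil .nil))))) (.node (7,(.ofNat 1)) (.node (0,0) (.node (0,0) (.node (0,0) (.node (0,0) .nil (.node (135,(.ofNat 1)) .nil .nil)) (.node (71,(.ofNat 1)) .nil (.node (199,(.ofNat 1)) .nil .nil))) (.node (39,(.ofNat 1)) (.node (0,0) .nil (.node (167,(.ofNat 1)) .nil .nil)) (.node (103,(.ofNat 1)) .nil (.node (231,(.ofNat 1)) .nil .nil)))) (.node (22,(.ofNat 1)) (.node (0,0) (.node (0,0) .nil (.node (151,(.ofNat 1)) .nil .nil)) (.node (86,(.ofNat 1)) .nil (.node (215,(.ofNat 1)) .nil .nil))) (.node (54,(.ofNat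 1)) (.node (0,0) .nil (.node (183,(.ofNat 1)) .nil .nil)) (.node (119,(.ofNat 1)) .nil .nil)))) (.node (15,(.ofNat 1)) (.node (0,0) (.node (0,0) (.node (0,0) .nil (.node (144,(.ofNat 1)) .nil .nil)) (.node (81,(.negSucc 0)) .nil (.node (205,(.negSucc 0)) .nil .nil))) (.node (49,(.negSucc 0)) (.node (0,0) .nil (.node (174,(.negSucc 0)) .nil .nil)) (.node (111,(.ofNat 1)) .nil (.node (239,(.ofNat 1)) .nil .nil)))) (.node (33,(.negSucc 0)) (.node (0,0) (.node (0,0) .nil (.node (157,(.negSucc 0)) .nil .nil)) (.node (96,(.negSucc 0)) .nil (.node (223,(.ofNat 1)) .nil .nil))) (.node (63,(.ofNat 1)) (.node (0,0) .nil (.node (189,(.negSucc 0)) .nil .nil)) (.node (126,(.negSucc 0)) .nil .nil))))))))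
noncomputable def w4 : Trie (ℕ × ℤ) := (.node (0,(.ofNat 1)) (.node (0,0) (.node (0,0) (.node (0,0) (.node (0,0) (.node (0,0) (.node (0,0) (.node (0,0) .nil (.node (124,(.ofNat 1)) .nil .nil)) (.node (61,(.ofNat 1)) .nil (.node (192,(.ofNat 1)) .nil .nil))) (.node (29,(.ofNat 1)) (.node (0,0) .nil (.node (160,(.ofNat 1)) .nil .nil)) (.node (97,(.negSucc 0)) .nil (.node (224,(.ofNat 1)) .nil .nil)))) (.node (17,(.negSucc 0)) (.node (0,0) (.node (0,0) .nil (.node (144,(.ofNat 1)) .nil .nil)) (.node (80,(.ofNat 1)) .nil (.node (211,(.ofNat 1)) .nil .nil))) (.node (48,(.ofNat 1)) (.node (0,0) .nil (.node (179,(.ofNat 1)) .nil .nil)) (.node (116,(.ofNat 1)) .nil .nil)))) (.node (8,(.ofNat 1)) (.node (0,0) (.node (0,0) (.node (0,0) .nil (.node (137,(.ofNat 1)) .nil .nil)) (.node (72,(.ofNat 1)) .nil (.node (197,(.negSucc 0)) .nil .nil))) (.node (37,(.ofNat 1)) (.node (0,0) .nil (.node (168,(.ofNat 1)) .nil .nil)) (.node (104,(.ofNat 1)) .nil (.node (232,(.ofNat 1)) .nil .nil)))) (.node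 (24,(.ofNat 1)) (.node (0,0) (.node (0,0) .nil (.node (152,(.ofNat 1)) .nil .nil)) (.node (88,(.ofNat 1)) .nil (.node (216,(.ofNat 1)) .nil .nil))) (.node (56,(.ofNat 1)) (.node (0,0) .nil (.node (184,(.ofNat 1)) .nil .nil)) (.node (120,(.ofNat 1)) .nil .nil))))) (.node (3,(.ofNat 1)) (.node (0,0) (.node (0,0) (.node (0,0) (.node (0,0) .nil (.node (132,(.ofNat 1)) .nil .nil)) (.node (68,(.ofNat 1)) .nil (.node (196,(.ofNat 1)) .nil .nil))) (.node (36,(.ofNat 1)) (.node (0,0) .nil (.node (165,(.ofNat 1)) .nil .nil)) (.node (100,(.ofNat 1)) .nil (.node (228,(.ofNat 1)) .nil .nil)))) (.node (20,(.ofNat 1)) (.node (0,0) (.node (0,0) .nil (.node (147,(.negSucc 0)) .nil .nil)) (.node (81,(.ofNat 1)) .nil (.node (209,(.negSucc 0)) .nil .nil))) (.node (49,(.ofNat 1)) (.node (0,0) .nil (.node (177,(.negSucc 0)) .nil .nil)) (.node (112,(.negSucc 0)) .nil .nil)))) (.node (12,(.ofNat 1)) (.node (0,0) (.node (0,0) (.node (0,0) .nil (.node (140,(.ofNat 1)) .nil .nil)) (.node (76,(.ofNat 1))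 .nil (.node (204,(.ofNat 1)) .nil .nil))) (.node (44,(.ofNat 1)) (.node (0,0) .nil (.node (172,(.ofNat 1)) .nil .nil)) (.node (109,(.negSucc 0)) .nil (.node (235,(.negSucc 0)) .nil .nil)))) (.node (31,(.negSucc 0)) (.node (0,0) (.node (0,0) .nil (.node (153,(.negSucc 0)) .nil .nil)) (.node (91,(.ofNat 1)) .nil (.node (220,(.ofNat 1)) .nil .nil))) (.node (63,(.negSucc 0)) (.node (0,0) .nil (.node (185,(.negSucc 0)) .nil .nil)) (.node (128,(.negSucc 0)) .nil .nil)))))) (.node (2,(.ofNat 1)) (.node (0,0) (.node (0,0) (.node (0,0) (.node (0,0) (.node (0,0) .nil (.node (131,(.ofNat 1)) .nil .nil)) (.node (66,(.ofNat 1)) .nil (.node (194,(.ofNat 1)) .nil .nil))) (.node (34,(.ofNat 1)) (.node (0,0) .nil (.node (162,(.ofNat 1)) .nil .nil)) (.node (98,(.ofNat 1)) .nil (.node (226,(.ofNat 1)) .nil .nil)))) (.node (18,(.ofNat 1)) (.node (0,0) (.node (0,0) .nil (.node (146,(.ofNat 1)) .nil .nil)) (.node (85,(.negSucc 0)) .nil (.node (207,(.negSucc 0)) .nil .nil))) (.node (53,(.negSucc 0))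 (.node (0,0) .nil (.node (175,(.negSucc 0)) .nil .nil)) (.node (110,(.negSucc 0)) .nil .nil)))) (.node (9,(.ofNat 1)) (.node (0,0) (.node (0,0) (.node (0,0) .nil (.node (138,(.ofNat 1)) .nil .nil)) (.node (75,(.negSucc 0)) .nil (.node (199,(.negSucc 0)) .nil .nil))) (.node (39,(.ofNat 1)) (.node (0,0) .nil (.node (169,(.negSucc 0)) .nil .nil)) (.node (106,(.ofNat 1)) .nil (.node (234,(.ofNat 1)) .nil .nil)))) (.node (26,(.ofNat 1)) (.node (0,0) (.node (0,0) .nil (.node (157,(.ofNat 1)) .nil .nil)) (.node (90,(.ofNat 1)) .nil (.node (217,(.negSucc 0)) .nil .nil))) (.node (58,(.ofNat 1)) (.node (0,0) .nil (.node (189,(.ofNat 1)) .nil .nil)) (.node (122,(.ofNat 1)) .nil .nil))))) (.node (6,(.ofNat 1)) (.node (0,0) (.node (0,0) (.node (0,0) (.node (0,0) .nil (.node (134,(.ofNat 1)) .nil .nil)) (.node (69,(.ofNat 1)) .nil (.node (201,(.ofNat 1)) .nil .nil))) (.node (41,(.negSucc 0)) (.node (0,0) .nil (.node (166,(.ofNat 1)) .nil .nil)) (.node (103,(.negSucc 0)) .nil (.node (229,(.negSucc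 0)) .nil .nil)))) (.node (21,(.ofNat 1)) (.node (0,0) (.node (0,0) .nil (.node (150,(.ofNat 1)) .nil .nil)) (.node (83,(.ofNat 1)) .nil (.node (214,(.ofNat 1)) .nil .nil))) (.node (51,(.ofNat 1)) (.node (0,0) .nil (.node (182,(.ofNat 1)) .nil .nil)) (.node (118,(.ofNat 1)) .nil .nil)))) (.node (14,(.ofNat 1)) (.node (0,0) (.node (0,0) (.node (0,0) .nil (.node (143,(.ofNat 1)) .nil .nil)) (.node (78,(.ofNat 1)) .nil (.node (206,(.ofNat 1)) .nil .nil))) (.node (46,(.ofNat 1)) (.node (0,0) .nil (.node (174,(.ofNat 1)) .nil .nil)) (.node (114,(.ofNat 1)) .nil (.node (238,(.ofNat 1)) .nil .nil)))) (.node (27,(.ofNat 1)) (.node (0,0) (.node (0,0) .nil (.node (155,(.negSucc 0)) .nil .nil)) (.node (94,(.ofNat 1)) .nil (.node (223,(.ofNat 1)) .nil .nil))) (.node (59,(.ofNat 1)) (.node (0,0) .nil (.node (187,(.negSucc 0)) .nil .nil)) (.node (113,(.negSucc 0)) .nil .nil))))))) (.node (1,(.ofNat 1)) (.node (0,0) (.node (0,0) (.node (0,0) (.node (0,0) (.node (0,0) (.node (0,0) .nil (.node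 (125,(.ofNat 1)) .nil .nil)) (.node (65,(.ofNat 1)) .nil (.node (193,(.ofNat 1)) .nil .nil))) (.node (33,(.ofNat 1)) (.node (0,0) .nil (.node (161,(.ofNat 1)) .nil .nil)) (.node (96,(.ofNat 1)) .nil (.node (225,(.ofNat 1)) .nil .nil)))) (.node (16,(.ofNat 1)) (.node (0,0) (.node (0,0) .nil (.node (145,(.ofNat 1)) .nil .nil)) (.node (84,(.negSucc 0)) .nil (.node (212,(.ofNat 1)) .nil .nil))) (.node (52,(.negSucc 0)) (.node (0,0) .nil (.node (180,(.ofNat 1)) .nil .nil)) (.node (126,(.negSucc 0)) .nil .nil)))) (.node (10,(.negSucc 0)) (.node (0,0) (.node (0,0) (.node (0,0) .nil (.node (136,(.negSucc 0)) .nil .nil)) (.node (73,(.ofNat 1)) .nil (.node (198,(.negSucc 0)) .nil .nil))) (.node (38,(.ofNat 1)) (.node (0,0) .nil (.node (170,(.ofNat 1)) .nil .nil)) (.node (105,(.ofNat 1)) .nil (.node (233,(.ofNat 1)) .nil .nil)))) (.node (25,(.ofNat 1)) (.node (0,0) (.node (0,0) .nil (.node (156,(.ofNat 1)) .nil .nil)) (.node (89,(.ofNat 1)) .nil (.node (218,(.ofNat 1)) .nil .nil))) (.node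 (57,(.ofNat 1)) (.node (0,0) .nil (.node (188,(.ofNat 1)) .nil .nil)) (.node (121,(.ofNat 1)) .nil .nil))))) (.node (5,(.ofNat 1)) (.node (0,0) (.node (0,0) (.node (0,0) (.node (0,0) .nil (.node (133,(.ofNat 1)) .nil .nil)) (.node (70,(.negSucc 0)) .nil (.node (200,(.ofNat 1)) .nil .nil))) (.node (40,(.negSucc 0)) (.node (0,0) .nil (.node (164,(.negSucc 0)) .nil .nil)) (.node (101,(.ofNat 1)) .nil (.node (230,(.ofNat 1)) .nil .nil)))) (.node (22,(.negSucc 0)) (.node (0,0) (.node (0,0) .nil (.node (149,(.ofNat 1)) .nil .nil)) (.node (82,(.ofNat 1)) .nil (.node (213,(.ofNat 1)) .nil .nil))) (.node (50,(.ofNat 1)) (.node (0,0) .nil (.node (181,(.ofNat 1)) .nil .nil)) (.node (117,(.ofNat 1)) .nil .nil)))) (.node (13,(.ofNat 1)) (.node (0,0) (.node (0,0) (.node (0,0) .nil (.node (141,(.ofNat 1)) .nil .nil)) (.node (77,(.ofNat 1)) .nil (.node (205,(.ofNat 1)) .nil .nil))) (.node (45,(.ofNat 1)) (.node (0,0) .nil (.node (173,(.ofNat 1)) .nil .nil)) (.node (108,(.ofNat 1)) .nil (.node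 (237,(.ofNat 1)) .nil .nil)))) (.node (32,(.negSucc 0)) (.node (0,0) (.node (0,0) .nil (.node (154,(.negSucc 0)) .nil .nil)) (.node (93,(.ofNat 1)) .nil (.node (221,(.ofNat 1)) .nil .nil))) (.node (64,(.negSucc 0)) (.node (0,0) .nil (.node (186,(.negSucc 0)) .nil .nil)) (.node (129,(.negSucc 0)) .nil .nil)))))) (.node (4,(.negSucc 0)) (.node (0,0) (.node (0,0) (.node (0,0) (.node (0,0) (.node (0,0) .nil (.node (130,(.negSucc 0)) .nil .nil)) (.node (67,(.ofNat 1)) .nil (.node (195,(.ofNat 1)) .nil .nil))) (.node (35,(.ofNat 1)) (.node (0,0) .nil (.node (163,(.ofNat 1)) .nil .nil)) (.node (99,(.ofNat 1)) .nil (.node (227,(.ofNat 1)) .nil .nil)))) (.node (19,(.ofNat 1)) (.node (0,0) (.node (0,0) .nil (.node (148,(.ofNat 1)) .nil .nil)) (.node (86,(.negSucc 0)) .nil (.node (208,(.negSucc 0)) .nil .nil))) (.node (54,(.negSucc 0)) (.node (0,0) .nil (.node (176,(.negSucc 0)) .nil .nil)) (.node (111,(.negSucc 0)) .nil .nil)))) (.node (11,(.ofNat 1)) (.node (0,0) (.node (0,0) (.node (0,0)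 .nil (.node (139,(.ofNat 1)) .nil .nil)) (.node (74,(.ofNat 1)) .nil (.node (203,(.ofNat 1)) .nil .nil))) (.node (43,(.ofNat 1)) (.node (0,0) .nil (.node (171,(.ofNat 1)) .nil .nil)) (.node (107,(.ofNat 1)) .nil (.node (236,(.ofNat 1)) .nil .nil)))) (.node (30,(.negSucc 0)) (.node (0,0) (.node (0,0) .nil (.node (158,(.ofNat 1)) .nil .nil)) (.node (92,(.negSucc 0)) .nil (.node (219,(.ofNat 1)) .nil .nil))) (.node (62,(.negSucc 0)) (.node (0,0) .nil (.node (190,(.ofNat 1)) .nil .nil)) (.node (127,(.negSucc 0)) .nil .nil))))) (.node (7,(.ofNat 1)) (.node (0,0) (.node (0,0) (.node (0,0) (.node (0,0) .nil (.node (135,(.ofNat 1)) .nil .nil)) (.node (71,(.ofNat 1)) .nil (.node (202,(.ofNat 1)) .nil .nil))) (.node (42,(.negSucc 0)) (.node (0,0) .nil (.node (167,(.ofNat 1)) .nil .nil)) (.node (102,(.ofNat 1)) .nil (.node (231,(.ofNat 1)) .nil .nil)))) (.node (23,(.ofNat 1)) (.node (0,0) (.node (0,0) .nil (.node (151,(.ofNat 1)) .nil .nil)) (.node (87,(.ofNat 1)) .nil (.node (215,(.ofNat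 1)) .nil .nil))) (.node (55,(.ofNat 1)) (.node (0,0) .nil (.node (183,(.ofNat 1)) .nil .nil)) (.node (119,(.ofNat 1)) .nil .nil)))) (.node (15,(.ofNat 1)) (.node (0,0) (.node (0,0) (.node (0,0) .nil (.node (142,(.negSucc 0)) .nil .nil)) (.node (79,(.ofNat 1)) .nil (.node (210,(.ofNat 1)) .nil .nil))) (.node (47,(.ofNat 1)) (.node (0,0) .nil (.node (178,(.ofNat 1)) .nil .nil)) (.node (115,(.ofNat 1)) .nil (.node (239,(.ofNat 1)) .nil .nil)))) (.node (28,(.ofNat 1)) (.node (0,0) (.node (0,0) .nil (.node (159,(.ofNat 1)) .nil .nil)) (.node (95,(.ofNat 1)) .nil (.node (222,(.negSucc 0)) .nil .nil))) (.node (60,(.ofNat 1)) (.node (0,0) .nil (.node (191,(.ofNat 1)) .nil .nil)) (.node (123,(.ofNat 1)) .nil .nil))))))))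
noncomputable def w3 : Trie (ℕ × ℤ) := (.node (0,(.ofNat 1)) (.node (0,0) (.node (0,0) (.node (0,0) (.node (0,0) (.node (0,0) (.node (0,0) (.node (0,0) .nil (.node (133,(.negSucc 0)) .nil .nil)) (.node (68,(.negSucc 0)) .nil (.node (198,(.ofNat 1)) .nil .nil))) (.node (32,(.ofNat 1)) (.node (0,0) .nil (.node (160,(.ofNat 1)) .nil .nil)) (.node (96,(.ofNat 1)) .nil (.node (223,(.negSucc 0)) .nil .nil)))) (.node (15,(.ofNat 1)) (.node (0,0) (.node (0,0) .nil (.node (144,(.ofNat 1)) .nil .nil)) (.node (80,(.ofNat 1)) .nil (.node (208,(.ofNat 1)) .nil .nil))) (.node (42,(.ofNat 1)) (.node (0,0) .nil (.node (172,(.negSucc 0)) .nil .nil)) (.node (107,(.negSucc 0)) .nil .nil)))) (.node (9,(.negSucc 0)) (.node (0,0) (.node (0,0) (.node (0,0) .nil (.node (135,(.negSucc 0)) .nil .nil)) (.node (72,(.ofNat 1)) .nil (.node (200,(.ofNat 1)) .nil .nil))) (.node (46,(.negSucc 0)) (.node (0,0) .nil (.node (168,(.ofNat 1)) .nil .nil)) (.node (103,(.ofNat 1)) .nil (.node (232,(.ofNat 1)) .nil .nil))))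 (.node (28,(.negSucc 0)) (.node (0,0) (.node (0,0) .nil (.node (148,(.negSucc 0)) .nil .nil)) (.node (84,(.ofNat 1)) .nil (.node (212,(.negSucc 0)) .nil .nil))) (.node (56,(.ofNat 1)) (.node (0,0) .nil (.node (184,(.ofNat 1)) .nil .nil)) (.node (120,(.ofNat 1)) .nil .nil))))) (.node (5,(.negSucc 0)) (.node (0,0) (.node (0,0) (.node (0,0) (.node (0,0) .nil (.node (127,(.ofNat 1)) .nil .nil)) (.node (64,(.ofNat 1)) .nil (.node (190,(.negSucc 0)) .nil .nil))) (.node (36,(.ofNat 1)) (.node (0,0) .nil (.node (163,(.negSucc 0)) .nil .nil)) (.node (100,(.ofNat 1)) .nil (.node (228,(.ofNat 1)) .nil .nil)))) (.node (20,(.ofNat 1)) (.node (0,0) (.node (0,0) .nil (.node (152,(.ofNat 1)) .nil .nil)) (.node (88,(.negSucc 0)) .nil (.node (216,(.ofNat 1)) .nil .nil))) (.node (52,(.ofNat 1)) (.node (0,0) .nil (.node (180,(.ofNat 1)) .nil .nil)) (.node (116,(.ofNat 1)) .nil .nil)))) (.node (12,(.ofNat 1)) (.node (0,0) (.node (0,0) (.node (0,0) .nil (.node (140,(.ofNat 1)) .nil .nil)) (.node (75,(.ofNat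 1)) .nil (.node (204,(.ofNat 1)) .nil .nil))) (.node (50,(.negSucc 0)) (.node (0,0) .nil (.node (176,(.ofNat 1)) .nil .nil)) (.node (113,(.ofNat 1)) .nil (.node (236,(.ofNat 1)) .nil .nil)))) (.node (24,(.ofNat 1)) (.node (0,0) (.node (0,0) .nil (.node (156,(.ofNat 1)) .nil .nil)) (.node (92,(.ofNat 1)) .nil (.node (220,(.ofNat 1)) .nil .nil))) (.node (60,(.ofNat 1)) (.node (0,0) .nil (.node (194,(.ofNat 1)) .nil .nil)) (.node (124,(.ofNat 1)) .nil .nil)))))) (.node (2,(.ofNat 1)) (.node (0,0) (.node (0,0) (.node (0,0) (.node (0,0) (.node (0,0) .nil (.node (109,(.negSucc 0)) .nil .nil)) (.node (62,(.ofNat 1)) .nil (.node (188,(.negSucc 0)) .nil .nil))) (.node (34,(.ofNat 1)) (.node (0,0) .nil (.node (162,(.ofNat 1)) .nil .nil)) (.node (97,(.ofNat 1)) .nil (.node (226,(.ofNat 1)) .nil .nil)))) (.node (18,(.ofNat 1)) (.node (0,0) (.node (0,0) .nil (.node (146,(.ofNat 1)) .nil .nil)) (.node (82,(.ofNat 1)) .nil (.node (214,(.ofNat 1)) .nil .nil))) (.node (44,(.ofNat 1)) (.node (0,0)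 .nil (.node (178,(.ofNat 1)) .nil .nil)) (.node (114,(.ofNat 1)) .nil .nil)))) (.node (10,(.ofNat 1)) (.node (0,0) (.node (0,0) (.node (0,0) .nil (.node (138,(.ofNat 1)) .nil .nil)) (.node (74,(.ofNat 1)) .nil (.node (202,(.ofNat 1)) .nil .nil))) (.node (48,(.negSucc 0)) (.node (0,0) .nil (.node (174,(.ofNat 1)) .nil .nil)) (.node (111,(.ofNat 1)) .nil (.node (235,(.ofNat 1)) .nil .nil)))) (.node (22,(.ofNat 1)) (.node (0,0) (.node (0,0) .nil (.node (150,(.negSucc 0)) .nil .nil)) (.node (86,(.ofNat 1)) .nil (.node (218,(.ofNat 1)) .nil .nil))) (.node (58,(.ofNat 1)) (.node (0,0) .nil (.node (186,(.ofNat 1)) .nil .nil)) (.node (122,(.ofNat 1)) .nil .nil))))) (.node (6,(.ofNat 1)) (.node (0,0) (.node (0,0) (.node (0,0) (.node (0,0) .nil (.node (129,(.ofNat 1)) .nil .nil)) (.node (70,(.ofNat 1)) .nil (.node (192,(.negSucc 0)) .nil .nil))) (.node (38,(.ofNat 1)) (.node (0,0) .nil (.node (166,(.ofNat 1)) .nil .nil)) (.node (102,(.ofNat 1)) .nil (.node (231,(.ofNat 1)) .nil .nil))))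 (.node (26,(.negSucc 0)) (.node (0,0) (.node (0,0) .nil (.node (154,(.ofNat 1)) .nil .nil)) (.node (90,(.negSucc 0)) .nil (.node (210,(.negSucc 0)) .nil .nil))) (.node (54,(.ofNat 1)) (.node (0,0) .nil (.node (182,(.ofNat 1)) .nil .nil)) (.node (118,(.ofNat 1)) .nil .nil)))) (.node (14,(.ofNat 1)) (.node (0,0) (.node (0,0) (.node (0,0) .nil (.node (141,(.negSucc 0)) .nil .nil)) (.node (78,(.ofNat 1)) .nil (.node (206,(.ofNat 1)) .nil .nil))) (.node (40,(.ofNat 1)) (.node (0,0) .nil (.node (170,(.negSucc 0)) .nil .nil)) (.node (105,(.negSucc 0)) .nil (.node (238,(.ofNat 1)) .nil .nil)))) (.node (30,(.ofNat 1)) (.node (0,0) (.node (0,0) .nil (.node (158,(.ofNat 1)) .nil .nil)) (.node (94,(.ofNat 1)) .nil (.node (222,(.ofNat 1)) .nil .nil))) (.node (66,(.negSucc 0)) (.node (0,0) .nil (.node (196,(.ofNat 1)) .nil .nil)) (.node (131,(.negSucc 0)) .nil .nil))))))) (.node (1,(.ofNat 1)) (.node (0,0) (.node (0,0) (.node (0,0) (.node (0,0) (.node (0,0) (.node (0,0) .nil (.node (134,(.negSucc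 0)) .nil .nil)) (.node (69,(.negSucc 0)) .nil (.node (199,(.ofNat 1)) .nil .nil))) (.node (33,(.ofNat 1)) (.node (0,0) .nil (.node (161,(.ofNat 1)) .nil .nil)) (.node (98,(.negSucc 0)) .nil (.node (225,(.ofNat 1)) .nil .nil)))) (.node (17,(.ofNat 1)) (.node (0,0) (.node (0,0) .nil (.node (145,(.ofNat 1)) .nil .nil)) (.node (81,(.ofNat 1)) .nil (.node (209,(.ofNat 1)) .nil .nil))) (.node (43,(.ofNat 1)) (.node (0,0) .nil (.node (173,(.negSucc 0)) .nil .nil)) (.node (108,(.negSucc 0)) .nil .nil)))) (.node (8,(.ofNat 1)) (.node (0,0) (.node (0,0) (.node (0,0) .nil (.node (137,(.ofNat 1)) .nil .nil)) (.node (73,(.ofNat 1)) .nil (.node (201,(.ofNat 1)) .nil .nil))) (.node (47,(.negSucc 0)) (.node (0,0) .nil (.node (169,(.ofNat 1)) .nil .nil)) (.node (110,(.ofNat 1)) .nil (.node (233,(.ofNat 1)) .nil .nil)))) (.node (29,(.negSucc 0)) (.node (0,0) (.node (0,0) .nil (.node (149,(.negSucc 0)) .nil .nil)) (.node (85,(.ofNat 1)) .nil (.node (213,(.negSucc 0)) .nil .nil))) (.node (57,(.ofNat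 1)) (.node (0,0) .nil (.node (185,(.ofNat 1)) .nil .nil)) (.node (121,(.ofNat 1)) .nil .nil))))) (.node (4,(.ofNat 1)) (.node (0,0) (.node (0,0) (.node (0,0) (.node (0,0) .nil (.node (128,(.ofNat 1)) .nil .nil)) (.node (65,(.ofNat 1)) .nil (.node (191,(.negSucc 0)) .nil .nil))) (.node (37,(.ofNat 1)) (.node (0,0) .nil (.node (165,(.ofNat 1)) .nil .nil)) (.node (101,(.ofNat 1)) .nil (.node (229,(.ofNat 1)) .nil .nil)))) (.node (21,(.ofNat 1)) (.node (0,0) (.node (0,0) .nil (.node (153,(.ofNat 1)) .nil .nil)) (.node (89,(.negSucc 0)) .nil (.node (217,(.ofNat 1)) .nil .nil))) (.node (53,(.ofNat 1)) (.node (0,0) .nil (.node (181,(.ofNat 1)) .nil .nil)) (.node (117,(.ofNat 1)) .nil .nil)))) (.node (13,(.ofNat 1)) (.node (0,0) (.node (0,0) (.node (0,0) .nil (.node (142,(.ofNat 1)) .nil .nil)) (.node (77,(.ofNat 1)) .nil (.node (205,(.ofNat 1)) .nil .nil))) (.node (51,(.negSucc 0)) (.node (0,0) .nil (.node (177,(.ofNat 1)) .nil .nil)) (.node (130,(.negSucc 0)) .nil (.node (237,(.ofNat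 1)) .nil .nil)))) (.node (25,(.ofNat 1)) (.node (0,0) (.node (0,0) .nil (.node (157,(.ofNat 1)) .nil .nil)) (.node (93,(.ofNat 1)) .nil (.node (221,(.ofNat 1)) .nil .nil))) (.node (61,(.ofNat 1)) (.node (0,0) .nil (.node (195,(.ofNat 1)) .nil .nil)) (.node (125,(.ofNat 1)) .nil .nil)))))) (.node (3,(.ofNat 1)) (.node (0,0) (.node (0,0) (.node (0,0) (.node (0,0) (.node (0,0) .nil (.node (126,(.ofNat 1)) .nil .nil)) (.node (63,(.ofNat 1)) .nil (.node (189,(.negSucc 0)) .nil .nil))) (.node (35,(.ofNat 1)) (.node (0,0) .nil (.node (164,(.ofNat 1)) .nil .nil)) (.node (99,(.ofNat 1)) .nil (.node (227,(.ofNat 1)) .nil .nil)))) (.node (19,(.ofNat 1)) (.node (0,0) (.node (0,0) .nil (.node (147,(.ofNat 1)) .nil .nil)) (.node (83,(.ofNat 1)) .nil (.node (215,(.ofNat 1)) .nil .nil))) (.node (45,(.ofNat 1)) (.node (0,0) .nil (.node (179,(.ofNat 1)) .nil .nil)) (.node (115,(.ofNat 1)) .nil .nil)))) (.node (11,(.ofNat 1)) (.node (0,0) (.node (0,0) (.node (0,0) .nil (.node (139,(.ofNat 1)) .nil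 .nil)) (.node (76,(.negSucc 0)) .nil (.node (203,(.ofNat 1)) .nil .nil))) (.node (49,(.negSucc 0)) (.node (0,0) .nil (.node (175,(.ofNat 1)) .nil .nil)) (.node (112,(.ofNat 1)) .nil (.node (234,(.negSucc 0)) .nil .nil)))) (.node (23,(.ofNat 1)) (.node (0,0) (.node (0,0) .nil (.node (151,(.negSucc 0)) .nil .nil)) (.node (87,(.ofNat 1)) .nil (.node (219,(.ofNat 1)) .nil .nil))) (.node (59,(.ofNat 1)) (.node (0,0) .nil (.node (187,(.ofNat 1)) .nil .nil)) (.node (123,(.ofNat 1)) .nil .nil))))) (.node (7,(.ofNat 1)) (.node (0,0) (.node (0,0) (.node (0,0) (.node (0,0) .nil (.node (136,(.ofNat 1)) .nil .nil)) (.node (71,(.ofNat 1)) .nil (.node (193,(.negSucc 0)) .nil .nil))) (.node (39,(.ofNat 1)) (.node (0,0) .nil (.node (167,(.ofNat 1)) .nil .nil)) (.node (104,(.negSucc 0)) .nil (.node (230,(.negSucc 0)) .nil .nil)))) (.node (27,(.negSucc 0)) (.node (0,0) (.node (0,0) .nil (.node (155,(.ofNat 1)) .nil .nil)) (.node (91,(.negSucc 0)) .nil (.node (211,(.negSucc 0)) .nil .nil))) (.node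 (55,(.ofNat 1)) (.node (0,0) .nil (.node (183,(.ofNat 1)) .nil .nil)) (.node (119,(.ofNat 1)) .nil .nil)))) (.node (16,(.negSucc 0)) (.node (0,0) (.node (0,0) (.node (0,0) .nil (.node (143,(.ofNat 1)) .nil .nil)) (.node (79,(.ofNat 1)) .nil (.node (207,(.ofNat 1)) .nil .nil))) (.node (41,(.ofNat 1)) (.node (0,0) .nil (.node (171,(.negSucc 0)) .nil .nil)) (.node (106,(.negSucc 0)) .nil (.node (239,(.ofNat 1)) .nil .nil)))) (.node (31,(.ofNat 1)) (.node (0,0) (.node (0,0) .nil (.node (159,(.ofNat 1)) .nil .nil)) (.node (95,(.ofNat 1)) .nil (.node (224,(.ofNat 1)) .nil .nil))) (.node (67,(.negSucc 0)) (.node (0,0) .nil (.node (197,(.ofNat 1)) .nil .nil)) (.node (132,(.negSucc 0)) .nil .nil))))))))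
noncomputable def w2 : Trie (ℕ × ℤ) := (.node (0,(.ofNat 1)) (.node (0,0) (.node (0,0) (.node (0,0) (.node (0,0) (.node (0,0) (.node (0,0) (.node (0,0) .nil (.node (128,(.ofNat 1)) .nil .nil)) (.node (54,(.ofNat 1)) .nil (.node (182,(.negSucc 0)) .nil .nil))) (.node (32,(.ofNat 1)) (.node (0,0) .nil (.node (160,(.ofNat 1)) .nil .nil)) (.node (91,(.ofNat 1)) .nil (.node (224,(.ofNat 1)) .nil .nil)))) (.node (21,(.negSucc 0)) (.node (0,0) (.node (0,0) .nil (.node (149,(.ofNat 1)) .nil .nil)) (.node (80,(.ofNat 1)) .nil (.node (208,(.ofNat 1)) .nil .nil))) (.node (58,(.negSucc 0)) (.node (0,0) .nil (.node (186,(.ofNat 1)) .nil .nil)) (.node (112,(.ofNat 1)) .nil .nil)))) (.node (7,(.ofNat 1)) (.node (0,0) (.node (0,0) (.node (0,0) .nil (.node (130,(.ofNat 1)) .nil .nil)) (.node (72,(.ofNat 1)) .nil (.node (200,(.ofNat 1)) .nil .nil))) (.node (40,(.ofNat 1)) (.node (0,0) .nil (.node (168,(.ofNat 1)) .nil .nil)) (.node (135,(.negSucc 0)) .nil (.node (231,(.negSucc 0)) .nil .nil))))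 (.node (19,(.ofNat 1)) (.node (0,0) (.node (0,0) .nil (.node (152,(.ofNat 1)) .nil .nil)) (.node (93,(.negSucc 0)) .nil (.node (221,(.ofNat 1)) .nil .nil))) (.node (46,(.ofNat 1)) (.node (0,0) .nil (.node (174,(.negSucc 0)) .nil .nil)) (.node (120,(.ofNat 1)) .nil .nil))))) (.node (4,(.ofNat 1)) (.node (0,0) (.node (0,0) (.node (0,0) (.node (0,0) .nil (.node (138,(.negSucc 0)) .nil .nil)) (.node (68,(.ofNat 1)) .nil (.node (196,(.ofNat 1)) .nil .nil))) (.node (36,(.ofNat 1)) (.node (0,0) .nil (.node (164,(.ofNat 1)) .nil .nil)) (.node (106,(.ofNat 1)) .nil (.node (228,(.ofNat 1)) .nil .nil)))) (.node (25,(.negSucc 0)) (.node (0,0) (.node (0,0) .nil (.node (143,(.negSucc 0)) .nil .nil)) (.node (84,(.ofNat 1)) .nil (.node (212,(.ofNat 1)) .nil .nil))) (.node (62,(.negSucc 0)) (.node (0,0) .nil (.node (190,(.ofNat 1)) .nil .nil)) (.node (116,(.ofNat 1)) .nil .nil)))) (.node (12,(.ofNat 1)) (.node (0,0) (.node (0,0) (.node (0,0) .nil (.node (134,(.ofNat 1)) .nil .nil)) (.node (77,(.negSucc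 0)) .nil (.node (204,(.ofNat 1)) .nil .nil))) (.node (44,(.ofNat 1)) (.node (0,0) .nil (.node (172,(.ofNat 1)) .nil .nil)) (.node (102,(.negSucc 0)) .nil (.node (236,(.ofNat 1)) .nil .nil)))) (.node (28,(.ofNat 1)) (.node (0,0) (.node (0,0) .nil (.node (156,(.ofNat 1)) .nil .nil)) (.node (97,(.negSucc 0)) .nil (.node (215,(.negSucc 0)) .nil .nil))) (.node (50,(.ofNat 1)) (.node (0,0) .nil (.node (178,(.negSucc 0)) .nil .nil)) (.node (124,(.ofNat 1)) .nil .nil)))))) (.node (2,(.ofNat 1)) (.node (0,0) (.node (0,0) (.node (0,0) (.node (0,0) (.node (0,0) .nil (.node (136,(.negSucc 0)) .nil .nil)) (.node (66,(.ofNat 1)) .nil (.node (194,(.ofNat 1)) .nil .nil))) (.node (34,(.ofNat 1)) (.node (0,0) .nil (.node (163,(.ofNat 1)) .nil .nil)) (.node (98,(.ofNat 1)) .nil (.node (226,(.ofNat 1)) .nil .nil)))) (.node (23,(.negSucc 0)) (.node (0,0) (.node (0,0) .nil (.node (151,(.ofNat 1)) .nil .nil)) (.node (82,(.ofNat 1)) .nil (.node (210,(.ofNat 1)) .nil .nil))) (.node (60,(.negSucc 0)) (.node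 (0,0) .nil (.node (188,(.ofNat 1)) .nil .nil)) (.node (114,(.ofNat 1)) .nil .nil)))) (.node (10,(.ofNat 1)) (.node (0,0) (.node (0,0) (.node (0,0) .nil (.node (132,(.ofNat 1)) .nil .nil)) (.node (74,(.ofNat 1)) .nil (.node (202,(.ofNat 1)) .nil .nil))) (.node (42,(.ofNat 1)) (.node (0,0) .nil (.node (170,(.ofNat 1)) .nil .nil)) (.node (100,(.negSucc 0)) .nil (.node (233,(.negSucc 0)) .nil .nil)))) (.node (26,(.ofNat 1)) (.node (0,0) (.node (0,0) .nil (.node (154,(.ofNat 1)) .nil .nil)) (.node (95,(.negSucc 0)) .nil (.node (223,(.ofNat 1)) .nil .nil))) (.node (48,(.ofNat 1)) (.node (0,0) .nil (.node (176,(.negSucc 0)) .nil .nil)) (.node (122,(.ofNat 1)) .nil .nil))))) (.node (5,(.ofNat 1)) (.node (0,0) (.node (0,0) (.node (0,0) (.node (0,0) .nil (.node (140,(.negSucc 0)) .nil .nil)) (.node (70,(.ofNat 1)) .nil (.node (198,(.ofNat 1)) .nil .nil))) (.node (38,(.ofNat 1)) (.node (0,0) .nil (.node (166,(.ofNat 1)) .nil .nil)) (.node (108,(.ofNat 1)) .nil (.node (230,(.ofNat 1)) .nil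 .nil)))) (.node (17,(.ofNat 1)) (.node (0,0) (.node (0,0) .nil (.node (145,(.negSucc 0)) .nil .nil)) (.node (86,(.ofNat 1)) .nil (.node (219,(.ofNat 1)) .nil .nil))) (.node (64,(.negSucc 0)) (.node (0,0) .nil (.node (192,(.ofNat 1)) .nil .nil)) (.node (118,(.ofNat 1)) .nil .nil)))) (.node (14,(.ofNat 1)) (.node (0,0) (.node (0,0) (.node (0,0) .nil (.node (147,(.ofNat 1)) .nil .nil)) (.node (78,(.ofNat 1)) .nil (.node (206,(.ofNat 1)) .nil .nil))) (.node (56,(.negSucc 0)) (.node (0,0) .nil (.node (184,(.ofNat 1)) .nil .nil)) (.node (110,(.ofNat 1)) .nil (.node (238,(.ofNat 1)) .nil .nil)))) (.node (30,(.ofNat 1)) (.node (0,0) (.node (0,0) .nil (.node (158,(.ofNat 1)) .nil .nil)) (.node (89,(.ofNat 1)) .nil (.node (217,(.negSucc 0)) .nil .nil))) (.node (52,(.ofNat 1)) (.node (0,0) .nil (.node (180,(.negSucc 0)) .nil .nil)) (.node (126,(.ofNat 1)) .nil .nil))))))) (.node (1,(.ofNat 1)) (.node (0,0) (.node (0,0) (.node (0,0) (.node (0,0) (.node (0,0) (.node (0,0) .nil (.node (129,(.ofNat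 1)) .nil .nil)) (.node (55,(.ofNat 1)) .nil (.node (183,(.negSucc 0)) .nil .nil))) (.node (33,(.ofNat 1)) (.node (0,0) .nil (.node (161,(.ofNat 1)) .nil .nil)) (.node (92,(.ofNat 1)) .nil (.node (225,(.ofNat 1)) .nil .nil)))) (.node (22,(.negSucc 0)) (.node (0,0) (.node (0,0) .nil (.node (150,(.ofNat 1)) .nil .nil)) (.node (81,(.ofNat 1)) .nil (.node (209,(.ofNat 1)) .nil .nil))) (.node (59,(.negSucc 0)) (.node (0,0) .nil (.node (187,(.ofNat 1)) .nil .nil)) (.node (113,(.ofNat 1)) .nil .nil)))) (.node (9,(.ofNat 1)) (.node (0,0) (.node (0,0) (.node (0,0) .nil (.node (131,(.ofNat 1)) .nil .nil)) (.node (73,(.ofNat 1)) .nil (.node (201,(.ofNat 1)) .nil .nil))) (.node (41,(.ofNat 1)) (.node (0,0) .nil (.node (169,(.ofNat 1)) .nil .nil)) (.node (99,(.negSucc 0)) .nil (.node (234,(.ofNat 1)) .nil .nil)))) (.node (20,(.ofNat 1)) (.node (0,0) (.node (0,0) .nil (.node (153,(.ofNat 1)) .nil .nil)) (.node (94,(.negSucc 0)) .nil (.node (222,(.ofNat 1)) .nil .nil))) (.node (47,(.ofNat 1))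 (.node (0,0) .nil (.node (175,(.negSucc 0)) .nil .nil)) (.node (121,(.ofNat 1)) .nil .nil))))) (.node (6,(.negSucc 0)) (.node (0,0) (.node (0,0) (.node (0,0) (.node (0,0) .nil (.node (139,(.negSucc 0)) .nil .nil)) (.node (69,(.ofNat 1)) .nil (.node (197,(.ofNat 1)) .nil .nil))) (.node (37,(.ofNat 1)) (.node (0,0) .nil (.node (165,(.ofNat 1)) .nil .nil)) (.node (107,(.ofNat 1)) .nil (.node (229,(.ofNat 1)) .nil .nil)))) (.node (16,(.ofNat 1)) (.node (0,0) (.node (0,0) .nil (.node (144,(.negSucc 0)) .nil .nil)) (.node (85,(.ofNat 1)) .nil (.node (213,(.ofNat 1)) .nil .nil))) (.node (63,(.negSucc 0)) (.node (0,0) .nil (.node (191,(.ofNat 1)) .nil .nil)) (.node (117,(.ofNat 1)) .nil .nil)))) (.node (13,(.ofNat 1)) (.node (0,0) (.node (0,0) (.node (0,0) .nil (.node (141,(.ofNat 1)) .nil .nil)) (.node (76,(.ofNat 1)) .nil (.node (205,(.ofNat 1)) .nil .nil))) (.node (45,(.ofNat 1)) (.node (0,0) .nil (.node (173,(.ofNat 1)) .nil .nil)) (.node (103,(.negSucc 0)) .nil (.node (237,(.ofNat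 1)) .nil .nil)))) (.node (29,(.ofNat 1)) (.node (0,0) (.node (0,0) .nil (.node (157,(.ofNat 1)) .nil .nil)) (.node (88,(.ofNat 1)) .nil (.node (216,(.negSucc 0)) .nil .nil))) (.node (51,(.ofNat 1)) (.node (0,0) .nil (.node (179,(.negSucc 0)) .nil .nil)) (.node (125,(.ofNat 1)) .nil .nil)))))) (.node (3,(.ofNat 1)) (.node (0,0) (.node (0,0) (.node (0,0) (.node (0,0) (.node (0,0) .nil (.node (137,(.negSucc 0)) .nil .nil)) (.node (67,(.ofNat 1)) .nil (.node (195,(.ofNat 1)) .nil .nil))) (.node (35,(.ofNat 1)) (.node (0,0) .nil (.node (162,(.negSucc 0)) .nil .nil)) (.node (105,(.ofNat 1)) .nil (.node (227,(.ofNat 1)) .nil .nil)))) (.node (24,(.negSucc 0)) (.node (0,0) (.node (0,0) .nil (.node (142,(.negSucc 0)) .nil .nil)) (.node (83,(.ofNat 1)) .nil (.node (211,(.ofNat 1)) .nil .nil))) (.node (61,(.negSucc 0)) (.node (0,0) .nil (.node (189,(.ofNat 1)) .nil .nil)) (.node (115,(.ofNat 1)) .nil .nil)))) (.node (11,(.ofNat 1)) (.node (0,0) (.node (0,0) (.node (0,0) .nil (.node (133,(.ofNat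 1)) .nil .nil)) (.node (75,(.ofNat 1)) .nil (.node (203,(.ofNat 1)) .nil .nil))) (.node (43,(.ofNat 1)) (.node (0,0) .nil (.node (171,(.ofNat 1)) .nil .nil)) (.node (101,(.negSucc 0)) .nil (.node (235,(.ofNat 1)) .nil .nil)))) (.node (27,(.ofNat 1)) (.node (0,0) (.node (0,0) .nil (.node (155,(.ofNat 1)) .nil .nil)) (.node (96,(.negSucc 0)) .nil (.node (214,(.negSucc 0)) .nil .nil))) (.node (49,(.ofNat 1)) (.node (0,0) .nil (.node (177,(.negSucc 0)) .nil .nil)) (.node (123,(.ofNat 1)) .nil .nil))))) (.node (8,(.negSucc 0)) (.node (0,0) (.node (0,0) (.node (0,0) (.node (0,0) .nil (.node (104,(.negSucc 0)) .nil .nil)) (.node (71,(.ofNat 1)) .nil (.node (199,(.ofNat 1)) .nil .nil))) (.node (39,(.ofNat 1)) (.node (0,0) .nil (.node (167,(.ofNat 1)) .nil .nil)) (.node (109,(.ofNat 1)) .nil (.node (232,(.ofNat 1)) .nil .nil)))) (.node (18,(.ofNat 1)) (.node (0,0) (.node (0,0) .nil (.node (146,(.negSucc 0)) .nil .nil)) (.node (87,(.ofNat 1)) .nil (.node (220,(.ofNat 1)) .nil .nil))) (.node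 (65,(.negSucc 0)) (.node (0,0) .nil (.node (193,(.ofNat 1)) .nil .nil)) (.node (119,(.ofNat 1)) .nil .nil)))) (.node (15,(.ofNat 1)) (.node (0,0) (.node (0,0) (.node (0,0) .nil (.node (148,(.ofNat 1)) .nil .nil)) (.node (79,(.ofNat 1)) .nil (.node (207,(.ofNat 1)) .nil .nil))) (.node (57,(.negSucc 0)) (.node (0,0) .nil (.node (185,(.ofNat 1)) .nil .nil)) (.node (111,(.ofNat 1)) .nil (.node (239,(.ofNat 1)) .nil .nil)))) (.node (31,(.ofNat 1)) (.node (0,0) (.node (0,0) .nil (.node (159,(.ofNat 1)) .nil .nil)) (.node (90,(.ofNat 1)) .nil (.node (218,(.negSucc 0)) .nil .nil))) (.node (53,(.ofNat 1)) (.node (0,0) .nil (.node (181,(.negSucc 0)) .nil .nil)) (.node (127,(.ofNat 1)) .nil .nil))))))))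
noncomputable def w1 : Trie (ℕ × ℤ) := (.node (0,(.ofNat 1)) (.node (0,0) (.node (0,0) (.node (0,0) (.node (0,0) (.node (0,0) (.node (0,0) (.node (0,0) .nil (.node (128,(.ofNat 1)) .nil .nil)) (.node (64,(.ofNat 1)) .nil (.node (192,(.ofNat 1)) .nil .nil))) (.node (42,(.negSucc 0)) (.node (0,0) .nil (.node (160,(.ofNat 1)) .nil .nil)) (.node (108,(.ofNat 1)) .nil (.node (225,(.ofNat 1)) .nil .nil)))) (.node (16,(.ofNat 1)) (.node (0,0) (.node (0,0) .nil (.node (132,(.ofNat 1)) .nil .nil)) (.node (80,(.ofNat 1)) .nil (.node (198,(.negSucc 0)) .nil .nil))) (.node (48,(.ofNat 1)) (.node (0,0) .nil (.node (176,(.ofNat 1)) .nil .nil)) (.node (112,(.ofNat 1)) .nil .nil)))) (.node (6,(.ofNat 1)) (.node (0,0) (.node (0,0) (.node (0,0) .nil (.node (147,(.ofNat 1)) .nil .nil)) (.node (67,(.ofNat 1)) .nil (.node (210,(.ofNat 1)) .nil .nil))) (.node (30,(.ofNat 1)) (.node (0,0) .nil (.node (173,(.ofNat 1)) .nil .nil)) (.node (104,(.ofNat 1)) .nil (.node (234,(.ofNat 1)) .nil .nil)))) (.node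 (24,(.ofNat 1)) (.node (0,0) (.node (0,0) .nil (.node (152,(.ofNat 1)) .nil .nil)) (.node (99,(.negSucc 0)) .nil (.node (216,(.ofNat 1)) .nil .nil))) (.node (56,(.ofNat 1)) (.node (0,0) .nil (.node (184,(.ofNat 1)) .nil .nil)) (.node (120,(.ofNat 1)) .nil .nil))))) (.node (4,(.ofNat 1)) (.node (0,0) (.node (0,0) (.node (0,0) (.node (0,0) .nil (.node (144,(.negSucc 0)) .nil .nil)) (.node (73,(.negSucc 0)) .nil (.node (206,(.ofNat 1)) .nil .nil))) (.node (26,(.ofNat 1)) (.node (0,0) .nil (.node (169,(.ofNat 1)) .nil .nil)) (.node (89,(.ofNat 1)) .nil (.node (228,(.ofNat 1)) .nil .nil)))) (.node (20,(.ofNat 1)) (.node (0,0) (.node (0,0) .nil (.node (137,(.negSucc 0)) .nil .nil)) (.node (84,(.ofNat 1)) .nil (.node (202,(.negSucc 0)) .nil .nil))) (.node (52,(.ofNat 1)) (.node (0,0) .nil (.node (180,(.ofNat 1)) .nil .nil)) (.node (116,(.ofNat 1)) .nil .nil)))) (.node (12,(.ofNat 1)) (.node (0,0) (.node (0,0) (.node (0,0) .nil (.node (151,(.ofNat 1)) .nil .nil)) (.node (76,(.ofNat 1))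 .nil (.node (194,(.negSucc 0)) .nil .nil))) (.node (34,(.ofNat 1)) (.node (0,0) .nil (.node (167,(.negSucc 0)) .nil .nil)) (.node (96,(.negSucc 0)) .nil (.node (236,(.ofNat 1)) .nil .nil)))) (.node (38,(.negSucc 0)) (.node (0,0) (.node (0,0) .nil (.node (156,(.ofNat 1)) .nil .nil)) (.node (103,(.negSucc 0)) .nil (.node (220,(.ofNat 1)) .nil .nil))) (.node (60,(.ofNat 1)) (.node (0,0) .nil (.node (188,(.ofNat 1)) .nil .nil)) (.node (124,(.ofNat 1)) .nil .nil)))))) (.node (2,(.ofNat 1)) (.node (0,0) (.node (0,0) (.node (0,0) (.node (0,0) (.node (0,0) .nil (.node (142,(.negSucc 0)) .nil .nil)) (.node (71,(.negSucc 0)) .nil (.node (204,(.ofNat 1)) .nil .nil))) (.node (44,(.negSucc 0)) (.node (0,0) .nil (.node (162,(.ofNat 1)) .nil .nil)) (.node (141,(.negSucc 0)) .nil (.node (226,(.ofNat 1)) .nil .nil)))) (.node (18,(.ofNat 1)) (.node (0,0) (.node (0,0) .nil (.node (134,(.ofNat 1)) .nil .nil)) (.node (82,(.ofNat 1)) .nil (.node (200,(.negSucc 0)) .nil .nil))) (.node (50,(.ofNat 1))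 (.node (0,0) .nil (.node (178,(.ofNat 1)) .nil .nil)) (.node (114,(.ofNat 1)) .nil .nil)))) (.node (10,(.ofNat 1)) (.node (0,0) (.node (0,0) (.node (0,0) .nil (.node (149,(.ofNat 1)) .nil .nil)) (.node (69,(.ofNat 1)) .nil (.node (212,(.ofNat 1)) .nil .nil))) (.node (32,(.ofNat 1)) (.node (0,0) .nil (.node (165,(.negSucc 0)) .nil .nil)) (.node (94,(.negSucc 0)) .nil (.node (232,(.negSucc 0)) .nil .nil)))) (.node (36,(.negSucc 0)) (.node (0,0) (.node (0,0) .nil (.node (154,(.ofNat 1)) .nil .nil)) (.node (101,(.negSucc 0)) .nil (.node (218,(.ofNat 1)) .nil .nil))) (.node (58,(.ofNat 1)) (.node (0,0) .nil (.node (186,(.ofNat 1)) .nil .nil)) (.node (122,(.ofNat 1)) .nil .nil))))) (.node (8,(.negSucc 0)) (.node (0,0) (.node (0,0) (.node (0,0) (.node (0,0) .nil (.node (146,(.negSucc 0)) .nil .nil)) (.node (75,(.negSucc 0)) .nil (.node (208,(.ofNat 1)) .nil .nil))) (.node (28,(.ofNat 1)) (.node (0,0) .nil (.node (171,(.ofNat 1)) .nil .nil)) (.node (91,(.ofNat 1)) .nil (.node (230,(.ofNat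 1)) .nil .nil)))) (.node (22,(.ofNat 1)) (.node (0,0) (.node (0,0) .nil (.node (139,(.negSucc 0)) .nil .nil)) (.node (86,(.ofNat 1)) .nil (.node (214,(.ofNat 1)) .nil .nil))) (.node (54,(.ofNat 1)) (.node (0,0) .nil (.node (182,(.ofNat 1)) .nil .nil)) (.node (118,(.ofNat 1)) .nil .nil)))) (.node (15,(.negSucc 0)) (.node (0,0) (.node (0,0) (.node (0,0) .nil (.node (130,(.ofNat 1)) .nil .nil)) (.node (78,(.ofNat 1)) .nil (.node (196,(.negSucc 0)) .nil .nil))) (.node (46,(.ofNat 1)) (.node (0,0) .nil (.node (174,(.ofNat 1)) .nil .nil)) (.node (110,(.ofNat 1)) .nil (.node (238,(.ofNat 1)) .nil .nil)))) (.node (40,(.negSucc 0)) (.node (0,0) (.node (0,0) .nil (.node (158,(.ofNat 1)) .nil .nil)) (.node (106,(.ofNat 1)) .nil (.node (222,(.ofNat 1)) .nil .nil))) (.node (62,(.ofNat 1)) (.node (0,0) .nil (.node (190,(.ofNat 1)) .nil .nil)) (.node (126,(.ofNat 1)) .nil .nil))))))) (.node (1,(.ofNat 1)) (.node (0,0) (.node (0,0) (.node (0,0) (.node (0,0) (.node (0,0) (.node (0,0) .nil (.node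 (129,(.ofNat 1)) .nil .nil)) (.node (65,(.ofNat 1)) .nil (.node (193,(.ofNat 1)) .nil .nil))) (.node (43,(.negSucc 0)) (.node (0,0) .nil (.node (161,(.ofNat 1)) .nil .nil)) (.node (109,(.ofNat 1)) .nil (.node (224,(.negSucc 0)) .nil .nil)))) (.node (17,(.ofNat 1)) (.node (0,0) (.node (0,0) .nil (.node (133,(.ofNat 1)) .nil .nil)) (.node (81,(.ofNat 1)) .nil (.node (199,(.negSucc 0)) .nil .nil))) (.node (49,(.ofNat 1)) (.node (0,0) .nil (.node (177,(.ofNat 1)) .nil .nil)) (.node (113,(.ofNat 1)) .nil .nil)))) (.node (9,(.ofNat 1)) (.node (0,0) (.node (0,0) (.node (0,0) .nil (.node (148,(.ofNat 1)) .nil .nil)) (.node (68,(.ofNat 1)) .nil (.node (211,(.ofNat 1)) .nil .nil))) (.node (31,(.ofNat 1)) (.node (0,0) .nil (.node (164,(.negSucc 0)) .nil .nil)) (.node (93,(.negSucc 0)) .nil (.node (231,(.negSucc 0)) .nil .nil)))) (.node (25,(.ofNat 1)) (.node (0,0) (.node (0,0) .nil (.node (153,(.ofNat 1)) .nil .nil)) (.node (100,(.negSucc 0)) .nil (.node (217,(.ofNat 1)) .nil .nil))) (.node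 (57,(.ofNat 1)) (.node (0,0) .nil (.node (185,(.ofNat 1)) .nil .nil)) (.node (121,(.ofNat 1)) .nil .nil))))) (.node (7,(.negSucc 0)) (.node (0,0) (.node (0,0) (.node (0,0) (.node (0,0) .nil (.node (145,(.negSucc 0)) .nil .nil)) (.node (74,(.negSucc 0)) .nil (.node (207,(.ofNat 1)) .nil .nil))) (.node (27,(.ofNat 1)) (.node (0,0) .nil (.node (170,(.ofNat 1)) .nil .nil)) (.node (90,(.ofNat 1)) .nil (.node (229,(.ofNat 1)) .nil .nil)))) (.node (21,(.ofNat 1)) (.node (0,0) (.node (0,0) .nil (.node (138,(.negSucc 0)) .nil .nil)) (.node (85,(.ofNat 1)) .nil (.node (203,(.negSucc 0)) .nil .nil))) (.node (53,(.ofNat 1)) (.node (0,0) .nil (.node (181,(.ofNat 1)) .nil .nil)) (.node (117,(.ofNat 1)) .nil .nil)))) (.node (13,(.ofNat 1)) (.node (0,0) (.node (0,0) (.node (0,0) .nil (.node (98,(.negSucc 0)) .nil .nil)) (.node (77,(.ofNat 1)) .nil (.node (195,(.negSucc 0)) .nil .nil))) (.node (35,(.ofNat 1)) (.node (0,0) .nil (.node (168,(.negSucc 0)) .nil .nil)) (.node (97,(.negSucc 0)) .nil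 (.node (237,(.ofNat 1)) .nil .nil)))) (.node (39,(.negSucc 0)) (.node (0,0) (.node (0,0) .nil (.node (157,(.ofNat 1)) .nil .nil)) (.node (105,(.ofNat 1)) .nil (.node (221,(.ofNat 1)) .nil .nil))) (.node (61,(.ofNat 1)) (.node (0,0) .nil (.node (189,(.ofNat 1)) .nil .nil)) (.node (125,(.ofNat 1)) .nil .nil)))))) (.node (3,(.ofNat 1)) (.node (0,0) (.node (0,0) (.node (0,0) (.node (0,0) (.node (0,0) .nil (.node (143,(.negSucc 0)) .nil .nil)) (.node (72,(.negSucc 0)) .nil (.node (205,(.ofNat 1)) .nil .nil))) (.node (45,(.negSucc 0)) (.node (0,0) .nil (.node (163,(.ofNat 1)) .nil .nil)) (.node (88,(.ofNat 1)) .nil (.node (227,(.ofNat 1)) .nil .nil)))) (.node (19,(.ofNat 1)) (.node (0,0) (.node (0,0) .nil (.node (136,(.negSucc 0)) .nil .nil)) (.node (83,(.ofNat 1)) .nil (.node (201,(.negSucc 0)) .nil .nil))) (.node (51,(.ofNat 1)) (.node (0,0) .nil (.node (179,(.ofNat 1)) .nil .nil)) (.node (115,(.ofNat 1)) .nil .nil)))) (.node (11,(.ofNat 1)) (.node (0,0) (.node (0,0) (.node (0,0)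 .nil (.node (150,(.ofNat 1)) .nil .nil)) (.node (70,(.ofNat 1)) .nil (.node (213,(.ofNat 1)) .nil .nil))) (.node (33,(.ofNat 1)) (.node (0,0) .nil (.node (166,(.negSucc 0)) .nil .nil)) (.node (95,(.negSucc 0)) .nil (.node (235,(.ofNat 1)) .nil .nil)))) (.node (37,(.negSucc 0)) (.node (0,0) (.node (0,0) .nil (.node (155,(.ofNat 1)) .nil .nil)) (.node (102,(.negSucc 0)) .nil (.node (219,(.ofNat 1)) .nil .nil))) (.node (59,(.ofNat 1)) (.node (0,0) .nil (.node (187,(.ofNat 1)) .nil .nil)) (.node (123,(.ofNat 1)) .nil .nil))))) (.node (5,(.ofNat 1)) (.node (0,0) (.node (0,0) (.node (0,0) (.node (0,0) .nil (.node (135,(.ofNat 1)) .nil .nil)) (.node (66,(.ofNat 1)) .nil (.node (209,(.ofNat 1)) .nil .nil))) (.node (29,(.ofNat 1)) (.node (0,0) .nil (.node (172,(.ofNat 1)) .nil .nil)) (.node (92,(.ofNat 1)) .nil (.node (233,(.ofNat 1)) .nil .nil)))) (.node (23,(.ofNat 1)) (.node (0,0) (.node (0,0) .nil (.node (140,(.negSucc 0)) .nil .nil)) (.node (87,(.ofNat 1)) .nil (.node (215,(.ofNat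 1)) .nil .nil))) (.node (55,(.ofNat 1)) (.node (0,0) .nil (.node (183,(.ofNat 1)) .nil .nil)) (.node (119,(.ofNat 1)) .nil .nil)))) (.node (14,(.ofNat 1)) (.node (0,0) (.node (0,0) (.node (0,0) .nil (.node (131,(.ofNat 1)) .nil .nil)) (.node (79,(.ofNat 1)) .nil (.node (197,(.negSucc 0)) .nil .nil))) (.node (47,(.ofNat 1)) (.node (0,0) .nil (.node (175,(.ofNat 1)) .nil .nil)) (.node (111,(.ofNat 1)) .nil (.node (239,(.ofNat 1)) .nil .nil)))) (.node (41,(.negSucc 0)) (.node (0,0) (.node (0,0) .nil (.node (159,(.ofNat 1)) .nil .nil)) (.node (107,(.ofNat 1)) .nil (.node (223,(.ofNat 1)) .nil .nil))) (.node (63,(.ofNat 1)) (.node (0,0) .nil (.node (191,(.ofNat 1)) .nil .nil)) (.node (127,(.ofNat 1)) .nil .nil))))))))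
noncomputable def w0 : Trie (ℕ × ℤ) := (.node (0,(.ofNat 1)) (.node (0,0) (.node (0,0) (.node (0,0) (.node (0,0) (.node (0,0) (.node (0,0) (.node (0,0) .nil (.node (128,(.ofNat 1)) .nil .nil)) (.node (86,(.ofNat 1)) .nil (.node (192,(.ofNat 1)) .nil .nil))) (.node (32,(.ofNat 1)) (.node (0,0) .nil (.node (182,(.negSucc 0)) .nil .nil)) (.node (96,(.ofNat 1)) .nil (.node (231,(.ofNat 1)) .nil .nil)))) (.node (9,(.ofNat 1)) (.node (0,0) (.node (0,0) .nil (.node (144,(.ofNat 1)) .nil .nil)) (.node (58,(.negSucc 0)) .nil (.node (208,(.ofNat 1)) .nil .nil))) (.node (48,(.ofNat 1)) (.node (0,0) .nil (.node (154,(.ofNat 1)) .nil .nil)) (.node (112,(.ofNat 1)) .nil .nil)))) (.node (15,(.negSucc 0)) (.node (0,0) (.node (0,0) (.node (0,0) .nil (.node (164,(.negSucc 0)) .nil .nil)) (.node (100,(.ofNat 1)) .nil (.node (200,(.ofNat 1)) .nil .nil))) (.node (40,(.ofNat 1)) (.node (0,0) .nil (.node (140,(.ofNat 1)) .nil .nil)) (.node (76,(.negSucc 0)) .nil (.node (232,(.ofNat 1)) .nil .nil))))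 (.node (24,(.ofNat 1)) (.node (0,0) (.node (0,0) .nil (.node (174,(.negSucc 0)) .nil .nil)) (.node (66,(.negSucc 0)) .nil (.node (216,(.ofNat 1)) .nil .nil))) (.node (78,(.ofNat 1)) (.node (0,0) .nil (.node (184,(.ofNat 1)) .nil .nil)) (.node (120,(.ofNat 1)) .nil .nil))))) (.node (4,(.ofNat 1)) (.node (0,0) (.node (0,0) (.node (0,0) (.node (0,0) .nil (.node (132,(.ofNat 1)) .nil .nil)) (.node (90,(.ofNat 1)) .nil (.node (196,(.ofNat 1)) .nil .nil))) (.node (36,(.ofNat 1)) (.node (0,0) .nil (.node (136,(.ofNat 1)) .nil .nil)) (.node (72,(.negSucc 0)) .nil (.node (221,(.negSucc 0)) .nil .nil)))) (.node (13,(.ofNat 1)) (.node (0,0) (.node (0,0) .nil (.node (170,(.negSucc 0)) .nil .nil)) (.node (62,(.negSucc 0)) .nil (.node (212,(.ofNat 1)) .nil .nil))) (.node (52,(.ofNat 1)) (.node (0,0) .nil (.node (158,(.ofNat 1)) .nil .nil)) (.node (116,(.ofNat 1)) .nil .nil)))) (.node (19,(.negSucc 0)) (.node (0,0) (.node (0,0) (.node (0,0) .nil (.node (168,(.negSucc 0)) .nil .nil)) (.node (104,(.ofNat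 1)) .nil (.node (204,(.ofNat 1)) .nil .nil))) (.node (44,(.ofNat 1)) (.node (0,0) .nil (.node (150,(.ofNat 1)) .nil .nil)) (.node (108,(.ofNat 1)) .nil (.node (236,(.ofNat 1)) .nil .nil)))) (.node (28,(.ofNat 1)) (.node (0,0) (.node (0,0) .nil (.node (178,(.negSucc 0)) .nil .nil)) (.node (70,(.negSucc 0)) .nil (.node (227,(.ofNat 1)) .nil .nil))) (.node (82,(.ofNat 1)) (.node (0,0) .nil (.node (188,(.ofNat 1)) .nil .nil)) (.node (124,(.ofNat 1)) .nil .nil)))))) (.node (2,(.ofNat 1)) (.node (0,0) (.node (0,0) (.node (0,0) (.node (0,0) (.node (0,0) .nil (.node (130,(.ofNat 1)) .nil .nil)) (.node (88,(.ofNat 1)) .nil (.node (194,(.ofNat 1)) .nil .nil))) (.node (34,(.ofNat 1)) (.node (0,0) .nil (.node (77,(.negSucc 0)) .nil .nil)) (.node (98,(.ofNat 1)) .nil (.node (219,(.negSucc 0)) .nil .nil)))) (.node (11,(.ofNat 1)) (.node (0,0) (.node (0,0) .nil (.node (146,(.ofNat 1)) .nil .nil)) (.node (60,(.negSucc 0)) .nil (.node (210,(.ofNat 1)) .nil .nil))) (.node (50,(.ofNat 1)) (.node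 (0,0) .nil (.node (156,(.ofNat 1)) .nil .nil)) (.node (114,(.ofNat 1)) .nil .nil)))) (.node (17,(.negSucc 0)) (.node (0,0) (.node (0,0) (.node (0,0) .nil (.node (166,(.negSucc 0)) .nil .nil)) (.node (102,(.ofNat 1)) .nil (.node (202,(.ofNat 1)) .nil .nil))) (.node (42,(.ofNat 1)) (.node (0,0) .nil (.node (148,(.ofNat 1)) .nil .nil)) (.node (106,(.ofNat 1)) .nil (.node (234,(.ofNat 1)) .nil .nil)))) (.node (26,(.ofNat 1)) (.node (0,0) (.node (0,0) .nil (.node (176,(.negSucc 0)) .nil .nil)) (.node (68,(.negSucc 0)) .nil (.node (218,(.ofNat 1)) .nil .nil))) (.node (80,(.ofNat 1)) (.node (0,0) .nil (.node (186,(.ofNat 1)) .nil .nil)) (.node (122,(.ofNat 1)) .nil .nil))))) (.node (14,(.negSucc 0)) (.node (0,0) (.node (0,0) (.node (0,0) (.node (0,0) .nil (.node (134,(.ofNat 1)) .nil .nil)) (.node (92,(.ofNat 1)) .nil (.node (198,(.ofNat 1)) .nil .nil))) (.node (38,(.ofNat 1)) (.node (0,0) .nil (.node (138,(.ofNat 1)) .nil .nil)) (.node (74,(.negSucc 0)) .nil (.node (223,(.negSucc 0))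 .nil .nil)))) (.node (22,(.ofNat 1)) (.node (0,0) (.node (0,0) .nil (.node (172,(.negSucc 0)) .nil .nil)) (.node (64,(.negSucc 0)) .nil (.node (214,(.ofNat 1)) .nil .nil))) (.node (54,(.ofNat 1)) (.node (0,0) .nil (.node (160,(.ofNat 1)) .nil .nil)) (.node (118,(.ofNat 1)) .nil .nil)))) (.node (6,(.ofNat 1)) (.node (0,0) (.node (0,0) (.node (0,0) .nil (.node (142,(.ofNat 1)) .nil .nil)) (.node (56,(.negSucc 0)) .nil (.node (206,(.ofNat 1)) .nil .nil))) (.node (46,(.ofNat 1)) (.node (0,0) .nil (.node (152,(.ofNat 1)) .nil .nil)) (.node (110,(.ofNat 1)) .nil (.node (238,(.ofNat 1)) .nil .nil)))) (.node (30,(.ofNat 1)) (.node (0,0) (.node (0,0) .nil (.node (180,(.negSucc 0)) .nil .nil)) (.node (94,(.ofNat 1)) .nil (.node (229,(.ofNat 1)) .nil .nil))) (.node (84,(.ofNat 1)) (.node (0,0) .nil (.node (190,(.ofNat 1)) .nil .nil)) (.node (126,(.ofNat 1)) .nil .nil))))))) (.node (1,(.ofNat 1)) (.node (0,0) (.node (0,0) (.node (0,0) (.node (0,0) (.node (0,0) (.node (0,0) .nil (.node (129,(.ofNat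 1)) .nil .nil)) (.node (87,(.ofNat 1)) .nil (.node (193,(.ofNat 1)) .nil .nil))) (.node (33,(.ofNat 1)) (.node (0,0) .nil (.node (183,(.negSucc 0)) .nil .nil)) (.node (97,(.ofNat 1)) .nil (.node (233,(.ofNat 1)) .nil .nil)))) (.node (10,(.ofNat 1)) (.node (0,0) (.node (0,0) .nil (.node (145,(.ofNat 1)) .nil .nil)) (.node (59,(.negSucc 0)) .nil (.node (209,(.ofNat 1)) .nil .nil))) (.node (49,(.ofNat 1)) (.node (0,0) .nil (.node (155,(.ofNat 1)) .nil .nil)) (.node (113,(.ofNat 1)) .nil .nil)))) (.node (16,(.negSucc 0)) (.node (0,0) (.node (0,0) (.node (0,0) .nil (.node (165,(.negSucc 0)) .nil .nil)) (.node (101,(.ofNat 1)) .nil (.node (201,(.ofNat 1)) .nil .nil))) (.node (41,(.ofNat 1)) (.node (0,0) .nil (.node (147,(.ofNat 1)) .nil .nil)) (.node (105,(.ofNat 1)) .nil (.node (225,(.negSucc 0)) .nil .nil)))) (.node (25,(.ofNat 1)) (.node (0,0) (.node (0,0) .nil (.node (175,(.negSucc 0)) .nil .nil)) (.node (67,(.negSucc 0)) .nil (.node (217,(.ofNat 1)) .nil .nil))) (.node (79,(.ofNat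 1)) (.node (0,0) .nil (.node (185,(.ofNat 1)) .nil .nil)) (.node (121,(.ofNat 1)) .nil .nil))))) (.node (5,(.ofNat 1)) (.node (0,0) (.node (0,0) (.node (0,0) (.node (0,0) .nil (.node (133,(.ofNat 1)) .nil .nil)) (.node (91,(.ofNat 1)) .nil (.node (197,(.ofNat 1)) .nil .nil))) (.node (37,(.ofNat 1)) (.node (0,0) .nil (.node (137,(.ofNat 1)) .nil .nil)) (.node (73,(.negSucc 0)) .nil (.node (222,(.negSucc 0)) .nil .nil)))) (.node (21,(.ofNat 1)) (.node (0,0) (.node (0,0) .nil (.node (171,(.negSucc 0)) .nil .nil)) (.node (63,(.negSucc 0)) .nil (.node (213,(.ofNat 1)) .nil .nil))) (.node (53,(.ofNat 1)) (.node (0,0) .nil (.node (159,(.ofNat 1)) .nil .nil)) (.node (117,(.ofNat 1)) .nil .nil)))) (.node (20,(.negSucc 0)) (.node (0,0) (.node (0,0) (.node (0,0) .nil (.node (141,(.ofNat 1)) .nil .nil)) (.node (162,(.negSucc 0)) .nil (.node (205,(.ofNat 1)) .nil .nil))) (.node (45,(.ofNat 1)) (.node (0,0) .nil (.node (151,(.ofNat 1)) .nil .nil)) (.node (109,(.ofNat 1)) .nil (.node (237,(.ofNat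 1)) .nil .nil)))) (.node (29,(.ofNat 1)) (.node (0,0) (.node (0,0) .nil (.node (179,(.negSucc 0)) .nil .nil)) (.node (93,(.ofNat 1)) .nil (.node (228,(.ofNat 1)) .nil .nil))) (.node (83,(.ofNat 1)) (.node (0,0) .nil (.node (189,(.ofNat 1)) .nil .nil)) (.node (125,(.ofNat 1)) .nil .nil)))))) (.node (3,(.ofNat 1)) (.node (0,0) (.node (0,0) (.node (0,0) (.node (0,0) (.node (0,0) .nil (.node (131,(.ofNat 1)) .nil .nil)) (.node (89,(.ofNat 1)) .nil (.node (195,(.ofNat 1)) .nil .nil))) (.node (35,(.ofNat 1)) (.node (0,0) .nil (.node (135,(.ofNat 1)) .nil .nil)) (.node (71,(.negSucc 0)) .nil (.node (220,(.negSucc 0)) .nil .nil)))) (.node (12,(.ofNat 1)) (.node (0,0) (.node (0,0) .nil (.node (169,(.negSucc 0)) .nil .nil)) (.node (61,(.negSucc 0)) .nil (.node (211,(.ofNat 1)) .nil .nil))) (.node (51,(.ofNat 1)) (.node (0,0) .nil (.node (157,(.ofNat 1)) .nil .nil)) (.node (115,(.ofNat 1)) .nil .nil)))) (.node (18,(.negSucc 0)) (.node (0,0) (.node (0,0) (.node (0,0) .nil (.node (167,(.negSucc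 0)) .nil .nil)) (.node (103,(.ofNat 1)) .nil (.node (203,(.ofNat 1)) .nil .nil))) (.node (43,(.ofNat 1)) (.node (0,0) .nil (.node (149,(.ofNat 1)) .nil .nil)) (.node (107,(.ofNat 1)) .nil (.node (235,(.ofNat 1)) .nil .nil)))) (.node (27,(.ofNat 1)) (.node (0,0) (.node (0,0) .nil (.node (177,(.negSucc 0)) .nil .nil)) (.node (69,(.negSucc 0)) .nil (.node (226,(.ofNat 1)) .nil .nil))) (.node (81,(.ofNat 1)) (.node (0,0) .nil (.node (187,(.ofNat 1)) .nil .nil)) (.node (123,(.ofNat 1)) .nil .nil))))) (.node (7,(.ofNat 1)) (.node (0,0) (.node (0,0) (.node (0,0) (.node (0,0) .nil (.node (163,(.negSucc 0)) .nil .nil)) (.node (99,(.ofNat 1)) .nil (.node (199,(.ofNat 1)) .nil .nil))) (.node (39,(.ofNat 1)) (.node (0,0) .nil (.node (139,(.ofNat 1)) .nil .nil)) (.node (75,(.negSucc 0)) .nil (.node (224,(.negSucc 0)) .nil .nil)))) (.node (23,(.ofNat 1)) (.node (0,0) (.node (0,0) .nil (.node (173,(.negSucc 0)) .nil .nil)) (.node (65,(.negSucc 0)) .nil (.node (215,(.ofNat 1)) .nil .nil))) (.node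 (55,(.ofNat 1)) (.node (0,0) .nil (.node (161,(.ofNat 1)) .nil .nil)) (.node (119,(.ofNat 1)) .nil .nil)))) (.node (8,(.ofNat 1)) (.node (0,0) (.node (0,0) (.node (0,0) .nil (.node (143,(.ofNat 1)) .nil .nil)) (.node (57,(.negSucc 0)) .nil (.node (207,(.ofNat 1)) .nil .nil))) (.node (47,(.ofNat 1)) (.node (0,0) .nil (.node (153,(.ofNat 1)) .nil .nil)) (.node (111,(.ofNat 1)) .nil (.node (239,(.ofNat 1)) .nil .nil)))) (.node (31,(.ofNat 1)) (.node (0,0) (.node (0,0) .nil (.node (181,(.negSucc 0)) .nil .nil)) (.node (95,(.ofNat 1)) .nil (.node (230,(.ofNat 1)) .nil .nil))) (.node (85,(.ofNat 1)) (.node (0,0) .nil (.node (191,(.ofNat 1)) .nil .nil)) (.node (127,(.ofNat 1)) .nil .nil))))))))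
noncomputable def w : Trie (Trie (ℕ × ℤ)) := (.node w0 (.node .nil (.node .nil .nil (.node w4 .nil .nil)) (.node w2 .nil (.node w6 .nil .nil))) (.node w1 (.node .nil .nil (.node w5 .nil .nil)) (.node w3 .nil (.node w7 .nil .nil))))
noncomputable def chi : Trie ℕ := (.node 886444113714073502021243212432208779753351666181226079349250828043740167017062450826409494259339033601225193755665000308861193228447124500066536375483382873895899845540671106458430060134920434278603178359666303453477 (.node 0 (.node 0 (.node 0 (.node 0 (.node 0 (.node 0 (.node 0 .nil (.node 2449864717289791701113378359519523534095714786817919071153296843860014790722499790578146744607194383430131476428206412728369789121664963116287571427680776088991311500743103112442555835474570043086899080988764226307795 .nil .nil)) (.node 2352907215409477604789125974122967843919766719521046727589385858409092006615931939429427467658994936928583577854003336729423791604110160864088525734891591531857980671910370887865418632821100605013752988129518186252059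 .nil (.node 3064101636206064794081745960050244496561978779956704493657259962090402331503911900886536524246238090770887544963087188094459062774219598370498601610909118388371255459476234380488285126608259219141339894869187221075610 .nil .nil))) (.node 2266704149359587944861160960402495105461484209880863092260777575465568384755394377074335957263519588178380598987886913731625670815642318972865884271913316645585703038807453277614529334329757410355087729148761113511715 (.node 0 .nil (.node 3064080261033632882739106489458594143313525279440871786072192916317843923211877416898467368336306613498165082333852058129200194980668475745124312839405975039043672676859210557286796510543202355692457607559915487737498 .nil .nil)) (.node 2362502074442548363556567604441742782368173121752077768836735648776418645204259343917070588812818860500508136271851342462124486821621383757212546534026730683114437649064083751401313614021931795971003081866759405418715 .nil (.node 3151777616719089996166139306958821527932480029912479438978548389480483037748402722497737736989275911149637844065899170926984885623005164346500563563425233540817169898616641626032846588629133929757030945564799536047250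 .nil .nil)))) (.node 1576071642845834167795497231696657319553912036369695581319033991493333164357274364206249936134385969475390085666382387602171095704137822539677104140677780578724186852264111002140216929385504753344319089314440141486372 (.node 0 (.node 0 .nil (.node 2374626029456573117727274943654326604959295900683995292351855108358017189999297895813361420925369284317297275872484427604699183602913556457930566076846936623483334565181303957320181261534595124296809420079853875082907 .nil .nil)) (.node 2266896145053629180048569875406938341191898840641089450743675794827670612410864376846065880046925310214380030007134918836940944135751937403425355212549403066550233790142320498047045187546084871183045164836484950112035 .nil (.node 3064272256727674117926515404463037379043939910201098144555091135679946150867347416670197291119712335534164513353100063234515468300778094175683783780042061460008203428194077777719312363759529816520415043247639324337818 .nil .nil))) (.node 2266874769881197268705930404815287987943445340125256743158608749055112204118829892857996724136993832941657567377899788871682076342200814778051066441046259717222651007525296674845556571481028007734162877527213216773923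 (.node 0 .nil (.node 2450204032747053701352085349667233792505567390358795576021832247439191316977176174086441481705283196519343214135733749948572131605058655016239185928747533817392071617663997312768059192487840549085809186356786004338387 .nil .nil)) (.node 2353246530866739605027832964270678102329619323061923232457921261988268532870608322937722204757083750017795315561530673949626134087503852764040140235958349260258740788831265088190921989834371111012663093497539964282651 .nil .nil)))) (.node 1575921646049521825826546127506002177910104202401846077581782625376036420993871103958611394229067516492157661918766173858531540969476466123053321746744693053656956560350394123763085042497855217882373844537882077940004 (.node 0 (.node 0 (.node 0 .nil (.node 2364016987803412798931453748443635169366998658860045933575062646467781213880279342697271672038468601181822463780178693658527907467387369855927555570267569845185374914522723728750369743880141237294041064492780420703963 .nil .nil)) (.node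 2277668527576259021403022558257770914783347833387122948787944122907094405892730044664642143977169837815749377298281351605753186085358754205731520384057752066350003736348571732743044058881125686223663327220607835027171 .nil (.node 2462152764620420907309538316741761107096289520911209294360379407931112485172387685628971022704864337205493069214518665262427468718691749254121634631733252053619883818220891628835204102469256100982307609706285820130451 .nil .nil))) (.node 1588043675477589932546421568040710493947157324385852804169775141357723853316715007795875429692758263871604602446900845941195769181045339113352591452365770579152717655952821735545401572721247857448939991362094119110372 (.node 0 .nil (.node 3053307878511003041384653806607761569722076286694838288027924588238420129730011749079891104406062085896795735042705625360387953031061658942818147667897626039243902730652959322590797639208161540651839445175792602822362 .nil .nil)) (.node 2363832271761511365030182790211843678119393407422129086722519734506034988225397744006716001085193279443205465952102864870628073859755617030250112133835444274355981836358028899422693774134497445807308970386459256829659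 .nil (.node 3151798991891521907508778777550471881180933530428312146563615435253041446040437206485806892899207388422360306695134300892243753416556286971874852334928376890144752681233665449234335204694190793205913232874071269385362 .nil .nil)))) (.node 1662104088374114503878692801004337175530233415765485565749811100847312966854376410777680679656387073462316096142485935459912810966047168625714563434523112393359516516649185215160078990725577350623909199916745110964508 (.node 0 (.node 0 .nil (.node 2365365883261716134830055375757998299402302583858730601694299596069733520429255350263912512630139135467222139030328464403537876727695442807107771108077010568123500958106002801489094136967057260288236665225491883336923 .nil .nil)) (.node 1674373437565403375649866316682312514246724510530142438723440801046074697776426698351509529434760911894975343358899939657464108340900115085405976700574861226291506977837639806835383024745913035361428016421255093565148 .nil (.node 3141007159782416802262518522785864460895100694114356737861407005000970356738731702738188269707891059985610695847251151218083112243121647254613148229116012955890535772925182985473398834583363803475652974569559079625938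 .nil .nil))) (.node 1588209693380151032022706084728239750910678936495136300788865189447134115443758999009435672326737470267519254705078426392589220566503252260887384950797169018285528877828182640155733309492541275777782373255403671762660 (.node 0 .nil (.node 2365387258434148046172694846349648652650756084374563309279366641842291928721289834251981668540070612739944601659563594368796744521246565432482059879580153917451083740723026624690582753032114123737118952534763616675035 .nil .nil)) (.node 2967125436186410363332507133109426572101947073331198799859896112767143583869506442260821818978742528926637300818985863759006683034490956440156905980119206699541342774354168231193803690980439407910304089796929569797858 .nil .nil))))) (.node 1575732327388572167556790241548947061144059432828819076450498587914156638102597980697955199036297156386178347958855050381968753220744130639725489639611022850323426735343216801814713572372234247345408983946418363455780 (.node 0 (.node 0 (.node 0 (.node 0 .nil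 (.node 2374602728698184558933803574384800745156772743220251787839661118985547669235068763766265468366578130607232614170750884579529847239639134122137527468144664859282615962049487539982141528180267572088686941381699713250971 .nil .nil)) (.node 2353054535172698369840424049266234866599204692301696873975023042626166305215138323165992281973678027981795884542282668844310860767394234333480669295322262839294210037496397867758406136618043650184705657809816127682331 .nil (.node 3054822791871867476759539950609653956720901823802806452766251585929782698406031747860092187631711826578110062551032976556791373676827645041533156704138465201314839996111599299939853769066370981974877427801813618107610 .nil .nil))) (.node 1577439236443477838119085300555282683873299600697013599671723804967621434434087979249886205045352619103492106486430406683687447186619735168999969616487948433358894752136723999596285555446771149496404402260163215341348 (.node 0 .nil (.node 2364019664836504375849106777491023288331368520047245290926676828368003658644476219208345399629103963111842580839515575287280393038764652803159194403769986062816375840850413627234514126970847727585033639589040542820059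 .nil .nil)) (.node 2277671204609350598320675587305159033747717694574322306139558304807316850656926921175715871567805199745769494357618233234505671656736037152963159217560168283981004662676261631227188441971832176514655902316867957143267 .nil (.node 3141028534954848713605157993377514814143554194630189445446474050773528765030766186726257425617822537258333158476486281183341980036672769879987437000619156305218118555542206808674887450648420666924535261878830812964050 .nil .nil)))) (.node 2265359856520332833331044260813395600944619803017288578420281751363749635442809894077795640911344092260343239869572437675278655696434828679336057404805420555151713742066656697496500441622818566411124894901192201488675 (.node 0 (.node 0 .nil (.node 2365218563498495369778757300614731276722864611078080455308662411852659221830048966527347698315456044414009832342049132288650807564411369337715627547646339260687271592519975821596106633170114215117283995545193941906651 .nil .nil)) (.node 1674226117802182610598568241539045491567286537749492292337803616829000399177220314614944715120077820841763036670620607542577039177616041616013833140144189918855277612251612826942395520948969990190475346740957152134876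 .nil (.node 3140859840019196037211220447642597438215662721333706591475769820783896058139525319001623455393207968932398389158971819103196043079837573785221004668685341648454306407339156005580411330786420758304700304889261138195666 .nil .nil))) (.node 1674204742629750699255928770947395138318833037233659584752736571056441990885185830626875559210146343569040574041385477577318171384064918990639544368641046569527694829634589003740906904883913126741593059431685418796764 (.node 0 .nil (.node 3054656773969306377283255433922124699757380211693522956147161537840372436278987756646531944997732620182195410292855396105397922291369731893998363205707066762182028774236238395329522032295077563646035045908504065455322 .nil .nil)) (.node 2354424805803433617081665147172248349882962117816214249679327038000677020056148814720702278475280039539918022421667569554579697821253429910035173604634846911559918863696700763698619145770016536627783545851799323653403 .nil .nil)))) (.node 1662082713201682592536053330412686822281779915249652858164744055074754558562341926789611523746455596189593633513250805494653943172496046000340274663019969044031933734032161391958590374660520487175026912607473377626396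 (.node 0 (.node 0 (.node 0 .nil (.node 3053305201477911464467000777560373450757706425507638930676310406338197684965814872568817376815426723966775617983368743731635467459684375995586508834395209821612901804325269424106653256117455050360846870079532480706266 .nil .nil)) (.node 2363829594728419788112529761164455559155023546234929729370905552605812543461200867495642273494557917513185348892765983241875588288378334083018473300333028056724980910030339000938549391043790955516316395290199134713563 .nil (.node 2376162317989869464444800558247869345206574938307796164675249151821938166967352378581631660060950502271334066010046908766361472042230665182019863884590919134881854613256967757870726007457861429068729690015146623706267 .nil .nil))) (.node 2276153614215394586028136414255878527784522296279154784049617125215731837216710045884441060751520097134435049789954000409349765439592768107016511347816912904279066470889931755393987929022916244900625344594586819741923 (.node 0 .nil (.node 2450056712983832936300787274523966769826129417578145429636195063222117018377969790349876667390600105466130907447454417833685062441774581546847042368316862509955842252077970332875071688690897503914856516676488062908115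 .nil .nil)) (.node 2362525375200936922350038973711268642170696279215821273348929638148888165968488475964166541371610014210572797973584885487293823184895806093005585142729002447315156252195900168739353347376259348179125560564913567250651 .nil (.node 3153147887349825243407380404864835011216237455426996814682852384854993752589413214052447733490877922707759981945284071637253722676864359923055067872737817613082878724816944521973059597781106816200108833606782732018322 .nil .nil)))) (.node 1662251408137335268929990876147604198209671388546135712135448285064387265453582794514245493971070164515528402830765267574799880129331242095106706994953783700795745882235212195053066494522520395794861869597043052394780 (.node 0 (.node 0 .nil (.node 2375970322295828229257391643243426109476160307547569806192350932459835939311882378809901737277544780235334634990798903661046198722121046751460392943954832713917323861922100537438210154241533968240772254327422787105947 .nil .nil)) (.node 2363661651239902041185413345799050795637432277177735435824688560916491168861962228223055234211719034679928497562089989730571668333197121225064929964702501202719033867640185502191666536983226848428233822008007153567451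 .nil (.node 3065616549566929229456632104052136883560804317064672658395586959781764900179931899666737607471887831452201872471414539290862483419985584469213610647149957550442192724934874357837341256466468660464377877495208236360858 .nil .nil))) (.node 2276319632117955685504420930943407784748043908388438280668707173305142099343754037098001303385499303530349702048131580860743216825050681254551304846248311343411877692765292660004319665794209663229467726487896372394211 (.node 0 .nil (.node 2375991697468260140600031113835076462724613808063402513777417978232394347603916862797970893187476257508057097620034033626305066515672169376834681715457976063244906644539124360639698770306590831689654541636694520444059 .nil .nil)) (.node 2448686442353097689059546176617953286542371992063628053931891067847606303536959298795166670888998093908008769568069517123416225387915385970292538059004278437690133425877667436934858679538924617471778628634504866937043 .nil .nil)))))) (.node 1565127888354460073129453974063519251070201709139979871952447251524054219219970952151965974388891511618065851998384611124460431226318526695372867803733200704529603831527119065865597555097757539392873394844487459686756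 (.node 0 (.node 0 (.node 0 (.node 0 (.node 0 .nil (.node 2363998289664072464506467306899372935082915019531412583341609782595445250352441735220276243719172485839120118210280445322021525245213530177784905632266842713488793058233389804033025510905790864136151352279768809481947 .nil .nil)) (.node 1674370760532311798732213287634924395282354649342943081371826619145852253012229821840435801844125549964955226299563058028711622769522832138174337867072445008660506051509949908351238641655206545070435441324994971449052 .nil (.node 2376139017231480905651329188978343485404051780844052660163055162449468646203123246534535707502159348561269404308313365741192135678956242846226825275888647370681136010125151340532686274103533876860607211316992461874331 .nil .nil))) (.node 2276130313457006027234665044986352667981999138815411279537423135843262316452480913837345108192728943424370388088220457384180429076318345771223472739114641140078347867758115338055948195668588692692502865896432657909987 (.node 0 .nil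 (.node 2363853646933943276372822260803494031367846907937961794307586780278593396517432227994785156995124756715927928581337994835886941653306739655624400905338587623683564618975052722624182390199554309256191257695730990167771 .nil .nil)) (.node 2363827669142463140661697862486580052600953889287018932443778609005901430989006219436615476845698241075843149820267570181965119718655034372599723463133899641851845089515546406801998273754520266757076203901316706219739 .nil (.node 2462344760314462142496947231746204342826704151671435652843277627293214712827857685400700945488270059241492500233766670367742742038801367684681105572369338474584414569555758849267719955685583561810265045394009656730771 .nil .nil)))) (.node 1586676081879946262222833499182085129627769760058534785817085327883435583239901392752239160781791614243502581626852826859679417698563426484029725976555602724518009756080208738089332946659981461296854678416371045255396 (.node 0 (.node 0 .nil (.node 3053309804096959688835485705285637076276145943642749084955051531838331242202206397138917901054921762334137934115204038420298421600784958653236897505096754454117038551167751916727348756497432229411079636564675031316186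 .nil .nil)) (.node 2276322309151047262422073959990795903712413769575637638020321355205364544107950913609075030976134665460369819107468462489495702396427964201782943679750727561042878619092982558488464048884916153520460301584156494510307 .nil (.node 2462176065378809466103009686011286966898812678374952798872573397303582005936616817676066975263655490915557730916252208287596805081966171589914673240435523817820602421352708046173243835823583653190430088404439981962387 .nil .nil))) (.node 2276300933978615351079434489399145550463960269059804930435254309432806135815916429621005875066203188187647356478233332524236834602876841576408654908247584211715295836475958735286975432819859290071578014274884761172195 (.node 0 .nil (.node 2375972999328919806175044672290814228440530168734769163543965114360058384076079255320975464868180142165354752050135785289798684293498329698692031777457248931548324788249790435922354537332240458531764829423682909222043 .nil .nil)) (.node 1675741031163047045973454385540937878566112074857460457076130614520362967853240313395145798345727561523077364178947958738980459823382027714728842176385029080926214877710252804291451650807179431513513329366978167420124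 .nil .nil)))) (.node 1577247240749436602931676385550839448142884969936787241188825585605519206778617979478156282261946897067492675467182401578372173866510116738440498675851862012394364000801856779163769702230443688668446966572439378741028 (.node 0 (.node 0 (.node 0 .nil (.node 2374621426837524893358790015929062979440856382548885138073113982857883632762906371243260896685874245949934959740649132916036229461812973800280177406145391990979197818338821464699485761154617945246576653594711324472987 .nil .nil)) (.node 2362504000028505011007399503119618288922242778699988565763862592376329757676453991976097385461678536937850335344349755522034955391344683467631296371225859097987573469578876345537864731311202484730243273255641833912539 .nil (.node 3140836539260807478417749078373071578413139563869963086963575831411426537375296186954527502834416815222333727457238276078026706716563151449427966059983069884253587804207339588242371597432093206096577826191106976363730 .nil .nil))) (.node 2266727450117976503654632329672020965264007367344606596772971564838037905519623509121431909822310741888445260689620456756795007178916741308658922880615588409786421641939269694952569067684084962563210207846915275343651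 (.node 0 .nil (.node 2365221240531586946696410329662119395687234472265279812660276593752881666594245843038421425906091406344029949401386013917403293135788652284947266381148755478318272518847665720080251016260820705408276570641454064022747 .nil .nil)) (.node 2277689902748690932745662028849421268031801333902955656373011168679652814184764528652711299887101315088471839927516481571012053878909876831105809155560895415677586518965595555944532674946182549672545614529879568365283 .nil (.node 3151822292649910466302250146819997740983456687892055651075809424625510966804666338532902845457998542132424968396867843917413089779830709307667890943630648654345471284365481866572374938048518345414035711572225431217298 .nil .nil)))) (.node 1577415935685089279325613931285756824070776443233270095159529815595151913669858847202790252486561465393427444784696863658518110823345312833206931007785676669158176149004907582258245822092443597288281923562009053509412 (.node 0 (.node 0 .nil (.node 2450201355713962124434432320619845673541197529171596218670218065538968872212979297575367754114647834589323097076396868319819646033681372069007547095245117599761070691336307414283914809397134058794816611260525882222291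 .nil .nil)) (.node 2353057212205789946758077078313622985563574553488896231326637224526388749979335199677066009564313389911816001601619550473063346338771517280712308128824679056925210963824087766242550519708750140475698232906076249798427 .nil (.node 3151611598816528896689854790271292270968958417803195942359458341391072775621358731284177494355296704753723191807721590475591434237547251198965770064993835101684358676741280721422514851857840511428188563671489983394962 .nil .nil))) (.node 2266893468020537603130916846359550222227528979453890093392061612927448167646667500334992152456289948284359912947798037208188458564374654456193716379046986848919232863814630599562900804455378380892052589740224827995939 (.node 0 .nil (.node 2450222730886394035777071791211496026789651029687428926255285111311527280505013781563436910024579311862045559705631998285078513827232494694381835866748260949088653473953331237485403425462190922243698898569797615560403 .nil .nil)) (.node 3042534744541238270563379993387416383720327089709516229559169021858685003956143852809267909534041872802748469764720724022733694079800858903699093500085989236686267678633810783547205502071684924079468899084292024284954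 .nil .nil))))) (.node 1575898345291133267033074758236476318107581044938102573069588636003566900229641971911515441670276362782093000217032630833362204606202043787260283138042421289456237957218577706425045309143527665674251365839727916108068 (.node 0 (.node 0 (.node 0 (.node 0 .nil (.node 3053286503338571130042014336016111216473622786179005580442857542465861721437977265091821948496130608624073272413470495395129085237510536317443858896394482689916319948035935499389309023143104677202957157866520869484250 .nil .nil)) (.node 2363658974206810464267760316751662676673062415990536078473074379016268724097765351711981506621083672749908380502753108101819182761819838277833291131200084985088032941312495603707522153892520358137241246911747031451355 .nil (.node 3064248955969285559133044035193511519241416752737354640042897146307476630103118284623101338560921181824099851651366520209346131937503671839890745171339789695807484825062261360381272630405202264312292564549485162505882 .nil .nil))) (.node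 1662274708895723827723462245417130058012194546009879216647642274436856786217811926561341446529861318225593064532498810599969216492605664430899745603656055464996464485367028612391106227876847948002984348295197214226716 (.node 0 .nil (.node 2374624103870616470276443044976451098405226243736084495424728164758106077527103247754334624276509607879955076799986014544788715033190256747511816239647808208610198744666511363183630144245324435537569228690971446589083 .nil .nil)) (.node 2362506677061596587925052532167006407886612639887187923115476774276552202440650868487171113052313898867870452403686637150787440962721966414862935204728275315618574395906566244022009114401908975021235848351901956028635 .nil (.node 3151632973988960808032494260862942624217411918319028649944525387163631183913393215272246650265228182026445654436956720440850302031098373824340058836496978451011941459358304544624003467922897374877070850980761716733074 .nil .nil)))) (.node 1577268615921868514274315856142489801391338470452619948773892631378077615070652463466225438171878374340215138096417531543631041660061239363814787447355005361721946783418880602365258318295500552117329253881711112079140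 (.node 0 (.node 0 .nil (.node 2450054035950741359383134245476578650861759556390946072284580881321894573613772913838802939799964743536110790388117536204932576870397298599615403534814446292324841325750280434390927305600191013623863941580227940792019 .nil .nil)) (.node 2352909892442569181706779003170355962884136580708246084941000040309314451380128815940501195249630298858603694913340218358176277175487443811320164568394007749488981598238060786349563015911807095304745563225778308368155 .nil (.node 2462323385142030231154307761154553989578250651155602945258210581520656304535823201412631789578338581968770037604531540402483874245250245059306816800866195125256831786938735026066231339620526698361382758084737923392659 .nil .nil))) (.node 2352888517270137270364139532578705609635683080192413377355932994536756043088094331952432039339698821585881232284105088392917409381936321185945875796890864400161398815621036963148074399846750231855863275916506575030043 (.node 0 .nil (.node 3064082938066724459656759518505982262277895140628071143423807098218066367976074293409541095926941975428185199393188939757952680552045758692355951672908391256674673603186900455770940893633908845983450182656175609853594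 .nil .nil)) (.node 2288441661546023792224296371478116100785097030372445007256699689286829531666597940935265338849190050909796642576266252943407445036619554244850574551869388868907638788367720271786636196017602302796033873312108413564579 .nil .nil)))) (.node 1575901022324224843950727787283864437071950906125301930421202817903789344993838848422589169260911724712113117276369512462114690177579326734491921971544837507087238883546267604909189692234234155965243940935988038224164 (.node 0 (.node 0 (.node 0 .nil (.node 2364021590422461023299938676168898794885438176995156087853803771967914771116670867267372196277963639549184779912013988347190861608487952513577944240969114477689511661365206221371065244260118416344273830977922971313883 .nil .nil)) (.node 1588212370413242608940359113775627869875048797682335658140479371347356560207955875520509399917372832197539371764415308021341706137880535208119023784299585235916529804155872538639877692583247766068774948351663793878756 .nil (.node 3054846092630256035553011319879179816523424981266549957278445575302252219170260879907188140190502980288174724252766519581960710040102067377326195312840736965515558599243415717277893502420698534182999906499967779939546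 .nil .nil))) (.node 1588190995240810697597719643183977516626595297166502950555412325574798151915921391532440244007441354924816909135180178056082838344329412582744735012796441886588947021538848715438389076518190902619892661042392060540644 (.node 0 .nil (.node 2365368560294807711747708404805386418366672445045929959045913777969955965193452226774986240220774497397242256089665346032290362299072725754339409941579426785754501884433692699973238520057763750579229240321752005453019 .nil .nil)) (.node 1674562756226353033919622202639367631012769280103169439854724838507954480667699821612165724627531272000954657318811063134026896089632450568733808807708531429625036802844817128783754494871534005898392877012718808049372 .nil (.node 3237983359802071233011757349726682385355132400739862431658770854324229104373137161363902974975386621829860939991352475553535491982850289184954843859905924644720448458047249134767880270211183614706688779641816730903690 .nil .nil)))) (.node 1588020374719201373752950198771184634144634166922109299657581151985254332552485875748779477133967110161539940745167302916026432817770916777559552843663498814951999052821005318207361839366920305240817512663939957278436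 (.node 0 (.node 0 .nil (.node 3054654096936214800365602404874736580793010350506323598795547355940149991514790880135458217407097258252175293233518514476645436719992448946766724372204650544551027847908548496845377649204371073355042470812243943339226 .nil .nil)) (.node 2277666601990302373952190659579895408229278176439212151860817179307183293420535396605615347328310161378407178225782938545842717515635454495312770546858623651476867915833779138606492941591854997464423135831725406533347 .nil (.node 3150452022019175219061009048913984257699699262377538275371505429251000251963655846978192848956396530574302830517482943207144252725971513731113386634318064582079762458165178970632161928896545458970957823530242235246226 .nil .nil))) (.node 1674223440769091033680915212491657372602916676562292934986189434928777954413023438103870987529442458911742919611283725913824553606238758668782194306641773701224276685923922928458251137858263499899482771644697030018780 (.node 0 .nil (.node 3054675472108646711708241875466386934041463851022156306380614401712708399806825364123527373317028735524897755862753644441904304513543571572141013143707793893878610630525572320046866265269427936803924758121515676677338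 .nil .nil)) (.node 2365029244837545711509001414657676159956819841505053454177378374390779438938775843266691503122685684308030518382138008812088019815679033854387795440512669057353741767512798499647735163044493244580319134953730227422427 .nil .nil))))))) (.node 1489718579999632165898581113785529439451821692761662442253174342432512799133333541603519883833592167741954683052649750860733420181008624231830680283766418167384678927247476513512195744006512023223708585557125005199660 (.node 0 (.node 0 (.node 0 (.node 0 (.node 0 (.node 0 .nil (.node 3053139183575350364990716260872844193794184813398355434057220358248787422838770881355257134181447517570860965725191163280242016074226462848051715335963811382480090582449908519496321519346161632032004488186222928053978 .nil .nil)) (.node 2362333379506895687162630058706825406440281648455594914866031418786785938313018476192436618588204292174573366954336880381978549864786187662446114202092916026350625500861032948306837494159931887351168124877189730650331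 .nil (.node 3139510944560892701312618820328234308180358796335021923356532871181943751590549311434982614801537434646998713908822048358186073819529500834040789130875900925516180363755876932841686937699504735310504704156549675562706 .nil .nil))) (.node 1672855847171447363357327143633032008283529112234974916633499621454489684336209823060234718618475809283640898791235706832308202123756846039459328830831605846589568786051309931002182511796997103747397458698973956163804 (.node 0 .nil (.node 3139489569388460789969979349736583954931905295819189215771465825409385343298514827446913458891605957374276251279586918392927206025978378208666500359372757576188597581138853109640198321634447871861622416847277942224594 .nil .nil)) (.node 2363680349379242375610399787343313029921515916506368786058141424788827132389799835700050662531015150022630843131988238067078050555370960903207579902703228334415615723929519426909010769957577221586123534221018764789467 .nil (.node 3151800917477478554959610676228347387735003187376222943490742378852952558512631854544833689548067064859702505767632713952154221986279586682293602172127505305017888501748458043370886321983461481965153424262953697879186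 .nil .nil)))) (.node 1577249917782528179849329414598227567107254831123986598540439767505741651542814855989230009852582258997512792526519283207124659437887399685672137509354278230025364927129546677647914085321150178959439541668699500857124 (.node 0 (.node 0 .nil (.node 2450035337811401024958147803932316416577675917062312722051128017449558610085935306361807511480668628193408444818219287868426194648223458921472753596813719160628259469460946509673583072625840640465974229367216329570003 .nil .nil)) (.node 1673047842865488598544736058637475244013943742995201275116397840816591911991679822831964641401881531319640329810483711937623475443866464470018799771467692267554099537386177151434698365013324564575354894386697792764124 .nil (.node 3139681565082502025157388264741027190662319926579415574254364044771487570953984827218643381675011679410275682298834923498242479346087996639225971300008843997153128332473720330072714174850775332689579852535001778824914 .nil .nil))) (.node 1673026467693056687202096588045824890765490242479368567531330795044033503699645338843895485491950054046917867181248581972364607650315341844644510999964548918226516754769153328233209748948267701126472607077426059426012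 (.node 0 .nil (.node 3053478499032612365229423251020554452204037416939231938925755761827963949093447264863551871279536330660072703432718500500444358557620154748003329837030569110880850699370802719821824876359432138030914593554244706084570 .nil .nil)) (.node 2362672694964157687401337048854535664850134251996471419734566822365962464567694859700731355686293105263785104661864217602180892348179879562397728703159673754751385617781927148632340851173202393350078230245211508680923 .nil .nil)))) (.node 1576068965812742590877844202649269200589542175182496223967419809593110719593077487695176208543750607545369968607045505973418610132760539592445465307175364361093185925936421103656072546294798263053326514218180019370276 (.node 0 (.node 0 (.node 0 .nil (.node 2365195262740106810985285931345205416920341453614336950796468422480189701065819834480251745756664890703945170640315589263481471201136947001922588938944067496486552989388159404258066899815786662909161516847039780074715 .nil .nil)) (.node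 2353077835931086928633895418535760726401727849765440378487217031998635825979367455213088234532469181691860546244016211869480197130668656669273707904024534603494928640628214285096445869972371202392828136507970289514267 .nil (.node 3065427230905979571186876218095081766794759547491645657264302922319885117288658776406081412279117471346222558511503415814299695671253248985885778540016287347108662899927697035888969786340847689927413016903744521876634 .nil .nil))) (.node 1663452983832417839777294428318700305565537340764170233869048050449265273403352418344321520248057607747715771392635706204922780226355241576894778972332553116297642560232464287898803383812493373618104800649456573597468 (.node 0 .nil (.node 2364042965594892934642578146760549148133891677510988795438870817740473179408705351255441352187895116821907242541249118312449729402039075138952233012472257827017094443982230044572553860325175279793156118287194704651995 .nil .nil)) (.node 1674415436463132268868324127496100608333331307322519293469087654290880182068493437875600910312848180947742350630531731019139826926348377099341665247277860122188807437258790148890766991074590960727440207332420866619100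 .nil (.node 3151803594510570131877263705275735506699373048563422300842356560753175003276828731055907417138702426789722622826969595580906707557656869629525241005629921522648889428076147941855030705074167972256145999359213819995282 .nil .nil)))) (.node 2265378554659673167756030702357657835228703442345921928653734615236085598970647501554791069230640207603045585439470686011785037918608668357478707342806147686848295598355990622213844674597168939569014607114203812710691 (.node 0 (.node 0 .nil (.node 2374792047359134217203559460341855861922817512793278788970945156447427452126341887026921663559348490713211928130662008056092634988371469605465359575278335062616145787056664861930512998305888542625651801973163427735195 .nil .nil)) (.node 2277647903850962039527204218035633173945194537110578801627364315434847329892697789128619919009014046035704832655884690209336335293461614817170120608857896519780286059544445213889148708617504624306533423618713795311331 .nil (.node 3150433323879834884636022607369722023415615623048904925138052565378664288435818239501197420637100415231600484947584694870637870503797674052970736696317337450383180601875845045914817695922195085813068111317230624024210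 .nil .nil))) (.node 1663619001734978939253578945006229562529058952873453730488138098538675535530396409557881762882036814143630423650813286656316231611813154724429572470763951555430453782107825192509135120583786791946947182542766126249756 (.node 0 .nil (.node 2374813422531566128546198930933506215171271013309111496556012202219985860418376371014990819469279967985934390759897138021351502781922592230839648346781478411943728569673688685132001614370945406074534089282435161073307 .nil .nil)) (.node 2439260278255679606686042092034095724021857063129079866655245507469912371839872762032157519959788738662018980467735973470861467127239359171934949591802953943197488596927005376493439818200093335134363491886833322538771 .nil .nil))))) (.node 1575879647151792932608088316692214083823497405609469222836135772131230936701804364434520013350980247439390654647134382496855822384028204109117633200041694157759656100929243781707701076169177292516361653626716304886052 (.node 0 (.node 0 (.node 0 (.node 0 .nil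 (.node 2450012037053012466164676434662790556775152759598569217538934028077089089321706174314711558921877474483343783116485744843256858284949036585679714988111447396427540866329130092335543339271513088257851750669062167738067 .nil .nil)) (.node 2362480699270116452213928133850092429119719621236245061251668603003860236912224859929001432902887383227785673642616212496865619028070261131838257762523587333786854866447059928199824997956874932522120794557487672080603 .nil (.node 2460974489683726895255706133840190859542946726156918277138973631918703997986847193845990948986668047683370362354381769657473904984942172108126601263056754402318705743355455953327506946533610675367187157352026460759699 .nil .nil))) (.node 1586865400540895920492589385139140246393814529631561786948369365345315366131174516012895355974561974349481895586763950336242205447295761967357558083689272927851539581087386060037704416785602431833819539007834759739620 (.node 0 .nil (.node 2365197939773198387902938960392593535884711314801536308148082604380412145830016710991325473347300252633965287699652470892233956772514229949154227772446483714117553915715849302742211282906493153200154091943299902190811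 .nil .nil)) (.node 2353080512964178505551548447583148845366097710952639735838831213898858270743564331724161962123104543621880663303353093498232682702045939616505346737526950821125929566955904183580590253063077692683820711604230411630363 .nil (.node 3150454699052266795978662077961372376664069123564737632723119611151222696727852723489266576547031892504322947576819824835896738297348796678345025467820480799710763384492868869116306311987251949261950398626502357362322 .nil .nil)))) (.node 1576090340985174502220483673240919553837995675698328931552486855365669127885111971683245364453682084818092431236280635938677477926311662217819754078678507710420768708553444926857561162359855126502208801527451752708388 (.node 0 (.node 0 .nil (.node 2374644727595913452152261385198588839243379540012628642585307972230353153527135503290356849244665399659999621442382675941205565825087396136073216014847663755179916421470637882037525494508945497454699132292865486304923 .nil .nil)) (.node 2277500584087741274475906142892366151265756564329928655241727131217773031293491405392055104694330954982492525967605358094449266130177541347777977048427225212344056693958418233996161204820561579135580753938415853881059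 .nil (.node 3150286004116614119584724532226455000736177650268254778752415381161589989836611855764632606322417324178388178259305362755750801340513600583578593135886666142946951236289818066021830192125252040642115441636932682593938 .nil .nil))) (.node 2277479208915309363133266672300715798017303063814095947656660085445214623001456921403985948784399477709770063338370228129190398336626418722403688276924081863016473911341394410794672588755504715686698466629144120542947 (.node 0 .nil (.node 2460808471781165795779421617152661602579425114047634780519883583829293735859803202632430706352688841287455710096204189206080453599484258960591807764625355963185894521480095048717175209762317257038344775458716908107411 .nil .nil)) (.node 1685167195260465128346958470124795441086627003792008644352776174898056899550326850158154949274936916769067153279281502391535218084058054513086430643586353575418859706660914864732870512146010713850928466114649711818396 .nil .nil)))) (.node 2265357179487241256413391231766007481980249941830089221068667569463527190678613017566721913320708730330323122810235556046526170125057545732104418571303004337520712815738966799012356058532112076120132319804932079372579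 (.node 0 (.node 0 (.node 0 .nil (.node 2363874270659240258248640601025631772206000204214505941468166587750840472517464483530807381963280548495972473223734656232303792445203879044185800680538443170253282295779179241478077740463175371173321161297625029883611 .nil .nil)) (.node 2363848292867760122537516202708717793439107185563563079604358416478148506989038474972637701813854032855887694462664231578381970510552173761161123238333755188421562766319672925655893624018141328674206107503210745935579 .nil (.node 2451571626344697371675673418525859156824954954686113594374522060913479587053989789130077750616249846147445234955781769030088483087540567645562051404557701672026779517536610310224127818549106945237894499302509078193363 .nil .nil))) (.node 2351562922570222493259009274533868339402902312657472213748890034307273257303347456432887151306819441010546218735688860673076776484902670570558698867783695441423991375169574307747389740114161761069790153881949274229019 (.node 0 .nil (.node 3053331179269391600178125175877287429524599444158581792540118577610889650494240881126987056964853239606860396744439168385557289394336081278611186276599897803444621333784775739928837372562489092859961923873946764654298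 .nil .nil)) (.node 2363703650137630934403871156612838889724039073970112290570335414161296653154028967747146615089806303732695504833721781092247386918645383239000618511405500098616334327061335844247050503311904773794246012919172926621403 .nil (.node 3162574051447243325780884489448692573736752384361545001959497945232687684286499750815456884420087277953749771045617615289808480937540386721412656339939142107575523553767606582414478459119938098537523970354454276416594 .nil .nil)))) (.node 2265525874422893932807328777500924857908141415126572075039371799453159897569853885291355883545323298656257892127750018126672107081892741826870850903236818994284524963942017602106832178394111984739967276794501754140963 (.node 0 (.node 0 .nil (.node 2451379630650656136488264503521415921094540323925887235891623841551377359398519789358347827832844124111445803936533763924773209767430949215002580463921615251062248766201743089791611965332779484409937063614785241593043 .nil .nil)) (.node 1674392135704743710074852758226574748530808149858775788956893664918410661304264305828504957754057027237677688928798187993970490563073954763548626638575588357988088834126973731552727257720263408519317728634266704787164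 .nil (.node 3141025857921757136687504964330126695179184333442990088094859868873306320266569310215183698027187175328313041417149399554589494465295486932755798167116740087587117629214516910190743067557714176633542686782570690847954 .nil .nil))) (.node 2351728940472783592735293791221397596366423924766755710367980082396683519430391447646447393940798647406460870993866441124470227870360583718093492366215093880556802597044935212357721476885455179398632535775258826881307 (.node 0 .nil (.node 2451401005823088047830903974113066274342993824441719943476690887323935767690554273346416983742775601384168266565768893890032077560982071840376869235424758600389831548818766912993100581397836347858819350924056974931155 .nil .nil)) (.node 3051960908638656352936884077971273946240842018644064416835814582236378935653230389572277060463251228048738258865054267675288452340476885702056681967287313731178912507584472843988624363410516206416884035831963568683226 .nil .nil)))))) (.node 1574554052451878155502958058647376813590716638074528059229092811901748150917057488914975125318100866864055641098718154777015189486994553493730456270934525199022248660477781126307016416436588821730288531592159004085028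 (.node 0 (.node 0 (.node 0 (.node 0 (.node 0 .nil (.node 2365176564600766476560299489800943182636257814285703600563015558607853737537982227003256317437368775361242825070417340926975088978963107323779939000943340364789971133098825479540722666841436289751271804634028168852699 .nil .nil)) (.node 2277645226817870462609551188988245054980824675923379444275750133534624885128500912617546191418378684105684715596547808580583849722084331869938481775355480302149285133216755315405004325526798134015540848522453673195235 .nil (.node 2451548325586308812882202049256333297022431797222370089862328071541010066289760657082981798057458692437380573254048226004919146724266145309769012795855429907826060914404793892886088085194779393029772020604354916361427 .nil .nil))) (.node 2351539621811833934465537905264342479600379155193728709236696044934803736539118324385791198748028287300481557033955317647907440121628248234765660259081423677223272772037757890409350006759834208861667675183795112397083 (.node 0 .nil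 (.node 2363872345073283610797808702347756265651930547266595144541039644150929360045269835471780585314420872058630274151236243172393323875480579333767050843339314755380146475264386647341526623173904682414080969908742601389787 .nil .nil)) (.node 1674396738323791934443337685951838374049247667993885943235634790418544218540655830398605481993552065605040005060633482682633444704174537421199015309277132990492225580969456224173422758100240587569550495119409255397084 .nil (.node 3065619226600020806374285133099525002525174178251872015747201141681987344944128776177811335062523193382221989530751420919614968991362867416445249480652373768073193651262564256321485639557175150755370452591468358476954 .nil .nil)))) (.node 1662085390234774169453706359460074941246149776436852215516358236974977003326538803300685251337090958119613750572587687123406428743873328947571913496522385261662934660359851290442734757751226977466019487703733499742492 (.node 0 (.node 0 .nil (.node 2364040288561801357724925117713161029169521816323789438087256635840250734644508474744367624597259754891887125481912236683697243830661792191720594178969841609386093517654540146088409477234468789502163543190934582535899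 .nil .nil)) (.node 2351731617505875169652946820268785715330793785953955067719594264296905964194588324157521121531434009336480988053203322753222713441737866665325131199717510098187803523372625110841865859976161669689625110871518948997403 .nil (.node 3065450531664368129980347587364607626597282704955389161776496911692354638052887908453177364837908625056287220213236958839469032034527671321678817148718559111309381503059513453227009519695175242135535495601898683708570 .nil .nil))) (.node 2351710242333443258310307349677135362082340285438122360134527218524347555902553840169451965621502532063758525423968192787963845648186744039950842428214366748860220740755601287640377243911104806240742823562247215659291 (.node 0 .nil (.node 2451382307683747713405917532568804040058910185113086593243238023451599804162716665869421555423479486041465920995870645553525695338808232162234219297424031468693249692529432988275756348423485974700929638711045363709139 .nil .nil)) (.node 2279015497448605709850792286894258538264582101437896819980054128909135599969511404172256187919980695663806853475932709290852686775943527446492986084668064374414993959417058211345217334678771020458618736564436869166307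 .nil .nil)))) (.node 1586673404846854685305180470134697010663399898871335428465471145983213138475704516241165433191156252313482464567515945230926932127186143536798087143053186506887008829752518839605188563569274971005862103320110923139300 (.node 0 (.node 0 (.node 0 .nil (.node 2450030735192352800589662876207052791059236398927202567772386891949425052849543781791706987241173589826046128686383993179763240507122876263822364926112174528124122722618464017052887572245863461415741462882073778960083 .nil .nil)) (.node 2363682274965199023061231686021188536475585573454279582985268368388738244861994483759077459179874826459973042204486651126988519125094260613626329739902356749288751544444312021045561887246847910345363725609901193283291 .nil (.node 3150262703358225560791253162956929140933654492804511274240221391789120469072382723717536653763626170468323516557571819730581464977239178247785554527184394378746232633158001648683790458770924488433992962938778520762002 .nil .nil))) (.node 1672879147929835922150798512902557868086052269698718421145693610826959205100438955107330671177266962993705560492969249857477538487031268375252367439533877610790287389183126348340222245151324655955519937397128117995740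 (.node 0 .nil (.node 2374647404629005029069914414245976958207749401199827999936922154130575598291332379801430576835300761590019738501719557569958051396464679083304854848350079972810917347798327780521669877599651987745691707389125608421019 .nil .nil)) (.node 2353099211103518839976534889127411079650181350281273086072284077771194234271401939201157390442400658964583008873251341834739064924219779294647996675527677952822511423245238108297934486037428065841710423817242022852379 .nil (.node 3151969612413131231353548221963264763662894660672705797461446608842585265403872722269467659772681633185637275085147176032300158943114782777060034504061319961781700649951508846465362441845461390584988381252523372647570 .nil .nil)))) (.node 1586842099782507361699118015869614386591291372167818282436175375972845845366945383965799403415770820639417233885030407311072869084021339631564519474987001163650820977955569642699664683431274879625697060309680597907684 (.node 0 (.node 0 .nil (.node 3053475821999520788311770221973166333239667555752032581574141579927741504329250388352478143688900968730052586373381618871691872986242871800771691003528152893249849773043112821337680493268725647739922018457984583968474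 .nil .nil)) (.node 2362483376303208029131581162897480548084089482423444418603282784904082681676421736440075160493522745157805790701953094125618104599447544079069896596026003551417855792774749826683969381047581422813113369653747794196699 .nil (.node 2462342083281370565579294202698816223862334290484236295491663445392992268063660808889627217897634697311472383174429788738990256467424084737449466738866922256953413643228068950783575572594877071519272470297749534614675 .nil .nil))) (.node 1673045165832397021627083029590087125049573881808001917764783658916369467227482946320890913811246169389620212751146830308870989872489181522787160937965276049923098611058487252950553981922618074284362319290437670648028 (.node 0 .nil (.node 3053497197171952699654409692564816686488121056267865289159208625700299912621284872340547299598832446002775049002616748836950740779793994426145979775031296242577432555660136644539169109333782511188804305767256317306586 .nil .nil)) (.node 2373277133998269781828673316339963474923991975685310624232618158756064883450321888246720580333698750031897600622334656859689214342605483506750350539037495900545208521598024884581456868447679101302613819347142412449947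 .nil .nil))))) (.node 1575902947910181491401559685961739943626020563073212727348329761503700457466033496481615965909771401149455316348867925522025158747302626444910671808743965921960374704061060199045740809523504844724484132324870466717988 (.node 0 (.node 0 (.node 0 (.node 0 .nil (.node 2363869668040192033880155673300368146687560686079395787189425462250706915281072958960706857723785510128610157091899361543640838304103296386535412009836898537749145548936696748857382240083198192123088394812482479273691 .nil .nil)) (.node 1674394061290700357525684656904450255084877806806686585884020608518321773776458953887531754402916703675019888001296601053880959132797254473967376475774716772861224654641766325689278375009534097278557920023149133280988 .nil (.node 3139658264324113466363916895471501330859796769115672069742170055399018050189755695171547429116220525700211020597101380473073142982813574303432932691306572232952409729341903912734674441496447780481457373836847616992978 .nil .nil))) (.node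 2265549175181282491600800146770450717710664572590315579551565788825629418334083017338451836104114452366322553829483561151841443445167164162663889511939090758485243567073834019444871911748439536948089755492655915972899 (.node 0 .nil (.node 2450033412225444377507315905254440910023606260114401925124001073849647497613740658302780714831808951756066245745720874808515726078500159211054003759614590745755123648946153915537031955336569951706734037978333901076179 .nil .nil)) (.node 2363684951998290599978884715068576655439955434641478940336882550288960689626191360270151186770510188389993159263823532755741004696471543560857968573404772966919752470772001919529706270337554400636356300706161315399387 .nil (.node 3151780293752181573083792336006209646896849891099678796330162571380705482512599599008811464579911273079657961125236052555737371194382447293732202396927649758448170824944331524516990971719840420048023520661059658163346 .nil .nil)))) (.node 1586694780019286596647819940726347363911853399387168136050538191755771546767739000229234589101087729586204927196751075196185799920737266162172375914556329856214591612369542662806677179634331834454744390629382656477412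 (.node 0 (.node 0 .nil (.node 3053328502236300023260472146829899310560229582971382435188504395710667205730044004615913329374217877676840279685102286756804803822958798331379547443097481585813620407457085841444692989471782602568969348777686642538202 .nil .nil)) (.node 2362336056539987264080283087754213525404651509642794272217645600687008383077215352703510346178839654104593484013673762010731035436163470609677753035595332243981626427188722846790981877250638377642160699973449852766427 .nil (.node 3065597851427588895031645662507874649276720677736039308162134095909428936652094292189742179152591716109499526901516290954356101197811744791070960709149230418745610868645540433119997023492118287306488165282196625138842 .nil .nil))) (.node 2362314681367555352737643617162563172156198009126961564632578554914449974785180868715441190268908176831871021384438632045472167642612347984303464264092188894654043644571699023589493261185581514193278412664178119428315 (.node 0 .nil (.node 3139492246421552366887632378783972073896275157006388573123080007309607788062711703957987186482241319304296368338923800021679691597355661155898139192875173793819598507466543008124342704725154362152614991943538064340690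 .nil .nil)) (.node 1760576503615293035577831330402785252705007020170326074052049083989598319636964260706601039830236260645178322225016362655262229129367956976628618163553136112563784610940557417086272323237256230020093275402012166305492 .nil .nil)))) (.node 1575924323082613402744199156553390296874474063589045434933396807276258865758067980469685121819702878422177778978103055487284026540853749070284960580247109271287957486678084022247229425588561708173366419634142200056100 (.node 0 (.node 0 (.node 0 .nil (.node 2365199865359155035353770859070469042438780971749447105075209547980323258302211359050352269996159929071307486772150883952144425342237529659572977609645612128990689736230641896878762400195763841959394283332182330684635 .nil .nil)) (.node 1663621678768070516171231974053617681493428814060653087839752280438897980294593286068955490472672176073650540710150168285068717183190437671661211304266367773061454708435515090993279503674493282237939757639026248365852 .nil (.node 2460997790442115454049177503109716719345469883620661781651167621291173518751076325893086901545459201393435024056115312682643241348216594443919639871759026166519424346487272370665546679887938227575309636050180622591635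 .nil .nil))) (.node 1663600303595638604828592503461967328244975313544820380254685234666339572002558802080886334562740698800928078080915038319809849389639315046286922532763224423733871925818491267791790887609436418789057470329754515027740 (.node 0 .nil (.node 2374794724392225794121212489389243980887187373980478146322559338347649896890538763537995391149983852643232045189998889684845120559748752552696998408780751280247146713384354760414657381396595032916644377069423549851291 .nil .nil)) (.node 2277837222511911697796960103992688290711239306683605802758648352896727112783970912389276114201784406141684146615795813685899123042193950300497952715991566723113815884551622535837520178743125594843498284210177509795555 .nil (.node 3841257826087629896889095251080003045053602427320298794562694368713001736489408252141013364549639755970590429288337226105407718935411788916718987768188959938209227539754054541821645954082775203651794186839275432649873 .nil .nil)))) (.node 1663429683074029280983823059049174445763014183300426729356854061076795752639123286297225567689266454037651109690902163179753443863080819241101740363630281352096923957100647870560763650458165821409982321951302411765532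 (.node 0 (.node 0 .nil (.node 2460805794748074218861768588105273483615055252860435423168269401929071291095606326121356978762053479357435593036867307577327968028106976013360168931122939745554893595152405150233030826671610766747352200362456785991315 .nil .nil)) (.node 2353075910345130281183063519857885219847658192817529581560090088398724713507172807154061437883609505254518347171517798809569728560945356958854958066825406188621792820113421690959894752683100513633587945119087861020443 .nil (.node 3151630296955869231114841231815554505253042057131829292592911205263408739149196338761172922674592820096425537377619838812097816459721090877108420002994562233380940533030614646139859084832190884586078275884501594616978 .nil .nil))) (.node 2277497907054649697558253113844978032301386703142729297890112949317550586529294528880981377103695593052472408908268476465696780558800258400546338214924808994713055767630728335512016821729855088844588178842155731764963 (.node 0 .nil (.node 2460827169920506130204408058696923836863508753376268130753336447701629699387640810109426134671984956630158055666102437542586835821658098638734457702626083094882476377769428973434519442736667630196234487671728519329427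 .nil .nil)) (.node 2374455408934963793882505499241533722477334770439601641454023934768473370635862380029700654051895039554020307482471552464642778076355060652745383907713993551846386596463460560089154024383324526917734271701401771820699 .nil .nil))))))))
noncomputable def par : Trie (ℕ × ℕ × ℕ) := (.node (7,1,29) (.node (0,0,0) (.node (0,0,0) (.node (0,0,0) (.node (0,0,0) (.node (0,0,0) (.node (0,0,0) (.node (0,0,0) .nil (.node (6,127,8) .nil .nil)) (.node (5,65,7) .nil (.node (7,191,11) .nil .nil))) (.node (5,34,13) (.node (0,0,0) .nil (.node (7,159,11) .nil .nil)) (.node (4,97,7) .nil (.node (3,223,20) .nil .nil)))) (.node (4,17,20) (.node (0,0,0) (.node (0,0,0) .nil (.node (5,143,7) .nil .nil)) (.node (5,82,11) .nil (.node (7,207,13) .nil .nil))) (.node (5,50,11) (.node (0,0,0) .nil (.node (6,175,7) .nil .nil)) (.node (5,113,8) .nil .nil)))) (.node (3,9,22) (.node (0,0,0) (.node (0,0,0) (.node (0,0,0) .nil (.node (3,135,3) .nil .nil)) (.node (6,73,6) .nil (.node (4,197,12)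 .nil .nil))) (.node (6,41,14) (.node (0,0,0) .nil (.node (7,167,6) .nil .nil)) (.node (0,76,3) .nil (.node (2,231,22) .nil .nil)))) (.node (7,25,16) (.node (0,0,0) (.node (0,0,0) .nil (.node (3,148,6) .nil .nil)) (.node (7,89,9) .nil (.node (6,215,16) .nil .nil))) (.node (6,57,12) (.node (0,0,0) .nil (.node (2,174,6) .nil .nil)) (.node (6,122,12) .nil .nil))))) (.node (3,5,25) (.node (0,0,0) (.node (0,0,0) (.node (0,0,0) (.node (0,0,0) .nil (.node (5,131,6) .nil .nil)) (.node (5,69,6) .nil (.node (7,195,11) .nil .nil))) (.node (5,37,16) (.node (0,0,0) .nil (.node (3,163,2) .nil .nil)) (.node (6,101,7) .nil (.node (6,227,18) .nil .nil)))) (.node (2,25,16) (.node (0,0,0) (.node (0,0,0) .nil (.node (4,147,5) .nil .nil)) (.node (7,85,10) .nil (.node (6,211,15) .nil .nil))) (.node (7,53,10) (.node (0,0,0) .nil (.node (7,179,9) .nil .nil)) (.node (4,112,9) .nil .nil)))) (.node (7,13,18) (.node (0,0,0) (.node (0,0,0) (.node (0,0,0) .nil (.node (7,139,7) .nil .nil)) (.node (2,77,2) .nil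 (.node (1,194,10) .nil .nil))) (.node (6,45,11) (.node (0,0,0) .nil (.node (6,171,6) .nil .nil)) (.node (4,109,6) .nil (.node (4,235,25) .nil .nil)))) (.node (7,29,15) (.node (0,0,0) (.node (0,0,0) .nil (.node (4,153,8) .nil .nil)) (.node (1,103,5) .nil (.node (7,219,16) .nil .nil))) (.node (6,61,9) (.node (0,0,0) .nil (.node (4,185,8) .nil .nil)) (.node (6,123,9) .nil .nil)))))) (.node (5,3,27) (.node (0,0,0) (.node (0,0,0) (.node (0,0,0) (.node (0,0,0) (.node (0,0,0) .nil (.node (2,136,4) .nil .nil)) (.node (7,67,8) .nil (.node (3,188,9) .nil .nil))) (.node (6,35,12) (.node (0,0,0) .nil (.node (8,0,0) .nil .nil)) (.node (3,97,7) .nil (.node (0,219,16) .nil .nil)))) (.node (6,19,18) (.node (0,0,0) (.node (0,0,0) .nil (.node (7,145,9) .nil .nil)) (.node (6,83,10) .nil (.node (4,207,13) .nil .nil))) (.node (6,51,10) (.node (0,0,0) .nil (.node (4,175,7) .nil .nil)) (.node (7,115,11) .nil .nil)))) (.node (5,11,20) (.node (0,0,0) (.node (0,0,0) (.node (0,0,0) .nil (.node (5,137,5)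 .nil .nil)) (.node (4,75,4) .nil (.node (6,201,14) .nil .nil))) (.node (5,44,12) (.node (0,0,0) .nil (.node (4,169,4) .nil .nil)) (.node (6,107,8) .nil (.node (2,233,23) .nil .nil)))) (.node (5,27,17) (.node (0,0,0) (.node (0,0,0) .nil (.node (6,153,8) .nil .nil)) (.node (5,91,7) .nil (.node (4,217,18) .nil .nil))) (.node (5,60,10) (.node (0,0,0) .nil (.node (6,185,8) .nil .nil)) (.node (7,121,11) .nil .nil))))) (.node (1,8,23) (.node (0,0,0) (.node (0,0,0) (.node (0,0,0) (.node (0,0,0) .nil (.node (7,133,8) .nil .nil)) (.node (1,75,4) .nil (.node (7,197,12) .nil .nil))) (.node (7,39,14) (.node (0,0,0) .nil (.node (5,165,4) .nil .nil)) (.node (4,103,5) .nil (.node (4,229,20) .nil .nil)))) (.node (5,23,18) (.node (0,0,0) (.node (0,0,0) .nil (.node (6,149,7) .nil .nil)) (.node (5,87,8) .nil (.node (3,210,14) .nil .nil))) (.node (5,55,8) (.node (0,0,0) .nil (.node (7,181,10) .nil .nil)) (.node (5,115,11) .nil .nil)))) (.node (1,15,22) (.node (0,0,0) (.node (0,0,0) (.node (0,0,0)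 .nil (.node (2,147,5) .nil .nil)) (.node (6,79,13) .nil (.node (7,205,12) .nil .nil))) (.node (6,47,13) (.node (0,0,0) .nil (.node (3,170,5) .nil .nil)) (.node (7,111,10) .nil (.node (6,237,27) .nil .nil)))) (.node (6,31,15) (.node (0,0,0) (.node (0,0,0) .nil (.node (7,157,10) .nil .nil)) (.node (6,95,9) .nil (.node (5,221,18) .nil .nil))) (.node (7,63,9) (.node (0,0,0) .nil (.node (7,189,10) .nil .nil)) (.node (3,131,6) .nil .nil))))))) (.node (6,2,28) (.node (0,0,0) (.node (0,0,0) (.node (0,0,0) (.node (0,0,0) (.node (0,0,0) (.node (0,0,0) .nil (.node (7,128,9) .nil .nil)) (.node (3,69,6) .nil (.node (6,192,12) .nil .nil))) (.node (7,34,13) (.node (0,0,0) .nil (.node (6,160,12) .nil .nil)) (.node (2,92,6) .nil (.node (1,224,21) .nil .nil)))) (.node (5,18,19) (.node (0,0,0) (.node (0,0,0) .nil (.node (6,144,8) .nil .nil)) (.node (7,82,11) .nil (.node (6,208,14) .nil .nil))) (.node (7,50,11) (.node (0,0,0) .nil (.node (7,176,8) .nil .nil)) (.node (3,108,7) .nil .nil)))) (.node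 (4,10,21) (.node (0,0,0) (.node (0,0,0) (.node (0,0,0) .nil (.node (4,136,4) .nil .nil)) (.node (5,74,5) .nil (.node (7,200,13) .nil .nil))) (.node (7,42,13) (.node (0,0,0) .nil (.node (1,164,3) .nil .nil)) (.node (7,106,9) .nil (.node (1,231,22) .nil .nil)))) (.node (3,29,15) (.node (0,0,0) (.node (0,0,0) .nil (.node (5,152,7) .nil .nil)) (.node (6,90,8) .nil (.node (5,216,17) .nil .nil))) (.node (7,58,11) (.node (0,0,0) .nil (.node (5,184,7) .nil .nil)) (.node (5,124,10) .nil .nil))))) (.node (2,6,24) (.node (0,0,0) (.node (0,0,0) (.node (0,0,0) (.node (0,0,0) .nil (.node (6,132,7) .nil .nil)) (.node (4,70,5) .nil (.node (5,195,11) .nil .nil))) (.node (6,38,15) (.node (0,0,0) .nil (.node (4,164,3) .nil .nil)) (.node (5,102,6) .nil (.node (5,228,19) .nil .nil)))) (.node (4,22,19) (.node (0,0,0) (.node (0,0,0) .nil (.node (5,148,6) .nil .nil)) (.node (6,86,9) .nil (.node (5,212,16) .nil .nil))) (.node (6,54,9) (.node (0,0,0) .nil (.node (5,179,9) .nil .nil)) (.node (7,118,12)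 .nil .nil)))) (.node (0,20,17) (.node (0,0,0) (.node (0,0,0) (.node (0,0,0) .nil (.node (3,142,6) .nil .nil)) (.node (0,162,1) .nil (.node (6,204,11) .nil .nil))) (.node (3,51,10) (.node (0,0,0) .nil (.node (7,172,7) .nil .nil)) (.node (2,103,5) .nil (.node (5,236,26) .nil .nil)))) (.node (4,32,14) (.node (0,0,0) (.node (0,0,0) .nil (.node (6,156,9) .nil .nil)) (.node (7,94,10) .nil (.node (6,220,17) .nil .nil))) (.node (4,64,8) (.node (0,0,0) .nil (.node (6,188,9) .nil .nil)) (.node (7,124,10) .nil .nil)))))) (.node (4,4,26) (.node (0,0,0) (.node (0,0,0) (.node (0,0,0) (.node (0,0,0) (.node (0,0,0) .nil (.node (4,130,5) .nil .nil)) (.node (6,68,7) .nil (.node (6,194,10) .nil .nil))) (.node (1,45,11) (.node (0,0,0) .nil (.node (2,162,1) .nil .nil)) (.node (7,100,8) .nil (.node (7,226,17) .nil .nil)))) (.node (7,20,17) (.node (0,0,0) (.node (0,0,0) .nil (.node (1,136,4) .nil .nil)) (.node (4,86,9) .nil (.node (7,210,14) .nil .nil))) (.node (4,54,9) (.node (0,0,0) .nil (.node (6,178,8)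 .nil .nil)) (.node (6,116,10) .nil .nil)))) (.node (6,12,19) (.node (0,0,0) (.node (0,0,0) (.node (0,0,0) .nil (.node (6,138,6) .nil .nil)) (.node (3,76,3) .nil (.node (5,202,15) .nil .nil))) (.node (7,44,12) (.node (0,0,0) .nil (.node (5,170,5) .nil .nil)) (.node (5,108,7) .nil (.node (3,234,24) .nil .nil)))) (.node (6,28,16) (.node (0,0,0) (.node (0,0,0) .nil (.node (7,154,9) .nil .nil)) (.node (4,92,6) .nil (.node (2,214,15) .nil .nil))) (.node (7,60,10) (.node (0,0,0) .nil (.node (7,186,9) .nil .nil)) (.node (4,127,8) .nil .nil))))) (.node (2,8,23) (.node (0,0,0) (.node (0,0,0) (.node (0,0,0) (.node (0,0,0) .nil (.node (0,163,2) .nil .nil)) (.node (7,72,7) .nil (.node (6,198,13) .nil .nil))) (.node (4,42,13) (.node (0,0,0) .nil (.node (6,166,5) .nil .nil)) (.node (3,104,4) .nil (.node (3,230,21) .nil .nil)))) (.node (6,24,17) (.node (0,0,0) (.node (0,0,0) .nil (.node (7,150,8) .nil .nil)) (.node (3,91,7) .nil (.node (7,214,15) .nil .nil))) (.node (2,65,7) (.node (0,0,0) .nil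 (.node (6,182,11) .nil .nil)) (.node (6,117,13) .nil .nil)))) (.node (3,16,21) (.node (0,0,0) (.node (0,0,0) (.node (0,0,0) .nil (.node (4,142,6) .nil .nil)) (.node (7,80,12) .nil (.node (5,205,12) .nil .nil))) (.node (7,48,12) (.node (0,0,0) .nil (.node (5,174,6) .nil .nil)) (.node (6,112,9) .nil (.node (7,238,28) .nil .nil)))) (.node (7,32,14) (.node (0,0,0) (.node (0,0,0) .nil (.node (5,157,10) .nil .nil)) (.node (5,96,8) .nil (.node (4,222,19) .nil .nil))) (.node (6,64,8) (.node (0,0,0) .nil (.node (5,189,10) .nil .nil)) (.node (5,126,7) .nil .nil))))))))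
noncomputable def T : Tabs := ⟨8, 240, 248, ex, nt⟩
noncomputable def X : Extra := ⟨w, chi, .nil, par⟩
theorem ex_ok : exBeq chevE8 T.ex = true := by decide +kernel
end Cfsg.Agent.Lib.Chev.TabE8
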