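import Mathlib

/-!
# Groups with a Bruhat decomposition `G = B ∪ U n B`
-/

namespace Cfsg.Agent.Lib.Chev

variable {G : Type*} [Group G]

/-- The structure of a group with a (B,N)-pair of rank one. -/
structure Bru (B U : Subgroup G) (n : G) : Prop where
  hUB : U ≤ B
  hnorm : ∀ b ∈ B, ∀ u ∈ U, b * u * b⁻¹ ∈ U
  hbr : ∀ c, c ∉ B → ∃ w ∈ U, ∃ b ∈ B, c = w * n * b
  hopp : ∀ u ∈ U, n⁻¹ * u * n ∈ B → u = 1

namespace Bru

variable {B U : Subgroup G} {n : G} (h : Bru B U n)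

include h

/-- Reduction of a triple of distinct cosets. -/
theorem triple {a b c : G} (hab : a⁻¹ * b ∉ B) (hac : a⁻¹ * c ∉ B) (hbc : b⁻¹ * c ∉ B) :
    ∃ g w : G, w ∈ U ∧ n⁻¹ * w * n ∉ B ∧ (g⁻¹ * a ∈ B) ∧ (∃ b₁ ∈ B, g⁻¹ * b = n * b₁) ∧ (∃ b₂ ∈ B, g⁻¹ * c = w * n * b₂) := by
  obtain ⟨w₁, hw₁, b₁, hb₁, e₁⟩ := h.hbr _ hab
  have h1 : w₁⁻¹ * (a⁻¹ * c) ∉ B := by
    intro hc
    apply hac
    have := Subgroup.mul_mem _ (h.hUB hw₁) hc
    rwa [mul_inv_cancel_left] at this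
  obtain ⟨w, hw, b₂, hb₂, e₂⟩ := h.hbr _ h1
  refine ⟨a * w₁, w, hw, ?_, ?_, ⟨b₁, hb₁, ?_⟩, ⟨b₂, hb₂, ?_⟩⟩
  · intro h3
    apply hbc
    have e3 : b = a * w₁ * n * b₁ := by
      have : a * (a⁻¹ * b) = a * (w₁ * n * b₁) := by rw [e₁]
      rw [mul_inv_cancel_left] at this
      rw [this]
      group
    have e4 : c = a * w₁ * (w * n * b₂) := by
      have : a * w₁ * (w₁⁻¹ * (a⁻¹ * c)) = a * w₁ * (w * n * b₂) := by rw [e₂]
      rw [← this]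
      group
    have e5 : b⁻¹ * c = b₁⁻¹ * (n⁻¹ * w * n) * b₂ := by
      rw [e3, e4]
      group
    rw [e5]
    exact Subgroup.mul_mem _ (Subgroup.mul_mem _ (Subgroup.inv_mem _ hb₁) h3) hb₂
  · have : (a * w₁)⁻¹ * a = w₁⁻¹ := by group
    rw [this]
    exact Subgroup.inv_mem _ (h.hUB hw₁)
  · have : (a * w₁)⁻¹ * b = w₁⁻¹ * (a⁻¹ * b) := by group
    rw [this, e₁]
    group
  · have : (a * w₁)⁻¹ * c = w₁⁻¹ * (a⁻¹ * c) := by group
    rw [this, e₂]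

/-- Distinct conjugates of a Sylow subgroup `U` intersect trivially. -/
theorem sylow_TI [Finite G] {p : ℕ} [Fact p.Prime] (S : Sylow p G) (hS : (S : Subgroup G) = U) {P Q : Sylow p G} (hPQ : P ≠ Q) :
    (P : Subgroup G) ⊓ (Q : Subgroup G) = ⊥ := by
  obtain ⟨g₁, rfl⟩ := MulAction.exists_smul_eq G S P
  obtain ⟨g₂, rfl⟩ := MulAction.exists_smul_eq G S Q
  have hmem : ∀ (g x : G), x ∈ ((g • S : Sylow p G) : Subgroup G) ↔ g⁻¹ * x * g ∈ U := by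
    intro g x
    rw [Sylow.coe_subgroup_smul, Subgroup.mem_smul_pointwise_iff_exists, ← hS]
    constructor
    · rintro ⟨s, hs, rfl⟩
      rw [MulAut.smul_def, MulAut.conj_apply]
      have : g⁻¹ * (g * s * g⁻¹) * g = s := by group
      rwa [this]
    · intro hx
      refine ⟨_, hx, ?_⟩
      rw [MulAut.smul_def, MulAut.conj_apply]
      group
  rw [eq_bot_iff]
  intro x hx
  obtain ⟨h1, h2⟩ := Subgroup.mem_inf.1 hx
  rw [hmem] at h1 h2
  rw [Subgroup.mem_bot]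
  by_cases hc : g₁⁻¹ * g₂ ∈ B
  · exfalso
    apply hPQ
    apply Sylow.ext
    ext y
    rw [hmem, hmem]
    constructor
    · intro hy
      have := h.hnorm _ (Subgroup.inv_mem _ hc) _ hy
      have e : (g₁⁻¹ * g₂)⁻¹ * (g₁⁻¹ * y * g₁) * (g₁⁻¹ * g₂)⁻¹⁻¹ = g₂⁻¹ * y * g₂ := by group
      rwa [e] at this
    · intro hy
      have := h.hnorm _ hc _ hy
      have e : g₁⁻¹ * g₂ * (g₂⁻¹ * y * g₂) * (g₁⁻¹ * g₂)⁻¹ = g₁⁻¹ * y * g₁ := by group
      rwa [e] at this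
  · obtain ⟨w, hw, b, hb, e⟩ := h.hbr _ hc
    have e1 : g₂ = g₁ * (w * n * b) := by
      rw [← e]
      group
    set u₃ := b * (g₂⁻¹ * x * g₂) * b⁻¹ with hu₃
    have hu₃U : u₃ ∈ U := h.hnorm _ hb _ h2
    set v := w⁻¹ * (g₁⁻¹ * x * g₁) * w with hv
    have hvU : v ∈ U := by
      have := h.hnorm _ (Subgroup.inv_mem _ (h.hUB hw)) _ h1
      rwa [inv_inv] at this
    have e2 : n⁻¹ * v * n = u₃ := by
      rw [hv, hu₃, e1]
      group
    have h5 := h.hopp v hvU (by rw [e2]; exact h.hUB hu₃U)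
    have e3 : x = g₁ * (w * v * w⁻¹) * g₁⁻¹ := by
      rw [hv]
      group
    rw [e3, h5]
    group

omit h in
/-- The stabiliser of a coset. -/
theorem mem_stab_mk (B : Subgroup G) (a t : G) :
    t ∈ MulAction.stabilizer G ((a : G ⧸ B)) ↔ a⁻¹ * t * a ∈ B := by
  rw [MulAction.mem_stabilizer_iff, MulAction.Quotient.smul_coe, smul_eq_mul, QuotientGroup.eq]
  constructor
  · intro h1
    have := Subgroup.inv_mem _ h1
    have e : ((t * a)⁻¹ * a)⁻¹ = a⁻¹ * t * a := by group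
    rwa [e] at this
  · intro h1
    have := Subgroup.inv_mem _ h1
    have e : (a⁻¹ * t * a)⁻¹ = (t * a)⁻¹ * a := by group
    rwa [e] at this

/-- Three-point stabilisers have at most two elements. -/
theorem card_triple_le {a₀ : G} (hcases : ∀ t w : G, w ∈ U → n⁻¹ * w * n ∉ B → t ∈ B → n⁻¹ * t * n ∈ B →
      (w * n)⁻¹ * t * (w * n) ∈ B → t = 1 ∨ t = a₀) (x y z : G ⧸ B) (hxy : x ≠ y) (hxz : x ≠ z) (hyz : y ≠ z) :
    Nat.card ↥(MulAction.stabilizer G x ⊓ MulAction.stabilizer G y ⊓ MulAction.stabilizer G z) ≤ 2 := by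
  classical
  obtain ⟨a, rfl⟩ := QuotientGroup.mk_surjective x
  obtain ⟨b, rfl⟩ := QuotientGroup.mk_surjective y
  obtain ⟨c, rfl⟩ := QuotientGroup.mk_surjective z
  have ne : ∀ p q : G, (p : G ⧸ B) ≠ q → p⁻¹ * q ∉ B := fun p q hpq h1 => hpq (QuotientGroup.eq.2 h1)
  obtain ⟨g, w, hw, hw1, hp, ⟨b₁, hb₁, e₁⟩, ⟨b₂, hb₂, e₂⟩⟩ := h.triple (ne _ _ hxy) (ne _ _ hxz) (ne _ _ hyz)
  have key : ∀ t : ↥(MulAction.stabilizer G (a : G ⧸ B) ⊓ MulAction.stabilizer G (b : G ⧸ B) ⊓ MulAction.stabilizer G (c : G ⧸ B)),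
      g⁻¹ * t.1 * g = 1 ∨ g⁻¹ * t.1 * g = a₀ := by
    rintro ⟨t, ht⟩
    obtain ⟨ht12, ht3⟩ := Subgroup.mem_inf.1 ht
    obtain ⟨ht1, ht2⟩ := Subgroup.mem_inf.1 ht12
    rw [mem_stab_mk] at ht1 ht2 ht3
    apply hcases _ w hw hw1
    · have e : g⁻¹ * t * g = (g⁻¹ * a) * (a⁻¹ * t * a) * (g⁻¹ * a)⁻¹ := by group
      rw [e]
      exact Subgroup.mul_mem _ (Subgroup.mul_mem _ hp ht1) (Subgroup.inv_mem _ hp)
    · have e : n⁻¹ * (g⁻¹ * t * g) * n = b₁ * (b⁻¹ * t * b) * b₁⁻¹ := by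
        have e0 : b = g * (n * b₁) := by
          rw [← e₁]
          group
        rw [e0]
        group
      rw [e]
      exact Subgroup.mul_mem _ (Subgroup.mul_mem _ hb₁ ht2) (Subgroup.inv_mem _ hb₁)
    · have e : (w * n)⁻¹ * (g⁻¹ * t * g) * (w * n) = b₂ * (c⁻¹ * t * c) * b₂⁻¹ := by
        have e0 : c = g * (w * n * b₂) := by
          rw [← e₂]
          group
        rw [e0]
        group
      rw [e]
      exact Subgroup.mul_mem _ (Subgroup.mul_mem _ hb₂ ht3) (Subgroup.inv_mem _ hb₂)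
  have hcard := Nat.card_le_card_of_injective (fun t : ↥(MulAction.stabilizer G (a : G ⧸ B) ⊓ MulAction.stabilizer G (b : G ⧸ B) ⊓ MulAction.stabilizer G (c : G ⧸ B)) =>
    decide (g⁻¹ * t.1 * g = 1)) (by
      intro t s hts
      have hts' : (g⁻¹ * t.1 * g = 1) ↔ (g⁻¹ * s.1 * g = 1) := by
        simpa using hts
      apply Subtype.ext
      have : g⁻¹ * t.1 * g = g⁻¹ * s.1 * g := by
        rcases key t with h1 | h1
        · rw [h1, hts'.1 h1]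
        · rcases key s with h2 | h2
          · rw [hts'.2 h2, h2]
          · rw [h1, h2]
      have e : t.1 = g * (g⁻¹ * t.1 * g) * g⁻¹ := by group
      rw [e, this]
      group)
  simpa using hcard

/-- A triple with a stabiliser of exactly two elements. -/
theorem exists_triple [Finite G] {a₀ : G} (hcases : ∀ t w : G, w ∈ U → n⁻¹ * w * n ∉ B → t ∈ B → n⁻¹ * t * n ∈ B →
      (w * n)⁻¹ * t * (w * n) ∈ B → t = 1 ∨ t = a₀) {w : G} (hw : w ∈ U) (hw1 : n⁻¹ * w * n ∉ B) (hn : n ∉ B)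
    (ha1 : a₀ ≠ 1) (ha2 : a₀ ∈ B) (ha3 : n⁻¹ * a₀ * n ∈ B) (ha4 : (w * n)⁻¹ * a₀ * (w * n) ∈ B) :
    ∃ x y z : G ⧸ B, x ≠ y ∧ x ≠ z ∧ y ≠ z ∧
      Nat.card ↥(MulAction.stabilizer G x ⊓ MulAction.stabilizer G y ⊓ MulAction.stabilizer G z) = 2 := by
  have h1 : ((1 : G) : G ⧸ B) ≠ (n : G ⧸ B) := by
    intro e
    apply hn
    have := QuotientGroup.eq.1 e
    simpa using this
  have h2 : ((1 : G) : G ⧸ B) ≠ ((w * n : G) : G ⧸ B) := by
    intro e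
    apply hn
    have := QuotientGroup.eq.1 e
    have h3 := Subgroup.mul_mem _ (Subgroup.inv_mem _ (h.hUB hw)) this
    simpa using h3
  have h3 : (n : G ⧸ B) ≠ ((w * n : G) : G ⧸ B) := by
    intro e
    apply hw1
    have := QuotientGroup.eq.1 e
    rw [mul_assoc]
    exact this
  refine ⟨_, _, _, h1, h2, h3, le_antisymm (h.card_triple_le hcases _ _ _ h1 h2 h3) ?_⟩
  have hmem : a₀ ∈ MulAction.stabilizer G ((1 : G) : G ⧸ B) ⊓ MulAction.stabilizer G (n : G ⧸ B) ⊓ MulAction.stabilizer G ((w * n : G) : G ⧸ B) := by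
    refine Subgroup.mem_inf.2 ⟨Subgroup.mem_inf.2 ⟨?_, ?_⟩, ?_⟩
    · rw [mem_stab_mk]
      simpa using ha2
    · rw [mem_stab_mk]
      exact ha3
    · rw [mem_stab_mk]
      exact ha4
  have hnt : Nontrivial ↥(MulAction.stabilizer G ((1 : G) : G ⧸ B) ⊓ MulAction.stabilizer G (n : G ⧸ B) ⊓ MulAction.stabilizer G ((w * n : G) : G ⧸ B)) :=
    ⟨⟨⟨a₀, hmem⟩, 1, fun e => ha1 (congrArg Subtype.val e)⟩⟩
  exact Finite.one_lt_card_iff_nontrivial.2 hnt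

end Bru

end Cfsg.Agent.Lib.Chev
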