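import Mathlib

/-!
# A group whose derived subgroup has index two
-/

namespace Cfsg.Agent.Lib.Chev.IndexTwo

open scoped commutatorElement

universe u

theorem quot_comm {H : Type*} [Group H] (a b : H ⧸ commutator H) : a * b = b * a :=
  mul_comm (G := Abelianization H) a b

theorem le_ker_of_comm {G A : Type*} [Group G] [Group A] (f : G →* A) (h : ∀ x y : A, x * y = y * x) : commutator G ≤ f.ker := by
  rw [_root_.commutator_def, Subgroup.commutator_le]
  intro a _ b _
  rw [MonoidHom.mem_ker, map_commutatorElement, commutatorElement_eq_one_iff_commute]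
  exact h _ _

theorem cyclic_of_lift {G A : Type*} [Group G] [Group A] [IsCyclic (G ⧸ commutator G)] (f : G →* A) (hf : Function.Surjective f)
    (h : ∀ x y : A, x * y = y * x) : IsCyclic A := by
  have hs : Function.Surjective (QuotientGroup.lift (commutator G) f (le_ker_of_comm f h)) := by
    intro y
    obtain ⟨w, rfl⟩ := hf y
    exact ⟨(w : G ⧸ commutator G), rfl⟩
  exact isCyclic_of_surjective _ hs

/-- A `p`-group with cyclic abelianisation is commutative. -/
theorem comm_of_cyclic_abel {p : ℕ} [Fact p.Prime] : ∀ (n : ℕ) (Q : Type u) [Group Q] [Finite Q], IsPGroup p Q → Nat.card Q = n →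
    IsCyclic (Q ⧸ commutator Q) → IsMulCommutative Q := by
  intro n
  induction n using Nat.strong_induction_on with
  | _ n ih =>
    intro Q _ _ hp hn hc
    by_cases hnt : Nontrivial Q
    · have hZ := hp.center_nontrivial
      have hcard : Nat.card (Q ⧸ Subgroup.center Q) < n := by
        have h1 := Subgroup.card_eq_card_quotient_mul_card_subgroup (Subgroup.center Q)
        have h2 : 1 < Nat.card (Subgroup.center Q) := Finite.one_lt_card_iff_nontrivial.2 hZ
        have h3 : 0 < Nat.card (Q ⧸ Subgroup.center Q) := Nat.card_pos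
        rw [← hn, h1]
        exact lt_mul_of_one_lt_right h3 h2
      have hc' : IsCyclic ((Q ⧸ Subgroup.center Q) ⧸ commutator (Q ⧸ Subgroup.center Q)) :=
        cyclic_of_lift ((QuotientGroup.mk' (commutator (Q ⧸ Subgroup.center Q))).comp (QuotientGroup.mk' (Subgroup.center Q)))
          ((QuotientGroup.mk'_surjective _).comp (QuotientGroup.mk'_surjective _)) quot_comm
      have h4 := ih _ hcard (Q ⧸ Subgroup.center Q) (hp.to_quotient _) rfl hc'
      have h5 : commutator (Q ⧸ Subgroup.center Q) = ⊥ := by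
        rw [_root_.commutator_def, Subgroup.commutator_eq_bot_iff_le_centralizer]
        intro a _ b _
        exact h4.is_comm.comm b a
      have h6 : IsCyclic (Q ⧸ Subgroup.center Q) := by
        refine isCyclic_of_injective (QuotientGroup.mk' (commutator (Q ⧸ Subgroup.center Q))) ?_
        rw [← MonoidHom.ker_eq_bot_iff, QuotientGroup.ker_mk']
        exact h5
      refine (QuotientGroup.mk' (Subgroup.center Q)).isMulCommutative_of_isCyclic_of_ker_le_center ?_
      rw [QuotientGroup.ker_mk']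
    · rw [not_nontrivial_iff_subsingleton] at hnt
      exact ⟨⟨fun a b => Subsingleton.elim _ _⟩⟩

variable {G : Type u} [Group G]

theorem comm_le_of_comm_quot {N : Subgroup G} [N.Normal] (h : IsMulCommutative (G ⧸ N)) : commutator G ≤ N := by
  have := le_ker_of_comm (QuotientGroup.mk' N) h.is_comm.comm
  rwa [QuotientGroup.ker_mk'] at this

/-- A perfect subgroup maps trivially to a solvable group. -/
theorem perfect_le_ker {Q : Type*} [Group Q] [Group.IsSolvable Q] (f : G →* Q) (T : Subgroup G) (hT : T ≤ ⁅T, T⁆) : T ≤ f.ker := by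
  have h1 : ∀ n, T.map f ≤ derivedSeries Q n := by
    intro n
    induction n with
    | zero => exact le_top
    | succ n ih =>
      rw [derivedSeries_succ]
      calc T.map f ≤ (⁅T, T⁆).map f := Subgroup.map_mono hT
        _ = ⁅T.map f, T.map f⁆ := Subgroup.map_commutator _ _ _
        _ ≤ _ := Subgroup.commutator_mono ih ih
  obtain ⟨n, hn⟩ := (inferInstance : Group.IsSolvable Q).solvable
  have h2 := h1 n
  rw [hn] at h2
  intro t ht
  have h3 : f t ∈ (⊥ : Subgroup Q) := h2 ⟨t, ht, rfl⟩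
  exact h3

/-- The main theorem. -/
theorem main [Finite G] (hidx : (commutator G).index = 2)
    (h2 : ∀ (N : Subgroup G) [N.Normal], N ≠ ⊥ → IsPGroup 2 (G ⧸ N))
    (hnon : ¬ IsMulCommutative ↥(commutator G))
    (hsq : ¬ IsSquare (Nat.card ↥(commutator G))) :
    commutator ↥(commutator G) = ⊤ ∧ IsSimpleGroup ↥(commutator G) := by
  haveI : Fact (Nat.Prime 2) := ⟨Nat.prime_two⟩
  set T := commutator G with hT
  have hTn : T.Normal := inferInstance
  -- the derived subgroup of `T`
  have hT'n : (⁅T, T⁆ : Subgroup G).Normal := inferInstance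
  have hT'ne : (⁅T, T⁆ : Subgroup G) ≠ ⊥ := by
    intro h
    apply hnon
    refine ⟨⟨fun a b => ?_⟩⟩
    have h1 : ⁅(a : G), (b : G)⁆ ∈ (⁅T, T⁆ : Subgroup G) := Subgroup.commutator_mem_commutator a.2 b.2
    rw [h, Subgroup.mem_bot, commutatorElement_eq_one_iff_commute] at h1
    exact Subtype.ext h1
  have hcyc : IsCyclic (G ⧸ commutator G) := by
    have : Nat.card (G ⧸ commutator G) = 2 := hidx
    exact isCyclic_of_prime_card this
  have hQc : IsCyclic ((G ⧸ (⁅T, T⁆ : Subgroup G)) ⧸ commutator (G ⧸ (⁅T, T⁆ : Subgroup G))) :=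
    cyclic_of_lift ((QuotientGroup.mk' (commutator (G ⧸ (⁅T, T⁆ : Subgroup G)))).comp (QuotientGroup.mk' (⁅T, T⁆ : Subgroup G)))
      ((QuotientGroup.mk'_surjective _).comp (QuotientGroup.mk'_surjective _)) quot_comm
  have hQ := comm_of_cyclic_abel _ (G ⧸ (⁅T, T⁆ : Subgroup G)) (h2 _ hT'ne) rfl hQc
  have hTT : T ≤ ⁅T, T⁆ := comm_le_of_comm_quot hQ
  have hperf : commutator ↥T = ⊤ := by
    rw [eq_top_iff]
    rintro ⟨g, hg⟩ -
    have h3 := hTT hg
    rw [← Subgroup.map_subtype_commutator] at h3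
    obtain ⟨g', hg', e⟩ := h3
    have : g' = ⟨g, hg⟩ := Subtype.ext e
    rwa [← this]
  refine ⟨hperf, ?_⟩
  -- nontrivial normal subgroups contain `T`
  have hle : ∀ N : Subgroup G, N.Normal → N ≠ ⊥ → T ≤ N := by
    intro N hN hNe
    have hp := h2 N hNe
    have : Group.IsNilpotent (G ⧸ N) := hp.isNilpotent
    have : Group.IsSolvable (G ⧸ N) := inferInstance
    have h3 := perfect_le_ker (QuotientGroup.mk' N) T hTT
    rwa [QuotientGroup.ker_mk'] at h3
  have hTtop : T ≠ ⊤ := by
    intro h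
    rw [h, Subgroup.index_top] at hidx
    omega
  obtain ⟨a, -, ha⟩ : ∃ a, a ∈ (⊤ : Subgroup G) ∧ a ∉ T := by
    by_contra hc
    push Not at hc
    exact hTtop (eq_top_iff.2 fun x hx => hc x hx)
  have ha2 : a * a ∈ T := by
    have := Subgroup.sq_mem_of_index_two hidx a
    rwa [sq] at this
  have hnt : Nontrivial ↥T := by
    rw [← not_subsingleton_iff_nontrivial]
    intro hs
    exact hnon ⟨⟨fun a b => Subsingleton.elim _ _⟩⟩
  refine ⟨fun M hM => ?_⟩
  by_cases hMb : M = ⊥
  · exact Or.inl hMb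
  right
  set α : MulAut ↥T := MulAut.conjNormal a with hα
  have hαv : ∀ t : ↥T, ((α t : ↥T) : G) = a * t * a⁻¹ := fun t => MulAut.conjNormal_apply a t
  set N : Subgroup ↥T := M.map α.toMonoidHom with hN
  have hNn : N.Normal := hM.map _ α.surjective
  have hMN : M.map α.toMonoidHom = N := rfl
  have hNM : N.map α.toMonoidHom = M := by
    rw [hN, Subgroup.map_map]
    ext t
    constructor
    · rintro ⟨m, hm, rfl⟩
      have e1 : (α.toMonoidHom.comp α.toMonoidHom) m = (⟨a * a, ha2⟩ : ↥T) * m * (⟨a * a, ha2⟩ : ↥T)⁻¹ := by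
        apply Subtype.ext
        show ((α (α m) : ↥T) : G) = (a * a) * (m : G) * (a * a)⁻¹
        rw [hαv, hαv]
        group
      rw [e1]
      exact hM.conj_mem _ hm _
    · intro ht
      refine ⟨(⟨a * a, ha2⟩ : ↥T)⁻¹ * t * (⟨a * a, ha2⟩ : ↥T), ?_, ?_⟩
      · have := hM.conj_mem _ ht (⟨a * a, ha2⟩ : ↥T)⁻¹
        rwa [inv_inv] at this
      · apply Subtype.ext
        show ((α (α _) : ↥T) : G) = t
        rw [hαv, hαv]
        show a * (a * (((a * a)⁻¹ * (t : G)) * (a * a)) * a⁻¹) * a⁻¹ = t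
        group
  -- subgroups stable under `α` give normal subgroups of `G`
  have hstable : ∀ X : Subgroup ↥T, X.Normal → X.map α.toMonoidHom = X → (X.map T.subtype).Normal := by
    intro X hXn hXs
    refine ⟨?_⟩
    rintro _ ⟨m, hm, rfl⟩ g
    by_cases hg : g ∈ T
    · exact ⟨(⟨g, hg⟩ : ↥T) * m * (⟨g, hg⟩ : ↥T)⁻¹, hXn.conj_mem _ hm _, rfl⟩
    · have ht : a⁻¹ * g ∈ T := by
        rw [Subgroup.mul_mem_iff_of_index_two hidx]
        simp [ha, hg]
      have h3 : (⟨a⁻¹ * g, ht⟩ : ↥T) * m * (⟨a⁻¹ * g, ht⟩ : ↥T)⁻¹ ∈ X := hXn.conj_mem _ hm _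
      have h4 : α ((⟨a⁻¹ * g, ht⟩ : ↥T) * m * (⟨a⁻¹ * g, ht⟩ : ↥T)⁻¹) ∈ X := by
        rw [← hXs]
        exact ⟨_, h3, rfl⟩
      refine ⟨_, h4, ?_⟩
      show ((α _ : ↥T) : G) = g * (m : G) * g⁻¹
      rw [hαv]
      show a * ((a⁻¹ * g) * (m : G) * (a⁻¹ * g)⁻¹) * a⁻¹ = _
      group
  have hbot : ∀ X : Subgroup ↥T, X ≠ ⊥ → X.map T.subtype ≠ ⊥ := by
    intro X hX h
    apply hX
    rwa [Subgroup.map_eq_bot_iff_of_injective _ T.subtype_injective] at h
  have htop : ∀ X : Subgroup ↥T, X.Normal → X.map α.toMonoidHom = X → X ≠ ⊥ → X = ⊤ := by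
    intro X hXn hXs hX
    have h3 := hle _ (hstable X hXn hXs) (hbot X hX)
    rw [eq_top_iff]
    rintro ⟨t, ht⟩ -
    obtain ⟨m, hm, e⟩ := h3 ht
    have : m = ⟨t, ht⟩ := Subtype.ext e
    rwa [← this]
  have hαinj : Function.Injective α.toMonoidHom := α.injective
  by_cases hR : M ⊓ N = ⊥
  · exfalso
    have hMNe : M ⊔ N ≠ ⊥ := by
      intro h
      apply hMb
      rw [eq_bot_iff, ← h]
      exact le_sup_left
    have hP := htop (M ⊔ N) inferInstance (by
      rw [Subgroup.map_sup, hMN, hNM, sup_comm]) hMNe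
    have hc : Subgroup.IsComplement' M N := by
      apply Subgroup.isComplement'_of_disjoint_and_mul_eq_univ
      · rw [disjoint_iff]
        exact hR
      · rw [← Subgroup.normal_mul, hP]
        rfl
    have h3 := hc.card_mul_card
    have h4 : Nat.card N = Nat.card M := by
      rw [hN]
      exact Nat.card_congr (Subgroup.equivMapOfInjective M _ hαinj).symm.toEquiv
    rw [h4] at h3
    exact hsq ⟨_, h3.symm⟩
  · have hP := htop (M ⊓ N) inferInstance (by
      rw [Subgroup.map_inf _ _ _ hαinj, hMN, hNM, inf_comm]) hR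
    rw [eq_top_iff, ← hP]
    exact inf_le_left

end Cfsg.Agent.Lib.Chev.IndexTwo
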