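import Mathlib

set_option linter.style.haveILetI false
set_option linter.unusedSectionVars false

/-!
# A group with a Sylow four-subgroup with all centralisers equal
-/

namespace Cfsg.Agent.Lib.Chev.KleinCent

section

variable {M : Type*} [Group M] [Finite M]

theorem sq_one_of_odd (hodd : Odd (Nat.card M)) {c : M} (h : c * c = 1) : c = 1 := by
  have h1 : orderOf c ∣ 2 := orderOf_dvd_of_pow_eq_one (by rwa [pow_two])
  have h2 : orderOf c ∣ Nat.card M := orderOf_dvd_natCard c
  have h3 : Odd (orderOf c) := Odd.of_dvd_nat hodd h2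
  have h4 : orderOf c = 1 := by
    rcases (Nat.dvd_prime Nat.prime_two).1 h1 with h | h
    · exact h
    · rw [h] at h3
      exact absurd h3 (by decide)
  exact orderOf_eq_one_iff.1 h4

/-- An involution with fixed points `A` inverts the quotient by `A`. -/
theorem quot_inv (hodd : Odd (Nat.card M)) (A : Subgroup M) [A.Normal] (z : M →* M) (hz : ∀ x, z (z x) = x)
    (hf : ∀ x, z x = x ↔ x ∈ A) (x : M) : ((z x : M) : M ⧸ A) = (x : M ⧸ A)⁻¹ := by
  let f : M ⧸ A →* M ⧸ A := QuotientGroup.map A A z (fun c hc => by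
    show z c ∈ A
    rw [(hf c).2 hc]
    exact hc)
  have hfp : MonoidHom.FixedPointFree f := by
    intro q hq
    induction q using QuotientGroup.induction_on with
    | H w =>
      have h1 : ((z w : M) : M ⧸ A) = (w : M ⧸ A) := hq
      have h2 : (z w)⁻¹ * w ∈ A := QuotientGroup.eq.1 h1
      set c := (z w)⁻¹ * w with hc
      have h3 : z c = c := (hf c).2 h2
      have h4 : w = z w * c := by
        rw [hc]
        group
      have h5 : z w = w * c := by
        have := congrArg z h4
        rwa [map_mul, hz, h3] at this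
      have h6 : c * c = 1 := by
        have h7 : w = w * c * c := by
          nth_rw 1 [h4]
          rw [h5]
        have h8 : w * 1 = w * (c * c) := by
          rw [mul_one, ← mul_assoc]
          exact h7
        exact (mul_left_cancel h8).symm
      have h7 := sq_one_of_odd hodd h6
      rw [h7, mul_one] at h5
      have h8 : w ∈ A := (hf w).1 h5
      exact (QuotientGroup.eq_one_iff w).2 h8
  have hinv : Function.Involutive f := by
    intro q
    induction q using QuotientGroup.induction_on with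
    | H w =>
      show ((z (z w) : M) : M ⧸ A) = w
      rw [hz]
  have h1 := hfp.coe_eq_inv_of_involutive hinv
  exact congrFun h1 (x : M ⧸ A)

/-- The case of a normal subgroup. -/
theorem normal_case (hodd : Odd (Nat.card M)) (A : Subgroup M) [A.Normal] (a b : M →* M) (ha : ∀ x, a (a x) = x) (hb : ∀ x, b (b x) = x)
    (hab : ∀ x, a (b x) = b (a x)) (h1 : ∀ x, a x = x ↔ x ∈ A) (h2 : ∀ x, b x = x ↔ x ∈ A) (h3 : ∀ x, a (b x) = x ↔ x ∈ A) : A = ⊤ := by
  rw [eq_top_iff]
  intro x _
  have e1 := quot_inv hodd A a ha h1 (b x)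
  have e2 := quot_inv hodd A b hb h2 x
  have e3 : ((a (b x) : M) : M ⧸ A) = (x : M ⧸ A)⁻¹ := quot_inv hodd A (a.comp b) (fun y => by
    show a (b (a (b y))) = y
    rw [hab (a (b y)), ha, hb]) h3 x
  rw [e1, e2, inv_inv] at e3
  have e4 : (x : M ⧸ A) * x = 1 := by
    nth_rw 1 [e3]
    exact inv_mul_cancel _
  have hdvd : Nat.card (M ⧸ A) ∣ Nat.card M := Subgroup.card_quotient_dvd_card A
  have e5 := sq_one_of_odd (Odd.of_dvd_nat hodd hdvd) e4
  exact (QuotientGroup.eq_one_iff x).1 e5

/-- An involution of a set of odd size has an odd number of fixed points. -/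
theorem odd_fix {α : Type*} [Finite α] (hα : Odd (Nat.card α)) (f : α → α) (hf : ∀ x, f (f x) = x) :
    Odd (Nat.card {x // f x = x}) := by
  classical
  haveI : Fintype α := Fintype.ofFinite α
  haveI : Fact (Nat.Prime 2) := ⟨Nat.prime_two⟩
  let g : Function.End α := f
  have h1 : g ^ 2 ^ 1 = 1 := by
    rw [pow_one, pow_two]
    funext x
    exact hf x
  have h2 := Equiv.Perm.card_fixedPoints_modEq h1
  have h3 : Fintype.card (g.fixedPoints) = Nat.card {x // f x = x} := by
    rw [Nat.card_eq_fintype_card]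
    exact Fintype.card_congr (Equiv.refl _)
  rw [h3, ← Nat.card_eq_fintype_card] at h2
  have h4 : Nat.card α % 2 = Nat.card {x // f x = x} % 2 := h2
  rw [Nat.odd_iff] at hα ⊢
  omega

end

section Main

variable {K : Type*} [Group K] [Finite K]

/-- The four-group lemma. -/
theorem klein_main (hodd : Odd (Nat.card K)) (a b : K →* K) (ha : ∀ x, a (a x) = x) (hb : ∀ x, b (b x) = x)
    (hab : ∀ x, a (b x) = b (a x)) (A : Subgroup K) (h1 : ∀ x, a x = x ↔ x ∈ A) (h2 : ∀ x, b x = x ↔ x ∈ A)
    (h3 : ∀ x, a (b x) = x ↔ x ∈ A) : A = ⊤ := by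
  by_contra hA
  have hidx : A.index ≠ 1 := fun h => hA (Subgroup.index_eq_one.1 h)
  obtain ⟨r, hr, hrd⟩ := Nat.exists_prime_and_dvd hidx
  haveI : Fact r.Prime := ⟨hr⟩
  let a' : MulAut K := { toFun := a, invFun := a, left_inv := ha, right_inv := ha, map_mul' := a.map_mul }
  let b' : MulAut K := { toFun := b, invFun := b, left_inv := hb, right_inv := hb, map_mul' := b.map_mul }
  have haa : a' * a' = 1 := by
    ext x
    exact ha x
  have hbb : b' * b' = 1 := by
    ext x
    exact hb x
  have hcomm : a' * b' = b' * a' := by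
    ext x
    exact hab x
  -- an invariant Sylow subgroup
  have hoddS : Odd (Nat.card (Sylow r K)) := by
    obtain ⟨S⟩ : Nonempty (Sylow r K) := inferInstance
    have h4 := S.card_dvd_index
    have h5 := Subgroup.index_dvd_card (S : Subgroup K)
    exact Odd.of_dvd_nat hodd (h4.trans h5)
  have hfa := odd_fix hoddS (fun S => a' • S) (fun S => by
    show a' • a' • S = S
    rw [smul_smul, haa, one_smul])
  have hfb := odd_fix hfa (fun S => ⟨b' • S.1, by
    show a' • b' • S.1 = b' • S.1
    rw [smul_smul, hcomm, mul_smul]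
    congr 1
    exact S.2⟩) (fun S => by
    apply Subtype.ext
    show b' • b' • S.1 = S.1
    rw [smul_smul, hbb, one_smul])
  obtain ⟨⟨⟨S, hSa⟩, hSb⟩⟩ := (Nat.card_pos_iff.1 hfb.pos).1
  have hSb' : b' • S = S := congrArg Subtype.val hSb
  set R : Subgroup K := (S : Subgroup K) with hR
  have hRa : ∀ x ∈ R, a x ∈ R := by
    intro x hx
    have h4 : a' x ∈ ((a' • S : Sylow r K) : Subgroup K) := by
      rw [Sylow.pointwise_smul_def]
      exact Subgroup.smul_mem_pointwise_smul _ a' _ hx
    rw [hSa] at h4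
    exact h4
  have hRb : ∀ x ∈ R, b x ∈ R := by
    intro x hx
    have h4 : b' x ∈ ((b' • S : Sylow r K) : Subgroup K) := by
      rw [Sylow.pointwise_smul_def]
      exact Subgroup.smul_mem_pointwise_smul _ b' _ hx
    rw [hSb'] at h4
    exact h4
  have hRA : ¬ R ≤ A := by
    intro hle
    have h4 := Subgroup.index_dvd_of_le hle
    exact S.not_dvd_index (hrd.trans h4)
  -- the normaliser condition
  haveI : Group.IsNilpotent ↥R := S.2.isNilpotent
  have hA1 : A.subgroupOf R < ⊤ := by
    rw [lt_top_iff_ne_top]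
    intro h
    apply hRA
    exact Subgroup.subgroupOf_eq_top.1 h
  have hN := Group.normalizerCondition_of_isNilpotent (A.subgroupOf R) hA1
  obtain ⟨w, hw, hwA⟩ := SetLike.exists_of_lt hN
  set D := R ⊓ A with hD
  have hDfix : ∀ z : K →* K, (∀ x, z x = x ↔ x ∈ A) → ∀ c ∈ D, z c = c := fun z hz c hc => (hz c).2 hc.2
  have hwD : w.1 ∈ Subgroup.normalizer (D : Set K) := by
    rw [Subgroup.mem_set_normalizer_iff]
    intro c
    have h4 := Subgroup.mem_set_normalizer_iff.1 hw
    constructor
    · rintro ⟨hc1, hc2⟩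
      have h5 := (h4 ⟨c, hc1⟩).1 (Subgroup.mem_subgroupOf.2 hc2)
      exact ⟨Subgroup.mul_mem _ (Subgroup.mul_mem _ w.2 hc1) (Subgroup.inv_mem _ w.2), Subgroup.mem_subgroupOf.1 h5⟩
    · rintro ⟨hc1, hc2⟩
      have hc3 : c ∈ R := by
        have e1 : c = w.1⁻¹ * (w.1 * c * w.1⁻¹) * w.1 := by group
        rw [e1]
        exact Subgroup.mul_mem _ (Subgroup.mul_mem _ (Subgroup.inv_mem _ w.2) hc1) w.2
      have h5 := (h4 ⟨c, hc3⟩).2 (Subgroup.mem_subgroupOf.2 hc2)
      exact ⟨hc3, Subgroup.mem_subgroupOf.1 h5⟩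
  set N := R ⊓ Subgroup.normalizer (D : Set K) with hNdef
  have hwN : w.1 ∈ N := ⟨w.2, hwD⟩
  have hwA' : w.1 ∉ A := fun h => hwA (Subgroup.mem_subgroupOf.2 h)
  -- the automorphisms on `N`
  have hinv : ∀ z : K →* K, (∀ x, z (z x) = x) → (∀ x, z x = x ↔ x ∈ A) → (∀ x ∈ R, z x ∈ R) → ∀ x ∈ N, z x ∈ N := by
    intro z hz1 hz2 hz3 x hx
    obtain ⟨hx1, hx2⟩ := Subgroup.mem_inf.1 hx
    refine Subgroup.mem_inf.2 ⟨hz3 x hx1, ?_⟩
    rw [Subgroup.mem_set_normalizer_iff]
    have hxn := Subgroup.mem_set_normalizer_iff.1 hx2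
    have hconj : ∀ c, z (z x * c * (z x)⁻¹) = x * z c * x⁻¹ := by
      intro c
      rw [map_mul, map_mul, map_inv, hz1]
    intro c
    constructor
    · intro hc
      have h5 := (hxn c).1 hc
      have h6 := hconj c
      rw [hDfix z hz2 c hc] at h6
      have h7 : z x * c * (z x)⁻¹ = x * c * x⁻¹ := by
        have := congrArg z h6
        rw [hz1, hDfix z hz2 _ h5] at this
        exact this
      rw [h7]
      exact h5
    · intro hc
      have h5 := hconj c
      rw [hDfix z hz2 _ hc] at h5
      rw [h5] at hc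
      have h6 := (hxn (z c)).2 hc
      have h7 := hDfix z hz2 _ h6
      rw [hz1] at h7
      rw [h7]
      exact h6
  let za : ↥N →* ↥N := (a.comp N.subtype).codRestrict N (fun x => hinv a ha h1 hRa x.1 x.2)
  let zb : ↥N →* ↥N := (b.comp N.subtype).codRestrict N (fun x => hinv b hb h2 hRb x.1 x.2)
  have hab2 : ∀ x, a (b (a x)) = b x := by
    intro x
    rw [hab, ha]
  have hRab : ∀ x ∈ R, (a.comp b) x ∈ R := fun x hx => hRa _ (hRb x hx)
  haveI hnorm : (A.subgroupOf N).Normal := by
    refine ⟨fun c hc g => ?_⟩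
    have hc1 : c.1 ∈ D := Subgroup.mem_inf.2 ⟨(Subgroup.mem_inf.1 c.2).1, Subgroup.mem_subgroupOf.1 hc⟩
    have h5 := (Subgroup.mem_set_normalizer_iff.1 (Subgroup.mem_inf.1 g.2).2 c.1).1 hc1
    exact Subgroup.mem_subgroupOf.2 (Subgroup.mem_inf.1 h5).2
  have hoddN : Odd (Nat.card ↥N) := Odd.of_dvd_nat hodd (Subgroup.card_subgroup_dvd_card N)
  have hfin := normal_case hoddN (A.subgroupOf N) za zb (fun x => Subtype.ext (ha x.1)) (fun x => Subtype.ext (hb x.1))
    (fun x => Subtype.ext (hab x.1))
    (fun x => by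
      rw [Subgroup.mem_subgroupOf, ← h1]
      exact Subtype.ext_iff)
    (fun x => by
      rw [Subgroup.mem_subgroupOf, ← h2]
      exact Subtype.ext_iff)
    (fun x => by
      rw [Subgroup.mem_subgroupOf, ← h3]
      exact Subtype.ext_iff)
  apply hwA'
  have h5 : (⟨w.1, hwN⟩ : ↥N) ∈ A.subgroupOf N := by
    rw [hfin]
    trivial
  exact Subgroup.mem_subgroupOf.1 h5

/-- The Klein four-group theorem. -/
theorem klein_cent {C : Type*} [Group C] [Finite C] (V T : Subgroup C) (hV : Nat.card V = 4) (h8 : ¬ 8 ∣ Nat.card C)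
    (h3 : ¬ 3 ∣ Nat.card C) {a b : C} (ha : a ∈ V) (hb : b ∈ V) (ha1 : a ≠ 1) (hb1 : b ≠ 1) (hab : a ≠ b) (haa : a * a = 1) (hbb : b * b = 1)
    (hcomm : a * b = b * a) (hT : ∀ z ∈ V, z ≠ 1 → ∀ g, g ∈ T ↔ g * z = z * g) : T = ⊤ := by
  haveI : Fact (Nat.Prime 2) := ⟨Nat.prime_two⟩
  have hCV : Nat.card V ∣ Nat.card C := Subgroup.card_subgroup_dvd_card V
  rw [hV] at hCV
  obtain ⟨n, hn⟩ := hCV
  have hnodd : Odd n := by
    rw [← Nat.not_even_iff_odd]
    rintro ⟨c, rfl⟩
    apply h8
    rw [hn]
    exact ⟨c, by ring⟩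
  have hn3 : ¬ 3 ∣ n := by
    intro h
    apply h3
    rw [hn]
    exact Dvd.dvd.mul_left h 4
  have hfac : (Nat.card C).factorization 2 = 2 := by
    rw [hn, show 4 = 2 ^ 2 by norm_num]
    rw [Nat.factorization_mul (by norm_num) hnodd.pos.ne', Nat.factorization_pow]
    simp [Nat.factorization_eq_zero_of_not_dvd hnodd.not_two_dvd_nat, Nat.Prime.factorization Nat.prime_two]
  let P : Sylow 2 C := Sylow.ofCard V (by rw [hV, hfac]; norm_num)
  have hPV : (P : Subgroup C) = V := rfl
  have hab' : a * b ≠ 1 := by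
    intro h
    apply hab
    have : a * b = b * b := by rw [h, hbb]
    exact mul_right_cancel this
  -- `V` is abelian
  have hVc : ∀ x y : V, x * y = y * x := (IsPGroup.isMulCommutative_of_card_eq_prime_sq (p := 2) (by rw [hV]; norm_num)).is_comm.comm
  have hVT : V ≤ T := by
    intro v hv
    rw [hT a ha ha1]
    exact congrArg Subtype.val (hVc ⟨v, hv⟩ ⟨a, ha⟩)
  -- Burnside's hypothesis
  have hbur : Subgroup.normalizer ((P : Subgroup C) : Set C) ≤ Subgroup.centralizer ((P : Subgroup C) : Set C) := by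
    rw [hPV]
    intro g hg
    let φ : Subgroup.normalizer (V : Set C) →* Equiv.Perm V := (MulAut.toPerm V).comp V.normalizerMonoidHom
    have hker : φ.ker = (Subgroup.centralizer (V : Set C)).subgroupOf (Subgroup.normalizer (V : Set C)) := by
      rw [← Subgroup.normalizerMonoidHom_ker]
      ext x
      simp only [MonoidHom.mem_ker, φ, MonoidHom.comp_apply]
      constructor
      · intro h
        ext y
        have := congrFun (congrArg DFunLike.coe h) y
        exact congrArg Subtype.val this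
      · intro h
        rw [h, map_one]
    have h1 : Nat.card φ.range ∣ 24 := by
      have h2 := Subgroup.card_subgroup_dvd_card φ.range
      rwa [Nat.card_perm, hV] at h2
    have h2 : Nat.card φ.range ∣ n := by
      have h3 := Subgroup.card_mul_index φ.ker
      rw [Subgroup.index_ker] at h3
      have h4 : V.subgroupOf (Subgroup.normalizer (V : Set C)) ≤ φ.ker := by
        rw [hker]
        intro v hv
        rw [Subgroup.mem_subgroupOf, Subgroup.mem_centralizer_iff]
        intro w hw
        exact congrArg Subtype.val (hVc ⟨w, hw⟩ ⟨v.1, Subgroup.mem_subgroupOf.1 hv⟩)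
      have h5 : Nat.card (V.subgroupOf (Subgroup.normalizer (V : Set C))) = 4 := by
        rw [← hV]
        exact Nat.card_congr (Subgroup.subgroupOfEquivOfLe Subgroup.le_normalizer).toEquiv
      have h6 := Subgroup.card_dvd_of_le h4
      rw [h5] at h6
      have h7 : Nat.card (Subgroup.normalizer (V : Set C)) ∣ 4 * n := by
        rw [← hn]
        exact Subgroup.card_subgroup_dvd_card _
      rw [← h3] at h7
      obtain ⟨c, hc⟩ := h6
      rw [hc, mul_assoc] at h7
      have h8 : 4 * (c * Nat.card φ.range) ∣ 4 * n := h7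
      have h9 := (Nat.mul_dvd_mul_iff_left (by norm_num)).1 h8
      exact dvd_trans (Dvd.intro_left c rfl) h9
    have h3 : Nat.Coprime (Nat.card φ.range) 24 := by
      have h4 : Nat.Coprime n 24 := by
        have e1 : (24 : ℕ) = 2 ^ 3 * 3 := by norm_num
        rw [e1]
        apply Nat.Coprime.mul_right
        · exact Nat.Coprime.pow_right _ (Nat.coprime_two_right.2 hnodd)
        · exact ((Nat.Prime.coprime_iff_not_dvd Nat.prime_three).2 hn3).symm
      exact Nat.Coprime.coprime_dvd_left h2 h4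
    have h4 : Nat.card φ.range = 1 := Nat.Coprime.eq_one_of_dvd h3 h1
    have h5 : g ∈ Subgroup.centralizer (V : Set C) := by
      have h6 : φ.range = ⊥ := Subgroup.card_eq_one.1 h4
      have h7 : (⟨g, hg⟩ : Subgroup.normalizer (V : Set C)) ∈ φ.ker := by
        have h8 : φ ⟨g, hg⟩ ∈ φ.range := ⟨_, rfl⟩
        rw [h6, Subgroup.mem_bot] at h8
        exact h8
      rw [hker] at h7
      exact Subgroup.mem_subgroupOf.1 h7
    exact h5
  have hK := MonoidHom.ker_transferSylow_isComplement' P hbur
  set K := (MonoidHom.transferSylow P hbur).ker with hKdef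
  have hcK : Nat.card K * Nat.card (P : Subgroup C) = Nat.card C := hK.card_mul_card
  rw [hPV, hV, hn, mul_comm] at hcK
  have hcK' : Nat.card K = n := Nat.eq_of_mul_eq_mul_left (by norm_num) hcK
  have hoddK : Odd (Nat.card K) := by rwa [hcK']
  have hcab : a * b ∈ V := Subgroup.mul_mem _ ha hb
  have inv_conj : ∀ z : C, z * z = 1 → z⁻¹ = z := fun z hz => inv_eq_of_mul_eq_one_left hz
  let za : K →* K := (MulAut.conjNormal a : MulAut K).toMonoidHom
  let zb : K →* K := (MulAut.conjNormal b : MulAut K).toMonoidHom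
  have hza : ∀ x : K, (za x).1 = a * x.1 * a := by
    intro x
    show ((MulAut.conjNormal a x : K) : C) = _
    rw [MulAut.conjNormal_apply, inv_conj a haa]
  have hzb : ∀ x : K, (zb x).1 = b * x.1 * b := by
    intro x
    show ((MulAut.conjNormal b x : K) : C) = _
    rw [MulAut.conjNormal_apply, inv_conj b hbb]
  have hfix : ∀ (z : C) (x : K), z ∈ V → z ≠ 1 → z * z = 1 → (z * x.1 * z = x.1 ↔ x.1 ∈ T) := by
    intro z x hz hz1 hzz
    rw [hT z hz hz1]
    constructor
    · intro h
      calc x.1 * z = (z * x.1 * z) * z := by rw [h]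
        _ = z * x.1 * (z * z) := by group
        _ = z * x.1 := by rw [hzz, mul_one]
    · intro h
      rw [← h, mul_assoc, hzz, mul_one]
  have habb : (a * b) * (a * b) = 1 := by
    calc (a * b) * (a * b) = a * (b * a) * b := by group
      _ = a * (a * b) * b := by rw [hcomm]
      _ = (a * a) * (b * b) := by group
      _ = 1 := by rw [haa, hbb, one_mul]
  have hmain := klein_main hoddK za zb
    (fun x => Subtype.ext (by
      rw [hza, hza, mul_assoc, mul_assoc, haa, mul_one, ← mul_assoc, haa, one_mul]))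
    (fun x => Subtype.ext (by
      rw [hzb, hzb, mul_assoc, mul_assoc, hbb, mul_one, ← mul_assoc, hbb, one_mul]))
    (fun x => Subtype.ext (by
      rw [hza, hzb, hzb, hza]
      calc a * (b * x.1 * b) * a = (a * b) * x.1 * (b * a) := by group
        _ = (b * a) * x.1 * (a * b) := by rw [hcomm]
        _ = _ := by group))
    (T.subgroupOf K)
    (fun x => by
      rw [Subgroup.mem_subgroupOf, ← hfix a x ha ha1 haa, ← hza]
      exact Subtype.ext_iff)
    (fun x => by
      rw [Subgroup.mem_subgroupOf, ← hfix b x hb hb1 hbb, ← hzb]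
      exact Subtype.ext_iff)
    (fun x => by
      rw [Subgroup.mem_subgroupOf, ← hfix (a * b) x hcab hab' habb, Subtype.ext_iff, hza, hzb]
      have e1 : a * (b * x.1 * b) * a = a * b * x.1 * (a * b) := by
        calc a * (b * x.1 * b) * a = (a * b) * x.1 * (b * a) := by group
          _ = _ := by rw [hcomm]
      rw [e1])
  have hKT : K ≤ T := Subgroup.subgroupOf_eq_top.1 hmain
  rw [eq_top_iff]
  intro g _
  obtain ⟨⟨k, v⟩, hkv⟩ := hK.2 g
  rw [← hkv]
  exact Subgroup.mul_mem _ (hKT k.2) (hVT v.2)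

end Main

end Cfsg.Agent.Lib.Chev.KleinCent
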