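import Mathlib

set_option linter.style.haveILetI false
set_option linter.unusedSectionVars false

namespace Cfsg.Agent.Lib.Chev.LinIrr

open Polynomial Module

section Count

variable {K : Type*} [Field K] [Fintype K] {V : Type*} [AddCommGroup V] [Module K V] [Finite V]

omit [Fintype K] [Finite V] in
theorem mem_ker_sub_one (X : Module.End K V) (v : V) : v ∈ LinearMap.ker (X - 1) ↔ X v = v := by
  rw [LinearMap.mem_ker, LinearMap.sub_apply, Module.End.one_apply, sub_eq_zero]

/-- The number of vectors of an invariant subspace modulo a prime. -/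
theorem pow_finrank_modEq {p : ℕ} [Fact p.Prime] (X : Module.End K V) (hX : X ^ p = 1) (U : Submodule K V)
    (hU : ∀ u ∈ U, X u ∈ U) :
    Fintype.card K ^ finrank K ↥U ≡ Fintype.card K ^ finrank K ↥(U ⊓ LinearMap.ker (X - 1)) [MOD p] := by
  classical
  haveI : Fintype V := Fintype.ofFinite V
  let f : Function.End ↥U := fun u => ⟨X u, hU u u.2⟩
  have hf : ∀ (n : ℕ) (u : ↥U), ((f ^ n) u : ↥U).1 = (X ^ n) u.1 := by
    intro n
    induction n with
    | zero => intro u; rfl
    | succ n ih =>
      intro u
      rw [pow_succ', pow_succ']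
      show (f ((f ^ n) u)).1 = X ((X ^ n) u.1)
      show X ((f ^ n) u).1 = _
      rw [ih]
  have h1 : f ^ p ^ 1 = 1 := by
    rw [pow_one]
    funext u
    apply Subtype.ext
    rw [hf, hX]
    rfl
  have h2 := Equiv.Perm.card_fixedPoints_modEq h1
  have h3 : Fintype.card ↥U = Fintype.card K ^ finrank K ↥U := Module.card_eq_pow_finrank
  have h4 : Fintype.card (f.fixedPoints) = Fintype.card K ^ finrank K ↥(U ⊓ LinearMap.ker (X - 1)) := by
    rw [← Module.card_eq_pow_finrank]
    apply Fintype.card_congr
    refine ⟨fun u => ⟨u.1.1, Submodule.mem_inf.2 ⟨u.1.2, (mem_ker_sub_one X _).2 (congrArg Subtype.val u.2)⟩⟩,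
      fun u => ⟨⟨u.1, (Submodule.mem_inf.1 u.2).1⟩, Subtype.ext ((mem_ker_sub_one X _).1 (Submodule.mem_inf.1 u.2).2)⟩,
      fun _ => rfl, fun _ => rfl⟩
  rw [← h3, ← h4]
  exact h2

/-- Divisibility by six. -/
structure Ord6 (q p : ℕ) : Prop where
  hdvd : ∀ d : ℕ, q ^ d ≡ 1 [MOD p] → 6 ∣ d
  hsix : q ^ 6 ≡ 1 [MOD p]
  hcop : Nat.Coprime q p

variable {p : ℕ} [Fact p.Prime] (X : Module.End K V) (hX : X ^ p = 1) (hpK : (p : K) ≠ 0)

include hX hpK

/-- The image of `X - 1` contains no nonzero fixed vector. -/
theorem range_inf_ker : LinearMap.range (X - 1) ⊓ LinearMap.ker (X - 1) = ⊥ := by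
  rw [eq_bot_iff]
  rintro v hv
  obtain ⟨⟨u, rfl⟩, h2⟩ := Submodule.mem_inf.1 hv
  have h3 := (mem_ker_sub_one X _).1 h2
  have h4 : (∑ i ∈ Finset.range p, X ^ i) * (X - 1) = X ^ p - 1 := geom_sum_mul X p
  rw [hX, sub_self] at h4
  have h5 : (∑ i ∈ Finset.range p, X ^ i) ((X - 1) u) = 0 := by
    have := congrArg (fun f : Module.End K V => f u) h4
    simpa using this
  have h6 : ∀ i : ℕ, (X ^ i) ((X - 1) u) = (X - 1) u := by
    intro i
    induction i with
    | zero => rfl
    | succ i ih =>
      rw [pow_succ', Module.End.mul_apply, ih, h3]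
  rw [LinearMap.sum_apply, Finset.sum_congr rfl (fun i _ => h6 i), Finset.sum_const, Finset.card_range] at h5
  rw [Submodule.mem_bot]
  rw [← Nat.cast_smul_eq_nsmul K] at h5
  exact (smul_eq_zero.1 h5).resolve_left hpK

include hX in
/-- Invariant subspaces of the image of `X - 1` have dimension divisible by six. -/
theorem six_dvd (h6 : Ord6 (Fintype.card K) p) (U : Submodule K V) (hUW : U ≤ LinearMap.range (X - 1)) (hU : ∀ u ∈ U, X u ∈ U) :
    6 ∣ finrank K ↥U := by
  apply h6.hdvd
  have h1 := pow_finrank_modEq X hX U hU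
  have h2 : U ⊓ LinearMap.ker (X - 1) = ⊥ := by
    rw [eq_bot_iff, ← range_inf_ker X hX hpK]
    exact inf_le_inf_right _ hUW
  rw [h2, finrank_bot, pow_zero] at h1
  exact h1

/-- The dimension of the image of `X - 1`. -/
theorem finrank_range (h6 : Ord6 (Fintype.card K) p) (h7 : finrank K V = 7) (hX1 : X ≠ 1) :
    finrank K ↥(LinearMap.range (X - 1)) = 6 := by
  have h1 := six_dvd X hX hpK h6 _ le_rfl (by
    rintro _ ⟨u, rfl⟩
    refine ⟨X u, ?_⟩
    simp)
  have h2 : finrank K ↥(LinearMap.range (X - 1)) ≤ 7 := by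
    rw [← h7]
    exact Submodule.finrank_le _
  have h3 : finrank K ↥(LinearMap.range (X - 1)) ≠ 0 := by
    intro h
    rw [Submodule.finrank_eq_zero, LinearMap.range_eq_bot, sub_eq_zero] at h
    exact hX1 h
  omega

/-- Any invariant subspace of the image of `X - 1` is zero or everything. -/
theorem irr (h6 : Ord6 (Fintype.card K) p) (h7 : finrank K V = 7) (hX1 : X ≠ 1) (U : Submodule K V)
    (hUW : U ≤ LinearMap.range (X - 1)) (hU : ∀ u ∈ U, X u ∈ U) : U = ⊥ ∨ U = LinearMap.range (X - 1) := by
  have h1 := six_dvd X hX hpK h6 U hUW hU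
  have h2 := finrank_range X hX hpK h6 h7 hX1
  have h3 : finrank K ↥U ≤ 6 := h2 ▸ Submodule.finrank_mono hUW
  have h4 : finrank K ↥U = 0 ∨ finrank K ↥U = 6 := by omega
  rcases h4 with h4 | h4
  · left
    exact Submodule.finrank_eq_zero.1 h4
  · right
    exact Submodule.eq_of_le_of_finrank_eq hUW (by rw [h4, h2])

end Count

section Irr

variable {K : Type*} [Field K] {W : Type*} [AddCommGroup W] [Module K W]

/-- An operator with no proper invariant subspace. -/
def IsIrr (X : Module.End K W) : Prop := ∀ U : Submodule K W, (∀ u ∈ U, X u ∈ U) → U = ⊥ ∨ U = ⊤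

variable {X : Module.End K W} (hX : IsIrr X)

include hX

/-- A nonzero operator commuting with `X` is surjective. -/
theorem surj_of_comm {f : Module.End K W} (hf : f * X = X * f) (hf0 : f ≠ 0) : Function.Surjective f := by
  have h0 : ∀ u ∈ LinearMap.range f, X u ∈ LinearMap.range f := by
    rintro _ ⟨v, rfl⟩
    refine ⟨X v, ?_⟩
    have := congrArg (fun g : Module.End K W => g v) hf
    simpa using this
  rcases hX _ h0 with h | h
  · exact absurd (LinearMap.range_eq_bot.1 h) hf0
  · exact LinearMap.range_eq_top.1 h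

omit hX in
theorem mem_cen {f : Module.End K W} : f ∈ Subalgebra.centralizer K {X} ↔ f * X = X * f := by
  rw [Subalgebra.mem_centralizer_iff]
  constructor
  · intro h
    exact (h X rfl).symm
  · rintro h _ rfl
    exact h.symm

theorem noZero_cen : NoZeroDivisors ↥(Subalgebra.centralizer K {X}) := by
  refine ⟨?_⟩
  rintro ⟨f, hf⟩ ⟨g, hg⟩ h
  have h1 : f * g = 0 := congrArg Subtype.val h
  by_cases h2 : g = 0
  · right
    exact Subtype.ext h2
  · left
    apply Subtype.ext
    show f = 0
    have h3 := surj_of_comm hX ((mem_cen).1 hg) h2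
    ext v
    obtain ⟨u, rfl⟩ := h3 v
    have := congrArg (fun g : Module.End K W => g u) h1
    simpa using this

theorem isDomain_cen [Nontrivial W] : IsDomain ↥(Subalgebra.centralizer K {X}) := by
  haveI := noZero_cen hX
  haveI : Nontrivial ↥(Subalgebra.centralizer K {X}) := by
    refine ⟨⟨0, 1, ?_⟩⟩
    intro h
    have h1 : (0 : Module.End K W) = 1 := congrArg Subtype.val h
    exact zero_ne_one h1
  exact NoZeroDivisors.to_isDomain _

omit hX in
theorem isCyclic_of_domain {D : Type*} [Ring D] [IsDomain D] [Finite D] {A : Type*} [Group A] [Finite A] (f : A →* D)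
    (hf : Function.Injective f) : IsCyclic A := by
  letI := (Finite.isDomain_to_isField D).toField
  exact isCyclic_of_injective_ringHom f hf

/-- A finite group of operators commuting with an irreducible operator is cyclic. -/
theorem isCyclic_of_irr [Finite K] [Finite W] [Nontrivial W] {A : Type*} [Group A] [Finite A] (σ : A →* Module.End K W) (hσ : Function.Injective σ)
    (hc : ∀ a, σ a * X = X * σ a) : IsCyclic A := by
  haveI := isDomain_cen hX
  haveI : Finite (Module.End K W) := DFunLike.finite _
  let f : A →* ↥(Subalgebra.centralizer K {X}) :=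
    { toFun := fun a => ⟨σ a, mem_cen.2 (hc a)⟩
      map_one' := Subtype.ext (map_one σ)
      map_mul' := fun a b => Subtype.ext (map_mul σ a b) }
  exact isCyclic_of_domain f (fun a b h => hσ (congrArg Subtype.val h))

/-- The minimal polynomial of `X` is irreducible. -/
theorem irreducible_minpoly [FiniteDimensional K W] [Nontrivial W] : Irreducible (minpoly K X) := by
  haveI := isDomain_cen hX
  have h1 : X ∈ Subalgebra.centralizer K {X} := mem_cen.2 rfl
  have h2 : IsIntegral K (⟨X, h1⟩ : ↥(Subalgebra.centralizer K {X})) :=  Algebra.IsIntegral.isIntegral _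
  have h3 := minpoly.irreducible h2
  rwa [← minpoly.algHom_eq (Subalgebra.val (Subalgebra.centralizer K {X})) Subtype.val_injective] at h3

/-- The Galois argument. -/
theorem galois [Fintype K] [Finite W] [FiniteDimensional K W] [Nontrivial W] (h6 : finrank K W = 6) {g : Module.End K W}
    (hg : Function.Surjective g) {k : ℕ} (hgX : g * X = X ^ k * g)
    (hinj : ∀ i j, i < 6 → j < 6 → X ^ (Fintype.card K ^ i) = X ^ (Fintype.card K ^ j) → i = j) :
    ∃ i < 6, X ^ k = X ^ (Fintype.card K ^ i) := by
  classical
  have hirr := irreducible_minpoly hX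
  haveI : Fact (Irreducible (minpoly K X)) := ⟨hirr⟩
  set π := minpoly K X with hπ
  have hπ0 : π ≠ 0 := hirr.ne_zero
  have hXπ : aeval X π = 0 := minpoly.aeval K X
  let E := AdjoinRoot π
  let ι : E →ₐ[K] Module.End K W := Ideal.Quotient.liftₐ (Ideal.span {π}) (aeval X) (by
    intro a ha
    obtain ⟨b, rfl⟩ := Ideal.mem_span_singleton.1 ha
    rw [map_mul, hXπ, zero_mul])
  let ξ : E := AdjoinRoot.root π
  have hιξ : ι ξ = X := by
    show aeval X (Polynomial.X : K[X]) = X
    exact aeval_X X
  have hι : Function.Injective ι := ι.toRingHom.injective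
  have hroot : ∀ z : E, aeval z π = 0 → aeval (z ^ Fintype.card K) π = 0 := by
    intro z hz
    rw [← expand_aeval, FiniteField.expand_card, map_pow, hz, zero_pow Fintype.card_ne_zero]
  have hξ : aeval ξ π = 0 := by
    apply hι
    rw [← aeval_algHom_apply, hιξ, hXπ, map_zero]
  have hpow : ∀ i : ℕ, aeval (ξ ^ (Fintype.card K ^ i)) π = 0 := by
    intro i
    induction i with
    | zero => simpa using hξ
    | succ i ih =>
      rw [pow_succ, pow_mul]
      exact hroot _ ih
  have hk : aeval (ξ ^ k) π = 0 := by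
    apply hι
    rw [← aeval_algHom_apply, map_pow, hιξ, map_zero]
    have h1 : ∀ f : K[X], g * aeval X f = aeval (X ^ k) f * g := by
      intro f
      induction f using Polynomial.induction_on' with
      | add p q hp hq => simp only [map_add, mul_add, add_mul, hp, hq]
      | monomial n a =>
        simp only [aeval_monomial]
        have h2 : g * X ^ n = (X ^ k) ^ n * g := by
          induction n with
          | zero => simp
          | succ n ih =>
            rw [pow_succ, ← mul_assoc, ih, pow_succ, mul_assoc, hgX, mul_assoc]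
        calc g * (algebraMap K (Module.End K W) a * X ^ n)
            = algebraMap K (Module.End K W) a * (g * X ^ n) := by
              rw [← mul_assoc, ← mul_assoc, Algebra.commutes]
          _ = _ := by
              rw [h2, mul_assoc]
    have h2 := h1 π
    rw [hXπ, mul_zero] at h2
    ext v
    obtain ⟨u, rfl⟩ := hg v
    have := congrArg (fun f : Module.End K W => f u) h2
    simpa using this.symm
  have hdeg : π.natDegree ≤ 6 := by
    have h1 : π ∣ LinearMap.charpoly X := LinearMap.minpoly_dvd_charpoly X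
    have h2 := natDegree_le_of_dvd h1 (LinearMap.charpoly_monic X).ne_zero
    rwa [LinearMap.charpoly_natDegree, h6] at h2
  have hcard : ((π.aroots E).toFinset).card ≤ 6 := by
    refine (Multiset.toFinset_card_le _).trans ?_
    refine (card_roots' _).trans ?_
    rw [natDegree_map]
    exact hdeg
  have hmem : ∀ z : E, aeval z π = 0 → z ∈ (π.aroots E).toFinset := by
    intro z hz
    rw [Multiset.mem_toFinset, mem_aroots]
    exact ⟨hπ0, hz⟩
  let S : Finset E := (Finset.range 6).image (fun i => ξ ^ (Fintype.card K ^ i))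
  have hS : S.card = 6 := by
    rw [Finset.card_image_of_injOn, Finset.card_range]
    intro i hi j hj hij
    apply hinj i j (Finset.mem_range.1 (Finset.mem_coe.1 hi)) (Finset.mem_range.1 (Finset.mem_coe.1 hj))
    have := congrArg ι hij
    simpa only [map_pow, hιξ] using this
  have hSsub : S ⊆ (π.aroots E).toFinset := by
    intro z hz
    obtain ⟨i, -, rfl⟩ := Finset.mem_image.1 hz
    exact hmem _ (hpow i)
  have hkS : ξ ^ k ∈ S := by
    by_contra hn
    have h1 : insert (ξ ^ k) S ⊆ (π.aroots E).toFinset :=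
      Finset.insert_subset (hmem _ hk) hSsub
    have h2 := Finset.card_le_card h1
    rw [Finset.card_insert_of_notMem hn, hS] at h2
    omega
  obtain ⟨i, hi, hie⟩ := Finset.mem_image.1 hkS
  refine ⟨i, Finset.mem_range.1 hi, ?_⟩
  have := congrArg ι hie
  simpa only [map_pow, hιξ] using this.symm

end Irr

section Main

variable {K : Type*} [Field K] [Fintype K] {V : Type*} [AddCommGroup V] [Module K V] [Finite V]

/-- Restriction to an invariant subspace. -/
def resU (U : Submodule K V) (f : Module.End K V) (h : ∀ u ∈ U, f u ∈ U) : Module.End K ↥U := f.restrict h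

omit [Fintype K] [Finite V] in
theorem resU_apply (U : Submodule K V) (f : Module.End K V) (h : ∀ u ∈ U, f u ∈ U) (u : ↥U) :
    (resU U f h u).1 = f u.1 := rfl

variable {p : ℕ} [Fact p.Prime] (X : Module.End K V) (hX : X ^ p = 1) (hpK : (p : K) ≠ 0)

omit [Fintype K] [Finite V] [Fact p.Prime] in
/-- Operators normalising `X` preserve the image of `X - 1`. -/
theorem range_inv {f : Module.End K V} {k : ℕ} (hf : f * X = X ^ k * f) :
    ∀ u ∈ LinearMap.range (X - 1), f u ∈ LinearMap.range (X - 1) := by
  rintro _ ⟨v, rfl⟩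
  have h1 : f * (X - 1) = (X - 1) * ((∑ i ∈ Finset.range k, X ^ i) * f) := by
    rw [← mul_assoc, mul_geom_sum, mul_sub, sub_mul, mul_one, one_mul, hf]
  refine ⟨((∑ i ∈ Finset.range k, X ^ i) * f) v, ?_⟩
  have := congrArg (fun g : Module.End K V => g v) h1
  simpa using this.symm

omit [Fintype K] [Finite V] [Fact p.Prime] in
theorem X_range : ∀ u ∈ LinearMap.range (X - 1), X u ∈ LinearMap.range (X - 1) :=
  range_inv X (f := X) (k := 1) (by rw [pow_one])

include hX hpK

theorem irr' (h6 : Ord6 (Fintype.card K) p) (h7 : finrank K V = 7) (hX1 : X ≠ 1) :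
    IsIrr (resU (LinearMap.range (X - 1)) X (X_range X)) := by
  intro U hU
  rcases irr X hX hpK h6 h7 hX1 (U.map (Submodule.subtype _)) (by
    rintro _ ⟨u, -, rfl⟩
    exact u.2) (by
    rintro _ ⟨u, hu, rfl⟩
    exact ⟨_, hU u hu, rfl⟩) with h | h
  · left
    rw [eq_bot_iff]
    intro u hu
    have h1 : u.1 ∈ U.map (Submodule.subtype _) := ⟨u, hu, rfl⟩
    rw [h, Submodule.mem_bot] at h1
    exact (Submodule.mem_bot K).2 (Subtype.ext h1)
  · right
    rw [eq_top_iff]
    intro u _
    have h1 : u.1 ∈ U.map (Submodule.subtype _) := by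
      rw [h]
      exact u.2
    obtain ⟨v, hv, hvu⟩ := h1
    have : v = u := Subtype.ext hvu
    rwa [← this]

/-- A finite group commuting with `X` and acting faithfully on the image of `X - 1` is cyclic. -/
theorem cyclic_V (h6 : Ord6 (Fintype.card K) p) (h7 : finrank K V = 7) (hX1 : X ≠ 1) {A : Type*} [Group A] [Finite A]
    (σ : A →* Module.End K V) (hc : ∀ a, σ a * X = X * σ a)
    (hf : ∀ a, (∀ w ∈ LinearMap.range (X - 1), σ a w = w) → a = 1) : IsCyclic A := by
  have hr : ∀ a, ∀ u ∈ LinearMap.range (X - 1), σ a u ∈ LinearMap.range (X - 1) := fun a =>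
    range_inv X (f := σ a) (k := 1) (by rw [pow_one, hc])
  let σ' : A →* Module.End K ↥(LinearMap.range (X - 1)) :=
    { toFun := fun a => resU _ (σ a) (hr a)
      map_one' := by
        ext u
        simp [resU_apply]
      map_mul' := fun a b => by
        ext u
        simp [resU_apply] }
  have hirr := irr' X hX hpK h6 h7 hX1
  haveI : Nontrivial ↥(LinearMap.range (X - 1)) := by
    apply Module.nontrivial_of_finrank_pos (R := K)
    rw [finrank_range X hX hpK h6 h7 hX1]
    norm_num
  refine isCyclic_of_irr hirr σ' ?_ ?_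
  · intro a b hab
    have : b⁻¹ * a = 1 := by
      apply hf
      intro w hw
      have h1 := congrArg (fun g : Module.End K ↥(LinearMap.range (X - 1)) => (g ⟨w, hw⟩).1) hab
      have h2 : σ a w = σ b w := h1
      rw [map_mul, Module.End.mul_apply, h2, ← Module.End.mul_apply, ← map_mul, inv_mul_cancel, map_one]
      rfl
    exact (inv_mul_eq_one.1 this).symm
  · intro a
    ext u
    have := congrArg (fun g : Module.End K V => g u.1) (hc a)
    exact this

/-- The Galois argument for `X`. -/
theorem galois_V (h6 : Ord6 (Fintype.card K) p) (h7 : finrank K V = 7) (hX1 : X ≠ 1) {g : Module.End K V}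
    (hg : Function.Injective g) {k : ℕ} (hgX : g * X = X ^ k * g) : ∃ i < 6, k ≡ Fintype.card K ^ i [MOD p] := by
  have hirr := irr' X hX hpK h6 h7 hX1
  haveI : Nontrivial ↥(LinearMap.range (X - 1)) := by
    apply Module.nontrivial_of_finrank_pos (R := K)
    rw [finrank_range X hX hpK h6 h7 hX1]
    norm_num
  set W := LinearMap.range (X - 1) with hW
  set X' := resU W X (X_range X) with hX'
  have hpow : ∀ n : ℕ, ∀ u : ↥W, ((X' ^ n) u).1 = (X ^ n) u.1 := by
    intro n
    induction n with
    | zero => intro u; rfl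
    | succ n ih =>
      intro u
      rw [pow_succ', pow_succ']
      show X (((X' ^ n) u).1) = X ((X ^ n) u.1)
      rw [ih]
  have hX'p : X' ^ p = 1 := by
    ext u
    rw [hpow, hX]
    rfl
  have hXW : X' ≠ 1 := by
    intro h
    obtain ⟨v, hv⟩ : ∃ v : ↥W, v ≠ 0 := exists_ne 0
    apply hv
    have h1 : v.1 ∈ W ⊓ LinearMap.ker (X - 1) := by
      refine Submodule.mem_inf.2 ⟨v.2, (mem_ker_sub_one X _).2 ?_⟩
      have := congrArg (fun g : Module.End K ↥W => (g v).1) h
      exact this
    have h2 := (SetLike.ext_iff.1 (range_inf_ker X hX hpK) v.1).1 h1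
    exact Subtype.ext ((Submodule.mem_bot K).1 h2)
  have hmod : ∀ a b : ℕ, X' ^ a = X' ^ b → a ≡ b [MOD p] := by
    intro a b hab
    have hp0 : p ≠ 0 := (Fact.out : p.Prime).ne_zero
    set u := Units.ofPowEqOne X' p hX'p hp0 with hu
    have hup : u ^ p = 1 := Units.pow_ofPowEqOne _ _
    have hu1 : u ≠ 1 := by
      intro h
      apply hXW
      have := congrArg Units.val h
      simpa [hu] using this
    have hord : orderOf u = p := orderOf_eq_prime hup hu1
    rw [← hord, ← pow_eq_pow_iff_modEq]
    apply Units.ext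
    simpa [hu] using hab
  have hr := range_inv X hgX
  have hg' : Function.Surjective (resU W g hr) := by
    apply Finite.surjective_of_injective
    intro a b hab
    exact Subtype.ext (hg (congrArg Subtype.val hab))
  obtain ⟨i, hi, hie⟩ := galois hirr (by rw [finrank_range X hX hpK h6 h7 hX1]) hg' (k := k) (by
    ext u
    show g (X u.1) = ((X' ^ k) (resU W g hr u)).1
    rw [hpow]
    have := congrArg (fun f : Module.End K V => f u.1) hgX
    exact this) (by
    intro i j hi hj hij
    have key : ∀ i j : ℕ, i < 6 → j < 6 → i ≤ j → (Fintype.card K) ^ i ≡ (Fintype.card K) ^ j [MOD p] → i = j := by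
      intro i j hi hj hle hij
      obtain ⟨c, rfl⟩ := Nat.exists_eq_add_of_le hle
      have h1 : (Fintype.card K) ^ c ≡ 1 [MOD p] := by
        have h2 : (Fintype.card K) ^ i * 1 ≡ (Fintype.card K) ^ i * (Fintype.card K) ^ c [MOD p] := by
          rw [mul_one, ← pow_add]
          exact hij
        exact (Nat.ModEq.cancel_left_of_coprime (by
          exact (Nat.Coprime.pow_left i h6.hcop).symm) h2).symm
      have h3 := h6.hdvd c h1
      have : c = 0 := Nat.eq_zero_of_dvd_of_lt h3 (by omega)
      omega
    have hij := hmod _ _ hij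
    rcases le_total i j with h | h
    · exact key i j hi hj h hij
    · exact (key j i hj hi h hij.symm).symm)
  exact ⟨i, hi, hmod _ _ hie⟩

end Main

end Cfsg.Agent.Lib.Chev.LinIrr
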