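import Cfsg.Agent.Lib.Chev.TabD4
import Cfsg.Agent.Lib.Chev.RootDef

namespace Cfsg.Agent.Lib.Chev.RootD4T
open Cfsg.Agent.Lib.Chev Cfsg.Lie Cfsg.Agent.Lib.Chev.TabD4

noncomputable def rc : Trie (List ℤ) := (.node [(.negSucc 0),(.negSucc 1),(.negSucc 0),(.negSucc 0)] (.node [] (.node [] (.node [] (.node [] .nil (.node [(.ofNat 0),(.ofNat 1),(.ofNat 1),(.ofNat 0)] .nil .nil)) (.node [(.ofNat 0),(.negSucc 0),(.ofNat 0),(.negSucc 0)] .nil .nil)) (.node [(.negSucc 0),(.negSucc 0),(.ofNat 0),(.ofNat 0)] (.node [] .nil (.node [(.ofNat 1),(.ofNat 1),(.ofNat 0),(.ofNat 1)] .nil .nil)) (.node [(.ofNat 0),(.ofNat 0),(.ofNat 0),(.ofNat 1)] .nil .nil))) (.node [(.negSucc 0),(.negSucc 0),(.negSucc 0),(.ofNat 0)] (.node [] (.node [] .nil (.node [(.ofNat 1),(.ofNat 0),(.ofNat 0),(.ofNat 0)] .nil .nil)) (.node [(.ofNat 0),(.ofNat 0),(.negSucc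 0),(.ofNat 0)] .nil .nil)) (.node [(.ofNat 0),(.negSucc 0),(.negSucc 0),(.negSucc 0)] (.node [] .nil (.node [(.ofNat 1),(.ofNat 1),(.ofNat 1),(.ofNat 1)] .nil .nil)) (.node [(.ofNat 0),(.ofNat 1),(.ofNat 0),(.ofNat 0)] .nil .nil)))) (.node [(.negSucc 0),(.negSucc 0),(.negSucc 0),(.negSucc 0)] (.node [] (.node [] (.node [] .nil (.node [(.ofNat 0),(.ofNat 1),(.ofNat 1),(.ofNat 1)] .nil .nil)) (.node [(.ofNat 0),(.negSucc 0),(.ofNat 0),(.ofNat 0)] .nil .nil)) (.node [(.negSucc 0),(.ofNat 0),(.ofNat 0),(.ofNat 0)] (.node [] .nil (.node [(.ofNat 1),(.ofNat 1),(.ofNat 1),(.ofNat 0)] .nil .nil)) (.node [(.ofNat 0),(.ofNat 0),(.ofNat 1),(.ofNat 0)] .nil .nil))) (.node [(.negSucc 0),(.negSucc 0),(.ofNat 0),(.negSucc 0)] (.node [] (.node [] .nil (.node [(.ofNat 1),(.ofNat 1),(.ofNat 0),(.ofNat 0)] .nil .nil)) (.node [(.ofNat 0),(.ofNat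 0),(.ofNat 0),(.negSucc 0)] .nil .nil)) (.node [(.ofNat 0),(.negSucc 0),(.negSucc 0),(.ofNat 0)] (.node [] .nil (.node [(.ofNat 1),(.ofNat 2),(.ofNat 1),(.ofNat 1)] .nil .nil)) (.node [(.ofNat 0),(.ofNat 1),(.ofNat 0),(.ofNat 1)] .nil .nil)))))
noncomputable def bez : Trie (List ℤ) := (.node [(.ofNat 0),(.ofNat 0),(.ofNat 0),(.negSucc 0)] (.node [] (.node [] (.node [] (.node [] .nil (.node [(.ofNat 0),(.ofNat 0),(.ofNat 1),(.ofNat 0)] .nil .nil)) (.node [(.ofNat 0),(.ofNat 0),(.ofNat 0),(.negSucc 0)] .nil .nil)) (.node [(.ofNat 0),(.negSucc 0),(.ofNat 0),(.ofNat 0)] (.node [] .nil (.node [(.ofNat 0),(.ofNat 0),(.ofNat 0),(.ofNat 1)] .nil .nil)) (.node [(.ofNat 0),(.ofNat 0),(.ofNat 0),(.ofNat 1)] .nil .nil))) (.node [(.ofNat 0),(.ofNat 0),(.negSucc 0),(.ofNat 0)] (.node [] (.node [] .nil (.node [(.ofNat 1),(.ofNat 0),(.ofNat 0),(.ofNat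 0)] .nil .nil)) (.node [(.ofNat 0),(.ofNat 0),(.negSucc 0),(.ofNat 0)] .nil .nil)) (.node [(.ofNat 0),(.ofNat 0),(.ofNat 0),(.negSucc 0)] (.node [] .nil (.node [(.ofNat 0),(.ofNat 0),(.ofNat 0),(.ofNat 1)] .nil .nil)) (.node [(.ofNat 0),(.ofNat 1),(.ofNat 0),(.ofNat 0)] .nil .nil)))) (.node [(.ofNat 0),(.ofNat 0),(.ofNat 0),(.negSucc 0)] (.node [] (.node [] (.node [] .nil (.node [(.ofNat 0),(.ofNat 0),(.ofNat 0),(.ofNat 1)] .nil .nil)) (.node [(.ofNat 0),(.negSucc 0),(.ofNat 0),(.ofNat 0)] .nil .nil)) (.node [(.negSucc 0),(.ofNat 0),(.ofNat 0),(.ofNat 0)] (.node [] .nil (.node [(.ofNat 0),(.ofNat 0),(.ofNat 1),(.ofNat 0)] .nil .nil)) (.node [(.ofNat 0),(.ofNat 0),(.ofNat 1),(.ofNat 0)] .nil .nil))) (.node [(.ofNat 0),(.ofNat 0),(.ofNat 0),(.negSucc 0)] (.node [] (.node [] .nil (.node [(.ofNat 0),(.ofNat 1),(.ofNat 0),(.ofNat 0)]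 .nil .nil)) (.node [(.ofNat 0),(.ofNat 0),(.ofNat 0),(.negSucc 0)] .nil .nil)) (.node [(.ofNat 0),(.ofNat 0),(.negSucc 0),(.ofNat 0)] (.node [] .nil (.node [(.ofNat 0),(.ofNat 0),(.ofNat 0),(.ofNat 1)] .nil .nil)) (.node [(.ofNat 0),(.ofNat 0),(.ofNat 0),(.ofNat 1)] .nil .nil)))))
noncomputable def R : RootTab := ⟨12, rc, bez, [0, 1, 0, 2, 1, 0, 3, 1, 0, 2, 1, 3], [(0,1,3,0,0),(0,2,2,1,1),(0,3,2,1,1),(1,2,3,0,0),(1,3,3,0,0),(2,3,2,1,1)]⟩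
end Cfsg.Agent.Lib.Chev.RootD4T
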