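import Cfsg.Agent.Lib.Chev.TabE7
import Cfsg.Agent.Lib.Chev.RootDef

namespace Cfsg.Agent.Lib.Chev.RootE7T
open Cfsg.Agent.Lib.Chev Cfsg.Lie Cfsg.Agent.Lib.Chev.TabE7

noncomputable def rc : Trie (List ℤ) := (.node [(.negSucc 1),(.negSucc 1),(.negSucc 2),(.negSucc 3),(.negSucc 2),(.negSucc 1),(.negSucc 0)] (.node [] (.node [] (.node [] (.node [] (.node [] (.node [] .nil (.node [(.ofNat 0),(.ofNat 0),(.ofNat 0),(.ofNat 0),(.ofNat 0),(.ofNat 1),(.ofNat 0)] .nil .nil)) (.node [(.negSucc 0),(.ofNat 0),(.ofNat 0),(.ofNat 0),(.ofNat 0),(.ofNat 0),(.ofNat 0)] .nil (.node [(.ofNat 1),(.ofNat 0),(.ofNat 1),(.ofNat 1),(.ofNat 1),(.ofNat 0),(.ofNat 0)] .nil .nil))) (.node [(.negSucc 0),(.negSucc 0),(.negSucc 1),(.negSucc 1),(.negSucc 0),(.ofNat 0),(.ofNat 0)] (.node [] .nil (.node [(.ofNat 0),(.ofNat 1),(.ofNat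 0),(.ofNat 1),(.ofNat 1),(.ofNat 0),(.ofNat 0)] .nil .nil)) (.node [(.ofNat 0),(.ofNat 0),(.negSucc 0),(.negSucc 0),(.negSucc 0),(.negSucc 0),(.negSucc 0)] .nil (.node [(.ofNat 1),(.ofNat 1),(.ofNat 2),(.ofNat 2),(.ofNat 2),(.ofNat 1),(.ofNat 0)] .nil .nil)))) (.node [(.negSucc 0),(.negSucc 0),(.negSucc 1),(.negSucc 2),(.negSucc 1),(.negSucc 1),(.negSucc 0)] (.node [] (.node [] .nil (.node [(.ofNat 0),(.ofNat 0),(.ofNat 0),(.ofNat 1),(.ofNat 1),(.ofNat 1),(.ofNat 1)] .nil .nil)) (.node [(.ofNat 0),(.negSucc 0),(.negSucc 0),(.negSucc 0),(.negSucc 0),(.negSucc 0),(.ofNat 0)] .nil (.node [(.ofNat 1),(.ofNat 1),(.ofNat 1),(.ofNat 2),(.ofNat 1),(.ofNat 1),(.ofNat 0)] .nil .nil))) (.node [(.negSucc 0),(.negSucc 0),(.negSucc 0),(.negSucc 0),(.negSucc 0),(.negSucc 0),(.ofNat 0)] (.node [] .nil (.node [(.ofNat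 0),(.ofNat 1),(.ofNat 1),(.ofNat 2),(.ofNat 1),(.ofNat 1),(.ofNat 0)] .nil .nil)) (.node [(.ofNat 0),(.ofNat 0),(.ofNat 0),(.negSucc 0),(.ofNat 0),(.ofNat 0),(.ofNat 0)] .nil (.node [(.ofNat 1),(.ofNat 2),(.ofNat 2),(.ofNat 3),(.ofNat 2),(.ofNat 1),(.ofNat 1)] .nil .nil))))) (.node [(.negSucc 0),(.negSucc 1),(.negSucc 1),(.negSucc 2),(.negSucc 1),(.negSucc 1),(.negSucc 0)] (.node [] (.node [] (.node [] .nil (.node [(.ofNat 0),(.ofNat 0),(.ofNat 0),(.ofNat 0),(.ofNat 1),(.ofNat 1),(.ofNat 1)] .nil .nil)) (.node [(.ofNat 0),(.negSucc 0),(.negSucc 0),(.negSucc 1),(.negSucc 0),(.negSucc 0),(.negSucc 0)] .nil (.node [(.ofNat 1),(.ofNat 1),(.ofNat 1),(.ofNat 1),(.ofNat 1),(.ofNat 0),(.ofNat 0)] .nil .nil))) (.node [(.negSucc 0),(.negSucc 0),(.negSucc 0),(.negSucc 1),(.negSucc 0),(.negSucc 0),(.negSucc 0)]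 (.node [] .nil (.node [(.ofNat 0),(.ofNat 1),(.ofNat 1),(.ofNat 1),(.ofNat 1),(.ofNat 0),(.ofNat 0)] .nil .nil)) (.node [(.ofNat 0),(.ofNat 0),(.negSucc 0),(.ofNat 0),(.ofNat 0),(.ofNat 0),(.ofNat 0)] .nil (.node [(.ofNat 1),(.ofNat 1),(.ofNat 2),(.ofNat 3),(.ofNat 2),(.ofNat 1),(.ofNat 1)] .nil .nil)))) (.node [(.negSucc 0),(.negSucc 0),(.negSucc 1),(.negSucc 1),(.negSucc 1),(.negSucc 0),(.negSucc 0)] (.node [] (.node [] .nil (.node [(.ofNat 0),(.ofNat 0),(.ofNat 1),(.ofNat 1),(.ofNat 1),(.ofNat 1),(.ofNat 0)] .nil .nil)) (.node [(.ofNat 0),(.negSucc 0),(.ofNat 0),(.negSucc 0),(.negSucc 0),(.negSucc 0),(.ofNat 0)] .nil (.node [(.ofNat 1),(.ofNat 1),(.ofNat 1),(.ofNat 2),(.ofNat 2),(.ofNat 2),(.ofNat 1)] .nil .nil))) (.node [(.negSucc 0),(.ofNat 0),(.negSucc 0),(.negSucc 0),(.negSucc 0),(.negSucc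 0),(.ofNat 0)] (.node [] .nil (.node [(.ofNat 0),(.ofNat 1),(.ofNat 1),(.ofNat 2),(.ofNat 2),(.ofNat 2),(.ofNat 1)] .nil .nil)) (.node [(.ofNat 0),(.ofNat 0),(.ofNat 0),(.ofNat 0),(.ofNat 0),(.negSucc 0),(.negSucc 0)] .nil (.node [(.ofNat 1),(.ofNat 2),(.ofNat 3),(.ofNat 4),(.ofNat 3),(.ofNat 2),(.ofNat 1)] .nil .nil)))))) (.node [(.negSucc 0),(.negSucc 1),(.negSucc 1),(.negSucc 3),(.negSucc 2),(.negSucc 1),(.negSucc 0)] (.node [] (.node [] (.node [] (.node [] .nil (.node [(.ofNat 0),(.ofNat 0),(.ofNat 0),(.ofNat 0),(.ofNat 1),(.ofNat 0),(.ofNat 0)] .nil .nil)) (.node [(.ofNat 0),(.negSucc 0),(.negSucc 0),(.negSucc 1),(.negSucc 1),(.negSucc 0),(.negSucc 0)] .nil (.node [(.ofNat 1),(.ofNat 0),(.ofNat 1),(.ofNat 1),(.ofNat 1),(.ofNat 1),(.ofNat 1)] .nil .nil))) (.node [(.negSucc 0),(.negSucc 0),(.negSucc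 0),(.negSucc 1),(.negSucc 1),(.negSucc 0),(.negSucc 0)] (.node [] .nil (.node [(.ofNat 0),(.ofNat 1),(.ofNat 0),(.ofNat 1),(.ofNat 1),(.ofNat 1),(.ofNat 1)] .nil .nil)) (.node [(.ofNat 0),(.ofNat 0),(.negSucc 0),(.negSucc 0),(.negSucc 0),(.ofNat 0),(.ofNat 0)] .nil (.node [(.ofNat 1),(.ofNat 1),(.ofNat 2),(.ofNat 2),(.ofNat 2),(.ofNat 2),(.ofNat 1)] .nil .nil)))) (.node [(.negSucc 0),(.negSucc 0),(.negSucc 1),(.negSucc 2),(.negSucc 1),(.negSucc 0),(.ofNat 0)] (.node [] (.node [] .nil (.node [(.ofNat 0),(.ofNat 0),(.ofNat 1),(.ofNat 1),(.ofNat 0),(.ofNat 0),(.ofNat 0)] .nil .nil)) (.node [(.ofNat 0),(.negSucc 0),(.negSucc 0),(.negSucc 0),(.ofNat 0),(.ofNat 0),(.ofNat 0)] .nil (.node [(.ofNat 1),(.ofNat 1),(.ofNat 1),(.ofNat 2),(.ofNat 2),(.ofNat 1),(.ofNat 0)] .nil .nil))) (.node [(.negSucc 0),(.negSucc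 0),(.negSucc 0),(.negSucc 0),(.ofNat 0),(.ofNat 0),(.ofNat 0)] (.node [] .nil (.node [(.ofNat 0),(.ofNat 1),(.ofNat 1),(.ofNat 2),(.ofNat 2),(.ofNat 1),(.ofNat 0)] .nil .nil)) (.node [(.ofNat 0),(.ofNat 0),(.ofNat 0),(.ofNat 0),(.negSucc 0),(.negSucc 0),(.ofNat 0)] .nil (.node [(.ofNat 1),(.ofNat 2),(.ofNat 2),(.ofNat 3),(.ofNat 3),(.ofNat 2),(.ofNat 1)] .nil .nil))))) (.node [(.negSucc 0),(.negSucc 1),(.negSucc 1),(.negSucc 2),(.negSucc 1),(.negSucc 0),(.ofNat 0)] (.node [] (.node [] (.node [] .nil (.node [(.ofNat 0),(.ofNat 0),(.ofNat 0),(.ofNat 1),(.ofNat 1),(.ofNat 0),(.ofNat 0)] .nil .nil)) (.node [(.ofNat 0),(.negSucc 0),(.negSucc 0),(.negSucc 1),(.negSucc 0),(.ofNat 0),(.ofNat 0)] .nil (.node [(.ofNat 1),(.ofNat 1),(.ofNat 1),(.ofNat 1),(.ofNat 1),(.ofNat 1),(.ofNat 1)] .nil .nil))) (.node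 [(.negSucc 0),(.negSucc 0),(.negSucc 0),(.negSucc 1),(.negSucc 0),(.ofNat 0),(.ofNat 0)] (.node [] .nil (.node [(.ofNat 0),(.ofNat 1),(.ofNat 1),(.ofNat 1),(.ofNat 1),(.ofNat 1),(.ofNat 1)] .nil .nil)) (.node [(.ofNat 0),(.ofNat 0),(.ofNat 0),(.negSucc 0),(.negSucc 0),(.negSucc 0),(.ofNat 0)] .nil (.node [(.ofNat 1),(.ofNat 1),(.ofNat 2),(.ofNat 3),(.ofNat 3),(.ofNat 2),(.ofNat 1)] .nil .nil)))) (.node [(.negSucc 0),(.negSucc 0),(.negSucc 1),(.negSucc 1),(.negSucc 0),(.negSucc 0),(.negSucc 0)] (.node [] (.node [] .nil (.node [(.ofNat 0),(.ofNat 1),(.ofNat 0),(.ofNat 0),(.ofNat 0),(.ofNat 0),(.ofNat 0)] .nil .nil)) (.node [(.ofNat 0),(.negSucc 0),(.ofNat 0),(.negSucc 0),(.ofNat 0),(.ofNat 0),(.ofNat 0)] .nil (.node [(.ofNat 1),(.ofNat 1),(.ofNat 2),(.ofNat 2),(.ofNat 1),(.ofNat 1),(.ofNat 0)] .nil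 .nil))) (.node [(.negSucc 0),(.ofNat 0),(.negSucc 0),(.negSucc 0),(.ofNat 0),(.ofNat 0),(.ofNat 0)] (.node [] .nil (.node [(.ofNat 1),(.ofNat 0),(.ofNat 1),(.ofNat 0),(.ofNat 0),(.ofNat 0),(.ofNat 0)] .nil .nil)) (.node [(.ofNat 0),(.ofNat 0),(.ofNat 0),(.ofNat 0),(.ofNat 0),(.ofNat 0),(.negSucc 0)] .nil .nil)))))) (.node [(.negSucc 0),(.negSucc 1),(.negSucc 2),(.negSucc 3),(.negSucc 2),(.negSucc 1),(.negSucc 0)] (.node [] (.node [] (.node [] (.node [] (.node [] .nil (.node [(.ofNat 0),(.ofNat 0),(.ofNat 0),(.ofNat 0),(.ofNat 0),(.ofNat 1),(.ofNat 1)] .nil .nil)) (.node [(.ofNat 0),(.negSucc 0),(.negSucc 0),(.negSucc 1),(.negSucc 1),(.negSucc 1),(.negSucc 0)] .nil (.node [(.ofNat 1),(.ofNat 0),(.ofNat 1),(.ofNat 1),(.ofNat 1),(.ofNat 1),(.ofNat 0)] .nil .nil))) (.node [(.negSucc 0),(.negSucc 0),(.negSucc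 0),(.negSucc 1),(.negSucc 1),(.negSucc 1),(.negSucc 0)] (.node [] .nil (.node [(.ofNat 0),(.ofNat 1),(.ofNat 0),(.ofNat 1),(.ofNat 1),(.ofNat 1),(.ofNat 0)] .nil .nil)) (.node [(.ofNat 0),(.ofNat 0),(.negSucc 0),(.negSucc 0),(.negSucc 0),(.negSucc 0),(.ofNat 0)] .nil (.node [(.ofNat 1),(.ofNat 1),(.ofNat 2),(.ofNat 2),(.ofNat 2),(.ofNat 1),(.ofNat 1)] .nil .nil)))) (.node [(.negSucc 0),(.negSucc 0),(.negSucc 1),(.negSucc 2),(.negSucc 1),(.negSucc 0),(.negSucc 0)] (.node [] (.node [] .nil (.node [(.ofNat 0),(.ofNat 0),(.ofNat 1),(.ofNat 0),(.ofNat 0),(.ofNat 0),(.ofNat 0)] .nil .nil)) (.node [(.ofNat 0),(.negSucc 0),(.negSucc 0),(.negSucc 0),(.negSucc 0),(.ofNat 0),(.ofNat 0)] .nil (.node [(.ofNat 1),(.ofNat 1),(.ofNat 1),(.ofNat 2),(.ofNat 1),(.ofNat 1),(.ofNat 1)] .nil .nil))) (.node [(.negSucc 0),(.negSucc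 0),(.negSucc 0),(.negSucc 0),(.negSucc 0),(.ofNat 0),(.ofNat 0)] (.node [] .nil (.node [(.ofNat 0),(.ofNat 1),(.ofNat 1),(.ofNat 2),(.ofNat 1),(.ofNat 1),(.ofNat 1)] .nil .nil)) (.node [(.ofNat 0),(.ofNat 0),(.ofNat 0),(.ofNat 0),(.negSucc 0),(.negSucc 0),(.negSucc 0)] .nil (.node [(.ofNat 1),(.ofNat 2),(.ofNat 2),(.ofNat 3),(.ofNat 2),(.ofNat 2),(.ofNat 1)] .nil .nil))))) (.node [(.negSucc 0),(.negSucc 1),(.negSucc 1),(.negSucc 2),(.negSucc 1),(.negSucc 0),(.negSucc 0)] (.node [] (.node [] (.node [] .nil (.node [(.ofNat 0),(.ofNat 0),(.ofNat 0),(.ofNat 1),(.ofNat 0),(.ofNat 0),(.ofNat 0)] .nil .nil)) (.node [(.ofNat 0),(.negSucc 0),(.negSucc 0),(.negSucc 1),(.negSucc 0),(.negSucc 0),(.ofNat 0)] .nil (.node [(.ofNat 1),(.ofNat 1),(.ofNat 1),(.ofNat 1),(.ofNat 1),(.ofNat 1),(.ofNat 0)] .nil .nil)))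 (.node [(.negSucc 0),(.negSucc 0),(.negSucc 0),(.negSucc 1),(.negSucc 0),(.negSucc 0),(.ofNat 0)] (.node [] .nil (.node [(.ofNat 0),(.ofNat 1),(.ofNat 1),(.ofNat 1),(.ofNat 1),(.ofNat 1),(.ofNat 0)] .nil .nil)) (.node [(.ofNat 0),(.ofNat 0),(.ofNat 0),(.negSucc 0),(.negSucc 0),(.negSucc 0),(.negSucc 0)] .nil (.node [(.ofNat 1),(.ofNat 1),(.ofNat 2),(.ofNat 3),(.ofNat 2),(.ofNat 2),(.ofNat 1)] .nil .nil)))) (.node [(.negSucc 0),(.negSucc 0),(.negSucc 1),(.negSucc 1),(.negSucc 1),(.negSucc 0),(.ofNat 0)] (.node [] (.node [] .nil (.node [(.ofNat 0),(.ofNat 0),(.ofNat 1),(.ofNat 1),(.ofNat 1),(.ofNat 1),(.ofNat 1)] .nil .nil)) (.node [(.ofNat 0),(.negSucc 0),(.ofNat 0),(.negSucc 0),(.negSucc 0),(.ofNat 0),(.ofNat 0)] .nil (.node [(.ofNat 1),(.ofNat 1),(.ofNat 2),(.ofNat 2),(.ofNat 1),(.ofNat 0),(.ofNat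 0)] .nil .nil))) (.node [(.negSucc 0),(.ofNat 0),(.negSucc 0),(.negSucc 0),(.negSucc 0),(.ofNat 0),(.ofNat 0)] (.node [] .nil (.node [(.ofNat 1),(.ofNat 0),(.ofNat 0),(.ofNat 0),(.ofNat 0),(.ofNat 0),(.ofNat 0)] .nil .nil)) (.node [(.ofNat 0),(.ofNat 0),(.ofNat 0),(.ofNat 0),(.ofNat 0),(.negSucc 0),(.ofNat 0)] .nil (.node [(.ofNat 2),(.ofNat 2),(.ofNat 3),(.ofNat 4),(.ofNat 3),(.ofNat 2),(.ofNat 1)] .nil .nil)))))) (.node [(.negSucc 0),(.negSucc 1),(.negSucc 1),(.negSucc 2),(.negSucc 2),(.negSucc 1),(.negSucc 0)] (.node [] (.node [] (.node [] (.node [] .nil (.node [(.ofNat 0),(.ofNat 0),(.ofNat 0),(.ofNat 0),(.ofNat 1),(.ofNat 1),(.ofNat 0)] .nil .nil)) (.node [(.ofNat 0),(.negSucc 0),(.negSucc 0),(.negSucc 1),(.negSucc 1),(.negSucc 0),(.ofNat 0)] .nil (.node [(.ofNat 1),(.ofNat 1),(.ofNat 1),(.ofNat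 1),(.ofNat 0),(.ofNat 0),(.ofNat 0)] .nil .nil))) (.node [(.negSucc 0),(.negSucc 0),(.negSucc 0),(.negSucc 1),(.negSucc 1),(.negSucc 0),(.ofNat 0)] (.node [] .nil (.node [(.ofNat 0),(.ofNat 1),(.ofNat 1),(.ofNat 1),(.ofNat 0),(.ofNat 0),(.ofNat 0)] .nil .nil)) (.node [(.ofNat 0),(.ofNat 0),(.negSucc 0),(.negSucc 0),(.ofNat 0),(.ofNat 0),(.ofNat 0)] .nil (.node [(.ofNat 1),(.ofNat 1),(.ofNat 2),(.ofNat 3),(.ofNat 2),(.ofNat 1),(.ofNat 0)] .nil .nil)))) (.node [(.negSucc 0),(.negSucc 0),(.negSucc 1),(.negSucc 1),(.negSucc 1),(.negSucc 1),(.negSucc 0)] (.node [] (.node [] .nil (.node [(.ofNat 0),(.ofNat 0),(.ofNat 1),(.ofNat 1),(.ofNat 1),(.ofNat 0),(.ofNat 0)] .nil .nil)) (.node [(.ofNat 0),(.negSucc 0),(.ofNat 0),(.negSucc 0),(.negSucc 0),(.negSucc 0),(.negSucc 0)] .nil (.node [(.ofNat 1),(.ofNat 1),(.ofNat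 1),(.ofNat 2),(.ofNat 2),(.ofNat 1),(.ofNat 1)] .nil .nil))) (.node [(.negSucc 0),(.ofNat 0),(.negSucc 0),(.negSucc 0),(.negSucc 0),(.negSucc 0),(.negSucc 0)] (.node [] .nil (.node [(.ofNat 0),(.ofNat 1),(.ofNat 1),(.ofNat 2),(.ofNat 2),(.ofNat 1),(.ofNat 1)] .nil .nil)) (.node [(.ofNat 0),(.ofNat 0),(.ofNat 0),(.ofNat 0),(.negSucc 0),(.ofNat 0),(.ofNat 0)] .nil (.node [(.ofNat 1),(.ofNat 2),(.ofNat 2),(.ofNat 4),(.ofNat 3),(.ofNat 2),(.ofNat 1)] .nil .nil))))) (.node [(.negSucc 0),(.negSucc 0),(.negSucc 1),(.negSucc 2),(.negSucc 2),(.negSucc 1),(.negSucc 0)] (.node [] (.node [] (.node [] .nil (.node [(.ofNat 0),(.ofNat 0),(.ofNat 0),(.ofNat 1),(.ofNat 1),(.ofNat 1),(.ofNat 0)] .nil .nil)) (.node [(.ofNat 0),(.negSucc 0),(.negSucc 0),(.negSucc 0),(.negSucc 0),(.negSucc 0),(.negSucc 0)] .nil (.node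 [(.ofNat 1),(.ofNat 1),(.ofNat 1),(.ofNat 2),(.ofNat 1),(.ofNat 0),(.ofNat 0)] .nil .nil))) (.node [(.negSucc 0),(.negSucc 0),(.negSucc 0),(.negSucc 0),(.negSucc 0),(.negSucc 0),(.negSucc 0)] (.node [] .nil (.node [(.ofNat 0),(.ofNat 1),(.ofNat 1),(.ofNat 2),(.ofNat 1),(.ofNat 0),(.ofNat 0)] .nil .nil)) (.node [(.ofNat 0),(.ofNat 0),(.ofNat 0),(.negSucc 0),(.negSucc 0),(.ofNat 0),(.ofNat 0)] .nil (.node [(.ofNat 1),(.ofNat 2),(.ofNat 2),(.ofNat 3),(.ofNat 2),(.ofNat 1),(.ofNat 0)] .nil .nil)))) (.node [(.negSucc 0),(.negSucc 0),(.negSucc 1),(.negSucc 1),(.negSucc 0),(.negSucc 0),(.ofNat 0)] (.node [] (.node [] .nil (.node [(.ofNat 0),(.ofNat 1),(.ofNat 0),(.ofNat 1),(.ofNat 0),(.ofNat 0),(.ofNat 0)] .nil .nil)) (.node [(.ofNat 0),(.negSucc 0),(.ofNat 0),(.ofNat 0),(.ofNat 0),(.ofNat 0),(.ofNat 0)]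 .nil (.node [(.ofNat 1),(.ofNat 1),(.ofNat 2),(.ofNat 2),(.ofNat 1),(.ofNat 1),(.ofNat 1)] .nil .nil))) (.node [(.negSucc 0),(.ofNat 0),(.negSucc 0),(.ofNat 0),(.ofNat 0),(.ofNat 0),(.ofNat 0)] (.node [] .nil (.node [(.ofNat 1),(.ofNat 0),(.ofNat 1),(.ofNat 1),(.ofNat 0),(.ofNat 0),(.ofNat 0)] .nil .nil)) (.node [(.ofNat 0),(.ofNat 0),(.ofNat 0),(.ofNat 0),(.ofNat 0),(.ofNat 0),(.ofNat 1)] .nil .nil)))))))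
noncomputable def bez : Trie (List ℤ) := (.node [(.ofNat 0),(.ofNat 0),(.ofNat 0),(.ofNat 0),(.ofNat 0),(.ofNat 0),(.negSucc 0)] (.node [] (.node [] (.node [] (.node [] (.node [] (.node [] .nil (.node [(.ofNat 0),(.ofNat 0),(.ofNat 0),(.ofNat 0),(.ofNat 0),(.ofNat 1),(.ofNat 0)] .nil .nil)) (.node [(.negSucc 0),(.ofNat 0),(.ofNat 0),(.ofNat 0),(.ofNat 0),(.ofNat 0),(.ofNat 0)] .nil (.node [(.ofNat 0),(.ofNat 0),(.ofNat 0),(.ofNat 0),(.ofNat 1),(.ofNat 0),(.ofNat 0)] .nil .nil))) (.node [(.ofNat 0),(.ofNat 0),(.ofNat 0),(.ofNat 0),(.negSucc 0),(.ofNat 0),(.ofNat 0)] (.node [] .nil (.node [(.ofNat 0),(.ofNat 0),(.ofNat 0),(.ofNat 0),(.ofNat 1),(.ofNat 0),(.ofNat 0)] .nil .nil)) (.node [(.ofNat 0),(.ofNat 0),(.ofNat 0),(.ofNat 0),(.ofNat 0),(.ofNat 0),(.negSucc 0)] .nil (.node [(.ofNat 0),(.ofNat 0),(.ofNat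 0),(.ofNat 0),(.ofNat 0),(.ofNat 1),(.ofNat 0)] .nil .nil)))) (.node [(.ofNat 0),(.ofNat 0),(.ofNat 0),(.ofNat 0),(.ofNat 0),(.ofNat 0),(.negSucc 0)] (.node [] (.node [] .nil (.node [(.ofNat 0),(.ofNat 0),(.ofNat 0),(.ofNat 0),(.ofNat 0),(.ofNat 0),(.ofNat 1)] .nil .nil)) (.node [(.ofNat 0),(.ofNat 0),(.ofNat 0),(.ofNat 0),(.ofNat 0),(.negSucc 0),(.ofNat 0)] .nil (.node [(.ofNat 0),(.ofNat 0),(.ofNat 0),(.ofNat 0),(.ofNat 0),(.ofNat 1),(.ofNat 0)] .nil .nil))) (.node [(.ofNat 0),(.ofNat 0),(.ofNat 0),(.ofNat 0),(.ofNat 0),(.negSucc 0),(.ofNat 0)] (.node [] .nil (.node [(.ofNat 0),(.ofNat 0),(.ofNat 0),(.ofNat 0),(.ofNat 0),(.ofNat 1),(.ofNat 0)] .nil .nil)) (.node [(.ofNat 0),(.ofNat 0),(.ofNat 0),(.negSucc 0),(.ofNat 0),(.ofNat 0),(.ofNat 0)] .nil (.node [(.ofNat 0),(.ofNat 0),(.ofNat 0),(.ofNat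 0),(.ofNat 0),(.ofNat 0),(.ofNat 1)] .nil .nil))))) (.node [(.ofNat 0),(.ofNat 0),(.ofNat 0),(.ofNat 0),(.ofNat 0),(.ofNat 0),(.negSucc 0)] (.node [] (.node [] (.node [] .nil (.node [(.ofNat 0),(.ofNat 0),(.ofNat 0),(.ofNat 0),(.ofNat 0),(.ofNat 0),(.ofNat 1)] .nil .nil)) (.node [(.ofNat 0),(.ofNat 0),(.ofNat 0),(.ofNat 0),(.ofNat 0),(.ofNat 0),(.negSucc 0)] .nil (.node [(.ofNat 0),(.ofNat 0),(.ofNat 0),(.ofNat 0),(.ofNat 1),(.ofNat 0),(.ofNat 0)] .nil .nil))) (.node [(.ofNat 0),(.ofNat 0),(.ofNat 0),(.ofNat 0),(.ofNat 0),(.ofNat 0),(.negSucc 0)] (.node [] .nil (.node [(.ofNat 0),(.ofNat 0),(.ofNat 0),(.ofNat 0),(.ofNat 1),(.ofNat 0),(.ofNat 0)] .nil .nil)) (.node [(.ofNat 0),(.ofNat 0),(.negSucc 0),(.ofNat 0),(.ofNat 0),(.ofNat 0),(.ofNat 0)] .nil (.node [(.ofNat 0),(.ofNat 0),(.ofNat 0),(.ofNat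 0),(.ofNat 0),(.ofNat 0),(.ofNat 1)] .nil .nil)))) (.node [(.ofNat 0),(.ofNat 0),(.ofNat 0),(.ofNat 0),(.ofNat 0),(.ofNat 0),(.negSucc 0)] (.node [] (.node [] .nil (.node [(.ofNat 0),(.ofNat 0),(.ofNat 0),(.ofNat 0),(.ofNat 0),(.ofNat 1),(.ofNat 0)] .nil .nil)) (.node [(.ofNat 0),(.ofNat 0),(.ofNat 0),(.ofNat 0),(.ofNat 0),(.negSucc 0),(.ofNat 0)] .nil (.node [(.ofNat 0),(.ofNat 0),(.ofNat 0),(.ofNat 0),(.ofNat 0),(.ofNat 0),(.ofNat 1)] .nil .nil))) (.node [(.ofNat 0),(.ofNat 0),(.ofNat 0),(.ofNat 0),(.ofNat 0),(.negSucc 0),(.ofNat 0)] (.node [] .nil (.node [(.ofNat 0),(.ofNat 0),(.ofNat 0),(.ofNat 0),(.ofNat 0),(.ofNat 0),(.ofNat 1)] .nil .nil)) (.node [(.ofNat 0),(.ofNat 0),(.ofNat 0),(.ofNat 0),(.ofNat 0),(.ofNat 0),(.negSucc 0)] .nil (.node [(.ofNat 0),(.ofNat 0),(.ofNat 0),(.ofNat 0),(.ofNat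 0),(.ofNat 0),(.ofNat 1)] .nil .nil)))))) (.node [(.ofNat 0),(.ofNat 0),(.ofNat 0),(.ofNat 0),(.ofNat 0),(.ofNat 0),(.negSucc 0)] (.node [] (.node [] (.node [] (.node [] .nil (.node [(.ofNat 0),(.ofNat 0),(.ofNat 0),(.ofNat 0),(.ofNat 1),(.ofNat 0),(.ofNat 0)] .nil .nil)) (.node [(.ofNat 0),(.ofNat 0),(.ofNat 0),(.ofNat 0),(.ofNat 0),(.ofNat 0),(.negSucc 0)] .nil (.node [(.ofNat 0),(.ofNat 0),(.ofNat 0),(.ofNat 0),(.ofNat 0),(.ofNat 0),(.ofNat 1)] .nil .nil))) (.node [(.ofNat 0),(.ofNat 0),(.ofNat 0),(.ofNat 0),(.ofNat 0),(.ofNat 0),(.negSucc 0)] (.node [] .nil (.node [(.ofNat 0),(.ofNat 0),(.ofNat 0),(.ofNat 0),(.ofNat 0),(.ofNat 0),(.ofNat 1)] .nil .nil)) (.node [(.ofNat 0),(.ofNat 0),(.ofNat 0),(.ofNat 0),(.negSucc 0),(.ofNat 0),(.ofNat 0)] .nil (.node [(.ofNat 0),(.ofNat 0),(.ofNat 0),(.ofNat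 0),(.ofNat 0),(.ofNat 0),(.ofNat 1)] .nil .nil)))) (.node [(.ofNat 0),(.ofNat 0),(.ofNat 0),(.ofNat 0),(.ofNat 0),(.negSucc 0),(.ofNat 0)] (.node [] (.node [] .nil (.node [(.ofNat 0),(.ofNat 0),(.ofNat 0),(.ofNat 1),(.ofNat 0),(.ofNat 0),(.ofNat 0)] .nil .nil)) (.node [(.ofNat 0),(.ofNat 0),(.ofNat 0),(.negSucc 0),(.ofNat 0),(.ofNat 0),(.ofNat 0)] .nil (.node [(.ofNat 0),(.ofNat 0),(.ofNat 0),(.ofNat 0),(.ofNat 0),(.ofNat 1),(.ofNat 0)] .nil .nil))) (.node [(.ofNat 0),(.ofNat 0),(.ofNat 0),(.negSucc 0),(.ofNat 0),(.ofNat 0),(.ofNat 0)] (.node [] .nil (.node [(.ofNat 0),(.ofNat 0),(.ofNat 0),(.ofNat 0),(.ofNat 0),(.ofNat 1),(.ofNat 0)] .nil .nil)) (.node [(.ofNat 0),(.ofNat 0),(.ofNat 0),(.ofNat 0),(.ofNat 0),(.negSucc 0),(.ofNat 0)] .nil (.node [(.ofNat 0),(.ofNat 0),(.ofNat 0),(.ofNat 0),(.ofNat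 0),(.ofNat 0),(.ofNat 1)] .nil .nil))))) (.node [(.ofNat 0),(.ofNat 0),(.ofNat 0),(.ofNat 0),(.ofNat 0),(.negSucc 0),(.ofNat 0)] (.node [] (.node [] (.node [] .nil (.node [(.ofNat 0),(.ofNat 0),(.ofNat 0),(.ofNat 0),(.ofNat 1),(.ofNat 0),(.ofNat 0)] .nil .nil)) (.node [(.ofNat 0),(.ofNat 0),(.ofNat 0),(.ofNat 0),(.negSucc 0),(.ofNat 0),(.ofNat 0)] .nil (.node [(.ofNat 0),(.ofNat 0),(.ofNat 0),(.ofNat 0),(.ofNat 0),(.ofNat 0),(.ofNat 1)] .nil .nil))) (.node [(.ofNat 0),(.ofNat 0),(.ofNat 0),(.ofNat 0),(.negSucc 0),(.ofNat 0),(.ofNat 0)] (.node [] .nil (.node [(.ofNat 0),(.ofNat 0),(.ofNat 0),(.ofNat 0),(.ofNat 0),(.ofNat 0),(.ofNat 1)] .nil .nil)) (.node [(.ofNat 0),(.ofNat 0),(.ofNat 0),(.ofNat 0),(.ofNat 0),(.negSucc 0),(.ofNat 0)] .nil (.node [(.ofNat 0),(.ofNat 0),(.ofNat 0),(.ofNat 0),(.ofNat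 0),(.ofNat 0),(.ofNat 1)] .nil .nil)))) (.node [(.ofNat 0),(.ofNat 0),(.ofNat 0),(.ofNat 0),(.ofNat 0),(.ofNat 0),(.negSucc 0)] (.node [] (.node [] .nil (.node [(.ofNat 0),(.ofNat 1),(.ofNat 0),(.ofNat 0),(.ofNat 0),(.ofNat 0),(.ofNat 0)] .nil .nil)) (.node [(.ofNat 0),(.ofNat 0),(.ofNat 0),(.negSucc 0),(.ofNat 0),(.ofNat 0),(.ofNat 0)] .nil (.node [(.ofNat 0),(.ofNat 0),(.ofNat 0),(.ofNat 0),(.ofNat 0),(.ofNat 1),(.ofNat 0)] .nil .nil))) (.node [(.ofNat 0),(.ofNat 0),(.ofNat 0),(.negSucc 0),(.ofNat 0),(.ofNat 0),(.ofNat 0)] (.node [] .nil (.node [(.ofNat 0),(.ofNat 0),(.ofNat 1),(.ofNat 0),(.ofNat 0),(.ofNat 0),(.ofNat 0)] .nil .nil)) (.node [(.ofNat 0),(.ofNat 0),(.ofNat 0),(.ofNat 0),(.ofNat 0),(.ofNat 0),(.negSucc 0)] .nil .nil)))))) (.node [(.ofNat 0),(.ofNat 0),(.ofNat 0),(.ofNat 0),(.ofNat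 0),(.ofNat 0),(.negSucc 0)] (.node [] (.node [] (.node [] (.node [] (.node [] .nil (.node [(.ofNat 0),(.ofNat 0),(.ofNat 0),(.ofNat 0),(.ofNat 0),(.ofNat 0),(.ofNat 1)] .nil .nil)) (.node [(.ofNat 0),(.ofNat 0),(.ofNat 0),(.ofNat 0),(.ofNat 0),(.ofNat 0),(.negSucc 0)] .nil (.node [(.ofNat 0),(.ofNat 0),(.ofNat 0),(.ofNat 0),(.ofNat 0),(.ofNat 1),(.ofNat 0)] .nil .nil))) (.node [(.ofNat 0),(.ofNat 0),(.ofNat 0),(.ofNat 0),(.ofNat 0),(.ofNat 0),(.negSucc 0)] (.node [] .nil (.node [(.ofNat 0),(.ofNat 0),(.ofNat 0),(.ofNat 0),(.ofNat 0),(.ofNat 1),(.ofNat 0)] .nil .nil)) (.node [(.ofNat 0),(.ofNat 0),(.ofNat 0),(.ofNat 0),(.ofNat 0),(.negSucc 0),(.ofNat 0)] .nil (.node [(.ofNat 0),(.ofNat 0),(.ofNat 0),(.ofNat 0),(.ofNat 0),(.ofNat 0),(.ofNat 1)] .nil .nil)))) (.node [(.ofNat 0),(.ofNat 0),(.ofNat 0),(.ofNat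 0),(.ofNat 0),(.ofNat 0),(.negSucc 0)] (.node [] (.node [] .nil (.node [(.ofNat 0),(.ofNat 0),(.ofNat 1),(.ofNat 0),(.ofNat 0),(.ofNat 0),(.ofNat 0)] .nil .nil)) (.node [(.ofNat 0),(.ofNat 0),(.ofNat 0),(.ofNat 0),(.negSucc 0),(.ofNat 0),(.ofNat 0)] .nil (.node [(.ofNat 0),(.ofNat 0),(.ofNat 0),(.ofNat 0),(.ofNat 0),(.ofNat 0),(.ofNat 1)] .nil .nil))) (.node [(.ofNat 0),(.ofNat 0),(.ofNat 0),(.ofNat 0),(.negSucc 0),(.ofNat 0),(.ofNat 0)] (.node [] .nil (.node [(.ofNat 0),(.ofNat 0),(.ofNat 0),(.ofNat 0),(.ofNat 0),(.ofNat 0),(.ofNat 1)] .nil .nil)) (.node [(.ofNat 0),(.ofNat 0),(.ofNat 0),(.ofNat 0),(.ofNat 0),(.ofNat 0),(.negSucc 0)] .nil (.node [(.ofNat 0),(.ofNat 0),(.ofNat 0),(.ofNat 0),(.ofNat 0),(.ofNat 0),(.ofNat 1)] .nil .nil))))) (.node [(.ofNat 0),(.ofNat 0),(.ofNat 0),(.ofNat 0),(.ofNat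 0),(.ofNat 0),(.negSucc 0)] (.node [] (.node [] (.node [] .nil (.node [(.ofNat 0),(.ofNat 0),(.ofNat 0),(.ofNat 1),(.ofNat 0),(.ofNat 0),(.ofNat 0)] .nil .nil)) (.node [(.ofNat 0),(.ofNat 0),(.ofNat 0),(.ofNat 0),(.ofNat 0),(.negSucc 0),(.ofNat 0)] .nil (.node [(.ofNat 0),(.ofNat 0),(.ofNat 0),(.ofNat 0),(.ofNat 0),(.ofNat 1),(.ofNat 0)] .nil .nil))) (.node [(.ofNat 0),(.ofNat 0),(.ofNat 0),(.ofNat 0),(.ofNat 0),(.negSucc 0),(.ofNat 0)] (.node [] .nil (.node [(.ofNat 0),(.ofNat 0),(.ofNat 0),(.ofNat 0),(.ofNat 0),(.ofNat 1),(.ofNat 0)] .nil .nil)) (.node [(.ofNat 0),(.ofNat 0),(.ofNat 0),(.ofNat 0),(.ofNat 0),(.ofNat 0),(.negSucc 0)] .nil (.node [(.ofNat 0),(.ofNat 0),(.ofNat 0),(.ofNat 0),(.ofNat 0),(.ofNat 0),(.ofNat 1)] .nil .nil)))) (.node [(.ofNat 0),(.ofNat 0),(.ofNat 0),(.ofNat 0),(.ofNat 0),(.negSucc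 0),(.ofNat 0)] (.node [] (.node [] .nil (.node [(.ofNat 0),(.ofNat 0),(.ofNat 0),(.ofNat 0),(.ofNat 0),(.ofNat 0),(.ofNat 1)] .nil .nil)) (.node [(.ofNat 0),(.ofNat 0),(.ofNat 0),(.ofNat 0),(.negSucc 0),(.ofNat 0),(.ofNat 0)] .nil (.node [(.ofNat 0),(.ofNat 0),(.ofNat 0),(.ofNat 0),(.ofNat 1),(.ofNat 0),(.ofNat 0)] .nil .nil))) (.node [(.ofNat 0),(.ofNat 0),(.ofNat 0),(.ofNat 0),(.negSucc 0),(.ofNat 0),(.ofNat 0)] (.node [] .nil (.node [(.ofNat 1),(.ofNat 0),(.ofNat 0),(.ofNat 0),(.ofNat 0),(.ofNat 0),(.ofNat 0)] .nil .nil)) (.node [(.ofNat 0),(.ofNat 0),(.ofNat 0),(.ofNat 0),(.ofNat 0),(.negSucc 0),(.ofNat 0)] .nil (.node [(.ofNat 0),(.ofNat 0),(.ofNat 0),(.ofNat 0),(.ofNat 0),(.ofNat 0),(.ofNat 1)] .nil .nil)))))) (.node [(.ofNat 0),(.ofNat 0),(.ofNat 0),(.ofNat 0),(.ofNat 0),(.ofNat 0),(.negSucc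 0)] (.node [] (.node [] (.node [] (.node [] .nil (.node [(.ofNat 0),(.ofNat 0),(.ofNat 0),(.ofNat 0),(.ofNat 0),(.ofNat 1),(.ofNat 0)] .nil .nil)) (.node [(.ofNat 0),(.ofNat 0),(.ofNat 0),(.ofNat 0),(.ofNat 0),(.negSucc 0),(.ofNat 0)] .nil (.node [(.ofNat 0),(.ofNat 0),(.ofNat 0),(.ofNat 1),(.ofNat 0),(.ofNat 0),(.ofNat 0)] .nil .nil))) (.node [(.ofNat 0),(.ofNat 0),(.ofNat 0),(.ofNat 0),(.ofNat 0),(.negSucc 0),(.ofNat 0)] (.node [] .nil (.node [(.ofNat 0),(.ofNat 0),(.ofNat 0),(.ofNat 1),(.ofNat 0),(.ofNat 0),(.ofNat 0)] .nil .nil)) (.node [(.ofNat 0),(.ofNat 0),(.ofNat 0),(.negSucc 0),(.ofNat 0),(.ofNat 0),(.ofNat 0)] .nil (.node [(.ofNat 0),(.ofNat 0),(.ofNat 0),(.ofNat 0),(.ofNat 0),(.ofNat 1),(.ofNat 0)] .nil .nil)))) (.node [(.ofNat 0),(.ofNat 0),(.ofNat 0),(.ofNat 0),(.ofNat 0),(.ofNat 0),(.negSucc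 0)] (.node [] (.node [] .nil (.node [(.ofNat 0),(.ofNat 0),(.ofNat 0),(.ofNat 0),(.ofNat 1),(.ofNat 0),(.ofNat 0)] .nil .nil)) (.node [(.ofNat 0),(.ofNat 0),(.ofNat 0),(.ofNat 0),(.ofNat 0),(.ofNat 0),(.negSucc 0)] .nil (.node [(.ofNat 0),(.ofNat 0),(.ofNat 0),(.ofNat 0),(.ofNat 0),(.ofNat 0),(.ofNat 1)] .nil .nil))) (.node [(.ofNat 0),(.ofNat 0),(.ofNat 0),(.ofNat 0),(.ofNat 0),(.ofNat 0),(.negSucc 0)] (.node [] .nil (.node [(.ofNat 0),(.ofNat 0),(.ofNat 0),(.ofNat 0),(.ofNat 0),(.ofNat 0),(.ofNat 1)] .nil .nil)) (.node [(.ofNat 0),(.ofNat 0),(.ofNat 0),(.ofNat 0),(.negSucc 0),(.ofNat 0),(.ofNat 0)] .nil (.node [(.ofNat 0),(.ofNat 0),(.ofNat 0),(.ofNat 0),(.ofNat 0),(.ofNat 0),(.ofNat 1)] .nil .nil))))) (.node [(.ofNat 0),(.ofNat 0),(.ofNat 0),(.ofNat 0),(.ofNat 0),(.ofNat 0),(.negSucc 0)] (.node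 [] (.node [] (.node [] .nil (.node [(.ofNat 0),(.ofNat 0),(.ofNat 0),(.ofNat 0),(.ofNat 0),(.ofNat 1),(.ofNat 0)] .nil .nil)) (.node [(.ofNat 0),(.ofNat 0),(.ofNat 0),(.ofNat 0),(.ofNat 0),(.ofNat 0),(.negSucc 0)] .nil (.node [(.ofNat 0),(.ofNat 0),(.ofNat 0),(.ofNat 0),(.ofNat 1),(.ofNat 0),(.ofNat 0)] .nil .nil))) (.node [(.ofNat 0),(.ofNat 0),(.ofNat 0),(.ofNat 0),(.ofNat 0),(.ofNat 0),(.negSucc 0)] (.node [] .nil (.node [(.ofNat 0),(.ofNat 0),(.ofNat 0),(.ofNat 0),(.ofNat 1),(.ofNat 0),(.ofNat 0)] .nil .nil)) (.node [(.ofNat 0),(.ofNat 0),(.ofNat 0),(.ofNat 0),(.negSucc 0),(.ofNat 0),(.ofNat 0)] .nil (.node [(.ofNat 0),(.ofNat 0),(.ofNat 0),(.ofNat 0),(.ofNat 0),(.ofNat 1),(.ofNat 0)] .nil .nil)))) (.node [(.ofNat 0),(.ofNat 0),(.ofNat 0),(.ofNat 0),(.ofNat 0),(.negSucc 0),(.ofNat 0)] (.node []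 (.node [] .nil (.node [(.ofNat 0),(.ofNat 0),(.ofNat 0),(.ofNat 1),(.ofNat 0),(.ofNat 0),(.ofNat 0)] .nil .nil)) (.node [(.ofNat 0),(.negSucc 0),(.ofNat 0),(.ofNat 0),(.ofNat 0),(.ofNat 0),(.ofNat 0)] .nil (.node [(.ofNat 0),(.ofNat 0),(.ofNat 0),(.ofNat 0),(.ofNat 0),(.ofNat 0),(.ofNat 1)] .nil .nil))) (.node [(.ofNat 0),(.ofNat 0),(.negSucc 0),(.ofNat 0),(.ofNat 0),(.ofNat 0),(.ofNat 0)] (.node [] .nil (.node [(.ofNat 0),(.ofNat 0),(.ofNat 0),(.ofNat 1),(.ofNat 0),(.ofNat 0),(.ofNat 0)] .nil .nil)) (.node [(.ofNat 0),(.ofNat 0),(.ofNat 0),(.ofNat 0),(.ofNat 0),(.ofNat 0),(.ofNat 1)] .nil .nil)))))))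
noncomputable def R : RootTab := ⟨63, rc, bez, [0, 1, 2, 0, 3, 1, 2, 0, 3, 2, 4, 3, 1, 2, 0, 3, 2, 4, 3, 1, 5, 4, 3, 1, 2, 0, 3, 2, 4, 3, 1, 5, 4, 3, 2, 0, 6, 5, 4, 3, 1, 2, 0, 3, 2, 4, 3, 1, 5, 4, 3, 2, 0, 6, 5, 4, 3, 1, 2, 3, 4, 5, 6], [(0,1,2,1,1),(0,2,3,0,0),(0,3,2,1,1),(0,4,2,1,1),(0,5,2,1,1),(0,6,2,1,1),(1,2,2,1,1),(1,3,3,0,0),(1,4,2,1,1),(1,5,2,1,1),(1,6,2,1,1),(2,3,3,0,0),(2,4,2,1,1),(2,5,2,1,1),(2,6,2,1,1),(3,4,3,0,0),(3,5,2,1,1),(3,6,2,1,1),(4,5,3,0,0),(4,6,2,1,1),(5,6,3,0,0)]⟩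
end Cfsg.Agent.Lib.Chev.RootE7T
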