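import Cfsg.Agent.Lib.Chev.Orbit
import Cfsg.Agent.Lib.Chev.RootE7T

namespace Cfsg.Agent.Lib.Chev.OrbE7
open Cfsg.Agent.Lib.Chev Cfsg.Lie

noncomputable def cm : List (List ℤ) := [[(.ofNat 2),(.ofNat 0),(.negSucc 0),(.ofNat 0),(.ofNat 0),(.ofNat 0),(.ofNat 0)],[(.ofNat 0),(.ofNat 2),(.ofNat 0),(.negSucc 0),(.ofNat 0),(.ofNat 0),(.ofNat 0)],[(.negSucc 0),(.ofNat 0),(.ofNat 2),(.negSucc 0),(.ofNat 0),(.ofNat 0),(.ofNat 0)],[(.ofNat 0),(.negSucc 0),(.negSucc 0),(.ofNat 2),(.negSucc 0),(.ofNat 0),(.ofNat 0)],[(.ofNat 0),(.ofNat 0),(.ofNat 0),(.negSucc 0),(.ofNat 2),(.negSucc 0),(.ofNat 0)],[(.ofNat 0),(.ofNat 0),(.ofNat 0),(.ofNat 0),(.negSucc 0),(.ofNat 2),(.negSucc 0)],[(.ofNat 0),(.ofNat 0),(.ofNat 0),(.ofNat 0),(.ofNat 0),(.negSucc 0),(.ofNat 2)]]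
theorem cm_ok : checkCm chevE7 cm = true := by decide +kernel

noncomputable def L0 : List (List ℤ) := [[(.ofNat 1),(.ofNat 0),(.ofNat 0),(.ofNat 0),(.ofNat 0),(.ofNat 0),(.ofNat 0)],[(.negSucc 0),(.ofNat 0),(.ofNat 1),(.ofNat 0),(.ofNat 0),(.ofNat 0),(.ofNat 0)]]
noncomputable def par0 : List (ℕ × ℕ) := [(0,0)]
noncomputable def ds0 : List ℕ := [0,1]
theorem ok0 : orbOK RootE7T.R chevE7.rank 0 cm [0] L0 par0 ds0 = true := by decide +kernel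

noncomputable def L1 : List (List ℤ) := [[(.ofNat 0),(.ofNat 0),(.ofNat 1),(.ofNat 0),(.ofNat 0),(.ofNat 0),(.ofNat 0)],[(.ofNat 1),(.ofNat 0),(.negSucc 0),(.ofNat 1),(.ofNat 0),(.ofNat 0),(.ofNat 0)],[(.negSucc 0),(.ofNat 0),(.ofNat 0),(.ofNat 1),(.ofNat 0),(.ofNat 0),(.ofNat 0)]]
noncomputable def par1 : List (ℕ × ℕ) := [(0,2),(1,0)]
noncomputable def ds1 : List ℕ := [0,1,2]
theorem ok1 : orbOK RootE7T.R chevE7.rank 2 cm [2, 0] L1 par1 ds1 = true := by decide +kernel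

noncomputable def L2 : List (List ℤ) := [[(.ofNat 0),(.ofNat 0),(.ofNat 0),(.ofNat 1),(.ofNat 0),(.ofNat 0),(.ofNat 0)],[(.ofNat 0),(.ofNat 1),(.ofNat 1),(.negSucc 0),(.ofNat 1),(.ofNat 0),(.ofNat 0)],[(.ofNat 1),(.ofNat 1),(.negSucc 0),(.ofNat 0),(.ofNat 1),(.ofNat 0),(.ofNat 0)],[(.negSucc 0),(.ofNat 1),(.ofNat 0),(.ofNat 0),(.ofNat 1),(.ofNat 0),(.ofNat 0)]]
noncomputable def par2 : List (ℕ × ℕ) := [(0,3),(1,2),(2,0)]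
noncomputable def ds2 : List ℕ := [0,1,2,3]
theorem ok2 : orbOK RootE7T.R chevE7.rank 3 cm [3, 2, 0] L2 par2 ds2 = true := by decide +kernel

noncomputable def L3 : List (List ℤ) := [[(.ofNat 0),(.ofNat 1),(.ofNat 0),(.ofNat 0),(.ofNat 0),(.ofNat 0),(.ofNat 0)],[(.ofNat 0),(.negSucc 0),(.ofNat 0),(.ofNat 1),(.ofNat 0),(.ofNat 0),(.ofNat 0)],[(.ofNat 0),(.ofNat 0),(.ofNat 1),(.negSucc 0),(.ofNat 1),(.ofNat 0),(.ofNat 0)],[(.ofNat 1),(.ofNat 0),(.negSucc 0),(.ofNat 0),(.ofNat 1),(.ofNat 0),(.ofNat 0)],[(.negSucc 0),(.ofNat 0),(.ofNat 0),(.ofNat 0),(.ofNat 1),(.ofNat 0),(.ofNat 0)]]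
noncomputable def par3 : List (ℕ × ℕ) := [(0,1),(1,3),(2,2),(3,0)]
noncomputable def ds3 : List ℕ := [0,1,2,3,4]
theorem ok3 : orbOK RootE7T.R chevE7.rank 1 cm [1, 3, 2, 0] L3 par3 ds3 = true := by decide +kernel

noncomputable def L4 : List (List ℤ) := [[(.ofNat 0),(.ofNat 0),(.ofNat 0),(.ofNat 0),(.ofNat 1),(.ofNat 0),(.ofNat 0)],[(.ofNat 0),(.ofNat 0),(.ofNat 0),(.ofNat 1),(.negSucc 0),(.ofNat 1),(.ofNat 0)],[(.ofNat 0),(.ofNat 1),(.ofNat 1),(.negSucc 0),(.ofNat 0),(.ofNat 1),(.ofNat 0)],[(.ofNat 0),(.negSucc 0),(.ofNat 1),(.ofNat 0),(.ofNat 0),(.ofNat 1),(.ofNat 0)],[(.ofNat 1),(.ofNat 1),(.negSucc 0),(.ofNat 0),(.ofNat 0),(.ofNat 1),(.ofNat 0)],[(.ofNat 1),(.negSucc 0),(.negSucc 0),(.ofNat 1),(.ofNat 0),(.ofNat 1),(.ofNat 0)],[(.negSucc 0),(.ofNat 1),(.ofNat 0),(.ofNat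 0),(.ofNat 0),(.ofNat 1),(.ofNat 0)],[(.ofNat 1),(.ofNat 0),(.ofNat 0),(.negSucc 0),(.ofNat 1),(.ofNat 1),(.ofNat 0)],[(.negSucc 0),(.negSucc 0),(.ofNat 0),(.ofNat 1),(.ofNat 0),(.ofNat 1),(.ofNat 0)],[(.ofNat 1),(.ofNat 0),(.ofNat 0),(.ofNat 0),(.negSucc 0),(.ofNat 2),(.ofNat 0)],[(.negSucc 0),(.ofNat 0),(.ofNat 1),(.negSucc 0),(.ofNat 1),(.ofNat 1),(.ofNat 0)],[(.negSucc 0),(.ofNat 0),(.ofNat 1),(.ofNat 0),(.negSucc 0),(.ofNat 2),(.ofNat 0)],[(.ofNat 0),(.ofNat 0),(.negSucc 0),(.ofNat 0),(.ofNat 1),(.ofNat 1),(.ofNat 0)],[(.ofNat 0),(.ofNat 0),(.negSucc 0),(.ofNat 1),(.negSucc 0),(.ofNat 2),(.ofNat 0)],[(.ofNat 0),(.ofNat 1),(.ofNat 0),(.negSucc 0),(.ofNat 0),(.ofNat 2),(.ofNat 0)],[(.ofNat 0),(.negSucc 0),(.ofNat 0),(.ofNat 0),(.ofNat 0),(.ofNat 2),(.ofNat 0)]]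
noncomputable def par4 : List (ℕ × ℕ) := [(0,4),(1,3),(2,1),(2,2),(3,2),(4,0),(5,3),(5,0),(7,4),(7,0),(9,0),(10,2),(11,2),(13,3),(14,1)]
noncomputable def ds4 : List ℕ := [0,1,2,3,3,4,4,5,5,6,6,7,7,8,9,10]
theorem ok4 : orbOK RootE7T.R chevE7.rank 4 cm [4, 1, 3, 2, 0] L4 par4 ds4 = true := by decide +kernel

noncomputable def L5 : List (List ℤ) := [[(.ofNat 0),(.ofNat 0),(.ofNat 0),(.ofNat 0),(.ofNat 0),(.ofNat 1),(.ofNat 0)],[(.ofNat 0),(.ofNat 0),(.ofNat 0),(.ofNat 0),(.ofNat 1),(.negSucc 0),(.ofNat 1)],[(.ofNat 0),(.ofNat 0),(.ofNat 0),(.ofNat 1),(.negSucc 0),(.ofNat 0),(.ofNat 1)],[(.ofNat 0),(.ofNat 1),(.ofNat 1),(.negSucc 0),(.ofNat 0),(.ofNat 0),(.ofNat 1)],[(.ofNat 0),(.negSucc 0),(.ofNat 1),(.ofNat 0),(.ofNat 0),(.ofNat 0),(.ofNat 1)],[(.ofNat 1),(.ofNat 1),(.negSucc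 0),(.ofNat 0),(.ofNat 0),(.ofNat 0),(.ofNat 1)],[(.ofNat 1),(.negSucc 0),(.negSucc 0),(.ofNat 1),(.ofNat 0),(.ofNat 0),(.ofNat 1)],[(.negSucc 0),(.ofNat 1),(.ofNat 0),(.ofNat 0),(.ofNat 0),(.ofNat 0),(.ofNat 1)],[(.ofNat 1),(.ofNat 0),(.ofNat 0),(.negSucc 0),(.ofNat 1),(.ofNat 0),(.ofNat 1)],[(.negSucc 0),(.negSucc 0),(.ofNat 0),(.ofNat 1),(.ofNat 0),(.ofNat 0),(.ofNat 1)],[(.ofNat 1),(.ofNat 0),(.ofNat 0),(.ofNat 0),(.negSucc 0),(.ofNat 1),(.ofNat 1)],[(.negSucc 0),(.ofNat 0),(.ofNat 1),(.negSucc 0),(.ofNat 1),(.ofNat 0),(.ofNat 1)],[(.ofNat 1),(.ofNat 0),(.ofNat 0),(.ofNat 0),(.ofNat 0),(.negSucc 0),(.ofNat 2)],[(.negSucc 0),(.ofNat 0),(.ofNat 1),(.ofNat 0),(.negSucc 0),(.ofNat 1),(.ofNat 1)],[(.ofNat 0),(.ofNat 0),(.negSucc 0),(.ofNat 0),(.ofNat 1),(.ofNat 0),(.ofNat 1)],[(.negSucc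 0),(.ofNat 0),(.ofNat 1),(.ofNat 0),(.ofNat 0),(.negSucc 0),(.ofNat 2)],[(.ofNat 0),(.ofNat 0),(.negSucc 0),(.ofNat 1),(.negSucc 0),(.ofNat 1),(.ofNat 1)],[(.ofNat 0),(.ofNat 0),(.negSucc 0),(.ofNat 1),(.ofNat 0),(.negSucc 0),(.ofNat 2)],[(.ofNat 0),(.ofNat 1),(.ofNat 0),(.negSucc 0),(.ofNat 0),(.ofNat 1),(.ofNat 1)],[(.ofNat 0),(.ofNat 1),(.ofNat 0),(.negSucc 0),(.ofNat 1),(.negSucc 0),(.ofNat 2)],[(.ofNat 0),(.negSucc 0),(.ofNat 0),(.ofNat 0),(.ofNat 0),(.ofNat 1),(.ofNat 1)],[(.ofNat 0),(.ofNat 1),(.ofNat 0),(.ofNat 0),(.negSucc 0),(.ofNat 0),(.ofNat 2)],[(.ofNat 0),(.negSucc 0),(.ofNat 0),(.ofNat 0),(.ofNat 1),(.negSucc 0),(.ofNat 2)],[(.ofNat 0),(.negSucc 0),(.ofNat 0),(.ofNat 1),(.negSucc 0),(.ofNat 0),(.ofNat 2)],[(.ofNat 0),(.ofNat 0),(.ofNat 1),(.negSucc 0),(.ofNat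 0),(.ofNat 0),(.ofNat 2)],[(.ofNat 1),(.ofNat 0),(.negSucc 0),(.ofNat 0),(.ofNat 0),(.ofNat 0),(.ofNat 2)],[(.negSucc 0),(.ofNat 0),(.ofNat 0),(.ofNat 0),(.ofNat 0),(.ofNat 0),(.ofNat 2)]]
noncomputable def par5 : List (ℕ × ℕ) := [(0,5),(1,4),(2,3),(3,1),(3,2),(4,2),(5,0),(6,3),(6,0),(8,4),(8,0),(10,5),(10,0),(11,2),(12,0),(13,2),(15,2),(16,3),(17,3),(18,1),(19,4),(19,1),(21,1),(23,3),(24,2),(25,0)]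
noncomputable def ds5 : List ℕ := [0,1,2,3,4,4,5,5,6,6,7,7,8,8,8,9,9,10,10,11,11,12,12,13,14,15,16]
theorem ok5 : orbOK RootE7T.R chevE7.rank 5 cm [5, 4, 1, 3, 2, 0] L5 par5 ds5 = true := by decide +kernel

noncomputable def L6 : List (List ℤ) := [[(.ofNat 0),(.ofNat 0),(.ofNat 0),(.ofNat 0),(.ofNat 0),(.ofNat 0),(.ofNat 1)],[(.ofNat 0),(.ofNat 0),(.ofNat 0),(.ofNat 0),(.ofNat 0),(.ofNat 1),(.negSucc 0)],[(.ofNat 0),(.ofNat 0),(.ofNat 0),(.ofNat 0),(.ofNat 1),(.negSucc 0),(.ofNat 0)],[(.ofNat 0),(.ofNat 0),(.ofNat 0),(.ofNat 1),(.negSucc 0),(.ofNat 0),(.ofNat 0)],[(.ofNat 0),(.ofNat 1),(.ofNat 1),(.negSucc 0),(.ofNat 0),(.ofNat 0),(.ofNat 0)],[(.ofNat 0),(.negSucc 0),(.ofNat 1),(.ofNat 0),(.ofNat 0),(.ofNat 0),(.ofNat 0)],[(.ofNat 1),(.ofNat 1),(.negSucc 0),(.ofNat 0),(.ofNat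 0),(.ofNat 0),(.ofNat 0)],[(.ofNat 1),(.negSucc 0),(.negSucc 0),(.ofNat 1),(.ofNat 0),(.ofNat 0),(.ofNat 0)],[(.negSucc 0),(.ofNat 1),(.ofNat 0),(.ofNat 0),(.ofNat 0),(.ofNat 0),(.ofNat 0)],[(.ofNat 1),(.ofNat 0),(.ofNat 0),(.negSucc 0),(.ofNat 1),(.ofNat 0),(.ofNat 0)],[(.negSucc 0),(.negSucc 0),(.ofNat 0),(.ofNat 1),(.ofNat 0),(.ofNat 0),(.ofNat 0)],[(.ofNat 1),(.ofNat 0),(.ofNat 0),(.ofNat 0),(.negSucc 0),(.ofNat 1),(.ofNat 0)],[(.negSucc 0),(.ofNat 0),(.ofNat 1),(.negSucc 0),(.ofNat 1),(.ofNat 0),(.ofNat 0)],[(.ofNat 1),(.ofNat 0),(.ofNat 0),(.ofNat 0),(.ofNat 0),(.negSucc 0),(.ofNat 1)],[(.negSucc 0),(.ofNat 0),(.ofNat 1),(.ofNat 0),(.negSucc 0),(.ofNat 1),(.ofNat 0)],[(.ofNat 0),(.ofNat 0),(.negSucc 0),(.ofNat 0),(.ofNat 1),(.ofNat 0),(.ofNat 0)],[(.ofNat 1),(.ofNat 0),(.ofNat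 0),(.ofNat 0),(.ofNat 0),(.ofNat 0),(.negSucc 0)],[(.negSucc 0),(.ofNat 0),(.ofNat 1),(.ofNat 0),(.ofNat 0),(.negSucc 0),(.ofNat 1)],[(.ofNat 0),(.ofNat 0),(.negSucc 0),(.ofNat 1),(.negSucc 0),(.ofNat 1),(.ofNat 0)],[(.negSucc 0),(.ofNat 0),(.ofNat 1),(.ofNat 0),(.ofNat 0),(.ofNat 0),(.negSucc 0)],[(.ofNat 0),(.ofNat 0),(.negSucc 0),(.ofNat 1),(.ofNat 0),(.negSucc 0),(.ofNat 1)],[(.ofNat 0),(.ofNat 1),(.ofNat 0),(.negSucc 0),(.ofNat 0),(.ofNat 1),(.ofNat 0)],[(.ofNat 0),(.ofNat 0),(.negSucc 0),(.ofNat 1),(.ofNat 0),(.ofNat 0),(.negSucc 0)],[(.ofNat 0),(.ofNat 1),(.ofNat 0),(.negSucc 0),(.ofNat 1),(.negSucc 0),(.ofNat 1)],[(.ofNat 0),(.negSucc 0),(.ofNat 0),(.ofNat 0),(.ofNat 0),(.ofNat 1),(.ofNat 0)],[(.ofNat 0),(.ofNat 1),(.ofNat 0),(.negSucc 0),(.ofNat 1),(.ofNat 0),(.negSucc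 0)],[(.ofNat 0),(.ofNat 1),(.ofNat 0),(.ofNat 0),(.negSucc 0),(.ofNat 0),(.ofNat 1)],[(.ofNat 0),(.negSucc 0),(.ofNat 0),(.ofNat 0),(.ofNat 1),(.negSucc 0),(.ofNat 1)],[(.ofNat 0),(.ofNat 1),(.ofNat 0),(.ofNat 0),(.negSucc 0),(.ofNat 1),(.negSucc 0)],[(.ofNat 0),(.negSucc 0),(.ofNat 0),(.ofNat 0),(.ofNat 1),(.ofNat 0),(.negSucc 0)],[(.ofNat 0),(.negSucc 0),(.ofNat 0),(.ofNat 1),(.negSucc 0),(.ofNat 0),(.ofNat 1)],[(.ofNat 0),(.ofNat 1),(.ofNat 0),(.ofNat 0),(.ofNat 0),(.negSucc 0),(.ofNat 0)],[(.ofNat 0),(.negSucc 0),(.ofNat 0),(.ofNat 1),(.negSucc 0),(.ofNat 1),(.negSucc 0)],[(.ofNat 0),(.ofNat 0),(.ofNat 1),(.negSucc 0),(.ofNat 0),(.ofNat 0),(.ofNat 1)],[(.ofNat 0),(.negSucc 0),(.ofNat 0),(.ofNat 1),(.ofNat 0),(.negSucc 0),(.ofNat 0)],[(.ofNat 0),(.ofNat 0),(.ofNat 1),(.negSucc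 0),(.ofNat 0),(.ofNat 1),(.negSucc 0)],[(.ofNat 1),(.ofNat 0),(.negSucc 0),(.ofNat 0),(.ofNat 0),(.ofNat 0),(.ofNat 1)],[(.ofNat 0),(.ofNat 0),(.ofNat 1),(.negSucc 0),(.ofNat 1),(.negSucc 0),(.ofNat 0)],[(.ofNat 1),(.ofNat 0),(.negSucc 0),(.ofNat 0),(.ofNat 0),(.ofNat 1),(.negSucc 0)],[(.negSucc 0),(.ofNat 0),(.ofNat 0),(.ofNat 0),(.ofNat 0),(.ofNat 0),(.ofNat 1)],[(.ofNat 0),(.ofNat 0),(.ofNat 1),(.ofNat 0),(.negSucc 0),(.ofNat 0),(.ofNat 0)],[(.ofNat 1),(.ofNat 0),(.negSucc 0),(.ofNat 0),(.ofNat 1),(.negSucc 0),(.ofNat 0)],[(.negSucc 0),(.ofNat 0),(.ofNat 0),(.ofNat 0),(.ofNat 0),(.ofNat 1),(.negSucc 0)],[(.ofNat 1),(.ofNat 0),(.negSucc 0),(.ofNat 1),(.negSucc 0),(.ofNat 0),(.ofNat 0)],[(.negSucc 0),(.ofNat 0),(.ofNat 0),(.ofNat 0),(.ofNat 1),(.negSucc 0),(.ofNat 0)],[(.ofNat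 1),(.ofNat 1),(.ofNat 0),(.negSucc 0),(.ofNat 0),(.ofNat 0),(.ofNat 0)],[(.negSucc 0),(.ofNat 0),(.ofNat 0),(.ofNat 1),(.negSucc 0),(.ofNat 0),(.ofNat 0)],[(.ofNat 1),(.negSucc 0),(.ofNat 0),(.ofNat 0),(.ofNat 0),(.ofNat 0),(.ofNat 0)],[(.negSucc 0),(.ofNat 1),(.ofNat 1),(.negSucc 0),(.ofNat 0),(.ofNat 0),(.ofNat 0)],[(.negSucc 0),(.negSucc 0),(.ofNat 1),(.ofNat 0),(.ofNat 0),(.ofNat 0),(.ofNat 0)],[(.ofNat 0),(.ofNat 1),(.negSucc 0),(.ofNat 0),(.ofNat 0),(.ofNat 0),(.ofNat 0)],[(.ofNat 0),(.negSucc 0),(.negSucc 0),(.ofNat 1),(.ofNat 0),(.ofNat 0),(.ofNat 0)],[(.ofNat 0),(.ofNat 0),(.ofNat 0),(.negSucc 0),(.ofNat 1),(.ofNat 0),(.ofNat 0)],[(.ofNat 0),(.ofNat 0),(.ofNat 0),(.ofNat 0),(.negSucc 0),(.ofNat 1),(.ofNat 0)],[(.ofNat 0),(.ofNat 0),(.ofNat 0),(.ofNat 0),(.ofNat 0),(.negSucc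 0),(.ofNat 1)],[(.ofNat 0),(.ofNat 0),(.ofNat 0),(.ofNat 0),(.ofNat 0),(.ofNat 0),(.negSucc 0)]]
noncomputable def par6 : List (ℕ × ℕ) := [(0,6),(1,5),(2,4),(3,3),(4,1),(4,2),(5,2),(6,0),(7,3),(7,0),(9,4),(9,0),(11,5),(11,0),(12,2),(13,6),(13,0),(14,2),(16,0),(17,2),(18,3),(19,2),(20,3),(21,1),(22,3),(23,4),(23,1),(25,4),(25,1),(26,1),(28,5),(28,1),(30,3),(31,1),(32,3),(33,2),(34,3),(35,2),(36,0),(37,4),(37,2),(38,0),(40,2),(41,0),(43,3),(43,0),(45,1),(45,0),(47,0),(48,2),(49,2),(51,3),(52,4),(53,5),(54,6)]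
noncomputable def ds6 : List ℕ := [0,1,2,3,4,5,5,6,6,7,7,8,8,9,9,9,10,10,10,11,11,11,12,12,12,13,13,13,14,14,14,15,15,15,16,16,16,17,17,17,18,18,18,19,19,20,20,21,21,22,22,23,24,25,26,27]
theorem ok6 : orbOK RootE7T.R chevE7.rank 6 cm [6, 5, 4, 1, 3, 2, 0] L6 par6 ds6 = true := by decide +kernel

end Cfsg.Agent.Lib.Chev.OrbE7
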