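import Cfsg.Agent.Lib.Chev.Orbit
import Cfsg.Agent.Lib.Chev.RootE8T

namespace Cfsg.Agent.Lib.Chev.OrbE8
open Cfsg.Agent.Lib.Chev Cfsg.Lie

noncomputable def cm : List (List ℤ) := [[(.ofNat 2),(.ofNat 0),(.negSucc 0),(.ofNat 0),(.ofNat 0),(.ofNat 0),(.ofNat 0),(.ofNat 0)],[(.ofNat 0),(.ofNat 2),(.ofNat 0),(.negSucc 0),(.ofNat 0),(.ofNat 0),(.ofNat 0),(.ofNat 0)],[(.negSucc 0),(.ofNat 0),(.ofNat 2),(.negSucc 0),(.ofNat 0),(.ofNat 0),(.ofNat 0),(.ofNat 0)],[(.ofNat 0),(.negSucc 0),(.negSucc 0),(.ofNat 2),(.negSucc 0),(.ofNat 0),(.ofNat 0),(.ofNat 0)],[(.ofNat 0),(.ofNat 0),(.ofNat 0),(.negSucc 0),(.ofNat 2),(.negSucc 0),(.ofNat 0),(.ofNat 0)],[(.ofNat 0),(.ofNat 0),(.ofNat 0),(.ofNat 0),(.negSucc 0),(.ofNat 2),(.negSucc 0),(.ofNat 0)],[(.ofNat 0),(.ofNat 0),(.ofNat 0),(.ofNat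 0),(.ofNat 0),(.negSucc 0),(.ofNat 2),(.negSucc 0)],[(.ofNat 0),(.ofNat 0),(.ofNat 0),(.ofNat 0),(.ofNat 0),(.ofNat 0),(.negSucc 0),(.ofNat 2)]]
theorem cm_ok : checkCm chevE8 cm = true := by decide +kernel

noncomputable def L0 : List (List ℤ) := [[(.ofNat 1),(.ofNat 0),(.ofNat 0),(.ofNat 0),(.ofNat 0),(.ofNat 0),(.ofNat 0),(.ofNat 0)],[(.negSucc 0),(.ofNat 0),(.ofNat 1),(.ofNat 0),(.ofNat 0),(.ofNat 0),(.ofNat 0),(.ofNat 0)]]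
noncomputable def par0 : List (ℕ × ℕ) := [(0,0)]
noncomputable def ds0 : List ℕ := [0,1]
theorem ok0 : orbOK RootE8T.R chevE8.rank 0 cm [0] L0 par0 ds0 = true := by decide +kernel

noncomputable def L1 : List (List ℤ) := [[(.ofNat 0),(.ofNat 0),(.ofNat 1),(.ofNat 0),(.ofNat 0),(.ofNat 0),(.ofNat 0),(.ofNat 0)],[(.ofNat 1),(.ofNat 0),(.negSucc 0),(.ofNat 1),(.ofNat 0),(.ofNat 0),(.ofNat 0),(.ofNat 0)],[(.negSucc 0),(.ofNat 0),(.ofNat 0),(.ofNat 1),(.ofNat 0),(.ofNat 0),(.ofNat 0),(.ofNat 0)]]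
noncomputable def par1 : List (ℕ × ℕ) := [(0,2),(1,0)]
noncomputable def ds1 : List ℕ := [0,1,2]
theorem ok1 : orbOK RootE8T.R chevE8.rank 2 cm [2, 0] L1 par1 ds1 = true := by decide +kernel

noncomputable def L2 : List (List ℤ) := [[(.ofNat 0),(.ofNat 0),(.ofNat 0),(.ofNat 1),(.ofNat 0),(.ofNat 0),(.ofNat 0),(.ofNat 0)],[(.ofNat 0),(.ofNat 1),(.ofNat 1),(.negSucc 0),(.ofNat 1),(.ofNat 0),(.ofNat 0),(.ofNat 0)],[(.ofNat 1),(.ofNat 1),(.negSucc 0),(.ofNat 0),(.ofNat 1),(.ofNat 0),(.ofNat 0),(.ofNat 0)],[(.negSucc 0),(.ofNat 1),(.ofNat 0),(.ofNat 0),(.ofNat 1),(.ofNat 0),(.ofNat 0),(.ofNat 0)]]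
noncomputable def par2 : List (ℕ × ℕ) := [(0,3),(1,2),(2,0)]
noncomputable def ds2 : List ℕ := [0,1,2,3]
theorem ok2 : orbOK RootE8T.R chevE8.rank 3 cm [3, 2, 0] L2 par2 ds2 = true := by decide +kernel

noncomputable def L3 : List (List ℤ) := [[(.ofNat 0),(.ofNat 1),(.ofNat 0),(.ofNat 0),(.ofNat 0),(.ofNat 0),(.ofNat 0),(.ofNat 0)],[(.ofNat 0),(.negSucc 0),(.ofNat 0),(.ofNat 1),(.ofNat 0),(.ofNat 0),(.ofNat 0),(.ofNat 0)],[(.ofNat 0),(.ofNat 0),(.ofNat 1),(.negSucc 0),(.ofNat 1),(.ofNat 0),(.ofNat 0),(.ofNat 0)],[(.ofNat 1),(.ofNat 0),(.negSucc 0),(.ofNat 0),(.ofNat 1),(.ofNat 0),(.ofNat 0),(.ofNat 0)],[(.negSucc 0),(.ofNat 0),(.ofNat 0),(.ofNat 0),(.ofNat 1),(.ofNat 0),(.ofNat 0),(.ofNat 0)]]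
noncomputable def par3 : List (ℕ × ℕ) := [(0,1),(1,3),(2,2),(3,0)]
noncomputable def ds3 : List ℕ := [0,1,2,3,4]
theorem ok3 : orbOK RootE8T.R chevE8.rank 1 cm [1, 3, 2, 0] L3 par3 ds3 = true := by decide +kernel

noncomputable def L4 : List (List ℤ) := [[(.ofNat 0),(.ofNat 0),(.ofNat 0),(.ofNat 0),(.ofNat 1),(.ofNat 0),(.ofNat 0),(.ofNat 0)],[(.ofNat 0),(.ofNat 0),(.ofNat 0),(.ofNat 1),(.negSucc 0),(.ofNat 1),(.ofNat 0),(.ofNat 0)],[(.ofNat 0),(.ofNat 1),(.ofNat 1),(.negSucc 0),(.ofNat 0),(.ofNat 1),(.ofNat 0),(.ofNat 0)],[(.ofNat 0),(.negSucc 0),(.ofNat 1),(.ofNat 0),(.ofNat 0),(.ofNat 1),(.ofNat 0),(.ofNat 0)],[(.ofNat 1),(.ofNat 1),(.negSucc 0),(.ofNat 0),(.ofNat 0),(.ofNat 1),(.ofNat 0),(.ofNat 0)],[(.ofNat 1),(.negSucc 0),(.negSucc 0),(.ofNat 1),(.ofNat 0),(.ofNat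 1),(.ofNat 0),(.ofNat 0)],[(.negSucc 0),(.ofNat 1),(.ofNat 0),(.ofNat 0),(.ofNat 0),(.ofNat 1),(.ofNat 0),(.ofNat 0)],[(.ofNat 1),(.ofNat 0),(.ofNat 0),(.negSucc 0),(.ofNat 1),(.ofNat 1),(.ofNat 0),(.ofNat 0)],[(.negSucc 0),(.negSucc 0),(.ofNat 0),(.ofNat 1),(.ofNat 0),(.ofNat 1),(.ofNat 0),(.ofNat 0)],[(.ofNat 1),(.ofNat 0),(.ofNat 0),(.ofNat 0),(.negSucc 0),(.ofNat 2),(.ofNat 0),(.ofNat 0)],[(.negSucc 0),(.ofNat 0),(.ofNat 1),(.negSucc 0),(.ofNat 1),(.ofNat 1),(.ofNat 0),(.ofNat 0)],[(.negSucc 0),(.ofNat 0),(.ofNat 1),(.ofNat 0),(.negSucc 0),(.ofNat 2),(.ofNat 0),(.ofNat 0)],[(.ofNat 0),(.ofNat 0),(.negSucc 0),(.ofNat 0),(.ofNat 1),(.ofNat 1),(.ofNat 0),(.ofNat 0)],[(.ofNat 0),(.ofNat 0),(.negSucc 0),(.ofNat 1),(.negSucc 0),(.ofNat 2),(.ofNat 0),(.ofNat 0)],[(.ofNat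 0),(.ofNat 1),(.ofNat 0),(.negSucc 0),(.ofNat 0),(.ofNat 2),(.ofNat 0),(.ofNat 0)],[(.ofNat 0),(.negSucc 0),(.ofNat 0),(.ofNat 0),(.ofNat 0),(.ofNat 2),(.ofNat 0),(.ofNat 0)]]
noncomputable def par4 : List (ℕ × ℕ) := [(0,4),(1,3),(2,1),(2,2),(3,2),(4,0),(5,3),(5,0),(7,4),(7,0),(9,0),(10,2),(11,2),(13,3),(14,1)]
noncomputable def ds4 : List ℕ := [0,1,2,3,3,4,4,5,5,6,6,7,7,8,9,10]
theorem ok4 : orbOK RootE8T.R chevE8.rank 4 cm [4, 1, 3, 2, 0] L4 par4 ds4 = true := by decide +kernel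

noncomputable def L5 : List (List ℤ) := [[(.ofNat 0),(.ofNat 0),(.ofNat 0),(.ofNat 0),(.ofNat 0),(.ofNat 1),(.ofNat 0),(.ofNat 0)],[(.ofNat 0),(.ofNat 0),(.ofNat 0),(.ofNat 0),(.ofNat 1),(.negSucc 0),(.ofNat 1),(.ofNat 0)],[(.ofNat 0),(.ofNat 0),(.ofNat 0),(.ofNat 1),(.negSucc 0),(.ofNat 0),(.ofNat 1),(.ofNat 0)],[(.ofNat 0),(.ofNat 1),(.ofNat 1),(.negSucc 0),(.ofNat 0),(.ofNat 0),(.ofNat 1),(.ofNat 0)],[(.ofNat 0),(.negSucc 0),(.ofNat 1),(.ofNat 0),(.ofNat 0),(.ofNat 0),(.ofNat 1),(.ofNat 0)],[(.ofNat 1),(.ofNat 1),(.negSucc 0),(.ofNat 0),(.ofNat 0),(.ofNat 0),(.ofNat 1),(.ofNat 0)],[(.ofNat 1),(.negSucc 0),(.negSucc 0),(.ofNat 1),(.ofNat 0),(.ofNat 0),(.ofNat 1),(.ofNat 0)],[(.negSucc 0),(.ofNat 1),(.ofNat 0),(.ofNat 0),(.ofNat 0),(.ofNat 0),(.ofNat 1),(.ofNat 0)],[(.ofNat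 1),(.ofNat 0),(.ofNat 0),(.negSucc 0),(.ofNat 1),(.ofNat 0),(.ofNat 1),(.ofNat 0)],[(.negSucc 0),(.negSucc 0),(.ofNat 0),(.ofNat 1),(.ofNat 0),(.ofNat 0),(.ofNat 1),(.ofNat 0)],[(.ofNat 1),(.ofNat 0),(.ofNat 0),(.ofNat 0),(.negSucc 0),(.ofNat 1),(.ofNat 1),(.ofNat 0)],[(.negSucc 0),(.ofNat 0),(.ofNat 1),(.negSucc 0),(.ofNat 1),(.ofNat 0),(.ofNat 1),(.ofNat 0)],[(.ofNat 1),(.ofNat 0),(.ofNat 0),(.ofNat 0),(.ofNat 0),(.negSucc 0),(.ofNat 2),(.ofNat 0)],[(.negSucc 0),(.ofNat 0),(.ofNat 1),(.ofNat 0),(.negSucc 0),(.ofNat 1),(.ofNat 1),(.ofNat 0)],[(.ofNat 0),(.ofNat 0),(.negSucc 0),(.ofNat 0),(.ofNat 1),(.ofNat 0),(.ofNat 1),(.ofNat 0)],[(.negSucc 0),(.ofNat 0),(.ofNat 1),(.ofNat 0),(.ofNat 0),(.negSucc 0),(.ofNat 2),(.ofNat 0)],[(.ofNat 0),(.ofNat 0),(.negSucc 0),(.ofNat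 1),(.negSucc 0),(.ofNat 1),(.ofNat 1),(.ofNat 0)],[(.ofNat 0),(.ofNat 0),(.negSucc 0),(.ofNat 1),(.ofNat 0),(.negSucc 0),(.ofNat 2),(.ofNat 0)],[(.ofNat 0),(.ofNat 1),(.ofNat 0),(.negSucc 0),(.ofNat 0),(.ofNat 1),(.ofNat 1),(.ofNat 0)],[(.ofNat 0),(.ofNat 1),(.ofNat 0),(.negSucc 0),(.ofNat 1),(.negSucc 0),(.ofNat 2),(.ofNat 0)],[(.ofNat 0),(.negSucc 0),(.ofNat 0),(.ofNat 0),(.ofNat 0),(.ofNat 1),(.ofNat 1),(.ofNat 0)],[(.ofNat 0),(.ofNat 1),(.ofNat 0),(.ofNat 0),(.negSucc 0),(.ofNat 0),(.ofNat 2),(.ofNat 0)],[(.ofNat 0),(.negSucc 0),(.ofNat 0),(.ofNat 0),(.ofNat 1),(.negSucc 0),(.ofNat 2),(.ofNat 0)],[(.ofNat 0),(.negSucc 0),(.ofNat 0),(.ofNat 1),(.negSucc 0),(.ofNat 0),(.ofNat 2),(.ofNat 0)],[(.ofNat 0),(.ofNat 0),(.ofNat 1),(.negSucc 0),(.ofNat 0),(.ofNat 0),(.ofNat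 2),(.ofNat 0)],[(.ofNat 1),(.ofNat 0),(.negSucc 0),(.ofNat 0),(.ofNat 0),(.ofNat 0),(.ofNat 2),(.ofNat 0)],[(.negSucc 0),(.ofNat 0),(.ofNat 0),(.ofNat 0),(.ofNat 0),(.ofNat 0),(.ofNat 2),(.ofNat 0)]]
noncomputable def par5 : List (ℕ × ℕ) := [(0,5),(1,4),(2,3),(3,1),(3,2),(4,2),(5,0),(6,3),(6,0),(8,4),(8,0),(10,5),(10,0),(11,2),(12,0),(13,2),(15,2),(16,3),(17,3),(18,1),(19,4),(19,1),(21,1),(23,3),(24,2),(25,0)]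
noncomputable def ds5 : List ℕ := [0,1,2,3,4,4,5,5,6,6,7,7,8,8,8,9,9,10,10,11,11,12,12,13,14,15,16]
theorem ok5 : orbOK RootE8T.R chevE8.rank 5 cm [5, 4, 1, 3, 2, 0] L5 par5 ds5 = true := by decide +kernel

noncomputable def L6 : List (List ℤ) := [[(.ofNat 0),(.ofNat 0),(.ofNat 0),(.ofNat 0),(.ofNat 0),(.ofNat 0),(.ofNat 1),(.ofNat 0)],[(.ofNat 0),(.ofNat 0),(.ofNat 0),(.ofNat 0),(.ofNat 0),(.ofNat 1),(.negSucc 0),(.ofNat 1)],[(.ofNat 0),(.ofNat 0),(.ofNat 0),(.ofNat 0),(.ofNat 1),(.negSucc 0),(.ofNat 0),(.ofNat 1)],[(.ofNat 0),(.ofNat 0),(.ofNat 0),(.ofNat 1),(.negSucc 0),(.ofNat 0),(.ofNat 0),(.ofNat 1)],[(.ofNat 0),(.ofNat 1),(.ofNat 1),(.negSucc 0),(.ofNat 0),(.ofNat 0),(.ofNat 0),(.ofNat 1)],[(.ofNat 0),(.negSucc 0),(.ofNat 1),(.ofNat 0),(.ofNat 0),(.ofNat 0),(.ofNat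 0),(.ofNat 1)],[(.ofNat 1),(.ofNat 1),(.negSucc 0),(.ofNat 0),(.ofNat 0),(.ofNat 0),(.ofNat 0),(.ofNat 1)],[(.ofNat 1),(.negSucc 0),(.negSucc 0),(.ofNat 1),(.ofNat 0),(.ofNat 0),(.ofNat 0),(.ofNat 1)],[(.negSucc 0),(.ofNat 1),(.ofNat 0),(.ofNat 0),(.ofNat 0),(.ofNat 0),(.ofNat 0),(.ofNat 1)],[(.ofNat 1),(.ofNat 0),(.ofNat 0),(.negSucc 0),(.ofNat 1),(.ofNat 0),(.ofNat 0),(.ofNat 1)],[(.negSucc 0),(.negSucc 0),(.ofNat 0),(.ofNat 1),(.ofNat 0),(.ofNat 0),(.ofNat 0),(.ofNat 1)],[(.ofNat 1),(.ofNat 0),(.ofNat 0),(.ofNat 0),(.negSucc 0),(.ofNat 1),(.ofNat 0),(.ofNat 1)],[(.negSucc 0),(.ofNat 0),(.ofNat 1),(.negSucc 0),(.ofNat 1),(.ofNat 0),(.ofNat 0),(.ofNat 1)],[(.ofNat 1),(.ofNat 0),(.ofNat 0),(.ofNat 0),(.ofNat 0),(.negSucc 0),(.ofNat 1),(.ofNat 1)],[(.negSucc 0),(.ofNat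 0),(.ofNat 1),(.ofNat 0),(.negSucc 0),(.ofNat 1),(.ofNat 0),(.ofNat 1)],[(.ofNat 0),(.ofNat 0),(.negSucc 0),(.ofNat 0),(.ofNat 1),(.ofNat 0),(.ofNat 0),(.ofNat 1)],[(.ofNat 1),(.ofNat 0),(.ofNat 0),(.ofNat 0),(.ofNat 0),(.ofNat 0),(.negSucc 0),(.ofNat 2)],[(.negSucc 0),(.ofNat 0),(.ofNat 1),(.ofNat 0),(.ofNat 0),(.negSucc 0),(.ofNat 1),(.ofNat 1)],[(.ofNat 0),(.ofNat 0),(.negSucc 0),(.ofNat 1),(.negSucc 0),(.ofNat 1),(.ofNat 0),(.ofNat 1)],[(.negSucc 0),(.ofNat 0),(.ofNat 1),(.ofNat 0),(.ofNat 0),(.ofNat 0),(.negSucc 0),(.ofNat 2)],[(.ofNat 0),(.ofNat 0),(.negSucc 0),(.ofNat 1),(.ofNat 0),(.negSucc 0),(.ofNat 1),(.ofNat 1)],[(.ofNat 0),(.ofNat 1),(.ofNat 0),(.negSucc 0),(.ofNat 0),(.ofNat 1),(.ofNat 0),(.ofNat 1)],[(.ofNat 0),(.ofNat 0),(.negSucc 0),(.ofNat 1),(.ofNat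 0),(.ofNat 0),(.negSucc 0),(.ofNat 2)],[(.ofNat 0),(.ofNat 1),(.ofNat 0),(.negSucc 0),(.ofNat 1),(.negSucc 0),(.ofNat 1),(.ofNat 1)],[(.ofNat 0),(.negSucc 0),(.ofNat 0),(.ofNat 0),(.ofNat 0),(.ofNat 1),(.ofNat 0),(.ofNat 1)],[(.ofNat 0),(.ofNat 1),(.ofNat 0),(.negSucc 0),(.ofNat 1),(.ofNat 0),(.negSucc 0),(.ofNat 2)],[(.ofNat 0),(.ofNat 1),(.ofNat 0),(.ofNat 0),(.negSucc 0),(.ofNat 0),(.ofNat 1),(.ofNat 1)],[(.ofNat 0),(.negSucc 0),(.ofNat 0),(.ofNat 0),(.ofNat 1),(.negSucc 0),(.ofNat 1),(.ofNat 1)],[(.ofNat 0),(.ofNat 1),(.ofNat 0),(.ofNat 0),(.negSucc 0),(.ofNat 1),(.negSucc 0),(.ofNat 2)],[(.ofNat 0),(.negSucc 0),(.ofNat 0),(.ofNat 0),(.ofNat 1),(.ofNat 0),(.negSucc 0),(.ofNat 2)],[(.ofNat 0),(.negSucc 0),(.ofNat 0),(.ofNat 1),(.negSucc 0),(.ofNat 0),(.ofNat 1),(.ofNat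 1)],[(.ofNat 0),(.ofNat 1),(.ofNat 0),(.ofNat 0),(.ofNat 0),(.negSucc 0),(.ofNat 0),(.ofNat 2)],[(.ofNat 0),(.negSucc 0),(.ofNat 0),(.ofNat 1),(.negSucc 0),(.ofNat 1),(.negSucc 0),(.ofNat 2)],[(.ofNat 0),(.ofNat 0),(.ofNat 1),(.negSucc 0),(.ofNat 0),(.ofNat 0),(.ofNat 1),(.ofNat 1)],[(.ofNat 0),(.negSucc 0),(.ofNat 0),(.ofNat 1),(.ofNat 0),(.negSucc 0),(.ofNat 0),(.ofNat 2)],[(.ofNat 0),(.ofNat 0),(.ofNat 1),(.negSucc 0),(.ofNat 0),(.ofNat 1),(.negSucc 0),(.ofNat 2)],[(.ofNat 1),(.ofNat 0),(.negSucc 0),(.ofNat 0),(.ofNat 0),(.ofNat 0),(.ofNat 1),(.ofNat 1)],[(.ofNat 0),(.ofNat 0),(.ofNat 1),(.negSucc 0),(.ofNat 1),(.negSucc 0),(.ofNat 0),(.ofNat 2)],[(.ofNat 1),(.ofNat 0),(.negSucc 0),(.ofNat 0),(.ofNat 0),(.ofNat 1),(.negSucc 0),(.ofNat 2)],[(.negSucc 0),(.ofNat 0),(.ofNat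 0),(.ofNat 0),(.ofNat 0),(.ofNat 0),(.ofNat 1),(.ofNat 1)],[(.ofNat 0),(.ofNat 0),(.ofNat 1),(.ofNat 0),(.negSucc 0),(.ofNat 0),(.ofNat 0),(.ofNat 2)],[(.ofNat 1),(.ofNat 0),(.negSucc 0),(.ofNat 0),(.ofNat 1),(.negSucc 0),(.ofNat 0),(.ofNat 2)],[(.negSucc 0),(.ofNat 0),(.ofNat 0),(.ofNat 0),(.ofNat 0),(.ofNat 1),(.negSucc 0),(.ofNat 2)],[(.ofNat 1),(.ofNat 0),(.negSucc 0),(.ofNat 1),(.negSucc 0),(.ofNat 0),(.ofNat 0),(.ofNat 2)],[(.negSucc 0),(.ofNat 0),(.ofNat 0),(.ofNat 0),(.ofNat 1),(.negSucc 0),(.ofNat 0),(.ofNat 2)],[(.ofNat 1),(.ofNat 1),(.ofNat 0),(.negSucc 0),(.ofNat 0),(.ofNat 0),(.ofNat 0),(.ofNat 2)],[(.negSucc 0),(.ofNat 0),(.ofNat 0),(.ofNat 1),(.negSucc 0),(.ofNat 0),(.ofNat 0),(.ofNat 2)],[(.ofNat 1),(.negSucc 0),(.ofNat 0),(.ofNat 0),(.ofNat 0),(.ofNat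 0),(.ofNat 0),(.ofNat 2)],[(.negSucc 0),(.ofNat 1),(.ofNat 1),(.negSucc 0),(.ofNat 0),(.ofNat 0),(.ofNat 0),(.ofNat 2)],[(.negSucc 0),(.negSucc 0),(.ofNat 1),(.ofNat 0),(.ofNat 0),(.ofNat 0),(.ofNat 0),(.ofNat 2)],[(.ofNat 0),(.ofNat 1),(.negSucc 0),(.ofNat 0),(.ofNat 0),(.ofNat 0),(.ofNat 0),(.ofNat 2)],[(.ofNat 0),(.negSucc 0),(.negSucc 0),(.ofNat 1),(.ofNat 0),(.ofNat 0),(.ofNat 0),(.ofNat 2)],[(.ofNat 0),(.ofNat 0),(.ofNat 0),(.negSucc 0),(.ofNat 1),(.ofNat 0),(.ofNat 0),(.ofNat 2)],[(.ofNat 0),(.ofNat 0),(.ofNat 0),(.ofNat 0),(.negSucc 0),(.ofNat 1),(.ofNat 0),(.ofNat 2)],[(.ofNat 0),(.ofNat 0),(.ofNat 0),(.ofNat 0),(.ofNat 0),(.negSucc 0),(.ofNat 1),(.ofNat 2)],[(.ofNat 0),(.ofNat 0),(.ofNat 0),(.ofNat 0),(.ofNat 0),(.ofNat 0),(.negSucc 0),(.ofNat 3)]]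
noncomputable def par6 : List (ℕ × ℕ) := [(0,6),(1,5),(2,4),(3,3),(4,1),(4,2),(5,2),(6,0),(7,3),(7,0),(9,4),(9,0),(11,5),(11,0),(12,2),(13,6),(13,0),(14,2),(16,0),(17,2),(18,3),(19,2),(20,3),(21,1),(22,3),(23,4),(23,1),(25,4),(25,1),(26,1),(28,5),(28,1),(30,3),(31,1),(32,3),(33,2),(34,3),(35,2),(36,0),(37,4),(37,2),(38,0),(40,2),(41,0),(43,3),(43,0),(45,1),(45,0),(47,0),(48,2),(49,2),(51,3),(52,4),(53,5),(54,6)]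
noncomputable def ds6 : List ℕ := [0,1,2,3,4,5,5,6,6,7,7,8,8,9,9,9,10,10,10,11,11,11,12,12,12,13,13,13,14,14,14,15,15,15,16,16,16,17,17,17,18,18,18,19,19,20,20,21,21,22,22,23,24,25,26,27]
theorem ok6 : orbOK RootE8T.R chevE8.rank 6 cm [6, 5, 4, 1, 3, 2, 0] L6 par6 ds6 = true := by decide +kernel

noncomputable def L7 : List (List ℤ) := [[(.ofNat 0),(.ofNat 0),(.ofNat 0),(.ofNat 0),(.ofNat 0),(.ofNat 0),(.ofNat 0),(.ofNat 1)],[(.ofNat 0),(.ofNat 0),(.ofNat 0),(.ofNat 0),(.ofNat 0),(.ofNat 0),(.ofNat 1),(.negSucc 0)],[(.ofNat 0),(.ofNat 0),(.ofNat 0),(.ofNat 0),(.ofNat 0),(.ofNat 1),(.negSucc 0),(.ofNat 0)],[(.ofNat 0),(.ofNat 0),(.ofNat 0),(.ofNat 0),(.ofNat 1),(.negSucc 0),(.ofNat 0),(.ofNat 0)],[(.ofNat 0),(.ofNat 0),(.ofNat 0),(.ofNat 1),(.negSucc 0),(.ofNat 0),(.ofNat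 0),(.ofNat 0)],[(.ofNat 0),(.ofNat 1),(.ofNat 1),(.negSucc 0),(.ofNat 0),(.ofNat 0),(.ofNat 0),(.ofNat 0)],[(.ofNat 0),(.negSucc 0),(.ofNat 1),(.ofNat 0),(.ofNat 0),(.ofNat 0),(.ofNat 0),(.ofNat 0)],[(.ofNat 1),(.ofNat 1),(.negSucc 0),(.ofNat 0),(.ofNat 0),(.ofNat 0),(.ofNat 0),(.ofNat 0)],[(.ofNat 1),(.negSucc 0),(.negSucc 0),(.ofNat 1),(.ofNat 0),(.ofNat 0),(.ofNat 0),(.ofNat 0)],[(.negSucc 0),(.ofNat 1),(.ofNat 0),(.ofNat 0),(.ofNat 0),(.ofNat 0),(.ofNat 0),(.ofNat 0)],[(.ofNat 1),(.ofNat 0),(.ofNat 0),(.negSucc 0),(.ofNat 1),(.ofNat 0),(.ofNat 0),(.ofNat 0)],[(.negSucc 0),(.negSucc 0),(.ofNat 0),(.ofNat 1),(.ofNat 0),(.ofNat 0),(.ofNat 0),(.ofNat 0)],[(.ofNat 1),(.ofNat 0),(.ofNat 0),(.ofNat 0),(.negSucc 0),(.ofNat 1),(.ofNat 0),(.ofNat 0)],[(.negSucc 0),(.ofNat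 0),(.ofNat 1),(.negSucc 0),(.ofNat 1),(.ofNat 0),(.ofNat 0),(.ofNat 0)],[(.ofNat 1),(.ofNat 0),(.ofNat 0),(.ofNat 0),(.ofNat 0),(.negSucc 0),(.ofNat 1),(.ofNat 0)],[(.negSucc 0),(.ofNat 0),(.ofNat 1),(.ofNat 0),(.negSucc 0),(.ofNat 1),(.ofNat 0),(.ofNat 0)],[(.ofNat 0),(.ofNat 0),(.negSucc 0),(.ofNat 0),(.ofNat 1),(.ofNat 0),(.ofNat 0),(.ofNat 0)],[(.ofNat 1),(.ofNat 0),(.ofNat 0),(.ofNat 0),(.ofNat 0),(.ofNat 0),(.negSucc 0),(.ofNat 1)],[(.negSucc 0),(.ofNat 0),(.ofNat 1),(.ofNat 0),(.ofNat 0),(.negSucc 0),(.ofNat 1),(.ofNat 0)],[(.ofNat 0),(.ofNat 0),(.negSucc 0),(.ofNat 1),(.negSucc 0),(.ofNat 1),(.ofNat 0),(.ofNat 0)],[(.ofNat 1),(.ofNat 0),(.ofNat 0),(.ofNat 0),(.ofNat 0),(.ofNat 0),(.ofNat 0),(.negSucc 0)],[(.negSucc 0),(.ofNat 0),(.ofNat 1),(.ofNat 0),(.ofNat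 0),(.ofNat 0),(.negSucc 0),(.ofNat 1)],[(.ofNat 0),(.ofNat 0),(.negSucc 0),(.ofNat 1),(.ofNat 0),(.negSucc 0),(.ofNat 1),(.ofNat 0)],[(.ofNat 0),(.ofNat 1),(.ofNat 0),(.negSucc 0),(.ofNat 0),(.ofNat 1),(.ofNat 0),(.ofNat 0)],[(.negSucc 0),(.ofNat 0),(.ofNat 1),(.ofNat 0),(.ofNat 0),(.ofNat 0),(.ofNat 0),(.negSucc 0)],[(.ofNat 0),(.ofNat 0),(.negSucc 0),(.ofNat 1),(.ofNat 0),(.ofNat 0),(.negSucc 0),(.ofNat 1)],[(.ofNat 0),(.ofNat 1),(.ofNat 0),(.negSucc 0),(.ofNat 1),(.negSucc 0),(.ofNat 1),(.ofNat 0)],[(.ofNat 0),(.negSucc 0),(.ofNat 0),(.ofNat 0),(.ofNat 0),(.ofNat 1),(.ofNat 0),(.ofNat 0)],[(.ofNat 0),(.ofNat 0),(.negSucc 0),(.ofNat 1),(.ofNat 0),(.ofNat 0),(.ofNat 0),(.negSucc 0)],[(.ofNat 0),(.ofNat 1),(.ofNat 0),(.negSucc 0),(.ofNat 1),(.ofNat 0),(.negSucc 0),(.ofNat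 1)],[(.ofNat 0),(.ofNat 1),(.ofNat 0),(.ofNat 0),(.negSucc 0),(.ofNat 0),(.ofNat 1),(.ofNat 0)],[(.ofNat 0),(.negSucc 0),(.ofNat 0),(.ofNat 0),(.ofNat 1),(.negSucc 0),(.ofNat 1),(.ofNat 0)],[(.ofNat 0),(.ofNat 1),(.ofNat 0),(.negSucc 0),(.ofNat 1),(.ofNat 0),(.ofNat 0),(.negSucc 0)],[(.ofNat 0),(.ofNat 1),(.ofNat 0),(.ofNat 0),(.negSucc 0),(.ofNat 1),(.negSucc 0),(.ofNat 1)],[(.ofNat 0),(.negSucc 0),(.ofNat 0),(.ofNat 0),(.ofNat 1),(.ofNat 0),(.negSucc 0),(.ofNat 1)],[(.ofNat 0),(.negSucc 0),(.ofNat 0),(.ofNat 1),(.negSucc 0),(.ofNat 0),(.ofNat 1),(.ofNat 0)],[(.ofNat 0),(.ofNat 1),(.ofNat 0),(.ofNat 0),(.negSucc 0),(.ofNat 1),(.ofNat 0),(.negSucc 0)],[(.ofNat 0),(.negSucc 0),(.ofNat 0),(.ofNat 0),(.ofNat 1),(.ofNat 0),(.ofNat 0),(.negSucc 0)],[(.ofNat 0),(.ofNat 1),(.ofNat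 0),(.ofNat 0),(.ofNat 0),(.negSucc 0),(.ofNat 0),(.ofNat 1)],[(.ofNat 0),(.negSucc 0),(.ofNat 0),(.ofNat 1),(.negSucc 0),(.ofNat 1),(.negSucc 0),(.ofNat 1)],[(.ofNat 0),(.ofNat 0),(.ofNat 1),(.negSucc 0),(.ofNat 0),(.ofNat 0),(.ofNat 1),(.ofNat 0)],[(.ofNat 0),(.ofNat 1),(.ofNat 0),(.ofNat 0),(.ofNat 0),(.negSucc 0),(.ofNat 1),(.negSucc 0)],[(.ofNat 0),(.negSucc 0),(.ofNat 0),(.ofNat 1),(.negSucc 0),(.ofNat 1),(.ofNat 0),(.negSucc 0)],[(.ofNat 0),(.negSucc 0),(.ofNat 0),(.ofNat 1),(.ofNat 0),(.negSucc 0),(.ofNat 0),(.ofNat 1)],[(.ofNat 0),(.ofNat 0),(.ofNat 1),(.negSucc 0),(.ofNat 0),(.ofNat 1),(.negSucc 0),(.ofNat 1)],[(.ofNat 1),(.ofNat 0),(.negSucc 0),(.ofNat 0),(.ofNat 0),(.ofNat 0),(.ofNat 1),(.ofNat 0)],[(.ofNat 0),(.ofNat 1),(.ofNat 0),(.ofNat 0),(.ofNat 0),(.ofNat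 0),(.negSucc 0),(.ofNat 0)],[(.ofNat 0),(.negSucc 0),(.ofNat 0),(.ofNat 1),(.ofNat 0),(.negSucc 0),(.ofNat 1),(.negSucc 0)],[(.ofNat 0),(.ofNat 0),(.ofNat 1),(.negSucc 0),(.ofNat 0),(.ofNat 1),(.ofNat 0),(.negSucc 0)],[(.ofNat 0),(.ofNat 0),(.ofNat 1),(.negSucc 0),(.ofNat 1),(.negSucc 0),(.ofNat 0),(.ofNat 1)],[(.ofNat 1),(.ofNat 0),(.negSucc 0),(.ofNat 0),(.ofNat 0),(.ofNat 1),(.negSucc 0),(.ofNat 1)],[(.negSucc 0),(.ofNat 0),(.ofNat 0),(.ofNat 0),(.ofNat 0),(.ofNat 0),(.ofNat 1),(.ofNat 0)],[(.ofNat 0),(.negSucc 0),(.ofNat 0),(.ofNat 1),(.ofNat 0),(.ofNat 0),(.negSucc 0),(.ofNat 0)],[(.ofNat 0),(.ofNat 0),(.ofNat 1),(.negSucc 0),(.ofNat 1),(.negSucc 0),(.ofNat 1),(.negSucc 0)],[(.ofNat 1),(.ofNat 0),(.negSucc 0),(.ofNat 0),(.ofNat 0),(.ofNat 1),(.ofNat 0),(.negSucc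 0)],[(.ofNat 0),(.ofNat 0),(.ofNat 1),(.ofNat 0),(.negSucc 0),(.ofNat 0),(.ofNat 0),(.ofNat 1)],[(.ofNat 1),(.ofNat 0),(.negSucc 0),(.ofNat 0),(.ofNat 1),(.negSucc 0),(.ofNat 0),(.ofNat 1)],[(.negSucc 0),(.ofNat 0),(.ofNat 0),(.ofNat 0),(.ofNat 0),(.ofNat 1),(.negSucc 0),(.ofNat 1)],[(.ofNat 0),(.ofNat 0),(.ofNat 1),(.negSucc 0),(.ofNat 1),(.ofNat 0),(.negSucc 0),(.ofNat 0)],[(.ofNat 0),(.ofNat 0),(.ofNat 1),(.ofNat 0),(.negSucc 0),(.ofNat 0),(.ofNat 1),(.negSucc 0)],[(.ofNat 1),(.ofNat 0),(.negSucc 0),(.ofNat 0),(.ofNat 1),(.negSucc 0),(.ofNat 1),(.negSucc 0)],[(.negSucc 0),(.ofNat 0),(.ofNat 0),(.ofNat 0),(.ofNat 0),(.ofNat 1),(.ofNat 0),(.negSucc 0)],[(.ofNat 1),(.ofNat 0),(.negSucc 0),(.ofNat 1),(.negSucc 0),(.ofNat 0),(.ofNat 0),(.ofNat 1)],[(.negSucc 0),(.ofNat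 0),(.ofNat 0),(.ofNat 0),(.ofNat 1),(.negSucc 0),(.ofNat 0),(.ofNat 1)],[(.ofNat 0),(.ofNat 0),(.ofNat 1),(.ofNat 0),(.negSucc 0),(.ofNat 1),(.negSucc 0),(.ofNat 0)],[(.ofNat 1),(.ofNat 0),(.negSucc 0),(.ofNat 0),(.ofNat 1),(.ofNat 0),(.negSucc 0),(.ofNat 0)],[(.ofNat 1),(.ofNat 0),(.negSucc 0),(.ofNat 1),(.negSucc 0),(.ofNat 0),(.ofNat 1),(.negSucc 0)],[(.negSucc 0),(.ofNat 0),(.ofNat 0),(.ofNat 0),(.ofNat 1),(.negSucc 0),(.ofNat 1),(.negSucc 0)],[(.ofNat 1),(.ofNat 1),(.ofNat 0),(.negSucc 0),(.ofNat 0),(.ofNat 0),(.ofNat 0),(.ofNat 1)],[(.negSucc 0),(.ofNat 0),(.ofNat 0),(.ofNat 1),(.negSucc 0),(.ofNat 0),(.ofNat 0),(.ofNat 1)],[(.ofNat 0),(.ofNat 0),(.ofNat 1),(.ofNat 0),(.ofNat 0),(.negSucc 0),(.ofNat 0),(.ofNat 0)],[(.ofNat 1),(.ofNat 0),(.negSucc 0),(.ofNat 1),(.negSucc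 0),(.ofNat 1),(.negSucc 0),(.ofNat 0)],[(.negSucc 0),(.ofNat 0),(.ofNat 0),(.ofNat 0),(.ofNat 1),(.ofNat 0),(.negSucc 0),(.ofNat 0)],[(.ofNat 1),(.ofNat 1),(.ofNat 0),(.negSucc 0),(.ofNat 0),(.ofNat 0),(.ofNat 1),(.negSucc 0)],[(.negSucc 0),(.ofNat 0),(.ofNat 0),(.ofNat 1),(.negSucc 0),(.ofNat 0),(.ofNat 1),(.negSucc 0)],[(.ofNat 1),(.negSucc 0),(.ofNat 0),(.ofNat 0),(.ofNat 0),(.ofNat 0),(.ofNat 0),(.ofNat 1)],[(.negSucc 0),(.ofNat 1),(.ofNat 1),(.negSucc 0),(.ofNat 0),(.ofNat 0),(.ofNat 0),(.ofNat 1)],[(.ofNat 1),(.ofNat 0),(.negSucc 0),(.ofNat 1),(.ofNat 0),(.negSucc 0),(.ofNat 0),(.ofNat 0)],[(.ofNat 1),(.ofNat 1),(.ofNat 0),(.negSucc 0),(.ofNat 0),(.ofNat 1),(.negSucc 0),(.ofNat 0)],[(.negSucc 0),(.ofNat 0),(.ofNat 0),(.ofNat 1),(.negSucc 0),(.ofNat 1),(.negSucc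 0),(.ofNat 0)],[(.ofNat 1),(.negSucc 0),(.ofNat 0),(.ofNat 0),(.ofNat 0),(.ofNat 0),(.ofNat 1),(.negSucc 0)],[(.negSucc 0),(.ofNat 1),(.ofNat 1),(.negSucc 0),(.ofNat 0),(.ofNat 0),(.ofNat 1),(.negSucc 0)],[(.negSucc 0),(.negSucc 0),(.ofNat 1),(.ofNat 0),(.ofNat 0),(.ofNat 0),(.ofNat 0),(.ofNat 1)],[(.ofNat 0),(.ofNat 1),(.negSucc 0),(.ofNat 0),(.ofNat 0),(.ofNat 0),(.ofNat 0),(.ofNat 1)],[(.ofNat 1),(.ofNat 1),(.ofNat 0),(.negSucc 0),(.ofNat 1),(.negSucc 0),(.ofNat 0),(.ofNat 0)],[(.negSucc 0),(.ofNat 0),(.ofNat 0),(.ofNat 1),(.ofNat 0),(.negSucc 0),(.ofNat 0),(.ofNat 0)],[(.ofNat 1),(.negSucc 0),(.ofNat 0),(.ofNat 0),(.ofNat 0),(.ofNat 1),(.negSucc 0),(.ofNat 0)],[(.negSucc 0),(.ofNat 1),(.ofNat 1),(.negSucc 0),(.ofNat 0),(.ofNat 1),(.negSucc 0),(.ofNat 0)],[(.negSucc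 0),(.negSucc 0),(.ofNat 1),(.ofNat 0),(.ofNat 0),(.ofNat 0),(.ofNat 1),(.negSucc 0)],[(.ofNat 0),(.ofNat 1),(.negSucc 0),(.ofNat 0),(.ofNat 0),(.ofNat 0),(.ofNat 1),(.negSucc 0)],[(.ofNat 0),(.negSucc 0),(.negSucc 0),(.ofNat 1),(.ofNat 0),(.ofNat 0),(.ofNat 0),(.ofNat 1)],[(.ofNat 1),(.ofNat 1),(.ofNat 0),(.ofNat 0),(.negSucc 0),(.ofNat 0),(.ofNat 0),(.ofNat 0)],[(.ofNat 1),(.negSucc 0),(.ofNat 0),(.ofNat 0),(.ofNat 1),(.negSucc 0),(.ofNat 0),(.ofNat 0)],[(.negSucc 0),(.ofNat 1),(.ofNat 1),(.negSucc 0),(.ofNat 1),(.negSucc 0),(.ofNat 0),(.ofNat 0)],[(.negSucc 0),(.negSucc 0),(.ofNat 1),(.ofNat 0),(.ofNat 0),(.ofNat 1),(.negSucc 0),(.ofNat 0)],[(.ofNat 0),(.ofNat 1),(.negSucc 0),(.ofNat 0),(.ofNat 0),(.ofNat 1),(.negSucc 0),(.ofNat 0)],[(.ofNat 0),(.negSucc 0),(.negSucc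 0),(.ofNat 1),(.ofNat 0),(.ofNat 0),(.ofNat 1),(.negSucc 0)],[(.ofNat 0),(.ofNat 0),(.ofNat 0),(.negSucc 0),(.ofNat 1),(.ofNat 0),(.ofNat 0),(.ofNat 1)],[(.ofNat 1),(.negSucc 0),(.ofNat 0),(.ofNat 1),(.negSucc 0),(.ofNat 0),(.ofNat 0),(.ofNat 0)],[(.negSucc 0),(.ofNat 1),(.ofNat 1),(.ofNat 0),(.negSucc 0),(.ofNat 0),(.ofNat 0),(.ofNat 0)],[(.negSucc 0),(.negSucc 0),(.ofNat 1),(.ofNat 0),(.ofNat 1),(.negSucc 0),(.ofNat 0),(.ofNat 0)],[(.ofNat 0),(.ofNat 1),(.negSucc 0),(.ofNat 0),(.ofNat 1),(.negSucc 0),(.ofNat 0),(.ofNat 0)],[(.ofNat 0),(.negSucc 0),(.negSucc 0),(.ofNat 1),(.ofNat 0),(.ofNat 1),(.negSucc 0),(.ofNat 0)],[(.ofNat 0),(.ofNat 0),(.ofNat 0),(.negSucc 0),(.ofNat 1),(.ofNat 0),(.ofNat 1),(.negSucc 0)],[(.ofNat 0),(.ofNat 0),(.ofNat 0),(.ofNat 0),(.negSucc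 0),(.ofNat 1),(.ofNat 0),(.ofNat 1)],[(.ofNat 1),(.ofNat 0),(.ofNat 1),(.negSucc 0),(.ofNat 0),(.ofNat 0),(.ofNat 0),(.ofNat 0)],[(.negSucc 0),(.negSucc 0),(.ofNat 1),(.ofNat 1),(.negSucc 0),(.ofNat 0),(.ofNat 0),(.ofNat 0)],[(.ofNat 0),(.ofNat 1),(.negSucc 0),(.ofNat 1),(.negSucc 0),(.ofNat 0),(.ofNat 0),(.ofNat 0)],[(.ofNat 0),(.negSucc 0),(.negSucc 0),(.ofNat 1),(.ofNat 1),(.negSucc 0),(.ofNat 0),(.ofNat 0)],[(.ofNat 0),(.ofNat 0),(.ofNat 0),(.negSucc 0),(.ofNat 1),(.ofNat 1),(.negSucc 0),(.ofNat 0)],[(.ofNat 0),(.ofNat 0),(.ofNat 0),(.ofNat 0),(.negSucc 0),(.ofNat 1),(.ofNat 1),(.negSucc 0)],[(.ofNat 0),(.ofNat 0),(.ofNat 0),(.ofNat 0),(.ofNat 0),(.negSucc 0),(.ofNat 1),(.ofNat 1)],[(.ofNat 2),(.ofNat 0),(.negSucc 0),(.ofNat 0),(.ofNat 0),(.ofNat 0),(.ofNat 0),(.ofNat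 0)],[(.negSucc 0),(.ofNat 0),(.ofNat 2),(.negSucc 0),(.ofNat 0),(.ofNat 0),(.ofNat 0),(.ofNat 0)],[(.ofNat 0),(.negSucc 0),(.negSucc 0),(.ofNat 2),(.negSucc 0),(.ofNat 0),(.ofNat 0),(.ofNat 0)],[(.ofNat 0),(.ofNat 2),(.ofNat 0),(.negSucc 0),(.ofNat 0),(.ofNat 0),(.ofNat 0),(.ofNat 0)],[(.ofNat 0),(.ofNat 0),(.ofNat 0),(.negSucc 0),(.ofNat 2),(.negSucc 0),(.ofNat 0),(.ofNat 0)],[(.ofNat 0),(.ofNat 0),(.ofNat 0),(.ofNat 0),(.negSucc 0),(.ofNat 2),(.negSucc 0),(.ofNat 0)],[(.ofNat 0),(.ofNat 0),(.ofNat 0),(.ofNat 0),(.ofNat 0),(.negSucc 0),(.ofNat 2),(.negSucc 0)],[(.ofNat 0),(.ofNat 0),(.ofNat 0),(.ofNat 0),(.ofNat 0),(.ofNat 0),(.negSucc 0),(.ofNat 2)],[(.negSucc 1),(.ofNat 0),(.ofNat 1),(.ofNat 0),(.ofNat 0),(.ofNat 0),(.ofNat 0),(.ofNat 0)],[(.ofNat 1),(.ofNat 0),(.negSucc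 1),(.ofNat 1),(.ofNat 0),(.ofNat 0),(.ofNat 0),(.ofNat 0)],[(.ofNat 0),(.ofNat 1),(.ofNat 1),(.negSucc 1),(.ofNat 1),(.ofNat 0),(.ofNat 0),(.ofNat 0)],[(.ofNat 0),(.negSucc 1),(.ofNat 0),(.ofNat 1),(.ofNat 0),(.ofNat 0),(.ofNat 0),(.ofNat 0)],[(.ofNat 0),(.ofNat 0),(.ofNat 0),(.ofNat 1),(.negSucc 1),(.ofNat 1),(.ofNat 0),(.ofNat 0)],[(.ofNat 0),(.ofNat 0),(.ofNat 0),(.ofNat 0),(.ofNat 1),(.negSucc 1),(.ofNat 1),(.ofNat 0)],[(.ofNat 0),(.ofNat 0),(.ofNat 0),(.ofNat 0),(.ofNat 0),(.ofNat 1),(.negSucc 1),(.ofNat 1)],[(.ofNat 0),(.ofNat 0),(.ofNat 0),(.ofNat 0),(.ofNat 0),(.ofNat 0),(.ofNat 1),(.negSucc 1)],[(.negSucc 0),(.ofNat 0),(.negSucc 0),(.ofNat 1),(.ofNat 0),(.ofNat 0),(.ofNat 0),(.ofNat 0)],[(.ofNat 1),(.ofNat 1),(.negSucc 0),(.negSucc 0),(.ofNat 1),(.ofNat 0),(.ofNat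 0),(.ofNat 0)],[(.ofNat 0),(.ofNat 1),(.ofNat 1),(.negSucc 0),(.negSucc 0),(.ofNat 1),(.ofNat 0),(.ofNat 0)],[(.ofNat 0),(.negSucc 0),(.ofNat 1),(.negSucc 0),(.ofNat 1),(.ofNat 0),(.ofNat 0),(.ofNat 0)],[(.ofNat 0),(.ofNat 0),(.ofNat 0),(.ofNat 1),(.negSucc 0),(.negSucc 0),(.ofNat 1),(.ofNat 0)],[(.ofNat 0),(.ofNat 0),(.ofNat 0),(.ofNat 0),(.ofNat 1),(.negSucc 0),(.negSucc 0),(.ofNat 1)],[(.ofNat 0),(.ofNat 0),(.ofNat 0),(.ofNat 0),(.ofNat 0),(.ofNat 1),(.negSucc 0),(.negSucc 0)],[(.negSucc 0),(.ofNat 1),(.ofNat 0),(.negSucc 0),(.ofNat 1),(.ofNat 0),(.ofNat 0),(.ofNat 0)],[(.ofNat 1),(.ofNat 1),(.negSucc 0),(.ofNat 0),(.negSucc 0),(.ofNat 1),(.ofNat 0),(.ofNat 0)],[(.ofNat 1),(.negSucc 0),(.negSucc 0),(.ofNat 0),(.ofNat 1),(.ofNat 0),(.ofNat 0),(.ofNat 0)],[(.ofNat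 0),(.ofNat 1),(.ofNat 1),(.negSucc 0),(.ofNat 0),(.negSucc 0),(.ofNat 1),(.ofNat 0)],[(.ofNat 0),(.negSucc 0),(.ofNat 1),(.ofNat 0),(.negSucc 0),(.ofNat 1),(.ofNat 0),(.ofNat 0)],[(.ofNat 0),(.ofNat 0),(.ofNat 0),(.ofNat 1),(.negSucc 0),(.ofNat 0),(.negSucc 0),(.ofNat 1)],[(.ofNat 0),(.ofNat 0),(.ofNat 0),(.ofNat 0),(.ofNat 1),(.negSucc 0),(.ofNat 0),(.negSucc 0)],[(.negSucc 0),(.ofNat 1),(.ofNat 0),(.ofNat 0),(.negSucc 0),(.ofNat 1),(.ofNat 0),(.ofNat 0)],[(.negSucc 0),(.negSucc 0),(.ofNat 0),(.ofNat 0),(.ofNat 1),(.ofNat 0),(.ofNat 0),(.ofNat 0)],[(.ofNat 1),(.ofNat 1),(.negSucc 0),(.ofNat 0),(.ofNat 0),(.negSucc 0),(.ofNat 1),(.ofNat 0)],[(.ofNat 1),(.negSucc 0),(.negSucc 0),(.ofNat 1),(.negSucc 0),(.ofNat 1),(.ofNat 0),(.ofNat 0)],[(.ofNat 0),(.ofNat 1),(.ofNat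 1),(.negSucc 0),(.ofNat 0),(.ofNat 0),(.negSucc 0),(.ofNat 1)],[(.ofNat 0),(.negSucc 0),(.ofNat 1),(.ofNat 0),(.ofNat 0),(.negSucc 0),(.ofNat 1),(.ofNat 0)],[(.ofNat 0),(.ofNat 0),(.ofNat 0),(.ofNat 1),(.negSucc 0),(.ofNat 0),(.ofNat 0),(.negSucc 0)],[(.negSucc 0),(.ofNat 1),(.ofNat 0),(.ofNat 0),(.ofNat 0),(.negSucc 0),(.ofNat 1),(.ofNat 0)],[(.negSucc 0),(.negSucc 0),(.ofNat 0),(.ofNat 1),(.negSucc 0),(.ofNat 1),(.ofNat 0),(.ofNat 0)],[(.ofNat 1),(.ofNat 1),(.negSucc 0),(.ofNat 0),(.ofNat 0),(.ofNat 0),(.negSucc 0),(.ofNat 1)],[(.ofNat 1),(.negSucc 0),(.negSucc 0),(.ofNat 1),(.ofNat 0),(.negSucc 0),(.ofNat 1),(.ofNat 0)],[(.ofNat 1),(.ofNat 0),(.ofNat 0),(.negSucc 0),(.ofNat 0),(.ofNat 1),(.ofNat 0),(.ofNat 0)],[(.ofNat 0),(.ofNat 1),(.ofNat 1),(.negSucc 0),(.ofNat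 0),(.ofNat 0),(.ofNat 0),(.negSucc 0)],[(.ofNat 0),(.negSucc 0),(.ofNat 1),(.ofNat 0),(.ofNat 0),(.ofNat 0),(.negSucc 0),(.ofNat 1)],[(.negSucc 0),(.ofNat 1),(.ofNat 0),(.ofNat 0),(.ofNat 0),(.ofNat 0),(.negSucc 0),(.ofNat 1)],[(.negSucc 0),(.negSucc 0),(.ofNat 0),(.ofNat 1),(.ofNat 0),(.negSucc 0),(.ofNat 1),(.ofNat 0)],[(.negSucc 0),(.ofNat 0),(.ofNat 1),(.negSucc 0),(.ofNat 0),(.ofNat 1),(.ofNat 0),(.ofNat 0)],[(.ofNat 1),(.ofNat 1),(.negSucc 0),(.ofNat 0),(.ofNat 0),(.ofNat 0),(.ofNat 0),(.negSucc 0)],[(.ofNat 1),(.negSucc 0),(.negSucc 0),(.ofNat 1),(.ofNat 0),(.ofNat 0),(.negSucc 0),(.ofNat 1)],[(.ofNat 1),(.ofNat 0),(.ofNat 0),(.negSucc 0),(.ofNat 1),(.negSucc 0),(.ofNat 1),(.ofNat 0)],[(.ofNat 0),(.negSucc 0),(.ofNat 1),(.ofNat 0),(.ofNat 0),(.ofNat 0),(.ofNat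 0),(.negSucc 0)],[(.negSucc 0),(.ofNat 1),(.ofNat 0),(.ofNat 0),(.ofNat 0),(.ofNat 0),(.ofNat 0),(.negSucc 0)],[(.negSucc 0),(.negSucc 0),(.ofNat 0),(.ofNat 1),(.ofNat 0),(.ofNat 0),(.negSucc 0),(.ofNat 1)],[(.negSucc 0),(.ofNat 0),(.ofNat 1),(.negSucc 0),(.ofNat 1),(.negSucc 0),(.ofNat 1),(.ofNat 0)],[(.ofNat 0),(.ofNat 0),(.negSucc 0),(.ofNat 0),(.ofNat 0),(.ofNat 1),(.ofNat 0),(.ofNat 0)],[(.ofNat 1),(.negSucc 0),(.negSucc 0),(.ofNat 1),(.ofNat 0),(.ofNat 0),(.ofNat 0),(.negSucc 0)],[(.ofNat 1),(.ofNat 0),(.ofNat 0),(.negSucc 0),(.ofNat 1),(.ofNat 0),(.negSucc 0),(.ofNat 1)],[(.ofNat 1),(.ofNat 0),(.ofNat 0),(.ofNat 0),(.negSucc 0),(.ofNat 0),(.ofNat 1),(.ofNat 0)],[(.negSucc 0),(.negSucc 0),(.ofNat 0),(.ofNat 1),(.ofNat 0),(.ofNat 0),(.ofNat 0),(.negSucc 0)],[(.negSucc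 0),(.ofNat 0),(.ofNat 1),(.negSucc 0),(.ofNat 1),(.ofNat 0),(.negSucc 0),(.ofNat 1)],[(.negSucc 0),(.ofNat 0),(.ofNat 1),(.ofNat 0),(.negSucc 0),(.ofNat 0),(.ofNat 1),(.ofNat 0)],[(.ofNat 0),(.ofNat 0),(.negSucc 0),(.ofNat 0),(.ofNat 1),(.negSucc 0),(.ofNat 1),(.ofNat 0)],[(.ofNat 1),(.ofNat 0),(.ofNat 0),(.negSucc 0),(.ofNat 1),(.ofNat 0),(.ofNat 0),(.negSucc 0)],[(.ofNat 1),(.ofNat 0),(.ofNat 0),(.ofNat 0),(.negSucc 0),(.ofNat 1),(.negSucc 0),(.ofNat 1)],[(.negSucc 0),(.ofNat 0),(.ofNat 1),(.negSucc 0),(.ofNat 1),(.ofNat 0),(.ofNat 0),(.negSucc 0)],[(.negSucc 0),(.ofNat 0),(.ofNat 1),(.ofNat 0),(.negSucc 0),(.ofNat 1),(.negSucc 0),(.ofNat 1)],[(.ofNat 0),(.ofNat 0),(.negSucc 0),(.ofNat 0),(.ofNat 1),(.ofNat 0),(.negSucc 0),(.ofNat 1)],[(.ofNat 0),(.ofNat 0),(.negSucc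 0),(.ofNat 1),(.negSucc 0),(.ofNat 0),(.ofNat 1),(.ofNat 0)],[(.ofNat 1),(.ofNat 0),(.ofNat 0),(.ofNat 0),(.negSucc 0),(.ofNat 1),(.ofNat 0),(.negSucc 0)],[(.ofNat 1),(.ofNat 0),(.ofNat 0),(.ofNat 0),(.ofNat 0),(.negSucc 0),(.ofNat 0),(.ofNat 1)],[(.negSucc 0),(.ofNat 0),(.ofNat 1),(.ofNat 0),(.negSucc 0),(.ofNat 1),(.ofNat 0),(.negSucc 0)],[(.ofNat 0),(.ofNat 0),(.negSucc 0),(.ofNat 0),(.ofNat 1),(.ofNat 0),(.ofNat 0),(.negSucc 0)],[(.negSucc 0),(.ofNat 0),(.ofNat 1),(.ofNat 0),(.ofNat 0),(.negSucc 0),(.ofNat 0),(.ofNat 1)],[(.ofNat 0),(.ofNat 0),(.negSucc 0),(.ofNat 1),(.negSucc 0),(.ofNat 1),(.negSucc 0),(.ofNat 1)],[(.ofNat 0),(.ofNat 1),(.ofNat 0),(.negSucc 0),(.ofNat 0),(.ofNat 0),(.ofNat 1),(.ofNat 0)],[(.ofNat 1),(.ofNat 0),(.ofNat 0),(.ofNat 0),(.ofNat 0),(.negSucc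 0),(.ofNat 1),(.negSucc 0)],[(.negSucc 0),(.ofNat 0),(.ofNat 1),(.ofNat 0),(.ofNat 0),(.negSucc 0),(.ofNat 1),(.negSucc 0)],[(.ofNat 0),(.ofNat 0),(.negSucc 0),(.ofNat 1),(.negSucc 0),(.ofNat 1),(.ofNat 0),(.negSucc 0)],[(.ofNat 0),(.ofNat 0),(.negSucc 0),(.ofNat 1),(.ofNat 0),(.negSucc 0),(.ofNat 0),(.ofNat 1)],[(.ofNat 0),(.ofNat 1),(.ofNat 0),(.negSucc 0),(.ofNat 0),(.ofNat 1),(.negSucc 0),(.ofNat 1)],[(.ofNat 0),(.negSucc 0),(.ofNat 0),(.ofNat 0),(.ofNat 0),(.ofNat 0),(.ofNat 1),(.ofNat 0)],[(.ofNat 1),(.ofNat 0),(.ofNat 0),(.ofNat 0),(.ofNat 0),(.ofNat 0),(.negSucc 0),(.ofNat 0)],[(.negSucc 0),(.ofNat 0),(.ofNat 1),(.ofNat 0),(.ofNat 0),(.ofNat 0),(.negSucc 0),(.ofNat 0)],[(.ofNat 0),(.ofNat 0),(.negSucc 0),(.ofNat 1),(.ofNat 0),(.negSucc 0),(.ofNat 1),(.negSucc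 0)],[(.ofNat 0),(.ofNat 1),(.ofNat 0),(.negSucc 0),(.ofNat 0),(.ofNat 1),(.ofNat 0),(.negSucc 0)],[(.ofNat 0),(.ofNat 1),(.ofNat 0),(.negSucc 0),(.ofNat 1),(.negSucc 0),(.ofNat 0),(.ofNat 1)],[(.ofNat 0),(.negSucc 0),(.ofNat 0),(.ofNat 0),(.ofNat 0),(.ofNat 1),(.negSucc 0),(.ofNat 1)],[(.ofNat 0),(.ofNat 0),(.negSucc 0),(.ofNat 1),(.ofNat 0),(.ofNat 0),(.negSucc 0),(.ofNat 0)],[(.ofNat 0),(.ofNat 1),(.ofNat 0),(.negSucc 0),(.ofNat 1),(.negSucc 0),(.ofNat 1),(.negSucc 0)],[(.ofNat 0),(.negSucc 0),(.ofNat 0),(.ofNat 0),(.ofNat 0),(.ofNat 1),(.ofNat 0),(.negSucc 0)],[(.ofNat 0),(.ofNat 1),(.ofNat 0),(.ofNat 0),(.negSucc 0),(.ofNat 0),(.ofNat 0),(.ofNat 1)],[(.ofNat 0),(.negSucc 0),(.ofNat 0),(.ofNat 0),(.ofNat 1),(.negSucc 0),(.ofNat 0),(.ofNat 1)],[(.ofNat 0),(.ofNat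 1),(.ofNat 0),(.negSucc 0),(.ofNat 1),(.ofNat 0),(.negSucc 0),(.ofNat 0)],[(.ofNat 0),(.ofNat 1),(.ofNat 0),(.ofNat 0),(.negSucc 0),(.ofNat 0),(.ofNat 1),(.negSucc 0)],[(.ofNat 0),(.negSucc 0),(.ofNat 0),(.ofNat 0),(.ofNat 1),(.negSucc 0),(.ofNat 1),(.negSucc 0)],[(.ofNat 0),(.negSucc 0),(.ofNat 0),(.ofNat 1),(.negSucc 0),(.ofNat 0),(.ofNat 0),(.ofNat 1)],[(.ofNat 0),(.ofNat 1),(.ofNat 0),(.ofNat 0),(.negSucc 0),(.ofNat 1),(.negSucc 0),(.ofNat 0)],[(.ofNat 0),(.negSucc 0),(.ofNat 0),(.ofNat 0),(.ofNat 1),(.ofNat 0),(.negSucc 0),(.ofNat 0)],[(.ofNat 0),(.negSucc 0),(.ofNat 0),(.ofNat 1),(.negSucc 0),(.ofNat 0),(.ofNat 1),(.negSucc 0)],[(.ofNat 0),(.ofNat 0),(.ofNat 1),(.negSucc 0),(.ofNat 0),(.ofNat 0),(.ofNat 0),(.ofNat 1)],[(.ofNat 0),(.ofNat 1),(.ofNat 0),(.ofNat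 0),(.ofNat 0),(.negSucc 0),(.ofNat 0),(.ofNat 0)],[(.ofNat 0),(.negSucc 0),(.ofNat 0),(.ofNat 1),(.negSucc 0),(.ofNat 1),(.negSucc 0),(.ofNat 0)],[(.ofNat 0),(.ofNat 0),(.ofNat 1),(.negSucc 0),(.ofNat 0),(.ofNat 0),(.ofNat 1),(.negSucc 0)],[(.ofNat 1),(.ofNat 0),(.negSucc 0),(.ofNat 0),(.ofNat 0),(.ofNat 0),(.ofNat 0),(.ofNat 1)],[(.ofNat 0),(.negSucc 0),(.ofNat 0),(.ofNat 1),(.ofNat 0),(.negSucc 0),(.ofNat 0),(.ofNat 0)],[(.ofNat 0),(.ofNat 0),(.ofNat 1),(.negSucc 0),(.ofNat 0),(.ofNat 1),(.negSucc 0),(.ofNat 0)],[(.ofNat 1),(.ofNat 0),(.negSucc 0),(.ofNat 0),(.ofNat 0),(.ofNat 0),(.ofNat 1),(.negSucc 0)],[(.negSucc 0),(.ofNat 0),(.ofNat 0),(.ofNat 0),(.ofNat 0),(.ofNat 0),(.ofNat 0),(.ofNat 1)],[(.ofNat 0),(.ofNat 0),(.ofNat 1),(.negSucc 0),(.ofNat 1),(.negSucc 0),(.ofNat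 0),(.ofNat 0)],[(.ofNat 1),(.ofNat 0),(.negSucc 0),(.ofNat 0),(.ofNat 0),(.ofNat 1),(.negSucc 0),(.ofNat 0)],[(.negSucc 0),(.ofNat 0),(.ofNat 0),(.ofNat 0),(.ofNat 0),(.ofNat 0),(.ofNat 1),(.negSucc 0)],[(.ofNat 0),(.ofNat 0),(.ofNat 1),(.ofNat 0),(.negSucc 0),(.ofNat 0),(.ofNat 0),(.ofNat 0)],[(.ofNat 1),(.ofNat 0),(.negSucc 0),(.ofNat 0),(.ofNat 1),(.negSucc 0),(.ofNat 0),(.ofNat 0)],[(.negSucc 0),(.ofNat 0),(.ofNat 0),(.ofNat 0),(.ofNat 0),(.ofNat 1),(.negSucc 0),(.ofNat 0)],[(.ofNat 1),(.ofNat 0),(.negSucc 0),(.ofNat 1),(.negSucc 0),(.ofNat 0),(.ofNat 0),(.ofNat 0)],[(.negSucc 0),(.ofNat 0),(.ofNat 0),(.ofNat 0),(.ofNat 1),(.negSucc 0),(.ofNat 0),(.ofNat 0)],[(.ofNat 1),(.ofNat 1),(.ofNat 0),(.negSucc 0),(.ofNat 0),(.ofNat 0),(.ofNat 0),(.ofNat 0)],[(.negSucc 0),(.ofNat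 0),(.ofNat 0),(.ofNat 1),(.negSucc 0),(.ofNat 0),(.ofNat 0),(.ofNat 0)],[(.ofNat 1),(.negSucc 0),(.ofNat 0),(.ofNat 0),(.ofNat 0),(.ofNat 0),(.ofNat 0),(.ofNat 0)],[(.negSucc 0),(.ofNat 1),(.ofNat 1),(.negSucc 0),(.ofNat 0),(.ofNat 0),(.ofNat 0),(.ofNat 0)],[(.negSucc 0),(.negSucc 0),(.ofNat 1),(.ofNat 0),(.ofNat 0),(.ofNat 0),(.ofNat 0),(.ofNat 0)],[(.ofNat 0),(.ofNat 1),(.negSucc 0),(.ofNat 0),(.ofNat 0),(.ofNat 0),(.ofNat 0),(.ofNat 0)],[(.ofNat 0),(.negSucc 0),(.negSucc 0),(.ofNat 1),(.ofNat 0),(.ofNat 0),(.ofNat 0),(.ofNat 0)],[(.ofNat 0),(.ofNat 0),(.ofNat 0),(.negSucc 0),(.ofNat 1),(.ofNat 0),(.ofNat 0),(.ofNat 0)],[(.ofNat 0),(.ofNat 0),(.ofNat 0),(.ofNat 0),(.negSucc 0),(.ofNat 1),(.ofNat 0),(.ofNat 0)],[(.ofNat 0),(.ofNat 0),(.ofNat 0),(.ofNat 0),(.ofNat 0),(.negSucc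 0),(.ofNat 1),(.ofNat 0)],[(.ofNat 0),(.ofNat 0),(.ofNat 0),(.ofNat 0),(.ofNat 0),(.ofNat 0),(.negSucc 0),(.ofNat 1)],[(.ofNat 0),(.ofNat 0),(.ofNat 0),(.ofNat 0),(.ofNat 0),(.ofNat 0),(.ofNat 0),(.negSucc 0)]]
noncomputable def par7 : List (ℕ × ℕ) := [(0,7),(1,6),(2,5),(3,4),(4,3),(5,1),(5,2),(6,2),(7,0),(8,3),(8,0),(10,4),(10,0),(12,5),(12,0),(13,2),(14,6),(14,0),(15,2),(17,7),(17,0),(18,2),(19,3),(20,0),(21,2),(22,3),(23,1),(24,2),(25,3),(26,4),(26,1),(28,3),(29,4),(29,1),(30,1),(32,4),(32,1),(33,5),(33,1),(35,3),(36,5),(36,1),(38,1),(39,3),(40,2),(41,6),(41,1),(42,3),(43,3),(44,2),(45,0),(46,1),(47,3),(48,2),(49,4),(49,2),(50,0),(52,3),(53,4),(53,2),(54,0),(55,2),(56,0),(58,4),(58,2),(59,2),(60,0),(62,3),(62,0),(64,5),(64,2),(65,0),(66,3),(66,0),(68,1),(68,0),(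70,2),(71,3),(71,0),(73,1),(73,0),(75,0),(76,2),(77,3),(77,0),(78,1),(78,0),(80,0),(81,2),(82,2),(84,4),(84,1),(84,0),(86,0),(87,2),(88,2),(90,3),(91,1),(91,0),(92,0),(93,2),(94,2),(96,3),(97,4),(98,3),(98,0),(99,2),(100,2),(102,3),(103,4),(104,5),(105,2),(105,0),(106,2),(107,3),(108,3),(109,4),(110,5),(111,6),(112,0),(113,2),(114,3),(115,1),(116,4),(117,5),(118,6),(119,7),(120,2),(121,3),(122,4),(122,1),(124,5),(125,6),(126,7),(128,3),(129,4),(129,1),(130,5),(130,1),(132,6),(133,7),(135,4),(135,1),(136,5),(136,1),(138,6),(138,1),(140,7),(142,5),(142,1),(144,6),(144,1),(145,3),(146,7),(146,1),(149,6),(149,1),(150,3),(151,7),(151,1),(152,3),(154,1),(156,7),(156,1),(157,3),(158,2),(159,1),(160,3),(161,4),(163,1),(164,3),(165,4),(165,2),(167,3),(168,4),(170,3),(171,4),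(171,2),(172,2),(174,4),(175,5),(176,4),(176,2),(177,5),(177,2),(179,3),(180,5),(182,5),(182,2),(184,2),(185,3),(186,1),(187,6),(188,6),(188,2),(189,3),(190,3),(191,1),(194,2),(195,3),(196,1),(197,4),(197,1),(199,3),(200,4),(200,1),(202,1),(204,4),(204,1),(205,1),(207,3),(208,5),(208,1),(210,3),(211,2),(212,1),(213,3),(214,2),(215,0),(216,3),(217,2),(218,0),(220,4),(220,2),(221,0),(223,2),(224,0),(226,3),(226,0),(228,1),(228,0),(230,0),(231,2),(232,2),(234,3),(235,4),(236,5),(237,6),(238,7)]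
noncomputable def ds7 : List ℕ := [0,1,2,3,4,5,6,6,7,7,8,8,9,9,10,10,10,11,11,11,12,12,12,12,13,13,13,13,14,14,14,14,15,15,15,15,16,16,16,16,16,17,17,17,17,17,18,18,18,18,18,18,19,19,19,19,19,19,20,20,20,20,20,20,21,21,21,21,21,21,22,22,22,22,22,22,22,23,23,23,23,23,23,23,24,24,24,24,24,24,24,25,25,25,25,25,25,25,26,26,26,26,26,26,26,27,27,27,27,27,27,27,28,28,28,28,28,28,28,28,29,29,29,29,29,29,29,29,30,30,30,30,30,30,30,31,31,31,31,31,31,31,32,32,32,32,32,32,32,33,33,33,33,33,33,33,34,34,34,34,34,34,34,35,35,35,35,35,35,35,36,36,36,36,36,36,37,37,37,37,37,37,38,38,38,38,38,38,39,39,39,39,39,39,40,40,40,40,40,41,41,41,41,41,42,42,42,42,43,43,43,43,44,44,44,44,45,45,45,45,46,46,46,47,47,47,48,48,49,49,50,50,51,51,52,53,54,55,56,57]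
theorem ok7 : orbOK RootE8T.R chevE8.rank 7 cm [7, 6, 5, 4, 1, 3, 2, 0] L7 par7 ds7 = true := by decide +kernel

end Cfsg.Agent.Lib.Chev.OrbE8
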