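import Cfsg.Agent.Lib.Chev.TabF4
import Cfsg.Agent.Lib.Chev.RootDef

namespace Cfsg.Agent.Lib.Chev.RootF4T
open Cfsg.Agent.Lib.Chev Cfsg.Lie Cfsg.Agent.Lib.Chev.TabF4

noncomputable def rc : Trie (List ℤ) := (.node [(.negSucc 1),(.negSucc 3),(.negSucc 2),(.negSucc 1)] (.node [] (.node [] (.node [] (.node [] (.node [] .nil (.node [(.ofNat 0),(.ofNat 2),(.ofNat 2),(.ofNat 1)] .nil .nil)) (.node [(.ofNat 0),(.negSucc 1),(.negSucc 0),(.negSucc 0)] .nil .nil)) (.node [(.negSucc 0),(.negSucc 1),(.negSucc 1),(.negSucc 0)] (.node [] .nil (.node [(.ofNat 1),(.ofNat 3),(.ofNat 2),(.ofNat 1)] .nil .nil)) (.node [(.ofNat 0),(.ofNat 0),(.ofNat 0),(.ofNat 1)] .nil .nil))) (.node [(.negSucc 1),(.negSucc 1),(.negSucc 1),(.negSucc 0)] (.node [] (.node [] .nil (.node [(.ofNat 1),(.ofNat 1),(.ofNat 1),(.ofNat 1)] .nil .nil)) (.node [(.ofNat 0),(.negSucc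 0),(.ofNat 0),(.ofNat 0)] .nil .nil)) (.node [(.negSucc 0),(.negSucc 0),(.negSucc 0),(.ofNat 0)] (.node [] .nil (.node [(.ofNat 2),(.ofNat 3),(.ofNat 2),(.ofNat 1)] .nil .nil)) (.node [(.ofNat 0),(.ofNat 1),(.ofNat 1),(.ofNat 0)] .nil .nil)))) (.node [(.negSucc 1),(.negSucc 3),(.negSucc 1),(.negSucc 0)] (.node [] (.node [] (.node [] .nil (.node [(.ofNat 1),(.ofNat 1),(.ofNat 0),(.ofNat 0)] .nil .nil)) (.node [(.ofNat 0),(.negSucc 0),(.negSucc 0),(.negSucc 0)] .nil .nil)) (.node [(.negSucc 0),(.negSucc 1),(.negSucc 0),(.ofNat 0)] (.node [] .nil (.node [(.ofNat 2),(.ofNat 2),(.ofNat 1),(.ofNat 1)] .nil .nil)) (.node [(.ofNat 0),(.ofNat 0),(.ofNat 1),(.ofNat 1)] .nil .nil))) (.node [(.negSucc 1),(.negSucc 1),(.negSucc 0),(.ofNat 0)] (.node [] (.node [] .nil (.node [(.ofNat 1),(.ofNat 2),(.ofNat 1),(.ofNat 1)] .nil .nil)) (.node [(.ofNat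 0),(.ofNat 0),(.negSucc 0),(.ofNat 0)] .nil .nil)) (.node [(.negSucc 0),(.ofNat 0),(.ofNat 0),(.ofNat 0)] (.node [] .nil (.node [(.ofNat 2),(.ofNat 4),(.ofNat 3),(.ofNat 1)] .nil .nil)) (.node [(.ofNat 0),(.ofNat 2),(.ofNat 1),(.ofNat 0)] .nil .nil))))) (.node [(.negSucc 1),(.negSucc 3),(.negSucc 2),(.negSucc 0)] (.node [] (.node [] (.node [] (.node [] .nil (.node [(.ofNat 1),(.ofNat 0),(.ofNat 0),(.ofNat 0)] .nil .nil)) (.node [(.ofNat 0),(.negSucc 1),(.negSucc 0),(.ofNat 0)] .nil .nil)) (.node [(.negSucc 0),(.negSucc 1),(.negSucc 0),(.negSucc 0)] (.node [] .nil (.node [(.ofNat 2),(.ofNat 2),(.ofNat 1),(.ofNat 0)] .nil .nil)) (.node [(.ofNat 0),(.ofNat 0),(.ofNat 1),(.ofNat 0)] .nil .nil))) (.node [(.negSucc 1),(.negSucc 1),(.negSucc 0),(.negSucc 0)] (.node [] (.node [] .nil (.node [(.ofNat 1),(.ofNat 2),(.ofNat 1),(.ofNat 0)] .nil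 .nil)) (.node [(.ofNat 0),(.ofNat 0),(.negSucc 0),(.negSucc 0)] .nil .nil)) (.node [(.negSucc 0),(.negSucc 0),(.ofNat 0),(.ofNat 0)] (.node [] .nil (.node [(.ofNat 2),(.ofNat 4),(.ofNat 2),(.ofNat 1)] .nil .nil)) (.node [(.ofNat 0),(.ofNat 1),(.ofNat 1),(.ofNat 1)] .nil .nil)))) (.node [(.negSucc 1),(.negSucc 2),(.negSucc 1),(.negSucc 0)] (.node [] (.node [] (.node [] .nil (.node [(.ofNat 1),(.ofNat 1),(.ofNat 1),(.ofNat 0)] .nil .nil)) (.node [(.ofNat 0),(.negSucc 0),(.negSucc 0),(.ofNat 0)] .nil .nil)) (.node [(.negSucc 0),(.negSucc 0),(.negSucc 0),(.negSucc 0)] (.node [] .nil (.node [(.ofNat 2),(.ofNat 2),(.ofNat 2),(.ofNat 1)] .nil .nil)) (.node [(.ofNat 0),(.ofNat 1),(.ofNat 0),(.ofNat 0)] .nil .nil))) (.node [(.negSucc 0),(.negSucc 2),(.negSucc 1),(.negSucc 0)] (.node [] (.node [] .nil (.node [(.ofNat 1),(.ofNat 2),(.ofNat 2),(.ofNat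 1)] .nil .nil)) (.node [(.ofNat 0),(.ofNat 0),(.ofNat 0),(.negSucc 0)] .nil .nil)) (.node [(.ofNat 0),(.negSucc 1),(.negSucc 1),(.negSucc 0)] (.node [] .nil (.node [(.ofNat 2),(.ofNat 4),(.ofNat 3),(.ofNat 2)] .nil .nil)) (.node [(.ofNat 0),(.ofNat 2),(.ofNat 1),(.ofNat 1)] .nil .nil))))))
noncomputable def bez : Trie (List ℤ) := (.node [(.negSucc 0),(.ofNat 1),(.ofNat 0),(.negSucc 0)] (.node [] (.node [] (.node [] (.node [] (.node [] .nil (.node [(.ofNat 0),(.ofNat 0),(.ofNat 0),(.ofNat 1)] .nil .nil)) (.node [(.ofNat 0),(.ofNat 0),(.ofNat 0),(.negSucc 0)] .nil .nil)) (.node [(.negSucc 0),(.ofNat 1),(.ofNat 0),(.negSucc 0)] (.node [] .nil (.node [(.ofNat 1),(.ofNat 0),(.ofNat 0),(.ofNat 0)] .nil .nil)) (.node [(.ofNat 0),(.ofNat 0),(.ofNat 0),(.ofNat 1)] .nil .nil))) (.node [(.ofNat 0),(.ofNat 0),(.ofNat 0),(.negSucc 0)] (.node []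 (.node [] .nil (.node [(.ofNat 0),(.ofNat 1),(.ofNat 0),(.ofNat 0)] .nil .nil)) (.node [(.ofNat 0),(.negSucc 0),(.ofNat 0),(.ofNat 0)] .nil .nil)) (.node [(.ofNat 0),(.ofNat 1),(.negSucc 0),(.ofNat 0)] (.node [] .nil (.node [(.negSucc 0),(.ofNat 1),(.ofNat 0),(.ofNat 0)] .nil .nil)) (.node [(.ofNat 0),(.ofNat 1),(.ofNat 0),(.ofNat 0)] .nil .nil)))) (.node [(.ofNat 0),(.ofNat 0),(.ofNat 0),(.negSucc 0)] (.node [] (.node [] (.node [] .nil (.node [(.ofNat 0),(.ofNat 1),(.ofNat 0),(.ofNat 0)] .nil .nil)) (.node [(.ofNat 0),(.negSucc 0),(.ofNat 1),(.negSucc 0)] .nil .nil)) (.node [(.negSucc 0),(.ofNat 1),(.negSucc 0),(.ofNat 0)] (.node [] .nil (.node [(.ofNat 0),(.ofNat 0),(.ofNat 0),(.ofNat 1)] .nil .nil)) (.node [(.ofNat 0),(.ofNat 0),(.ofNat 0),(.ofNat 1)] .nil .nil))) (.node [(.ofNat 0),(.ofNat 0),(.negSucc 0),(.ofNat 0)] (.node [] (.node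 [] .nil (.node [(.ofNat 1),(.ofNat 0),(.ofNat 0),(.ofNat 0)] .nil .nil)) (.node [(.ofNat 0),(.ofNat 0),(.negSucc 0),(.ofNat 0)] .nil .nil)) (.node [(.negSucc 0),(.ofNat 0),(.ofNat 0),(.ofNat 0)] (.node [] .nil (.node [(.ofNat 0),(.ofNat 0),(.ofNat 0),(.ofNat 1)] .nil .nil)) (.node [(.ofNat 0),(.ofNat 0),(.ofNat 1),(.ofNat 0)] .nil .nil))))) (.node [(.ofNat 0),(.ofNat 0),(.ofNat 0),(.negSucc 0)] (.node [] (.node [] (.node [] (.node [] .nil (.node [(.ofNat 1),(.ofNat 0),(.ofNat 0),(.ofNat 0)] .nil .nil)) (.node [(.ofNat 0),(.ofNat 0),(.negSucc 0),(.ofNat 0)] .nil .nil)) (.node [(.ofNat 1),(.negSucc 0),(.ofNat 1),(.negSucc 0)] (.node [] .nil (.node [(.ofNat 0),(.ofNat 0),(.ofNat 1),(.ofNat 0)] .nil .nil)) (.node [(.ofNat 0),(.ofNat 0),(.ofNat 1),(.ofNat 0)] .nil .nil))) (.node [(.ofNat 0),(.ofNat 0),(.ofNat 0),(.negSucc 0)] (.node [] (.node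 [] .nil (.node [(.ofNat 1),(.ofNat 0),(.ofNat 0),(.ofNat 0)] .nil .nil)) (.node [(.ofNat 0),(.ofNat 0),(.ofNat 0),(.negSucc 0)] .nil .nil)) (.node [(.ofNat 0),(.negSucc 0),(.ofNat 0),(.ofNat 0)] (.node [] .nil (.node [(.ofNat 0),(.ofNat 0),(.ofNat 0),(.ofNat 1)] .nil .nil)) (.node [(.ofNat 0),(.ofNat 1),(.ofNat 0),(.ofNat 0)] .nil .nil)))) (.node [(.negSucc 0),(.ofNat 1),(.ofNat 0),(.negSucc 0)] (.node [] (.node [] (.node [] .nil (.node [(.ofNat 0),(.ofNat 1),(.ofNat 0),(.ofNat 0)] .nil .nil)) (.node [(.ofNat 0),(.ofNat 1),(.negSucc 0),(.ofNat 0)] .nil .nil)) (.node [(.ofNat 0),(.negSucc 0),(.ofNat 1),(.negSucc 0)] (.node [] .nil (.node [(.ofNat 0),(.ofNat 0),(.ofNat 0),(.ofNat 1)] .nil .nil)) (.node [(.ofNat 0),(.ofNat 1),(.ofNat 0),(.ofNat 0)] .nil .nil))) (.node [(.ofNat 1),(.ofNat 0),(.ofNat 0),(.negSucc 0)] (.node [] (.node []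 .nil (.node [(.ofNat 1),(.ofNat 0),(.ofNat 0),(.ofNat 0)] .nil .nil)) (.node [(.ofNat 0),(.ofNat 0),(.ofNat 0),(.negSucc 0)] .nil .nil)) (.node [(.ofNat 0),(.ofNat 0),(.ofNat 0),(.negSucc 0)] (.node [] .nil (.node [(.ofNat 1),(.ofNat 0),(.ofNat 0),(.ofNat 0)] .nil .nil)) (.node [(.ofNat 0),(.ofNat 0),(.ofNat 0),(.ofNat 1)] .nil .nil))))))
noncomputable def R : RootTab := ⟨24, rc, bez, [0, 1, 0, 2, 1, 0, 2, 1, 2, 3, 2, 1, 0, 2, 1, 2, 3, 2, 1, 0, 2, 1, 2, 3], [(0,1,3,0,0),(0,2,2,1,1),(0,3,2,1,1),(1,2,4,1,0),(1,3,2,1,1),(2,3,3,0,0)]⟩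
end Cfsg.Agent.Lib.Chev.RootF4T
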