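import Cfsg.Agent.Lib.Chev.Orbit
import Cfsg.Agent.Lib.Chev.RootF4T

namespace Cfsg.Agent.Lib.Chev.OrbF4
open Cfsg.Agent.Lib.Chev Cfsg.Lie

noncomputable def cm : List (List ℤ) := [[(.ofNat 2),(.negSucc 0),(.ofNat 0),(.ofNat 0)],[(.negSucc 0),(.ofNat 2),(.negSucc 1),(.ofNat 0)],[(.ofNat 0),(.negSucc 0),(.ofNat 2),(.negSucc 0)],[(.ofNat 0),(.ofNat 0),(.negSucc 0),(.ofNat 2)]]
theorem cm_ok : checkCm chevF4 cm = true := by decide +kernel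

noncomputable def L0 : List (List ℤ) := [[(.ofNat 1),(.ofNat 0),(.ofNat 0),(.ofNat 0)],[(.negSucc 0),(.ofNat 1),(.ofNat 0),(.ofNat 0)]]
noncomputable def par0 : List (ℕ × ℕ) := [(0,0)]
noncomputable def ds0 : List ℕ := [0,1]
theorem ok0 : orbOK RootF4T.R chevF4.rank 0 cm [0] L0 par0 ds0 = true := by decide +kernel

noncomputable def L1 : List (List ℤ) := [[(.ofNat 0),(.ofNat 1),(.ofNat 0),(.ofNat 0)],[(.ofNat 1),(.negSucc 0),(.ofNat 2),(.ofNat 0)],[(.negSucc 0),(.ofNat 0),(.ofNat 2),(.ofNat 0)]]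
noncomputable def par1 : List (ℕ × ℕ) := [(0,1),(1,0)]
noncomputable def ds1 : List ℕ := [0,1,2]
theorem ok1 : orbOK RootF4T.R chevF4.rank 1 cm [1, 0] L1 par1 ds1 = true := by decide +kernel

noncomputable def L2 : List (List ℤ) := [[(.ofNat 0),(.ofNat 0),(.ofNat 1),(.ofNat 0)],[(.ofNat 0),(.ofNat 1),(.negSucc 0),(.ofNat 1)],[(.ofNat 1),(.negSucc 0),(.ofNat 1),(.ofNat 1)],[(.ofNat 1),(.ofNat 0),(.negSucc 0),(.ofNat 2)],[(.negSucc 0),(.ofNat 0),(.ofNat 1),(.ofNat 1)],[(.negSucc 0),(.ofNat 1),(.negSucc 0),(.ofNat 2)],[(.ofNat 0),(.negSucc 0),(.ofNat 1),(.ofNat 2)],[(.ofNat 0),(.ofNat 0),(.negSucc 0),(.ofNat 3)]]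
noncomputable def par2 : List (ℕ × ℕ) := [(0,2),(1,1),(2,2),(2,0),(3,0),(5,1),(6,2)]
noncomputable def ds2 : List ℕ := [0,1,2,3,3,4,5,6]
theorem ok2 : orbOK RootF4T.R chevF4.rank 2 cm [2, 1, 0] L2 par2 ds2 = true := by decide +kernel

noncomputable def L3 : List (List ℤ) := [[(.ofNat 0),(.ofNat 0),(.ofNat 0),(.ofNat 1)],[(.ofNat 0),(.ofNat 0),(.ofNat 1),(.negSucc 0)],[(.ofNat 0),(.ofNat 1),(.negSucc 0),(.ofNat 0)],[(.ofNat 1),(.negSucc 0),(.ofNat 1),(.ofNat 0)],[(.ofNat 1),(.ofNat 0),(.negSucc 0),(.ofNat 1)],[(.negSucc 0),(.ofNat 0),(.ofNat 1),(.ofNat 0)],[(.ofNat 1),(.ofNat 0),(.ofNat 0),(.negSucc 0)],[(.negSucc 0),(.ofNat 1),(.negSucc 0),(.ofNat 1)],[(.negSucc 0),(.ofNat 1),(.ofNat 0),(.negSucc 0)],[(.ofNat 0),(.negSucc 0),(.ofNat 1),(.ofNat 1)],[(.ofNat 0),(.negSucc 0),(.ofNat 2),(.negSucc 0)],[(.ofNat 0),(.ofNat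 0),(.negSucc 0),(.ofNat 2)],[(.ofNat 0),(.ofNat 1),(.negSucc 1),(.ofNat 1)],[(.ofNat 0),(.ofNat 0),(.ofNat 1),(.negSucc 1)],[(.ofNat 0),(.ofNat 1),(.negSucc 0),(.negSucc 0)],[(.ofNat 1),(.negSucc 0),(.ofNat 0),(.ofNat 1)],[(.ofNat 1),(.negSucc 0),(.ofNat 1),(.negSucc 0)],[(.negSucc 0),(.ofNat 0),(.ofNat 0),(.ofNat 1)],[(.ofNat 1),(.ofNat 0),(.negSucc 0),(.ofNat 0)],[(.negSucc 0),(.ofNat 0),(.ofNat 1),(.negSucc 0)],[(.negSucc 0),(.ofNat 1),(.negSucc 0),(.ofNat 0)],[(.ofNat 0),(.negSucc 0),(.ofNat 1),(.ofNat 0)],[(.ofNat 0),(.ofNat 0),(.negSucc 0),(.ofNat 1)],[(.ofNat 0),(.ofNat 0),(.ofNat 0),(.negSucc 0)]]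
noncomputable def par3 : List (ℕ × ℕ) := [(0,3),(1,2),(2,1),(3,2),(3,0),(4,3),(4,0),(6,0),(7,1),(8,1),(9,2),(10,2),(11,3),(12,3),(12,1),(14,1),(15,0),(16,2),(16,0),(18,0),(20,1),(21,2),(22,3)]
noncomputable def ds3 : List ℕ := [0,1,2,3,4,4,5,5,6,6,7,7,8,8,9,9,10,10,11,11,12,13,14,15]
theorem ok3 : orbOK RootF4T.R chevF4.rank 3 cm [3, 2, 1, 0] L3 par3 ds3 = true := by decide +kernel

end Cfsg.Agent.Lib.Chev.OrbF4
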