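import Cfsg.Agent.Lib.Chev.Orbit
import Cfsg.Agent.Lib.Chev.RootG2T

namespace Cfsg.Agent.Lib.Chev.OrbG2
open Cfsg.Agent.Lib.Chev Cfsg.Lie

noncomputable def cm : List (List ℤ) := [[(.ofNat 2),(.negSucc 2)],[(.negSucc 0),(.ofNat 2)]]
theorem cm_ok : checkCm chevG2 cm = true := by decide +kernel

noncomputable def L0 : List (List ℤ) := [[(.ofNat 1),(.ofNat 0)],[(.negSucc 0),(.ofNat 3)]]
noncomputable def par0 : List (ℕ × ℕ) := [(0,0)]
noncomputable def ds0 : List ℕ := [0,1]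
theorem ok0 : orbOK RootG2T.R chevG2.rank 0 cm [0] L0 par0 ds0 = true := by decide +kernel

noncomputable def L1 : List (List ℤ) := [[(.ofNat 0),(.ofNat 1)],[(.ofNat 1),(.negSucc 0)],[(.negSucc 0),(.ofNat 2)],[(.ofNat 1),(.negSucc 1)],[(.negSucc 0),(.ofNat 1)],[(.ofNat 0),(.negSucc 0)]]
noncomputable def par1 : List (ℕ × ℕ) := [(0,1),(1,0),(2,1),(3,0),(4,1)]
noncomputable def ds1 : List ℕ := [0,1,2,3,4,5]
theorem ok1 : orbOK RootG2T.R chevG2.rank 1 cm [1, 0] L1 par1 ds1 = true := by decide +kernel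

end Cfsg.Agent.Lib.Chev.OrbG2
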