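import Cfsg.Agent.Lib.Chev.Torus
import Cfsg.Prelude.Def_ChevG2
import Cfsg.Prelude.Def_ChevB2
import Cfsg.Prelude.Def_ChevD4
import Cfsg.Prelude.Def_ChevF4
import Cfsg.Prelude.Def_ChevE6
import Cfsg.Prelude.Def_ChevE7
import Cfsg.Prelude.Def_ChevE8

/-!
# Smith forms of the Cartan matrices
-/

namespace Cfsg.Agent.Lib.Chev

open Cfsg.Lie

/-- Entries of an integer matrix given by lists. -/
noncomputable def matL (L : List (List ℤ)) (i j : ℕ) : ℤ :=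
  nthZ (List.rec (motive := fun _ => ℕ → List ℤ) (fun _ => []) (fun a _ ih k =>
    Nat.rec (motive := fun _ => List ℤ) a (fun k' _ => ih k') k) L i) j

/-- The matrix product, as a sum. -/
noncomputable def mulL (l : ℕ) (A B : ℕ → ℕ → ℤ) (i j : ℕ) : ℤ :=
  sumZ l (fun k => A i k * B k j)

/-- A Smith form of the Cartan matrix of `D` -/
structure SmithForm (D : ChevalleyDatum) (P P' Q Q' : List (List ℤ)) (δ : List ℤ) : Prop where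
  pp' : ∀ i < D.rank, ∀ j < D.rank, mulL D.rank (matL P) (matL P') i j = if i = j then 1 else 0
  p'p : ∀ i < D.rank, ∀ j < D.rank, mulL D.rank (matL P') (matL P) i j = if i = j then 1 else 0
  qq' : ∀ i < D.rank, ∀ j < D.rank, mulL D.rank (matL Q) (matL Q') i j = if i = j then 1 else 0
  q'q : ∀ i < D.rank, ∀ j < D.rank, mulL D.rank (matL Q') (matL Q) i j = if i = j then 1 else 0
  main : ∀ i < D.rank, ∀ j < D.rank,
    mulL D.rank (mulL D.rank (matL P) (fun k m => D.cartan k (D.simple m))) (matL Q) i j =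
      if i = j then nthZ δ i else 0

theorem smithG2 : SmithForm chevG2 [[0, (-1)], [1, 2]]
    [[2, 1], [(-1), 0]]
    [[1, 2], [0, 1]]
    [[1, (-2)], [0, 1]]
    [1, 1] where
  pp' := by decide +kernel
  p'p := by decide +kernel
  qq' := by decide +kernel
  q'q := by decide +kernel
  main := by decide +kernel

theorem smithB2 : SmithForm chevB2 [[0, (-1)], [1, 2]]
    [[2, 1], [(-1), 0]]
    [[1, 2], [0, 1]]
    [[1, (-2)], [0, 1]]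
    [1, 2] where
  pp' := by decide +kernel
  p'p := by decide +kernel
  qq' := by decide +kernel
  q'q := by decide +kernel
  main := by decide +kernel

theorem smithD4 : SmithForm chevD4 [[(-1), 0, 0, 0], [(-2), (-1), 0, 0], [(-3), (-2), (-1), 0], [2, 2, 1, 1]]
    [[(-1), 0, 0, 0], [2, (-1), 0, 0], [(-1), 2, (-1), 0], [(-1), 0, 1, 1]]
    [[0, 0, 0, 1], [1, 0, 0, 2], [0, 1, (-1), 1], [0, 0, 1, 2]]
    [[(-2), 1, 0, 0], [(-3), 0, 1, 1], [(-2), 0, 0, 1], [1, 0, 0, 0]]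
    [1, 1, 2, 2] where
  pp' := by decide +kernel
  p'p := by decide +kernel
  qq' := by decide +kernel
  q'q := by decide +kernel
  main := by decide +kernel

theorem smithF4 : SmithForm chevF4 [[(-1), 0, 0, 0], [1, 0, (-1), 0], [(-2), (-1), 0, 0], [(-2), (-2), (-2), (-1)]]
    [[(-1), 0, 0, 0], [2, 0, (-1), 0], [(-1), (-1), 0, 0], [0, 2, 2, (-1)]]
    [[0, 0, 1, (-2)], [1, 0, 2, (-4)], [0, 0, 2, (-3)], [0, 1, 2, (-2)]]
    [[(-2), 1, 0, 0], [2, 0, (-2), 1], [(-3), 0, 2, 0], [(-2), 0, 1, 0]]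
    [1, 1, 1, 1] where
  pp' := by decide +kernel
  p'p := by decide +kernel
  qq' := by decide +kernel
  q'q := by decide +kernel
  main := by decide +kernel

theorem smithE6 : SmithForm chevE6 [[(-1), 0, 0, 0, 0, 0], [0, (-1), 0, 0, 0, 0], [1, (-2), 0, (-1), 0, 0], [2, (-3), 0, (-2), (-1), 0], [(-2), 1, (-1), 0, 0, 0], [(-5), 0, (-4), (-3), (-2), (-1)]]
    [[(-1), 0, 0, 0, 0, 0], [0, (-1), 0, 0, 0, 0], [2, (-1), 0, 0, (-1), 0], [(-1), 2, (-1), 0, 0, 0], [0, (-1), 2, (-1), 0, 0], [0, 0, (-1), 2, 4, (-1)]]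
    [[0, 0, 0, 0, 1, (-2)], [0, 0, 0, 0, 2, (-3)], [1, 0, 0, 0, 2, (-4)], [0, 1, 0, 0, 4, (-6)], [0, 0, 1, 0, 4, (-5)], [0, 0, 0, 1, 4, (-4)]]
    [[(-2), 0, 1, 0, 0, 0], [0, (-2), 0, 1, 0, 0], [2, (-3), 0, 0, 1, 0], [4, (-4), 0, 0, 0, 1], [(-3), 2, 0, 0, 0, 0], [(-2), 1, 0, 0, 0, 0]]
    [1, 1, 1, 1, 1, 3] where
  pp' := by decide +kernel
  p'p := by decide +kernel
  qq' := by decide +kernel
  q'q := by decide +kernel
  main := by decide +kernel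

theorem smithE7 : SmithForm chevE7 [[(-1), 0, 0, 0, 0, 0, 0], [0, (-1), 0, 0, 0, 0, 0], [1, (-2), 0, (-1), 0, 0, 0], [2, (-3), 0, (-2), (-1), 0, 0], [3, (-4), 0, (-3), (-2), (-1), 0], [(-2), 1, (-1), 0, 0, 0, 0], [(-4), (-1), (-4), (-4), (-3), (-2), (-1)]]
    [[(-1), 0, 0, 0, 0, 0, 0], [0, (-1), 0, 0, 0, 0, 0], [2, (-1), 0, 0, 0, (-1), 0], [(-1), 2, (-1), 0, 0, 0, 0], [0, (-1), 2, (-1), 0, 0, 0], [0, 0, (-1), 2, (-1), 0, 0], [0, 0, 0, (-1), 2, 4, (-1)]]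
    [[0, 0, 0, 0, 0, 1, (-2)], [0, 0, 0, 0, 0, 2, (-3)], [1, 0, 0, 0, 0, 2, (-4)], [0, 1, 0, 0, 0, 4, (-6)], [0, 0, 1, 0, 0, 4, (-5)], [0, 0, 0, 1, 0, 4, (-4)], [0, 0, 0, 0, 1, 4, (-3)]]
    [[(-2), 0, 1, 0, 0, 0, 0], [0, (-2), 0, 1, 0, 0, 0], [2, (-3), 0, 0, 1, 0, 0], [4, (-4), 0, 0, 0, 1, 0], [6, (-5), 0, 0, 0, 0, 1], [(-3), 2, 0, 0, 0, 0, 0], [(-2), 1, 0, 0, 0, 0, 0]]
    [1, 1, 1, 1, 1, 1, 2] where
  pp' := by decide +kernel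
  p'p := by decide +kernel
  qq' := by decide +kernel
  q'q := by decide +kernel
  main := by decide +kernel

theorem smithE8 : SmithForm chevE8 [[(-1), 0, 0, 0, 0, 0, 0, 0], [0, (-1), 0, 0, 0, 0, 0, 0], [1, (-2), 0, (-1), 0, 0, 0, 0], [2, (-3), 0, (-2), (-1), 0, 0, 0], [3, (-4), 0, (-3), (-2), (-1), 0, 0], [4, (-5), 0, (-4), (-3), (-2), (-1), 0], [(-2), 1, (-1), 0, 0, 0, 0, 0], [(-3), (-2), (-4), (-5), (-4), (-3), (-2), (-1)]]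
    [[(-1), 0, 0, 0, 0, 0, 0, 0], [0, (-1), 0, 0, 0, 0, 0, 0], [2, (-1), 0, 0, 0, 0, (-1), 0], [(-1), 2, (-1), 0, 0, 0, 0, 0], [0, (-1), 2, (-1), 0, 0, 0, 0], [0, 0, (-1), 2, (-1), 0, 0, 0], [0, 0, 0, (-1), 2, (-1), 0, 0], [0, 0, 0, 0, (-1), 2, 4, (-1)]]
    [[0, 0, 0, 0, 0, 0, 1, (-2)], [0, 0, 0, 0, 0, 0, 2, (-3)], [1, 0, 0, 0, 0, 0, 2, (-4)], [0, 1, 0, 0, 0, 0, 4, (-6)], [0, 0, 1, 0, 0, 0, 4, (-5)], [0, 0, 0, 1, 0, 0, 4, (-4)], [0, 0, 0, 0, 1, 0, 4, (-3)], [0, 0, 0, 0, 0, 1, 4, (-2)]]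
    [[(-2), 0, 1, 0, 0, 0, 0, 0], [0, (-2), 0, 1, 0, 0, 0, 0], [2, (-3), 0, 0, 1, 0, 0, 0], [4, (-4), 0, 0, 0, 1, 0, 0], [6, (-5), 0, 0, 0, 0, 1, 0], [8, (-6), 0, 0, 0, 0, 0, 1], [(-3), 2, 0, 0, 0, 0, 0, 0], [(-2), 1, 0, 0, 0, 0, 0, 0]]
    [1, 1, 1, 1, 1, 1, 1, 1] where
  pp' := by decide +kernel
  p'p := by decide +kernel
  qq' := by decide +kernel
  q'q := by decide +kernel
  main := by decide +kernel

end Cfsg.Agent.Lib.Chev
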