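import Mathlib

set_option linter.style.haveILetI false

/-!
# Generic lemmas on cyclic subgroups, normalisers and counting conjugates
-/

namespace Cfsg.Agent.Lib.Chev.ReeGen

variable {H : Type*} [Group H]

/-- In a finite cyclic group subgroups of the same order coincide. -/
theorem cyc_sub_eq {A A₁ A₂ : Subgroup H} [IsCyclic A] [Finite A] (h1 : A₁ ≤ A) (h2 : A₂ ≤ A) (hc : Nat.card A₁ = Nat.card A₂) : A₁ = A₂ := by
  classical
  haveI := Fintype.ofFinite A
  have key : ∀ B : Subgroup H, B ≤ A → ∀ x : H, (x ∈ B ↔ x ∈ A ∧ x ^ Nat.card B = 1) := by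
    intro B hB x
    haveI : Finite B := Finite.of_injective _ (Subgroup.inclusion_injective hB)
    have hd : 0 < Nat.card B := Nat.card_pos
    set S : Finset A := Finset.univ.filter (fun a : A => a ^ Nat.card B = 1) with hS
    have hS1 : S.card ≤ Nat.card B := IsCyclic.card_pow_eq_one_le hd
    haveI := Fintype.ofFinite B
    let T : Finset A := (Finset.univ : Finset B).map ⟨Subgroup.inclusion hB, Subgroup.inclusion_injective hB⟩
    have hT : T ⊆ S := by
      intro a ha
      obtain ⟨b, -, rfl⟩ := Finset.mem_map.1 ha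
      refine Finset.mem_filter.2 ⟨Finset.mem_univ _, Subtype.ext ?_⟩
      have : (b : H) ^ Nat.card B = 1 := by
        have := pow_card_eq_one' (x := b)
        exact congrArg Subtype.val this
      exact this
    have hTc : T.card = Nat.card B := by
      rw [Finset.card_map, Finset.card_univ, Nat.card_eq_fintype_card]
    have hTS : T = S := Finset.eq_of_subset_of_card_le hT (by rw [hTc]; exact hS1)
    constructor
    · intro hx
      refine ⟨hB hx, ?_⟩
      have := pow_card_eq_one' (x := (⟨x, hx⟩ : B))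
      exact congrArg Subtype.val this
    · rintro ⟨hx, hx1⟩
      have h3 : (⟨x, hx⟩ : A) ∈ S := Finset.mem_filter.2 ⟨Finset.mem_univ _, Subtype.ext hx1⟩
      rw [← hTS] at h3
      obtain ⟨b, -, hb⟩ := Finset.mem_map.1 h3
      have h4 : (b : H) = x := congrArg Subtype.val hb
      rw [← h4]
      exact b.2
  ext x
  rw [key A₁ h1, key A₂ h2, hc]

/-- Subgroups of cyclic subgroups are normalised by the normaliser. -/
theorem normalizer_le_of_cyclic {A A₀ : Subgroup H} [IsCyclic A] [Finite A] (h : A₀ ≤ A) :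
    Subgroup.normalizer (A : Set H) ≤ Subgroup.normalizer (A₀ : Set H) := by
  intro g hg
  have hg' := Subgroup.mem_set_normalizer_iff.1 hg
  rw [Subgroup.mem_set_normalizer_iff]
  set A' := A₀.map (MulAut.conj g).toMonoidHom with hA'
  have h1 : A' ≤ A := by
    rintro _ ⟨x, hx, rfl⟩
    exact (hg' x).1 (h hx)
  have h2 : Nat.card A' = Nat.card A₀ := Subgroup.card_map_of_injective (MulAut.conj g).injective
  have h3 : A' = A₀ := cyc_sub_eq h1 h h2
  intro x
  constructor
  · intro hx
    rw [SetLike.mem_coe] at hx ⊢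
    rw [← h3]
    exact ⟨x, hx, rfl⟩
  · intro hx
    rw [SetLike.mem_coe] at hx ⊢
    rw [← h3] at hx
    obtain ⟨y, hy, e⟩ := hx
    have e' : g * y * g⁻¹ = g * x * g⁻¹ := e
    have : y = x := mul_left_cancel (mul_right_cancel e')
    rwa [← this]

/-- A finite conjugate contained in the group is equal. -/
theorem mem_norm_of_conj_le (T : Subgroup H) [Finite T] {g : H} (h : ∀ x ∈ T, g * x * g⁻¹ ∈ T) :
    g ∈ Subgroup.normalizer (T : Set H) := by
  rw [Subgroup.mem_set_normalizer_iff]
  set T' := T.map (MulAut.conj g).toMonoidHom with hT'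
  have h1 : T' ≤ T := by
    rintro _ ⟨x, hx, rfl⟩
    exact h x hx
  have h2 : Nat.card T' = Nat.card T := Subgroup.card_map_of_injective (MulAut.conj g).injective
  have h3 : T' = T := Subgroup.eq_of_le_of_card_ge h1 h2.ge
  intro x
  constructor
  · intro hx
    exact h x hx
  · intro hx
    rw [SetLike.mem_coe] at hx ⊢
    rw [← h3] at hx
    obtain ⟨y, hy, e⟩ := hx
    have e' : g * y * g⁻¹ = g * x * g⁻¹ := e
    have : y = x := mul_left_cancel (mul_right_cancel e')
    rwa [← this]

/-- Conjugates of centralisers. -/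
theorem mem_cent_conj {a x y : H} : x ∈ Subgroup.centralizer ({a * y * a⁻¹} : Set H) ↔ a⁻¹ * x * a ∈ Subgroup.centralizer ({y} : Set H) := by
  rw [Subgroup.mem_centralizer_singleton_iff, Subgroup.mem_centralizer_singleton_iff]
  constructor
  · intro h
    have e1 : a⁻¹ * x * a * y = a⁻¹ * (x * (a * y * a⁻¹)) * a := by group
    have e2 : y * (a⁻¹ * x * a) = a⁻¹ * ((a * y * a⁻¹) * x) * a := by group
    rw [e1, e2, h]
  · intro h
    have e1 : x * (a * y * a⁻¹) = a * ((a⁻¹ * x * a) * y) * a⁻¹ := by group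
    have e2 : (a * y * a⁻¹) * x = a * (y * (a⁻¹ * x * a)) * a⁻¹ := by group
    rw [e1, e2, h]

/-- The normaliser of a subgroup generated by `x` normalises the centraliser of `x`. -/
theorem norm_zpowers_le_norm_cent (x : H) :
    Subgroup.normalizer ((Subgroup.zpowers x : Subgroup H) : Set H) ≤ Subgroup.normalizer ((Subgroup.centralizer ({x} : Set H) : Subgroup H) : Set H) := by
  intro g hg
  have hg' := Subgroup.mem_set_normalizer_iff.1 hg
  have key : ∀ (g : H), (∀ u, u ∈ Subgroup.zpowers x ↔ g * u * g⁻¹ ∈ Subgroup.zpowers x) → ∀ c ∈ Subgroup.centralizer ({x} : Set H), g * c * g⁻¹ ∈ Subgroup.centralizer ({x} : Set H) := by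
    intro g hg c hc
    have hc' := Subgroup.mem_centralizer_singleton_iff.1 hc
    rw [Subgroup.mem_centralizer_singleton_iff]
    have h1 : g⁻¹ * x * g ∈ Subgroup.zpowers x := by
      rw [hg]
      have : g * (g⁻¹ * x * g) * g⁻¹ = x := by group
      rw [this]
      exact Subgroup.mem_zpowers x
    obtain ⟨k, hk⟩ := Subgroup.mem_zpowers_iff.1 h1
    have h2 : c * x ^ k = x ^ k * c := by
      have : Commute c (x ^ k) := (show Commute c x from hc').zpow_right k
      exact this
    have e0 : x = g * x ^ k * g⁻¹ := by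
      rw [hk]
      group
    have e1 : g * c * g⁻¹ * x = g * (c * x ^ k) * g⁻¹ := by
      nth_rw 1 [e0]
      group
    have e2 : x * (g * c * g⁻¹) = g * (x ^ k * c) * g⁻¹ := by
      nth_rw 1 [e0]
      group
    rw [e1, e2, h2]
  rw [Subgroup.mem_set_normalizer_iff]
  intro c
  constructor
  · exact key g (fun u => hg' u) c
  · intro hc
    have h3 := key g⁻¹ (fun u => by
      have := hg' (g⁻¹ * u * g)
      have e : g * (g⁻¹ * u * g) * g⁻¹ = u := by group
      rw [e] at this
      have e' : g⁻¹ * u * g⁻¹⁻¹ = g⁻¹ * u * g := by group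
      rw [e']
      exact this.symm) _ hc
    have e : g⁻¹ * (g * c * g⁻¹) * g⁻¹⁻¹ = c := by group
    rwa [e] at h3

/-- The multiplier homomorphism. -/
theorem exists_multiplier (x : H) {p : ℕ} (hp : p.Prime) (hx : orderOf x = p) :
    ∃ φ : ↥(Subgroup.normalizer ((Subgroup.zpowers x : Subgroup H) : Set H)) →* (ZMod p)ˣ,
      ∀ g (k : ℕ), ((φ g : (ZMod p)ˣ) : ZMod p) = (k : ZMod p) ↔ g.1 * x * g.1⁻¹ = x ^ k := by
  haveI : Fact p.Prime := ⟨hp⟩
  have hkey : ∀ a b : ℕ, x ^ a = x ^ b ↔ (a : ZMod p) = (b : ZMod p) := by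
    intro a b
    rw [pow_eq_pow_iff_modEq, hx, ZMod.natCast_eq_natCast_iff]
  have hex : ∀ g : ↥(Subgroup.normalizer ((Subgroup.zpowers x : Subgroup H) : Set H)), ∃ k : ℕ, g.1 * x * g.1⁻¹ = x ^ k := by
    intro g
    have h1 : g.1 * x * g.1⁻¹ ∈ Subgroup.zpowers x := (Subgroup.mem_set_normalizer_iff.1 g.2 x).1 (Subgroup.mem_zpowers x)
    obtain ⟨k, hk⟩ := Subgroup.mem_zpowers_iff.1 h1
    refine ⟨(k % (orderOf x : ℤ)).toNat, ?_⟩
    rw [← hk, ← zpow_mod_orderOf, ← zpow_natCast, Int.toNat_of_nonneg]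
    apply Int.emod_nonneg
    rw [hx]
    exact_mod_cast hp.ne_zero
  choose f hf using hex
  let F : ↥(Subgroup.normalizer ((Subgroup.zpowers x : Subgroup H) : Set H)) →* ZMod p :=
    { toFun := fun g => (f g : ZMod p)
      map_one' := by
        have h1 := hf 1
        have h2 : x ^ f 1 = x ^ 1 := by
          rw [← h1, pow_one]
          simp
        have h3 := (hkey _ _).1 h2
        simpa using h3
      map_mul' := by
        intro g h
        have h1 := hf (g * h)
        have h2 : (g * h).1 * x * (g * h).1⁻¹ = g.1 * (h.1 * x * h.1⁻¹) * g.1⁻¹ := by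
          show g.1 * h.1 * x * (g.1 * h.1)⁻¹ = _
          group
        rw [h2, hf h, ← conj_pow, hf g, ← pow_mul] at h1
        have h3 := (hkey _ _).1 h1
        rw [← h3]
        push_cast
        ring }
  refine ⟨MonoidHom.toHomUnits F, fun g k => ?_⟩
  rw [MonoidHom.coe_toHomUnits]
  show (f g : ZMod p) = (k : ZMod p) ↔ _
  rw [← hkey, hf g]

/-- The order of the normaliser of a subgroup of prime order. -/
theorem norm_card [Finite H] (x : H) {p : ℕ} (hp : p.Prime) (hx : orderOf x = p) :
    ∃ R : Subgroup (ZMod p)ˣ, Nat.card ↥(Subgroup.normalizer ((Subgroup.zpowers x : Subgroup H) : Set H)) = Nat.card ↥(Subgroup.centralizer ({x} : Set H)) * Nat.card R ∧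
      ∀ r ∈ R, ∃ (g : H) (k : ℕ), ((r : (ZMod p)ˣ) : ZMod p) = (k : ZMod p) ∧ g * x * g⁻¹ = x ^ k := by
  haveI : Fact p.Prime := ⟨hp⟩
  obtain ⟨φ, hφ⟩ := exists_multiplier x hp hx
  refine ⟨φ.range, ?_, ?_⟩
  · have h1 := Subgroup.card_mul_index φ.ker
    rw [Subgroup.index_ker] at h1
    rw [← h1]
    congr 1
    have hC : Subgroup.centralizer ({x} : Set H) ≤ Subgroup.normalizer ((Subgroup.zpowers x : Subgroup H) : Set H) := by
      intro c hc
      have hc' := Subgroup.mem_centralizer_singleton_iff.1 hc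
      rw [Subgroup.mem_set_normalizer_iff]
      have h2 : c * x * c⁻¹ = x := by rw [hc']; group
      intro u
      constructor
      · intro hu
        obtain ⟨k, rfl⟩ := Subgroup.mem_zpowers_iff.1 hu
        rw [SetLike.mem_coe, ← conj_zpow, h2]
        exact Subgroup.zpow_mem_zpowers x k
      · intro hu
        rw [SetLike.mem_coe] at hu
        obtain ⟨k, hk⟩ := Subgroup.mem_zpowers_iff.1 hu
        have : u = x ^ k := by
          have h3 : c * u * c⁻¹ = c * x ^ k * c⁻¹ := by
            rw [← hk, ← conj_zpow, h2]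
          exact (mul_left_cancel (mul_right_cancel h3))
        rw [this]
        exact Subgroup.zpow_mem_zpowers x k
    have hker : ∀ g, g ∈ φ.ker ↔ g.1 ∈ Subgroup.centralizer ({x} : Set H) := by
      intro g
      rw [MonoidHom.mem_ker, Subgroup.mem_centralizer_singleton_iff]
      have h2 := hφ g 1
      rw [pow_one] at h2
      simp only [Nat.cast_one] at h2
      constructor
      · intro h
        have h3 := h2.1 (by rw [h]; rfl)
        rw [mul_inv_eq_iff_eq_mul] at h3
        exact h3
      · intro h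
        have h3 := h2.2 (by rw [h]; group)
        exact Units.ext h3
    refine Nat.card_congr (Equiv.ofBijective (fun g : φ.ker => (⟨g.1.1, (hker _).1 g.2⟩ : Subgroup.centralizer ({x} : Set H))) ⟨?_, ?_⟩)
    · intro a b hab
      have h3 : a.1.1 = b.1.1 := by
        have := congrArg Subtype.val hab
        exact this
      exact Subtype.ext (Subtype.ext h3)
    · intro c
      exact ⟨⟨⟨c.1, hC c.2⟩, (hker _).2 c.2⟩, rfl⟩
  · rintro r ⟨g, rfl⟩
    refine ⟨g.1, ((φ g : (ZMod p)ˣ) : ZMod p).val, ?_, ?_⟩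
    · rw [ZMod.natCast_zmod_val]
    · exact (hφ g _).1 (by rw [ZMod.natCast_zmod_val])

/-- The union of the conjugates of a set. -/
def Yc (S : Set H) : Set H := {g | ∃ a, ∃ t ∈ S, g = a * t * a⁻¹}

/-- Counting the conjugates of a set with a controlled normaliser. -/
theorem ti_count [Finite H] (S : Set H) (N : Subgroup H) (hS : ∀ a, ∀ t ∈ S, (a * t * a⁻¹ ∈ S ↔ a ∈ N)) :
    (Yc S).ncard * Nat.card N = Nat.card H * S.ncard := by
  classical
  choose! A hA using (fun y (hy : y ∈ Yc S) => hy)
  have hinv : ∀ n ∈ N, ∀ t ∈ S, n⁻¹ * t * n⁻¹⁻¹ ∈ S := fun n hn t ht => (hS n⁻¹ t ht).2 (N.inv_mem hn)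
  choose! B hB using (fun y (hy : y ∈ Yc S) => (hA y hy))
  have hBS : ∀ y ∈ Yc S, B y ∈ S := fun y hy => (hB y hy).1
  have hAB : ∀ y ∈ Yc S, y = A y * B y * (A y)⁻¹ := fun y hy => (hB y hy).2
  let f : (Yc S) × N → H × S := fun p =>
    (A p.1.1 * p.2.1, ⟨p.2.1⁻¹ * B p.1.1 * p.2.1, by
      have := hinv p.2.1 p.2.2 _ (hBS _ p.1.2)
      rwa [inv_inv] at this⟩)
  have hf : Function.Bijective f := by
    constructor
    · rintro ⟨⟨y, hy⟩, ⟨n, hn⟩⟩ ⟨⟨y', hy'⟩, ⟨n', hn'⟩⟩ hxy
      have h1 : A y * n = A y' * n' := congrArg Prod.fst hxy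
      have h2 : n⁻¹ * B y * n = n'⁻¹ * B y' * n' := congrArg (fun p => (p.2 : H)) hxy
      have e1 : y = (A y * n) * (n⁻¹ * B y * n) * (A y * n)⁻¹ := by
        nth_rw 1 [hAB y hy]
        group
      have e2 : y' = (A y' * n') * (n'⁻¹ * B y' * n') * (A y' * n')⁻¹ := by
        nth_rw 1 [hAB y' hy']
        group
      have e3 : y = y' := by
        rw [e1, e2, h1, h2]
      subst e3
      have e4 : n = n' := mul_left_cancel h1
      subst e4
      rfl
    · rintro ⟨a, ⟨t, ht⟩⟩
      have hy : a * t * a⁻¹ ∈ Yc S := ⟨a, t, ht, rfl⟩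
      set y := a * t * a⁻¹ with hydef
      have hn : (A y)⁻¹ * a ∈ N := by
        have h1 : a⁻¹ * A y * (B y) * (a⁻¹ * A y)⁻¹ = t := by
          have e : a⁻¹ * A y * B y * (a⁻¹ * A y)⁻¹ = a⁻¹ * (A y * B y * (A y)⁻¹) * a := by group
          rw [e, ← hAB y hy, hydef]
          group
        have h2 := (hS (a⁻¹ * A y) (B y) (hBS y hy)).1 (by rw [h1]; exact ht)
        have e : (A y)⁻¹ * a = (a⁻¹ * A y)⁻¹ := by group
        rw [e]
        exact N.inv_mem h2
      refine ⟨(⟨y, hy⟩, ⟨_, hn⟩), ?_⟩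
      apply Prod.ext
      · show A y * ((A y)⁻¹ * a) = a
        group
      · apply Subtype.ext
        show ((A y)⁻¹ * a)⁻¹ * B y * ((A y)⁻¹ * a) = t
        have e : ((A y)⁻¹ * a)⁻¹ * B y * ((A y)⁻¹ * a) = a⁻¹ * (A y * B y * (A y)⁻¹) * a := by group
        rw [e, ← hAB y hy, hydef]
        group
  have h := Nat.card_congr (Equiv.ofBijective f hf)
  rw [Nat.card_prod, Nat.card_prod] at h
  exact h

open Finset in
/-- Double counting of fixed points and pairs of fixed points. -/
theorem two_count {Ω : Type*} [Fintype H] [Fintype Ω] [DecidableEq H] [DecidableEq Ω] [MulAction H Ω] (b t : ℕ)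
    (h1 : ∀ x : Ω, (univ.filter fun g : H => g • x = x).card = b)
    (h2 : ∀ x y : Ω, x ≠ y → (univ.filter fun g : H => g • x = x ∧ g • y = y).card = t) :
    (∑ g : H, (univ.filter fun x : Ω => g • x = x).card) = Fintype.card Ω * b ∧
    (∑ g : H, (univ.filter fun x : Ω => g • x = x).card ^ 2) = Fintype.card Ω * (b + (Fintype.card Ω - 1) * t) := by
  constructor
  · have h3 := Finset.sum_card_bipartiteAbove_eq_sum_card_bipartiteBelow (s := (univ : Finset H)) (t := (univ : Finset Ω)) (fun g x => g • x = x)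
    simp only [Finset.bipartiteAbove, Finset.bipartiteBelow] at h3
    rw [h3]
    simp [h1]
  · have e1 : ∀ g : H, (univ.filter fun x : Ω => g • x = x).card ^ 2 = ((univ : Finset (Ω × Ω)).filter fun p => g • p.1 = p.1 ∧ g • p.2 = p.2).card := by
      intro g
      rw [pow_two, ← Finset.card_product]
      congr 1
      ext ⟨x, y⟩
      simp
    simp only [e1]
    have h3 := Finset.sum_card_bipartiteAbove_eq_sum_card_bipartiteBelow (s := (univ : Finset H)) (t := (univ : Finset (Ω × Ω))) (fun g p => g • p.1 = p.1 ∧ g • p.2 = p.2)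
    simp only [Finset.bipartiteAbove, Finset.bipartiteBelow] at h3
    rw [h3, Fintype.sum_prod_type, ← Finset.card_univ]
    refine Finset.sum_const_nat (fun x _ => ?_)
    have e2 : ∀ y : Ω, (univ.filter fun g : H => g • (x, y).1 = (x, y).1 ∧ g • (x, y).2 = (x, y).2).card = if y = x then b else t := by
      intro y
      split_ifs with h
      · subst h
        simp [h1]
      · exact h2 x y (Ne.symm h)
    simp only [e2]
    rw [Finset.sum_ite, Finset.sum_const, Finset.sum_const]
    have e3 : (univ.filter fun y : Ω => y = x) = {x} := by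
      ext y
      simp
    have e4 : (univ.filter fun y : Ω => ¬ y = x).card = (univ : Finset Ω).card - 1 := by
      have := Finset.filter_not (fun y : Ω => y = x) (univ : Finset Ω)
      rw [this, Finset.card_sdiff_of_subset (Finset.filter_subset _ _), e3, Finset.card_singleton]
    rw [e3, e4, Finset.card_singleton, one_smul, smul_eq_mul]

end Cfsg.Agent.Lib.Chev.ReeGen
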