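import Cfsg.Agent.Lib.Chev.Comm
import Cfsg.Prelude.Def_ChevD4

namespace Cfsg.Agent.Lib.Chev.TabD4
open Cfsg.Agent.Lib.Chev Cfsg.Lie

noncomputable def ex0 : Trie (List (ℕ × ℤ × ℕ)) := (.node [] (.node [] (.node [] (.node [] .nil (.node [] .nil (.node [(11,(.ofNat 1),1)] .nil .nil))) (.node [] (.node [] .nil (.node [(7,(.negSucc 0),1)] .nil .nil)) .nil)) (.node [] (.node [] (.node [] .nil (.node [(5,(.ofNat 1),1)] .nil .nil)) (.node [] .nil (.node [(13,(.negSucc 0),1)] .nil .nil))) .nil)) (.node [(4,(.ofNat 1),1)] (.node [] (.node [] .nil (.node [] .nil (.node [(12,(.ofNat 1),1)] .nil .nil))) (.node [] (.node [] .nil (.node [(8,(.ofNat 1),1)] .nil .nil)) .nil)) (.node [] (.node [] (.node [] .nil (.node [(6,(.negSucc 0),1)] .nil .nil)) (.node [] .nil (.node [(0,(.negSucc 0),1),(1,(.negSucc 1),1),(2,(.negSucc 0),1),(3,(.negSucc 0),1),(4,(.negSucc 0),2)] .nil .nil))) (.node [] (.node [] .nil (.node [(10,(.negSucc 0),1)] .nil .nil))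 .nil))))
noncomputable def ex1 : Trie (List (ℕ × ℤ × ℕ)) := (.node [(5,(.ofNat 1),1)] (.node [] (.node [] (.node [] (.node [] .nil (.node [(6,(.ofNat 1),1)] .nil .nil)) (.node [] .nil (.node [(14,(.negSucc 0),1)] .nil .nil))) .nil) (.node [(5,(.ofNat 1),1)] (.node [] .nil (.node [] .nil (.node [(0,(.negSucc 0),1),(1,(.negSucc 0),1),(2,(.negSucc 0),1),(3,(.negSucc 0),1),(5,(.negSucc 0),2)] .nil .nil))) (.node [] (.node [] .nil (.node [(10,(.negSucc 0),1)] .nil .nil)) .nil))) (.node [(5,(.negSucc 0),1)] (.node [] (.node [] (.node [] .nil (.node [(7,(.ofNat 1),1)] .nil .nil)) (.node [] .nil (.node [(15,(.negSucc 0),1)] .nil .nil))) (.node [] (.node [] .nil (.node [(9,(.ofNat 1),1)] .nil .nil)) (.node [(4,(.ofNat 1),1)] .nil .nil))) (.node [(5,(.ofNat 1),1)] (.node [] .nil (.node [] .nil (.node [(18,(.negSucc 0),1)] .nil .nil))) .nil)))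
noncomputable def ex2 : Trie (List (ℕ × ℤ × ℕ)) := (.node [(6,(.ofNat 1),1)] (.node [] (.node [] .nil (.node [] (.node [] .nil (.node [(9,(.ofNat 1),1)] .nil .nil)) (.node [(4,(.negSucc 0),1)] .nil .nil))) (.node [(6,(.ofNat 1),1)] (.node [] .nil (.node [] .nil (.node [(16,(.negSucc 0),1)] .nil .nil))) (.node [] (.node [] .nil (.node [(11,(.negSucc 0),1)] .nil .nil)) .nil))) (.node [] (.node [] (.node [] (.node [] .nil (.node [(8,(.ofNat 1),1)] .nil .nil)) (.node [] .nil (.node [(0,(.negSucc 0),1),(1,(.negSucc 0),1),(2,(.negSucc 0),1),(6,(.negSucc 0),2)] .nil .nil))) .nil) (.node [(6,(.negSucc 0),1)] (.node [] .nil (.node [] .nil (.node [(19,(.ofNat 1),1)] .nil .nil))) (.node [] (.node [] .nil (.node [(14,(.negSucc 0),1)] .nil .nil)) (.node [(5,(.ofNat 1),1)] .nil .nil)))))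
noncomputable def ex3 : Trie (List (ℕ × ℤ × ℕ)) := (.node [(7,(.ofNat 1),1)] (.node [] (.node [] (.node [] (.node [] .nil (.node [(8,(.ofNat 1),1)] .nil .nil)) (.node [] .nil (.node [(0,(.negSucc 0),1),(1,(.negSucc 0),1),(3,(.negSucc 0),1),(7,(.negSucc 0),2)] .nil .nil))) .nil) (.node [(7,(.negSucc 0),1)] (.node [] .nil (.node [] .nil (.node [(17,(.negSucc 0),1)] .nil .nil))) (.node [] (.node [] .nil (.node [(12,(.negSucc 0),1)] .nil .nil)) (.node [(5,(.ofNat 1),1)] .nil .nil)))) (.node [] .nil (.node [(7,(.ofNat 1),1)] (.node [] (.node [] .nil (.node [(9,(.ofNat 1),1)] .nil .nil)) (.node [(4,(.negSucc 0),1)] .nil (.node [(20,(.ofNat 1),1)] .nil .nil))) (.node [] (.node [] .nil (.node [(15,(.negSucc 0),1)] .nil .nil)) .nil))))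
noncomputable def ex4 : Trie (List (ℕ × ℤ × ℕ)) := (.node [(8,(.ofNat 1),1)] (.node [] (.node [] (.node [] .nil (.node [] .nil (.node [(16,(.negSucc 0),1)] .nil .nil))) .nil) (.node [(8,(.negSucc 0),1)] (.node [] (.node [] .nil (.node [(9,(.ofNat 1),1)] .nil .nil)) (.node [(4,(.ofNat 1),1)] .nil .nil)) (.node [] (.node [] .nil (.node [(13,(.negSucc 0),1)] .nil .nil)) (.node [(6,(.ofNat 1),1)] .nil .nil)))) (.node [(8,(.ofNat 1),1)] (.node [] (.node [] .nil (.node [] .nil (.node [(17,(.negSucc 0),1)] .nil .nil))) .nil) (.node [(8,(.negSucc 0),1)] (.node [] .nil (.node [] .nil (.node [(21,(.negSucc 0),1)] .nil .nil))) (.node [] (.node [] .nil (.node [(0,(.negSucc 0),1),(1,(.negSucc 0),1),(8,(.negSucc 0),2)] .nil .nil)) (.node [(7,(.ofNat 1),1)] .nil .nil)))))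
noncomputable def ex5 : Trie (List (ℕ × ℤ × ℕ)) := (.node [(9,(.ofNat 2),1)] (.node [] (.node [] (.node [] .nil (.node [] .nil (.node [(19,(.negSucc 0),1)] .nil .nil))) (.node [] .nil (.node [(7,(.ofNat 1),1)] .nil .nil))) (.node [] (.node [] .nil (.node [(5,(.ofNat 1),1)] .nil (.node [(21,(.negSucc 0),1)] .nil .nil))) (.node [] (.node [] .nil (.node [(0,(.negSucc 0),1),(9,(.negSucc 0),2)] .nil .nil)) .nil))) (.node [(9,(.negSucc 0),1)] (.node [] (.node [] .nil (.node [] .nil (.node [(20,(.negSucc 0),1)] .nil .nil))) (.node [] .nil (.node [(8,(.ofNat 1),1)] .nil .nil))) (.node [] (.node [] .nil (.node [(6,(.ofNat 1),1)] .nil .nil)) (.node [] (.node [] .nil (.node [(18,(.negSucc 0),1)] .nil .nil)) .nil))))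
noncomputable def ex6 : Trie (List (ℕ × ℤ × ℕ)) := (.node [(10,(.negSucc 0),1)] (.node [] (.node [] (.node [] (.node [] .nil (.node [(11,(.ofNat 1),1)] .nil .nil)) (.node [(4,(.negSucc 0),1)] .nil .nil)) (.node [] (.node [] .nil (.node [(15,(.negSucc 0),1)] .nil .nil)) .nil)) (.node [(10,(.ofNat 1),1)] (.node [] .nil (.node [] .nil (.node [(22,(.ofNat 1),1)] .nil .nil))) .nil)) (.node [] (.node [] (.node [] (.node [] .nil (.node [(12,(.ofNat 1),1)] .nil .nil)) (.node [(5,(.negSucc 0),1)] .nil .nil)) (.node [] (.node [] .nil (.node [(1,(.negSucc 0),1),(2,(.negSucc 0),1),(3,(.negSucc 0),1),(10,(.negSucc 0),2)] .nil .nil)) .nil)) (.node [(10,(.ofNat 1),1)] (.node [] (.node [] .nil (.node [(14,(.negSucc 0),1)] .nil .nil)) (.node [] .nil (.node [(23,(.ofNat 1),1)] .nil .nil))) .nil)))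
noncomputable def ex7 : Trie (List (ℕ × ℤ × ℕ)) := (.node [(11,(.negSucc 0),1)] (.node [] (.node [] .nil (.node [] (.node [] .nil (.node [(1,(.negSucc 0),1),(2,(.negSucc 0),1),(11,(.negSucc 0),2)] .nil .nil)) .nil)) (.node [(11,(.ofNat 1),1)] (.node [] (.node [] .nil (.node [(14,(.negSucc 0),1)] .nil .nil)) .nil) .nil)) (.node [(11,(.ofNat 1),1)] (.node [] (.node [] (.node [] .nil (.node [(13,(.ofNat 1),1)] .nil .nil)) (.node [(6,(.negSucc 0),1)] .nil (.node [(22,(.ofNat 1),1)] .nil .nil))) (.node [] (.node [] .nil (.node [(16,(.negSucc 0),1)] .nil .nil)) .nil)) (.node [(11,(.negSucc 0),1)] (.node [] .nil (.node [] .nil (.node [(24,(.negSucc 0),1)] .nil .nil))) (.node [(4,(.ofNat 1),1)] .nil (.node [(10,(.ofNat 1),1)] .nil .nil)))))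
noncomputable def ex8 : Trie (List (ℕ × ℤ × ℕ)) := (.node [(12,(.negSucc 0),1)] (.node [] (.node [] (.node [] (.node [] .nil (.node [(13,(.ofNat 1),1)] .nil .nil)) (.node [] .nil (.node [(22,(.ofNat 1),1)] .nil .nil))) (.node [] .nil (.node [] .nil .nil))) (.node [(12,(.negSucc 0),1)] (.node [] (.node [] .nil (.node [(15,(.negSucc 0),1)] .nil .nil)) .nil) (.node [(4,(.ofNat 1),1)] .nil (.node [(10,(.ofNat 1),1)] .nil .nil)))) (.node [(12,(.ofNat 1),1)] (.node [] (.node [] .nil (.node [(7,(.negSucc 0),1)] .nil .nil)) (.node [] (.node [] .nil (.node [(17,(.negSucc 0),1)] .nil .nil)) .nil)) (.node [(12,(.ofNat 1),1)] (.node [] (.node [] .nil (.node [(1,(.negSucc 0),1),(3,(.negSucc 0),1),(12,(.negSucc 0),2)] .nil .nil)) (.node [] .nil (.node [(25,(.negSucc 0),1)] .nil .nil))) .nil)))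
noncomputable def ex9 : Trie (List (ℕ × ℤ × ℕ)) := (.node [(13,(.negSucc 0),1)] (.node [] (.node [] .nil (.node [] (.node [] .nil (.node [(17,(.negSucc 0),1)] .nil .nil)) .nil)) (.node [(13,(.negSucc 0),1)] (.node [] (.node [] .nil (.node [(1,(.negSucc 0),1),(13,(.negSucc 0),2)] .nil .nil)) .nil) (.node [] .nil (.node [(11,(.ofNat 1),1)] .nil .nil)))) (.node [(13,(.ofNat 2),1)] (.node [] (.node [] .nil (.node [(8,(.negSucc 0),1)] .nil .nil)) (.node [(4,(.negSucc 0),1)] .nil (.node [] .nil .nil))) (.node [(13,(.negSucc 0),1)] (.node [] (.node [] .nil (.node [(16,(.negSucc 0),1)] .nil .nil)) (.node [] .nil (.node [(26,(.ofNat 1),1)] .nil .nil))) (.node [] (.node [] .nil (.node [(22,(.ofNat 1),1)] .nil .nil)) (.node [(12,(.ofNat 1),1)] .nil .nil)))))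
noncomputable def ex10 : Trie (List (ℕ × ℤ × ℕ)) := (.node [] (.node [] (.node [] (.node [] .nil (.node [(6,(.negSucc 0),1)] .nil .nil)) (.node [] (.node [] .nil (.node [(18,(.ofNat 1),1)] .nil .nil)) (.node [(10,(.negSucc 0),1)] .nil .nil))) (.node [(14,(.ofNat 2),1)] (.node [] .nil (.node [] .nil (.node [(24,(.ofNat 1),1)] .nil .nil))) (.node [] .nil (.node [] .nil .nil)))) (.node [(14,(.negSucc 0),1)] (.node [] (.node [] (.node [] .nil (.node [(2,(.negSucc 0),1),(14,(.negSucc 0),2)] .nil .nil)) (.node [] .nil (.node [(23,(.ofNat 1),1)] .nil .nil))) (.node [] (.node [] .nil (.node [(19,(.ofNat 1),1)] .nil .nil)) (.node [(11,(.negSucc 0),1)] .nil .nil))) (.node [] .nil (.node [(5,(.negSucc 0),1)] .nil .nil))))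
noncomputable def ex11 : Trie (List (ℕ × ℤ × ℕ)) := (.node [] (.node [] (.node [] (.node [] (.node [] .nil (.node [(3,(.negSucc 0),1),(15,(.negSucc 0),2)] .nil .nil)) (.node [(7,(.negSucc 0),1)] .nil (.node [(23,(.ofNat 1),1)] .nil .nil))) .nil) (.node [] (.node [] .nil (.node [] .nil (.node [(25,(.ofNat 1),1)] .nil .nil))) (.node [(5,(.negSucc 0),1)] .nil .nil))) (.node [(15,(.negSucc 0),1)] (.node [] .nil (.node [] (.node [] .nil (.node [(20,(.ofNat 1),1)] .nil .nil)) (.node [(12,(.negSucc 0),1)] .nil .nil))) (.node [(15,(.ofNat 2),1)] (.node [] (.node [] .nil (.node [(18,(.ofNat 1),1)] .nil .nil)) (.node [(10,(.negSucc 0),1)] .nil .nil)) (.node [] .nil (.node [] .nil .nil)))))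
noncomputable def ex12 : Trie (List (ℕ × ℤ × ℕ)) := (.node [] (.node [] (.node [] (.node [] (.node [] .nil (.node [] .nil .nil)) .nil) (.node [] (.node [] .nil (.node [(21,(.ofNat 1),1)] .nil .nil)) (.node [(13,(.negSucc 0),1)] .nil .nil))) (.node [] (.node [] (.node [] .nil (.node [(19,(.ofNat 1),1)] .nil .nil)) (.node [(11,(.negSucc 0),1)] .nil .nil)) .nil)) (.node [(16,(.ofNat 1),1)] (.node [] (.node [] .nil (.node [] .nil (.node [(26,(.ofNat 1),1)] .nil .nil))) (.node [(6,(.negSucc 0),1)] .nil .nil)) (.node [(16,(.negSucc 1),1)] .nil (.node [(8,(.negSucc 0),1)] (.node [] .nil (.node [(24,(.ofNat 1),1)] .nil .nil)) (.node [(3,(.ofNat 1),1),(16,(.negSucc 0),2)] .nil .nil)))))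
noncomputable def ex13 : Trie (List (ℕ × ℤ × ℕ)) := (.node [] (.node [] (.node [] (.node [] .nil (.node [] .nil (.node [(26,(.ofNat 1),1)] .nil .nil))) .nil) (.node [(17,(.negSucc 1),1)] (.node [] (.node [] .nil (.node [(20,(.ofNat 1),1)] .nil .nil)) (.node [(12,(.negSucc 0),1)] .nil .nil)) (.node [(8,(.negSucc 0),1)] .nil (.node [(2,(.ofNat 1),1),(17,(.negSucc 0),2)] .nil .nil)))) (.node [(17,(.ofNat 1),1)] (.node [] (.node [] (.node [] .nil (.node [] .nil .nil)) .nil) (.node [(7,(.negSucc 0),1)] .nil .nil)) (.node [] (.node [] (.node [] .nil (.node [(21,(.ofNat 1),1)] .nil .nil)) (.node [(13,(.negSucc 0),1)] .nil .nil)) (.node [] (.node [] .nil (.node [(25,(.ofNat 1),1)] .nil .nil)) .nil))))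
noncomputable def ex14 : Trie (List (ℕ × ℤ × ℕ)) := (.node [(18,(.ofNat 1),1)] (.node [] (.node [] (.node [] (.node [] .nil (.node [(19,(.negSucc 0),1)] .nil .nil)) (.node [(9,(.negSucc 0),1)] .nil .nil)) (.node [(5,(.negSucc 0),1)] .nil (.node [(15,(.ofNat 1),1)] .nil .nil))) (.node [(18,(.ofNat 1),1)] (.node [] (.node [] .nil (.node [] .nil .nil)) (.node [] .nil (.node [(27,(.ofNat 1),1)] .nil .nil))) (.node [] (.node [] .nil (.node [(23,(.ofNat 1),1)] .nil .nil)) .nil))) (.node [(18,(.negSucc 1),1)] (.node [] (.node [] (.node [] .nil (.node [(20,(.negSucc 0),1)] .nil .nil)) .nil) (.node [] .nil (.node [(1,(.ofNat 1),1),(18,(.negSucc 0),2)] .nil .nil))) (.node [(18,(.ofNat 1),1)] (.node [] .nil (.node [(14,(.ofNat 1),1)] .nil .nil)) .nil)))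
noncomputable def ex15 : Trie (List (ℕ × ℤ × ℕ)) := (.node [(19,(.ofNat 1),1)] (.node [] (.node [] .nil (.node [(6,(.ofNat 1),1)] .nil (.node [(1,(.ofNat 1),1),(3,(.ofNat 1),1),(19,(.negSucc 0),2)] .nil .nil))) (.node [(19,(.ofNat 1),1)] (.node [] .nil (.node [(14,(.ofNat 1),1)] .nil .nil)) (.node [] (.node [] .nil (.node [(24,(.ofNat 1),1)] .nil .nil)) .nil))) (.node [(19,(.negSucc 0),1)] (.node [] (.node [] (.node [] .nil (.node [(21,(.negSucc 0),1)] .nil .nil)) (.node [] .nil (.node [(27,(.negSucc 0),1)] .nil .nil))) (.node [] .nil (.node [(16,(.ofNat 1),1)] .nil .nil))) (.node [(19,(.negSucc 0),1)] (.node [] (.node [] .nil (.node [] .nil .nil)) .nil) (.node [(9,(.negSucc 0),1)] .nil (.node [(18,(.negSucc 0),1)] .nil .nil)))))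
noncomputable def ex16 : Trie (List (ℕ × ℤ × ℕ)) := (.node [(20,(.ofNat 1),1)] (.node [] (.node [] (.node [] (.node [] .nil (.node [(21,(.negSucc 0),1)] .nil .nil)) (.node [] .nil (.node [(27,(.negSucc 0),1)] .nil .nil))) (.node [(7,(.ofNat 1),1)] (.node [] .nil (.node [] .nil .nil)) .nil)) (.node [(20,(.negSucc 0),1)] (.node [] .nil (.node [(15,(.ofNat 1),1)] .nil .nil)) (.node [(9,(.negSucc 0),1)] (.node [] .nil (.node [(25,(.ofNat 1),1)] .nil .nil)) (.node [(18,(.negSucc 0),1)] .nil .nil)))) (.node [(20,(.negSucc 0),1)] (.node [] .nil (.node [] .nil (.node [(17,(.ofNat 1),1)] .nil .nil))) (.node [(20,(.ofNat 1),1)] (.node [] .nil (.node [(1,(.ofNat 1),1),(2,(.ofNat 1),1),(20,(.negSucc 0),2)] .nil .nil)) .nil)))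
noncomputable def ex17 : Trie (List (ℕ × ℤ × ℕ)) := (.node [(21,(.ofNat 1),1)] (.node [] (.node [] .nil (.node [(8,(.negSucc 0),1)] .nil (.node [(17,(.ofNat 1),1)] .nil .nil))) (.node [(21,(.negSucc 0),1)] (.node [] .nil (.node [(1,(.ofNat 1),1),(2,(.ofNat 1),1),(3,(.ofNat 1),1),(21,(.negSucc 0),2)] .nil .nil)) (.node [] (.node [] .nil (.node [(26,(.ofNat 1),1)] .nil .nil)) (.node [(19,(.negSucc 0),1)] .nil .nil)))) (.node [] (.node [] .nil (.node [(9,(.negSucc 0),1)] (.node [] .nil (.node [] .nil .nil)) .nil)) (.node [(21,(.negSucc 0),1)] (.node [] .nil (.node [(16,(.ofNat 1),1)] .nil .nil)) (.node [] (.node [] .nil (.node [(27,(.ofNat 1),1)] .nil .nil)) (.node [(20,(.negSucc 0),1)] .nil .nil)))))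
noncomputable def ex18 : Trie (List (ℕ × ℤ × ℕ)) := (.node [(22,(.negSucc 1),1)] (.node [] (.node [] (.node [] .nil (.node [(13,(.ofNat 1),1)] .nil .nil)) (.node [] (.node [] .nil (.node [(25,(.negSucc 0),1)] .nil .nil)) .nil)) (.node [] (.node [] (.node [] .nil (.node [(23,(.negSucc 0),1)] .nil .nil)) .nil) (.node [(11,(.ofNat 1),1)] (.node [] .nil (.node [] .nil .nil)) .nil))) (.node [(22,(.ofNat 1),1)] (.node [] (.node [] .nil (.node [(0,(.ofNat 1),1),(22,(.negSucc 0),2)] .nil .nil)) (.node [(10,(.ofNat 1),1)] (.node [] .nil (.node [(26,(.negSucc 0),1)] .nil .nil)) .nil)) (.node [] (.node [] (.node [] .nil (.node [(24,(.negSucc 0),1)] .nil .nil)) .nil) (.node [(12,(.ofNat 1),1)] .nil .nil))))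
noncomputable def ex19 : Trie (List (ℕ × ℤ × ℕ)) := (.node [(23,(.negSucc 0),1)] (.node [] (.node [] (.node [] (.node [] .nil (.node [(24,(.negSucc 0),1)] .nil .nil)) (.node [(0,(.ofNat 1),1),(1,(.ofNat 1),1),(23,(.negSucc 0),2)] .nil .nil)) (.node [(10,(.ofNat 1),1)] .nil .nil)) (.node [(23,(.ofNat 1),1)] .nil (.node [(14,(.ofNat 1),1)] .nil .nil))) (.node [(23,(.negSucc 0),1)] (.node [] (.node [] (.node [] .nil (.node [(25,(.negSucc 0),1)] .nil .nil)) (.node [(18,(.ofNat 1),1)] .nil .nil)) (.node [] (.node [] .nil (.node [(27,(.negSucc 0),1)] .nil .nil)) (.node [(22,(.negSucc 0),1)] .nil .nil))) (.node [(23,(.ofNat 1),1)] .nil (.node [(15,(.ofNat 1),1)] (.node [] .nil (.node [] .nil .nil)) .nil))))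
noncomputable def ex20 : Trie (List (ℕ × ℤ × ℕ)) := (.node [(24,(.negSucc 0),1)] (.node [] (.node [] (.node [] .nil (.node [(16,(.ofNat 1),1)] .nil (.node [] .nil .nil))) (.node [(11,(.negSucc 0),1)] (.node [] .nil (.node [(27,(.ofNat 1),1)] .nil .nil)) (.node [(22,(.negSucc 0),1)] .nil .nil))) (.node [(24,(.ofNat 1),1)] .nil .nil)) (.node [] (.node [] (.node [] (.node [] .nil (.node [(26,(.negSucc 0),1)] .nil .nil)) (.node [(19,(.ofNat 1),1)] .nil .nil)) (.node [(14,(.ofNat 1),1)] .nil .nil)) (.node [(24,(.negSucc 0),1)] .nil (.node [(0,(.ofNat 1),1),(1,(.ofNat 1),1),(3,(.ofNat 1),1),(24,(.negSucc 0),2)] .nil (.node [(23,(.negSucc 0),1)] .nil .nil)))))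
noncomputable def ex21 : Trie (List (ℕ × ℤ × ℕ)) := (.node [(25,(.negSucc 0),1)] (.node [] (.node [] (.node [] (.node [] .nil (.node [(26,(.negSucc 0),1)] .nil .nil)) (.node [(17,(.ofNat 1),1)] .nil .nil)) (.node [(12,(.negSucc 0),1)] .nil .nil)) (.node [(25,(.negSucc 0),1)] .nil (.node [(0,(.ofNat 1),1),(1,(.ofNat 1),1),(2,(.ofNat 1),1),(25,(.negSucc 0),2)] .nil (.node [(23,(.negSucc 0),1)] .nil .nil)))) (.node [] (.node [] (.node [] .nil (.node [(20,(.ofNat 1),1)] .nil (.node [] .nil .nil))) (.node [(15,(.ofNat 1),1)] .nil .nil)) (.node [(25,(.ofNat 1),1)] (.node [] (.node [] .nil (.node [(27,(.ofNat 1),1)] .nil .nil)) (.node [(22,(.negSucc 0),1)] .nil .nil)) .nil)))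
noncomputable def ex22 : Trie (List (ℕ × ℤ × ℕ)) := (.node [(26,(.negSucc 0),1)] (.node [] (.node [] .nil (.node [(13,(.ofNat 1),1)] .nil .nil)) (.node [(26,(.negSucc 0),1)] (.node [] (.node [] .nil (.node [(27,(.negSucc 0),1)] .nil .nil)) (.node [(22,(.negSucc 0),1)] .nil (.node [] .nil .nil))) (.node [(16,(.ofNat 1),1)] .nil (.node [(24,(.negSucc 0),1)] .nil .nil)))) (.node [(26,(.ofNat 1),1)] (.node [] (.node [] .nil (.node [(21,(.ofNat 1),1)] .nil .nil)) (.node [(0,(.ofNat 1),1),(1,(.ofNat 1),1),(2,(.ofNat 1),1),(3,(.ofNat 1),1),(26,(.negSucc 0),2)] .nil .nil)) (.node [(26,(.negSucc 0),1)] .nil (.node [(17,(.ofNat 1),1)] .nil (.node [(25,(.negSucc 0),1)] .nil .nil)))))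
noncomputable def ex23 : Trie (List (ℕ × ℤ × ℕ)) := (.node [] (.node [] (.node [] (.node [] .nil (.node [(21,(.ofNat 1),1)] .nil .nil)) (.node [(0,(.ofNat 1),1),(1,(.ofNat 2),1),(2,(.ofNat 1),1),(3,(.ofNat 1),1),(27,(.negSucc 0),2)] .nil (.node [(25,(.ofNat 1),1)] .nil .nil))) (.node [] (.node [] .nil (.node [(23,(.negSucc 0),1)] .nil .nil)) (.node [(19,(.negSucc 0),1)] .nil .nil))) (.node [(27,(.negSucc 0),1)] (.node [] .nil (.node [(18,(.ofNat 1),1)] .nil (.node [(26,(.negSucc 0),1)] .nil .nil))) (.node [] (.node [] .nil (.node [(24,(.ofNat 1),1)] .nil (.node [] .nil .nil))) (.node [(20,(.negSucc 0),1)] .nil .nil))))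
noncomputable def ex : Trie (Trie (List (ℕ × ℤ × ℕ))) := (.node ex0 (.node .nil (.node .nil (.node .nil (.node .nil .nil (.node ex16 .nil .nil)) (.node ex8 .nil .nil)) (.node ex4 (.node .nil .nil (.node ex20 .nil .nil)) (.node ex12 .nil .nil))) (.node ex2 (.node .nil (.node .nil .nil (.node ex18 .nil .nil)) (.node ex10 .nil .nil)) (.node ex6 (.node .nil .nil (.node ex22 .nil .nil)) (.node ex14 .nil .nil)))) (.node ex1 (.node .nil (.node .nil (.node .nil .nil (.node ex17 .nil .nil)) (.node ex9 .nil .nil)) (.node ex5 (.node .nil .nil (.node ex21 .nil .nil)) (.node ex13 .nil .nil))) (.node ex3 (.node .nil (.node .nil .nil (.node ex19 .nil .nil)) (.node ex11 .nil .nil)) (.node ex7 (.node .nil .nil (.node ex23 .nil .nil)) (.node ex15 .nil .nil)))))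
noncomputable def nt3 : Trie (List (ℕ × ℤ)) := (.node [(0,(.ofNat 1))] (.node [] (.node [] (.node [] (.node [] .nil (.node [(15,(.negSucc 0))] .nil .nil)) (.node [(7,(.ofNat 1))] .nil (.node [(23,(.negSucc 0))] .nil .nil))) (.node [(4,(.ofNat 1))] (.node [] .nil (.node [(21,(.ofNat 1))] .nil .nil)) (.node [(13,(.negSucc 0))] .nil .nil))) (.node [(2,(.ofNat 1))] (.node [] (.node [] .nil (.node [(19,(.ofNat 1))] .nil .nil)) (.node [(11,(.negSucc 0))] .nil (.node [(25,(.negSucc 0))] .nil .nil))) (.node [(5,(.ofNat 1))] (.node [] .nil (.node [(22,(.ofNat 1))] .nil .nil)) (.node [(14,(.ofNat 1))] .nil .nil)))) (.node [(1,(.ofNat 1)),(3,(.ofNat 1))] (.node [] (.node [] (.node [] .nil (.node [(17,(.ofNat 1))] .nil .nil)) (.node [(9,(.ofNat 1))] .nil (.node [(26,(.ofNat 1))] .nil .nil))) (.node [(6,(.negSucc 0))] (.node [] .nil (.node [(20,(.negSucc 0))] .nil .nil)) (.node [(12,(.ofNat 1))] .nil .nil))) (.node [(3,(.negSucc 0))] (.node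 [] (.node [] .nil (.node [(18,(.negSucc 0))] .nil .nil)) (.node [(10,(.ofNat 1))] .nil (.node [(27,(.ofNat 1))] .nil .nil))) (.node [(8,(.negSucc 0))] (.node [] .nil (.node [(24,(.ofNat 1))] .nil .nil)) (.node [(16,(.negSucc 0))] .nil .nil)))))
noncomputable def nt2 : Trie (List (ℕ × ℤ)) := (.node [(0,(.ofNat 1))] (.node [] (.node [] (.node [] (.node [] .nil (.node [(16,(.ofNat 1))] .nil .nil)) (.node [(6,(.ofNat 1))] .nil (.node [(26,(.ofNat 1))] .nil .nil))) (.node [(4,(.ofNat 1))] (.node [] .nil (.node [(18,(.negSucc 0))] .nil .nil)) (.node [(10,(.ofNat 1))] .nil .nil))) (.node [(2,(.negSucc 0))] (.node [] (.node [] .nil (.node [(20,(.ofNat 1))] .nil .nil)) (.node [(12,(.negSucc 0))] .nil (.node [(24,(.negSucc 0))] .nil .nil))) (.node [(8,(.negSucc 0))] (.node [] .nil (.node [(22,(.ofNat 1))] .nil .nil)) (.node [(17,(.negSucc 0))] .nil .nil)))) (.node [(1,(.ofNat 1)),(2,(.ofNat 1))] (.node [] (.node [] (.node [] .nil (.node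 [(14,(.negSucc 0))] .nil .nil)) (.node [(9,(.ofNat 1))] .nil (.node [(23,(.negSucc 0))] .nil .nil))) (.node [(7,(.negSucc 0))] (.node [] .nil (.node [(19,(.negSucc 0))] .nil .nil)) (.node [(11,(.ofNat 1))] .nil .nil))) (.node [(3,(.ofNat 1))] (.node [] (.node [] .nil (.node [(21,(.ofNat 1))] .nil .nil)) (.node [(13,(.negSucc 0))] .nil (.node [(27,(.ofNat 1))] .nil .nil))) (.node [(5,(.ofNat 1))] (.node [] .nil (.node [(25,(.ofNat 1))] .nil .nil)) (.node [(15,(.ofNat 1))] .nil .nil)))))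
noncomputable def nt1 : Trie (List (ℕ × ℤ)) := (.node [(0,(.ofNat 1)),(1,(.ofNat 1))] (.node [] (.node [] (.node [] (.node [] .nil (.node [(19,(.negSucc 0))] .nil .nil)) (.node [(9,(.negSucc 0))] .nil (.node [(24,(.ofNat 1))] .nil .nil))) (.node [(5,(.negSucc 0))] (.node [] .nil (.node [(17,(.ofNat 1))] .nil .nil)) (.node [(15,(.ofNat 1))] .nil .nil))) (.node [(1,(.ofNat 1)),(2,(.ofNat 1))] (.node [] (.node [] .nil (.node [(13,(.negSucc 0))] .nil .nil)) (.node [(10,(.ofNat 1))] .nil (.node [(27,(.ofNat 1))] .nil .nil))) (.node [(6,(.ofNat 1))] (.node [] .nil (.node [(23,(.ofNat 1))] .nil .nil)) (.node [(11,(.negSucc 0))] .nil .nil)))) (.node [(1,(.negSucc 0))] (.node [] (.node [] (.node [] .nil (.node [(20,(.negSucc 0))] .nil .nil)) (.node [(8,(.ofNat 1))] .nil (.node [(25,(.ofNat 1))] .nil .nil))) (.node [(4,(.ofNat 1))] (.node [] .nil (.node [(21,(.ofNat 1))] .nil .nil)) (.node [(18,(.negSucc 0))] .nil .nil))) (.node [(1,(.ofNat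 1)),(3,(.ofNat 1))] (.node [] (.node [] .nil (.node [(16,(.ofNat 1))] .nil .nil)) (.node [(14,(.ofNat 1))] .nil (.node [(26,(.negSucc 0))] .nil .nil))) (.node [(7,(.ofNat 1))] (.node [] .nil (.node [(22,(.negSucc 0))] .nil .nil)) (.node [(12,(.negSucc 0))] .nil .nil)))))
noncomputable def nt0 : Trie (List (ℕ × ℤ)) := (.node [(0,(.negSucc 0))] (.node [] (.node [] (.node [] (.node [] .nil (.node [(16,(.ofNat 1))] .nil .nil)) (.node [(13,(.ofNat 1))] .nil (.node [(19,(.ofNat 1))] .nil .nil))) (.node [(4,(.ofNat 1))] (.node [] .nil (.node [(25,(.negSucc 0))] .nil .nil)) (.node [(7,(.negSucc 0))] .nil .nil))) (.node [(2,(.ofNat 1))] (.node [] (.node [] .nil (.node [(23,(.negSucc 0))] .nil .nil)) (.node [(5,(.negSucc 0))] .nil (.node [(21,(.ofNat 1))] .nil .nil))) (.node [(11,(.ofNat 1))] (.node [] .nil (.node [(9,(.negSucc 0))] .nil .nil)) (.node [(14,(.ofNat 1))] .nil .nil)))) (.node [(0,(.ofNat 1)),(1,(.ofNat 1))] (.node [] (.node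 [] (.node [] .nil (.node [(17,(.ofNat 1))] .nil .nil)) (.node [(22,(.negSucc 0))] .nil (.node [(20,(.ofNat 1))] .nil .nil))) (.node [(10,(.ofNat 1))] (.node [] .nil (.node [(26,(.negSucc 0))] .nil .nil)) (.node [(8,(.negSucc 0))] .nil .nil))) (.node [(3,(.ofNat 1))] (.node [] (.node [] .nil (.node [(24,(.negSucc 0))] .nil .nil)) (.node [(6,(.negSucc 0))] .nil (.node [(27,(.ofNat 1))] .nil .nil))) (.node [(12,(.ofNat 1))] (.node [] .nil (.node [(18,(.ofNat 1))] .nil .nil)) (.node [(15,(.ofNat 1))] .nil .nil)))))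
noncomputable def nt : Trie (Trie (List (ℕ × ℤ))) := (.node nt0 (.node .nil .nil (.node nt2 .nil .nil)) (.node nt1 .nil (.node nt3 .nil .nil)))
noncomputable def w3 : Trie (ℕ × ℤ) := (.node (0,(.ofNat 1)) (.node (0,0) (.node (0,0) (.node (0,0) (.node (0,0) .nil (.node (17,(.ofNat 1)) .nil .nil)) (.node (9,(.negSucc 0)) .nil .nil)) (.node (3,(.ofNat 1)) (.node (0,0) .nil (.node (19,(.negSucc 0)) .nil .nil)) (.node (11,(.negSucc 0)) .nil .nil))) (.node (1,(.ofNat 1)) (.node (0,0) (.node (0,0) .nil (.node (18,(.ofNat 1)) .nil .nil)) (.node (10,(.ofNat 1)) .nil .nil)) (.node (7,(.negSucc 0)) (.node (0,0) .nil (.node (21,(.negSucc 0)) .nil .nil)) (.node (15,(.ofNat 1)) .nil .nil)))) (.node (2,(.negSucc 0)) (.node (0,0) (.node (0,0) (.node (0,0) .nil (.node (16,(.negSucc 0)) .nil .nil)) (.node (8,(.ofNat 1)) .nil .nil)) (.node (5,(.ofNat 1)) (.node (0,0) .nil (.node (22,(.ofNat 1)) .nil .nil)) (.node (13,(.ofNat 1)) .nil .nil))) (.node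 (4,(.negSucc 0)) (.node (0,0) (.node (0,0) .nil (.node (20,(.ofNat 1)) .nil .nil)) (.node (12,(.negSucc 0)) .nil .nil)) (.node (6,(.ofNat 1)) (.node (0,0) .nil (.node (23,(.ofNat 1)) .nil .nil)) (.node (14,(.negSucc 0)) .nil .nil)))))
noncomputable def w2 : Trie (ℕ × ℤ) := (.node (0,(.ofNat 1)) (.node (0,0) (.node (0,0) (.node (0,0) (.node (0,0) .nil (.node (14,(.negSucc 0)) .nil .nil)) (.node (6,(.ofNat 1)) .nil .nil)) (.node (2,(.ofNat 1)) (.node (0,0) .nil (.node (22,(.ofNat 1)) .nil .nil)) (.node (12,(.ofNat 1)) .nil .nil))) (.node (4,(.negSucc 0)) (.node (0,0) (.node (0,0) .nil (.node (18,(.ofNat 1)) .nil .nil)) (.node (13,(.negSucc 0)) .nil .nil)) (.node (8,(.negSucc 0)) (.node (0,0) .nil (.node (20,(.negSucc 0)) .nil .nil)) (.node (16,(.ofNat 1)) .nil .nil)))) (.node (3,(.negSucc 0)) (.node (0,0) (.node (0,0) (.node (0,0) .nil (.node (15,(.negSucc 0)) .nil .nil)) (.node (7,(.ofNat 1)) .nil .nil)) (.node (5,(.ofNat 1)) (.node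 (0,0) .nil (.node (19,(.negSucc 0)) .nil .nil)) (.node (10,(.negSucc 0)) .nil .nil))) (.node (1,(.ofNat 1)) (.node (0,0) (.node (0,0) .nil (.node (21,(.ofNat 1)) .nil .nil)) (.node (11,(.ofNat 1)) .nil .nil)) (.node (9,(.negSucc 0)) (.node (0,0) .nil (.node (23,(.ofNat 1)) .nil .nil)) (.node (17,(.ofNat 1)) .nil .nil)))))
noncomputable def w1 : Trie (ℕ × ℤ) := (.node (1,(.negSucc 0)) (.node (0,0) (.node (0,0) (.node (0,0) (.node (0,0) .nil (.node (13,(.ofNat 1)) .nil .nil)) (.node (11,(.ofNat 1)) .nil .nil)) (.node (5,(.negSucc 0)) (.node (0,0) .nil (.node (20,(.ofNat 1)) .nil .nil)) (.node (15,(.negSucc 0)) .nil .nil))) (.node (2,(.ofNat 1)) (.node (0,0) (.node (0,0) .nil (.node (19,(.ofNat 1)) .nil .nil)) (.node (7,(.negSucc 0)) .nil .nil)) (.node (6,(.ofNat 1)) (.node (0,0) .nil (.node (23,(.ofNat 1)) .nil .nil)) (.node (9,(.negSucc 0)) .nil .nil)))) (.node (0,(.ofNat 1)) (.node (0,0) (.node (0,0) (.node (0,0) .nil (.node (17,(.ofNat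 1)) .nil .nil)) (.node (14,(.negSucc 0)) .nil .nil)) (.node (4,(.ofNat 1)) (.node (0,0) .nil (.node (21,(.ofNat 1)) .nil .nil)) (.node (16,(.negSucc 0)) .nil .nil))) (.node (3,(.ofNat 1)) (.node (0,0) (.node (0,0) .nil (.node (18,(.negSucc 0)) .nil .nil)) (.node (8,(.negSucc 0)) .nil .nil)) (.node (10,(.ofNat 1)) (.node (0,0) .nil (.node (22,(.negSucc 0)) .nil .nil)) (.node (12,(.ofNat 1)) .nil .nil)))))
noncomputable def w0 : Trie (ℕ × ℤ) := (.node (0,(.ofNat 1)) (.node (0,0) (.node (0,0) (.node (0,0) (.node (0,0) .nil (.node (21,(.negSucc 0)) .nil .nil)) (.node (3,(.negSucc 0)) .nil .nil)) (.node (9,(.ofNat 1)) (.node (0,0) .nil (.node (15,(.ofNat 1)) .nil .nil)) (.node (12,(.ofNat 1)) .nil .nil))) (.node (7,(.ofNat 1)) (.node (0,0) (.node (0,0) .nil (.node (5,(.negSucc 0)) .nil .nil)) (.node (10,(.ofNat 1)) .nil .nil)) (.node (1,(.negSucc 0)) (.node (0,0) .nil (.node (17,(.ofNat 1)) .nil .nil)) (.node (19,(.negSucc 0)) .nil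 .nil)))) (.node (6,(.ofNat 1)) (.node (0,0) (.node (0,0) (.node (0,0) .nil (.node (22,(.negSucc 0)) .nil .nil)) (.node (4,(.negSucc 0)) .nil .nil)) (.node (18,(.negSucc 0)) (.node (0,0) .nil (.node (16,(.ofNat 1)) .nil .nil)) (.node (13,(.ofNat 1)) .nil .nil))) (.node (8,(.ofNat 1)) (.node (0,0) (.node (0,0) .nil (.node (14,(.ofNat 1)) .nil .nil)) (.node (11,(.ofNat 1)) .nil .nil)) (.node (2,(.negSucc 0)) (.node (0,0) .nil (.node (23,(.ofNat 1)) .nil .nil)) (.node (20,(.negSucc 0)) .nil .nil)))))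
noncomputable def w : Trie (Trie (ℕ × ℤ)) := (.node w0 (.node .nil .nil (.node w2 .nil .nil)) (.node w1 .nil (.node w3 .nil .nil)))
noncomputable def chi : Trie ℕ := (.node 758969771202433894693 (.node 0 (.node 0 (.node 0 (.node 0 .nil (.node 2622222415929948125338 .nil .nil)) (.node 1441661678295444437148 .nil .nil)) (.node 1422895249137160837404 (.node 0 .nil (.node 2690421862271447540434 .nil .nil)) (.node 2089445761607331857683 .nil .nil))) (.node 1341179442708265977700 (.node 0 (.node 0 .nil (.node 2108212190765615457427 .nil .nil)) (.node 1942155543372381660451 .nil .nil)) (.node 1359945871866549577444 (.node 0 .nil (.node 2772137668700342400138 .nil .nil)) (.node 2540506609501053265634 .nil .nil)))) (.node 1275605030902210640172 (.node 0 (.node 0 (.node 0 .nil (.node 2687796827736003462866 .nil .nil)) (.node 1507236090101499774676 .nil .nil)) (.node 1939530508836937582883 (.node 0 .nil (.node 2706563256894287062610 .nil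 .nil)) (.node 2105587156230171379859 .nil .nil))) (.node 1357320837331105499876 (.node 0 (.node 0 .nil (.node 2624847450465392202906 .nil .nil)) (.node 1958296937995221182627 .nil .nil)) (.node 1425520283672604914972 (.node 0 .nil (.node 3288772928400119145617 .nil .nil)) (.node 2606081021307108603162 .nil .nil)))))
noncomputable def par : Trie (ℕ × ℕ × ℕ) := (.node (1,1,5) (.node (0,0,0) (.node (0,0,0) (.node (0,0,0) (.node (0,0,0) .nil (.node (2,14,3) .nil .nil)) (.node (3,9,4) .nil .nil)) (.node (1,5,2) (.node (0,0,0) .nil (.node (3,19,2) .nil .nil)) (.node (1,15,4) .nil .nil))) (.node (2,4,3) (.node (0,0,0) (.node (0,0,0) .nil (.node (4,0,0) .nil .nil)) (.node (1,7,5) .nil .nil)) (.node (3,7,5) (.node (0,0,0) .nil (.node (3,21,3) .nil .nil)) (.node (0,19,2) .nil .nil)))) (.node (3,2,4) (.node (0,0,0) (.node (0,0,0) (.node (0,0,0) .nil (.node (3,16,4) .nil .nil)) (.node (0,4,3) .nil .nil)) (.node (0,18,1) (.node (0,0,0) .nil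 (.node (2,19,2) .nil .nil)) (.node (1,16,4) .nil .nil))) (.node (3,4,3) (.node (0,0,0) (.node (0,0,0) .nil (.node (1,18,1) .nil .nil)) (.node (1,8,5) .nil .nil)) (.node (2,9,4) (.node (0,0,0) .nil (.node (1,22,4) .nil .nil)) (.node (3,14,3) .nil .nil)))))
noncomputable def T : Tabs := ⟨4, 24, 28, ex, nt⟩
noncomputable def X : Extra := ⟨w, chi, .nil, par⟩
theorem ex_ok : exBeq chevD4 T.ex = true := by decide +kernel
end Cfsg.Agent.Lib.Chev.TabD4
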