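import Cfsg.Agent.Lib.Chev.Comm
import Cfsg.Prelude.Def_ChevF4

namespace Cfsg.Agent.Lib.Chev.TabF4
open Cfsg.Agent.Lib.Chev Cfsg.Lie

noncomputable def ex0 : Trie (List (ℕ × ℤ × ℕ)) := (.node [] (.node [] (.node [] (.node [] (.node [] .nil (.node [] .nil (.node [(22,(.negSucc 0),1)] .nil .nil))) (.node [] (.node [] .nil (.node [(11,(.ofNat 1),1)] .nil .nil)) .nil)) (.node [] (.node [] (.node [] .nil (.node [(9,(.ofNat 1),1)] .nil .nil)) .nil) (.node [] (.node [] .nil (.node [(15,(.negSucc 0),1)] .nil .nil)) (.node [(5,(.ofNat 1),1)] .nil .nil)))) (.node [] (.node [] (.node [] .nil (.node [] .nil (.node [(27,(.negSucc 0),1)] .nil .nil))) (.node [] (.node [] .nil (.node [(12,(.negSucc 0),1)] .nil .nil)) .nil)) (.node [] .nil (.node [] (.node [] .nil (.node [(19,(.negSucc 0),1)] .nil .nil)) (.node [(6,(.ofNat 1),1)] .nil .nil))))) (.node [] (.node [] (.node [] (.node [] (.node [] .nil (.node [(7,(.ofNat 1),1)] .nil .nil)) (.node [] .nil (.node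 [(25,(.negSucc 0),1)] .nil .nil))) .nil) .nil) (.node [(4,(.ofNat 1),1)] (.node [] (.node [] (.node [] .nil (.node [(8,(.negSucc 0),1)] .nil .nil)) (.node [] .nil (.node [(0,(.negSucc 0),1),(1,(.negSucc 1),1),(2,(.negSucc 2),1),(3,(.negSucc 1),1),(4,(.negSucc 0),2)] .nil .nil))) (.node [] (.node [] .nil (.node [(13,(.ofNat 1),1)] .nil .nil)) .nil)) (.node [] .nil (.node [] (.node [] .nil (.node [(20,(.ofNat 1),1)] .nil .nil)) .nil)))))
noncomputable def ex1 : Trie (List (ℕ × ℤ × ℕ)) := (.node [] (.node [] (.node [] (.node [] (.node [] (.node [] .nil (.node [(7,(.ofNat 1),1)] .nil .nil)) (.node [] .nil (.node [(23,(.negSucc 0),1)] .nil .nil))) .nil) (.node [] (.node [] (.node [] .nil (.node [(10,(.ofNat 1),1)] .nil .nil)) .nil) (.node [] (.node [] .nil (.node [(16,(.negSucc 0),1)] .nil .nil)) .nil))) (.node [(5,(.ofNat 1),1)] (.node [] (.node [] (.node [] .nil (.node [(8,(.negSucc 0),1)] .nil .nil)) (.node [] .nil (.node [(0,(.negSucc 0),1),(1,(.negSucc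 1),1),(2,(.negSucc 2),1),(3,(.negSucc 0),1),(5,(.negSucc 0),2)] .nil .nil))) .nil) .nil)) (.node [] (.node [] (.node [] (.node [] .nil (.node [] .nil (.node [(26,(.negSucc 0),1)] .nil .nil))) (.node [] (.node [] .nil (.node [(12,(.negSucc 0),1)] .nil .nil)) .nil)) (.node [] .nil (.node [] (.node [] .nil (.node [(19,(.negSucc 0),1)] .nil .nil)) (.node [(6,(.ofNat 1),1)] .nil .nil)))) (.node [(5,(.negSucc 0),1)] (.node [] (.node [] .nil (.node [] .nil (.node [(28,(.negSucc 0),1)] .nil .nil))) (.node [] (.node [] .nil (.node [(14,(.ofNat 1),1)] .nil .nil)) (.node [(4,(.ofNat 1),1)] .nil .nil))) (.node [] (.node [] (.node [] .nil (.node [(11,(.ofNat 1),1)] .nil .nil)) .nil) (.node [] (.node [] .nil (.node [(21,(.ofNat 1),1)] .nil .nil)) .nil)))))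
noncomputable def ex2 : Trie (List (ℕ × ℤ × ℕ)) := (.node [] (.node [] (.node [] (.node [] (.node [] .nil (.node [] .nil (.node [(24,(.negSucc 0),1)] .nil .nil))) .nil) (.node [] .nil (.node [] (.node [] .nil (.node [(17,(.negSucc 0),1)] .nil .nil)) .nil))) (.node [(6,(.negSucc 0),1)] (.node [] (.node [] (.node [] .nil (.node [(9,(.negSucc 0),1)] .nil .nil)) (.node [] .nil (.node [(29,(.negSucc 0),1)] .nil .nil))) (.node [] (.node [] .nil (.node [(14,(.ofNat 1),1)] .nil .nil)) (.node [(5,(.ofNat 1),1)] .nil .nil))) (.node [] (.node [] (.node [] .nil (.node [(11,(.ofNat 1),1)] .nil .nil)) .nil) (.node [] (.node [] .nil (.node [(21,(.ofNat 1),1)] .nil .nil)) .nil)))) (.node [(6,(.ofNat 2),1)] (.node [] (.node [] (.node [] .nil (.node [] .nil (.node [(0,(.negSucc 0),1),(1,(.negSucc 1),1),(2,(.negSucc 1),1),(3,(.negSucc 0),1),(6,(.negSucc 0),2)] .nil .nil))) (.node [] (.node [] .nil (.node [(13,(.negSucc 0),1)] .nil .nil)) (.node [(4,(.ofNat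 1),1)] .nil .nil))) (.node [] .nil (.node [] (.node [] .nil (.node [(20,(.negSucc 0),1)] .nil .nil)) .nil))) (.node [] (.node [] (.node [] (.node [] .nil (.node [(10,(.ofNat 1),1)] .nil .nil)) (.node [] .nil (.node [(30,(.negSucc 0),1)] .nil .nil))) .nil) (.node [] .nil (.node [] .nil (.node [(7,(.ofNat 1),1)] .nil .nil))))))
noncomputable def ex3 : Trie (List (ℕ × ℤ × ℕ)) := (.node [(7,(.ofNat 1),1)] (.node [] (.node [] (.node [] (.node [] (.node [] .nil (.node [(9,(.negSucc 1),1)] .nil .nil)) (.node [] .nil (.node [(0,(.negSucc 1),1),(1,(.negSucc 2),1),(2,(.negSucc 3),1),(3,(.negSucc 1),1),(7,(.negSucc 0),2)] .nil .nil))) (.node [] (.node [] .nil (.node [(14,(.ofNat 1),1)] .nil .nil)) (.node [(6,(.ofNat 2),1)] .nil .nil))) (.node [] .nil (.node [] (.node [] .nil (.node [(18,(.negSucc 0),1)] .nil .nil)) .nil))) (.node [] (.node [] (.node [] .nil (.node [] .nil (.node [(32,(.negSucc 0),1),(9,(.ofNat 1),2)] .nil .nil))) (.node [] (.node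 [] .nil (.node [(16,(.ofNat 1),1)] .nil .nil)) .nil)) (.node [] (.node [] (.node [] .nil (.node [(12,(.ofNat 1),1)] .nil .nil)) (.node [(4,(.ofNat 2),1)] .nil .nil)) (.node [] (.node [] .nil (.node [(23,(.ofNat 1),1),(5,(.ofNat 1),2)] .nil .nil)) .nil)))) (.node [] (.node [] (.node [] (.node [] (.node [] .nil (.node [(10,(.ofNat 2),1)] .nil .nil)) (.node [] .nil (.node [(31,(.negSucc 0),1),(8,(.negSucc 0),2)] .nil .nil))) (.node [] (.node [] .nil (.node [(15,(.negSucc 0),1)] .nil .nil)) .nil)) (.node [] (.node [] (.node [] .nil (.node [(11,(.ofNat 1),1)] .nil .nil)) .nil) (.node [] (.node [] .nil (.node [(22,(.negSucc 0),1),(4,(.negSucc 0),2)] .nil .nil)) .nil))) (.node [] (.node [] (.node [] .nil (.node [] .nil (.node [(33,(.negSucc 0),1),(10,(.negSucc 0),2)] .nil .nil))) (.node [] (.node [] .nil (.node [(17,(.negSucc 0),1)] .nil .nil)) .nil)) (.node [] (.node [] (.node [] .nil (.node [(13,(.negSucc 0),1)] .nil .nil)) (.node [(5,(.ofNat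 2),1)] .nil .nil)) (.node [] (.node [] .nil (.node [(24,(.negSucc 0),1),(6,(.negSucc 0),2)] .nil .nil)) (.node [(8,(.ofNat 2),1)] .nil .nil))))))
noncomputable def ex4 : Trie (List (ℕ × ℤ × ℕ)) := (.node [(8,(.ofNat 2),1)] (.node [] (.node [] (.node [] (.node [] .nil (.node [] .nil (.node [(31,(.negSucc 0),1)] .nil .nil))) (.node [] (.node [] .nil (.node [(16,(.ofNat 1),1)] .nil .nil)) (.node [(7,(.ofNat 1),1)] .nil .nil))) (.node [] (.node [] .nil (.node [(4,(.negSucc 0),1)] .nil .nil)) .nil)) (.node [(8,(.ofNat 1),1)] (.node [] (.node [] .nil (.node [] .nil (.node [(34,(.ofNat 1),1)] .nil .nil))) .nil) (.node [] .nil (.node [] (.node [] .nil (.node [(26,(.negSucc 0),1)] .nil .nil)) (.node [(10,(.negSucc 0),1)] .nil .nil))))) (.node [(8,(.negSucc 1),1)] (.node [] .nil (.node [] (.node [] (.node [] .nil (.node [(12,(.ofNat 1),1)] .nil .nil)) (.node [(5,(.negSucc 0),1)] .nil .nil)) (.node [] (.node [] .nil (.node [(25,(.ofNat 1),1)] .nil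 .nil)) (.node [(9,(.ofNat 1),1)] .nil .nil)))) (.node [] (.node [] (.node [] .nil (.node [] .nil (.node [(35,(.ofNat 1),1)] .nil .nil))) (.node [] (.node [] .nil (.node [(18,(.negSucc 0),1)] .nil .nil)) .nil)) (.node [] (.node [] (.node [] .nil (.node [(15,(.negSucc 0),1)] .nil .nil)) .nil) (.node [] (.node [] .nil (.node [(0,(.negSucc 0),1),(1,(.negSucc 0),1),(2,(.negSucc 1),1),(3,(.negSucc 0),1),(8,(.negSucc 0),2)] .nil .nil)) .nil)))))
noncomputable def ex5 : Trie (List (ℕ × ℤ × ℕ)) := (.node [(9,(.ofNat 2),1)] (.node [] (.node [] (.node [] (.node [] .nil (.node [] .nil (.node [(32,(.ofNat 1),1)] .nil .nil))) (.node [] (.node [] .nil (.node [(17,(.ofNat 1),1)] .nil .nil)) .nil)) (.node [] .nil (.node [] .nil (.node [(10,(.ofNat 1),1)] .nil .nil)))) (.node [(9,(.negSucc 0),1)] (.node [] .nil (.node [] (.node [] .nil (.node [(18,(.negSucc 0),1)] .nil .nil)) (.node [(8,(.ofNat 1),1)] .nil .nil))) (.node [] (.node [] (.node [] .nil (.node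 [(15,(.negSucc 0),1)] .nil .nil)) .nil) (.node [] (.node [] .nil (.node [(0,(.negSucc 0),1),(1,(.negSucc 0),1),(2,(.negSucc 0),1),(3,(.negSucc 0),1),(9,(.negSucc 0),2)] .nil .nil)) .nil)))) (.node [] (.node [] (.node [] (.node [] .nil (.node [] .nil (.node [(34,(.ofNat 1),1)] .nil .nil))) (.node [] .nil .nil)) (.node [] (.node [] (.node [] .nil (.node [(13,(.ofNat 1),1)] .nil .nil)) (.node [(6,(.negSucc 0),1)] .nil .nil)) (.node [] (.node [] .nil (.node [(27,(.negSucc 0),1)] .nil .nil)) .nil))) (.node [(9,(.ofNat 1),1)] (.node [] (.node [] .nil (.node [(4,(.ofNat 1),1)] .nil (.node [(36,(.negSucc 0),1)] .nil .nil))) .nil) (.node [] (.node [] .nil (.node [(7,(.negSucc 0),1)] .nil .nil)) (.node [] (.node [] .nil (.node [(29,(.negSucc 0),1)] .nil .nil)) .nil)))))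
noncomputable def ex6 : Trie (List (ℕ × ℤ × ℕ)) := (.node [(10,(.ofNat 2),1)] (.node [] (.node [] (.node [] (.node [] .nil (.node [] .nil (.node [(33,(.negSucc 0),1)] .nil .nil))) .nil) (.node [] (.node [] .nil (.node [(6,(.ofNat 1),1)] .nil .nil)) .nil)) (.node [] (.node [] (.node [] .nil (.node [] .nil (.node [(36,(.negSucc 0),1)] .nil .nil))) (.node [] .nil .nil)) (.node [] (.node [] (.node [] .nil (.node [(16,(.negSucc 0),1)] .nil .nil)) (.node [(7,(.ofNat 1),1)] .nil .nil)) (.node [] (.node [] .nil (.node [(28,(.negSucc 0),1)] .nil .nil)) .nil)))) (.node [] (.node [] (.node [] (.node [] .nil (.node [] .nil (.node [(35,(.negSucc 0),1)] .nil .nil))) (.node [] (.node [] .nil (.node [(18,(.negSucc 0),1)] .nil .nil)) (.node [(8,(.negSucc 0),1)] .nil .nil))) (.node [] (.node [] (.node [] .nil (.node [(14,(.ofNat 1),1)] .nil .nil)) .nil) (.node [] (.node [] .nil (.node [(0,(.negSucc 0),1),(1,(.negSucc 0),1),(2,(.negSucc 0),1),(10,(.negSucc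 0),2)] .nil .nil)) .nil))) (.node [(10,(.negSucc 0),1)] (.node [] (.node [] .nil (.node [(5,(.ofNat 1),1)] .nil .nil)) (.node [] .nil (.node [(9,(.ofNat 1),1)] .nil .nil))) (.node [] (.node [] (.node [] .nil (.node [(17,(.ofNat 1),1)] .nil .nil)) .nil) (.node [] (.node [] .nil (.node [(30,(.ofNat 1),1)] .nil .nil)) .nil)))))
noncomputable def ex7 : Trie (List (ℕ × ℤ × ℕ)) := (.node [(11,(.negSucc 0),1)] (.node [] (.node [] (.node [] (.node [] (.node [] .nil (.node [(13,(.negSucc 0),1)] .nil .nil)) (.node [(5,(.ofNat 2),1)] .nil (.node [(37,(.negSucc 0),1)] .nil .nil))) (.node [] (.node [] .nil (.node [(21,(.negSucc 1),1)] .nil .nil)) .nil)) (.node [] (.node [] (.node [] .nil (.node [(17,(.ofNat 1),1),(6,(.ofNat 1),2)] .nil .nil)) .nil) (.node [] (.node [] .nil (.node [(0,(.negSucc 0),1),(1,(.negSucc 2),1),(2,(.negSucc 3),1),(3,(.negSucc 1),1),(11,(.negSucc 0),2)] .nil .nil)) .nil))) (.node [] (.node [] (.node [] (.node [] .nil (.node [(15,(.ofNat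 1),1),(4,(.ofNat 1),2)] .nil .nil)) (.node [(7,(.ofNat 1),1)] .nil (.node [(39,(.negSucc 0),1),(20,(.negSucc 0),2)] .nil .nil))) (.node [] (.node [] .nil (.node [(23,(.ofNat 1),1)] .nil .nil)) .nil)) (.node [] (.node [] (.node [] .nil (.node [(19,(.negSucc 1),1)] .nil .nil)) .nil) .nil))) (.node [(11,(.ofNat 1),1)] (.node [] (.node [] (.node [] (.node [] .nil (.node [(14,(.ofNat 1),1)] .nil .nil)) (.node [(6,(.ofNat 2),1)] .nil (.node [(38,(.negSucc 0),1),(19,(.ofNat 1),2)] .nil .nil))) (.node [] (.node [] .nil (.node [(22,(.negSucc 0),1)] .nil .nil)) .nil)) .nil) (.node [] (.node [] (.node [] (.node [] .nil (.node [(16,(.negSucc 0),1),(5,(.negSucc 0),2)] .nil .nil)) (.node [] .nil (.node [(40,(.negSucc 0),1),(21,(.ofNat 1),2)] .nil .nil))) (.node [] (.node [] .nil (.node [(24,(.negSucc 0),1)] .nil .nil)) .nil)) (.node [] (.node [] (.node [] .nil (.node [(20,(.ofNat 2),1)] .nil .nil)) .nil) (.node [(4,(.ofNat 2),1)] .nil (.node [(12,(.ofNat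 1),1)] .nil .nil))))))
noncomputable def ex8 : Trie (List (ℕ × ℤ × ℕ)) := (.node [] (.node [] (.node [] (.node [] (.node [] (.node [] .nil (.node [(15,(.ofNat 1),1)] .nil .nil)) (.node [] .nil (.node [(38,(.negSucc 0),1)] .nil .nil))) (.node [] (.node [] .nil (.node [(23,(.negSucc 0),1)] .nil .nil)) (.node [(11,(.ofNat 1),1)] .nil .nil))) (.node [] (.node [] (.node [] .nil (.node [(18,(.ofNat 1),1),(8,(.ofNat 1),2)] .nil .nil)) .nil) (.node [] (.node [] .nil (.node [(31,(.negSucc 0),1)] .nil .nil)) .nil))) (.node [(12,(.ofNat 1),1)] (.node [] (.node [] .nil (.node [(8,(.ofNat 2),1)] .nil (.node [(41,(.ofNat 1),1),(25,(.ofNat 1),2)] .nil .nil))) (.node [] (.node [] .nil (.node [(26,(.negSucc 1),1)] .nil .nil)) .nil)) (.node [] .nil (.node [(5,(.negSucc 1),1)] .nil (.node [(14,(.negSucc 0),1),(5,(.ofNat 1),2)] .nil .nil))))) (.node [(12,(.negSucc 0),1)] (.node [] (.node [] (.node [] (.node [] .nil (.node [(16,(.negSucc 0),1)] .nil .nil))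 (.node [(7,(.ofNat 1),1)] .nil .nil)) (.node [] (.node [] .nil (.node [(25,(.ofNat 2),1)] .nil .nil)) .nil)) (.node [] (.node [] (.node [] .nil (.node [(19,(.negSucc 1),1)] .nil .nil)) .nil) (.node [(4,(.negSucc 1),1)] .nil (.node [(13,(.ofNat 1),1),(4,(.negSucc 0),2)] .nil .nil)))) (.node [] (.node [] (.node [] .nil (.node [] .nil (.node [(42,(.ofNat 1),1),(26,(.negSucc 0),2)] .nil .nil))) (.node [] (.node [] .nil (.node [(0,(.negSucc 0),1),(1,(.negSucc 1),1),(2,(.negSucc 3),1),(3,(.negSucc 1),1),(12,(.negSucc 0),2)] .nil .nil)) .nil)) (.node [] (.node [] (.node [] .nil (.node [(22,(.ofNat 1),1)] .nil .nil)) .nil) (.node [] (.node [] .nil (.node [(37,(.negSucc 0),1),(19,(.ofNat 1),2)] .nil .nil)) .nil)))))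
noncomputable def ex9 : Trie (List (ℕ × ℤ × ℕ)) := (.node [] (.node [] (.node [] (.node [] (.node [] .nil (.node [(7,(.negSucc 0),1)] .nil (.node [(39,(.ofNat 1),1)] .nil .nil))) (.node [] (.node [] .nil (.node [(24,(.negSucc 0),1)] .nil .nil)) .nil)) (.node [] .nil (.node [(4,(.ofNat 2),1)] (.node [] .nil (.node [(32,(.ofNat 1),1)] .nil .nil)) (.node [(14,(.ofNat 1),1),(6,(.negSucc 0),2)] .nil .nil)))) (.node [(13,(.negSucc 0),1)] (.node [] (.node [] .nil (.node [(9,(.ofNat 2),1)] .nil .nil)) (.node [] (.node [] .nil (.node [(0,(.negSucc 0),1),(1,(.negSucc 1),1),(2,(.negSucc 1),1),(3,(.negSucc 1),1),(13,(.negSucc 0),2)] .nil .nil)) (.node [(12,(.ofNat 1),1),(4,(.ofNat 1),2)] .nil .nil))) (.node [] (.node [] (.node [] .nil (.node [(22,(.ofNat 1),1)] .nil .nil)) .nil) (.node [(6,(.negSucc 1),1)] (.node [] .nil (.node [(37,(.negSucc 0),1),(20,(.ofNat 1),2)] .nil .nil)) .nil)))) (.node [(13,(.ofNat 1),1)] (.node [] (.node [] (.node [] (.node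 [] .nil (.node [(17,(.negSucc 0),1)] .nil .nil)) (.node [] .nil (.node [(41,(.ofNat 1),1),(27,(.negSucc 0),2)] .nil .nil))) (.node [] (.node [] .nil (.node [(27,(.negSucc 1),1)] .nil .nil)) .nil)) (.node [] (.node [] (.node [] .nil (.node [(20,(.negSucc 1),1)] .nil .nil)) .nil) (.node [] .nil .nil))) (.node [(13,(.ofNat 1),1)] (.node [] (.node [] (.node [] .nil (.node [(18,(.ofNat 1),1),(9,(.ofNat 1),2)] .nil .nil)) (.node [] .nil (.node [(43,(.negSucc 0),1),(29,(.ofNat 1),2)] .nil .nil))) (.node [] (.node [] .nil (.node [(29,(.negSucc 1),1)] .nil .nil)) .nil)) (.node [] (.node [] .nil (.node [(11,(.negSucc 0),1)] .nil .nil)) (.node [] .nil (.node [(15,(.ofNat 1),1)] .nil .nil))))))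
noncomputable def ex10 : Trie (List (ℕ × ℤ × ℕ)) := (.node [] (.node [] (.node [] (.node [] (.node [] (.node [] .nil (.node [(17,(.negSucc 0),1)] .nil .nil)) (.node [] .nil (.node [(40,(.negSucc 0),1)] .nil .nil))) .nil) (.node [] .nil (.node [(5,(.ofNat 2),1)] (.node [] .nil (.node [(33,(.negSucc 0),1)] .nil .nil)) .nil))) (.node [] (.node [] (.node [] (.node [] .nil (.node [(18,(.ofNat 1),1),(10,(.ofNat 1),2)] .nil .nil)) (.node [(10,(.ofNat 2),1)] .nil (.node [(43,(.negSucc 0),1),(30,(.negSucc 0),2)] .nil .nil))) (.node [] (.node [] .nil (.node [(28,(.negSucc 1),1)] .nil .nil)) .nil)) (.node [] (.node [] (.node [] .nil (.node [(23,(.ofNat 1),1)] .nil .nil)) (.node [(11,(.ofNat 1),1)] .nil .nil)) (.node [] .nil .nil)))) (.node [(14,(.ofNat 1),1)] (.node [] (.node [] (.node [] .nil (.node [] .nil (.node [(42,(.negSucc 0),1),(28,(.ofNat 1),2)] .nil .nil))) (.node [] (.node [] .nil (.node [(0,(.negSucc 0),1),(1,(.negSucc 1),1),(2,(.negSucc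 1),1),(14,(.negSucc 0),2)] .nil .nil)) (.node [(12,(.negSucc 0),1),(5,(.negSucc 0),2)] .nil .nil))) (.node [] (.node [] (.node [] .nil (.node [(21,(.negSucc 1),1)] .nil .nil)) .nil) (.node [(6,(.ofNat 2),1)] (.node [] .nil (.node [(37,(.negSucc 0),1),(21,(.ofNat 1),2)] .nil .nil)) .nil))) (.node [(14,(.negSucc 0),1)] (.node [] .nil (.node [] (.node [] .nil (.node [(30,(.ofNat 2),1)] .nil .nil)) (.node [(13,(.ofNat 1),1),(6,(.ofNat 1),2)] .nil .nil))) (.node [] (.node [] (.node [] .nil (.node [(24,(.negSucc 0),1)] .nil .nil)) .nil) (.node [(7,(.ofNat 1),1)] .nil (.node [(16,(.ofNat 1),1)] .nil .nil))))))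
noncomputable def ex11 : Trie (List (ℕ × ℤ × ℕ)) := (.node [(15,(.ofNat 1),1)] (.node [] (.node [] (.node [] (.node [] .nil (.node [(8,(.negSucc 1),1)] .nil (.node [(41,(.ofNat 1),1)] .nil .nil))) (.node [] (.node [] .nil (.node [(0,(.negSucc 0),1),(1,(.negSucc 0),1),(2,(.negSucc 1),1),(3,(.negSucc 1),1),(15,(.negSucc 0),2)] .nil .nil)) (.node [(13,(.ofNat 1),1)] .nil .nil))) (.node [] .nil (.node [] (.node [] .nil (.node [(34,(.negSucc 1),1)] .nil .nil)) (.node [(16,(.ofNat 1),1),(8,(.negSucc 0),2)] .nil .nil)))) (.node [] (.node [] .nil (.node [] (.node [] .nil (.node [(31,(.negSucc 0),1)] .nil .nil)) .nil)) (.node [] (.node [] (.node [] .nil (.node [(25,(.negSucc 1),1)] .nil .nil)) .nil) (.node [(7,(.negSucc 0),1)] (.node [] .nil (.node [(38,(.ofNat 1),1),(25,(.negSucc 0),2)] .nil .nil)) (.node [(17,(.ofNat 1),1),(9,(.negSucc 0),2)] .nil .nil))))) (.node [(15,(.negSucc 0),1)] (.node [] (.node [] (.node [] (.node [] .nil (.node [(18,(.ofNat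 1),1)] .nil .nil)) (.node [(9,(.negSucc 1),1)] .nil .nil)) .nil) (.node [] (.node [] (.node [] .nil (.node [(22,(.negSucc 0),1)] .nil .nil)) (.node [(11,(.ofNat 1),1),(4,(.negSucc 0),2)] .nil .nil)) .nil)) (.node [(15,(.ofNat 1),1)] (.node [] (.node [] .nil (.node [] .nil (.node [(44,(.ofNat 1),1),(34,(.negSucc 0),2)] .nil .nil))) (.node [(4,(.negSucc 1),1)] (.node [] .nil (.node [(32,(.negSucc 0),1)] .nil .nil)) .nil)) (.node [] (.node [] (.node [] .nil (.node [(27,(.negSucc 1),1)] .nil .nil)) (.node [(12,(.ofNat 1),1)] .nil .nil)) (.node [] (.node [] .nil (.node [(39,(.ofNat 1),1),(27,(.negSucc 0),2)] .nil .nil)) .nil)))))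
noncomputable def ex12 : Trie (List (ℕ × ℤ × ℕ)) := (.node [(16,(.ofNat 1),1)] (.node [] (.node [] (.node [] (.node [] (.node [] .nil (.node [(18,(.ofNat 1),1)] .nil .nil)) (.node [] .nil (.node [(42,(.negSucc 0),1)] .nil .nil))) (.node [] (.node [] .nil (.node [(28,(.negSucc 1),1)] .nil .nil)) (.node [(14,(.ofNat 1),1)] .nil .nil))) (.node [] (.node [] .nil (.node [(11,(.negSucc 0),1),(5,(.ofNat 1),2)] .nil .nil)) (.node [] (.node [] .nil (.node [(35,(.ofNat 2),1)] .nil .nil)) .nil))) (.node [(16,(.ofNat 1),1)] (.node [] (.node [] .nil (.node [] .nil (.node [(44,(.ofNat 1),1),(35,(.ofNat 1),2)] .nil .nil))) .nil) (.node [] (.node [] (.node [] .nil (.node [(26,(.negSucc 1),1)] .nil .nil)) (.node [(12,(.negSucc 0),1)] .nil .nil)) .nil))) (.node [(16,(.negSucc 0),1)] (.node [] (.node [] (.node [] .nil (.node [(10,(.negSucc 1),1)] .nil .nil)) (.node [] (.node [] .nil (.node [(31,(.negSucc 0),1)] .nil .nil)) .nil)) (.node [] (.node [] (.node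 [] .nil (.node [(23,(.negSucc 0),1)] .nil .nil)) .nil) (.node [(7,(.ofNat 1),1)] (.node [] .nil (.node [(38,(.ofNat 1),1),(26,(.negSucc 0),2)] .nil .nil)) (.node [(17,(.ofNat 1),1),(10,(.negSucc 0),2)] .nil .nil)))) (.node [(16,(.negSucc 0),1)] (.node [] .nil (.node [(5,(.negSucc 1),1)] (.node [] .nil (.node [(33,(.ofNat 1),1)] .nil .nil)) (.node [(15,(.ofNat 1),1),(8,(.ofNat 1),2)] .nil .nil))) (.node [] (.node [] (.node [] .nil (.node [(0,(.negSucc 0),1),(1,(.negSucc 0),1),(2,(.negSucc 1),1),(16,(.negSucc 0),2)] .nil .nil)) .nil) (.node [(8,(.ofNat 2),1)] (.node [] .nil (.node [(40,(.negSucc 0),1),(28,(.ofNat 1),2)] .nil .nil)) .nil)))))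
noncomputable def ex13 : Trie (List (ℕ × ℤ × ℕ)) := (.node [(17,(.ofNat 1),1)] (.node [] (.node [] (.node [] (.node [] .nil (.node [(10,(.ofNat 2),1)] .nil (.node [(43,(.ofNat 1),1)] .nil .nil))) (.node [] (.node [] .nil (.node [(30,(.negSucc 1),1)] .nil .nil)) .nil)) (.node [] .nil (.node [(7,(.negSucc 0),1)] (.node [] .nil (.node [(36,(.negSucc 1),1)] .nil .nil)) .nil))) (.node [(17,(.negSucc 0),1)] (.node [] .nil (.node [] (.node [] .nil (.node [(33,(.ofNat 1),1)] .nil .nil)) (.node [(16,(.ofNat 1),1),(10,(.ofNat 1),2)] .nil .nil))) (.node [] (.node [] (.node [] .nil (.node [(0,(.negSucc 0),1),(1,(.negSucc 0),1),(17,(.negSucc 0),2)] .nil .nil)) (.node [(13,(.negSucc 0),1)] .nil .nil)) (.node [] (.node [] .nil (.node [(40,(.negSucc 0),1),(30,(.ofNat 1),2)] .nil .nil)) .nil)))) (.node [(17,(.ofNat 1),1)] (.node [] (.node [] (.node [] .nil (.node [] .nil (.node [(44,(.ofNat 1),1),(36,(.negSucc 0),2)] .nil .nil))) (.node [] (.node [] .nil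 (.node [(32,(.ofNat 1),1)] .nil .nil)) (.node [(15,(.ofNat 1),1),(9,(.ofNat 1),2)] .nil .nil))) (.node [] (.node [] (.node [] .nil (.node [(24,(.negSucc 0),1)] .nil .nil)) .nil) (.node [] (.node [] .nil (.node [(39,(.negSucc 0),1),(29,(.ofNat 1),2)] .nil .nil)) .nil))) (.node [] (.node [] (.node [] .nil (.node [(11,(.ofNat 1),1),(6,(.negSucc 0),2)] .nil .nil)) (.node [(6,(.negSucc 1),1)] .nil .nil)) (.node [] (.node [] (.node [] .nil (.node [(29,(.negSucc 1),1)] .nil .nil)) (.node [(14,(.negSucc 0),1)] .nil .nil)) (.node [(9,(.ofNat 2),1)] .nil (.node [(18,(.ofNat 1),1)] .nil .nil))))))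
noncomputable def ex14 : Trie (List (ℕ × ℤ × ℕ)) := (.node [(18,(.ofNat 2),1)] (.node [] (.node [] (.node [] (.node [] .nil (.node [] .nil (.node [(44,(.ofNat 1),1)] .nil .nil))) (.node [] (.node [] .nil (.node [(33,(.negSucc 0),1)] .nil .nil)) (.node [(17,(.ofNat 1),1)] .nil .nil))) (.node [] (.node [] .nil (.node [(13,(.ofNat 1),1),(9,(.negSucc 0),2)] .nil .nil)) (.node [(8,(.negSucc 1),1)] .nil .nil))) (.node [] (.node [] (.node [] .nil (.node [] .nil .nil)) (.node [] (.node [] .nil (.node [(35,(.negSucc 1),1)] .nil .nil)) .nil)) (.node [] (.node [] (.node [] .nil (.node [(31,(.negSucc 0),1)] .nil .nil)) (.node [(15,(.ofNat 1),1)] .nil .nil)) (.node [(10,(.negSucc 1),1)] (.node [] .nil (.node [(42,(.ofNat 1),1),(35,(.negSucc 0),2)] .nil .nil)) .nil)))) (.node [(18,(.negSucc 0),1)] (.node [] (.node [] .nil (.node [] (.node [] .nil (.node [(34,(.negSucc 1),1)] .nil .nil)) .nil)) (.node [] (.node [] (.node [] .nil (.node [(0,(.negSucc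 0),1),(18,(.negSucc 0),2)] .nil .nil)) (.node [(14,(.ofNat 1),1),(10,(.negSucc 0),2)] .nil .nil)) (.node [(9,(.negSucc 1),1)] (.node [] .nil (.node [(41,(.ofNat 1),1),(34,(.negSucc 0),2)] .nil .nil)) .nil))) (.node [] (.node [] (.node [] .nil (.node [(12,(.ofNat 1),1),(8,(.negSucc 0),2)] .nil .nil)) (.node [(7,(.negSucc 0),1)] (.node [] .nil (.node [(36,(.negSucc 1),1)] .nil .nil)) .nil)) (.node [] (.node [] (.node [] .nil (.node [(32,(.negSucc 0),1)] .nil .nil)) (.node [(16,(.ofNat 1),1)] .nil .nil)) (.node [] (.node [] .nil (.node [(43,(.ofNat 1),1),(36,(.negSucc 0),2)] .nil .nil)) .nil)))))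
noncomputable def ex15 : Trie (List (ℕ × ℤ × ℕ)) := (.node [(19,(.negSucc 1),1)] (.node [] (.node [] (.node [] (.node [] (.node [] .nil (.node [(22,(.ofNat 1),1)] .nil .nil)) .nil) .nil) (.node [] (.node [] (.node [] .nil (.node [(1,(.negSucc 0),1),(2,(.negSucc 1),1),(3,(.negSucc 0),1),(19,(.negSucc 0),2)] .nil .nil)) .nil) (.node [] (.node [] .nil (.node [(38,(.ofNat 1),1)] .nil .nil)) .nil))) (.node [(19,(.ofNat 1),1)] (.node [] (.node [] (.node [] .nil (.node [(25,(.ofNat 1),1)] .nil .nil)) (.node [(12,(.negSucc 0),1)] .nil (.node [(45,(.ofNat 1),1)] .nil .nil))) (.node [(5,(.negSucc 0),1)] .nil .nil)) (.node [] .nil (.node [] .nil (.node [(21,(.negSucc 0),1)] .nil .nil))))) (.node [] (.node [] (.node [] (.node [] (.node [] .nil (.node [(23,(.negSucc 0),1)] .nil .nil)) (.node [(11,(.negSucc 0),1)] .nil .nil)) (.node [(4,(.negSucc 0),1)] .nil .nil)) (.node [] .nil (.node [] .nil (.node [(20,(.ofNat 1),1)] .nil .nil)))) (.node [] (.node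 [] (.node [] (.node [] .nil (.node [(26,(.negSucc 0),1)] .nil .nil)) (.node [] .nil (.node [(46,(.ofNat 1),1)] .nil .nil))) (.node [] (.node [] .nil (.node [(37,(.ofNat 1),1)] .nil .nil)) .nil)) .nil)))
noncomputable def ex16 : Trie (List (ℕ × ℤ × ℕ)) := (.node [(20,(.negSucc 1),1)] (.node [] (.node [] (.node [] (.node [] .nil (.node [(11,(.ofNat 1),1)] .nil .nil)) (.node [(4,(.ofNat 1),1)] .nil .nil)) (.node [] (.node [] (.node [] .nil (.node [(29,(.negSucc 0),1)] .nil .nil)) (.node [] .nil .nil)) (.node [] (.node [] .nil (.node [(39,(.negSucc 0),1)] .nil .nil)) (.node [(21,(.ofNat 1),1)] .nil .nil)))) (.node [(20,(.negSucc 0),1)] (.node [] (.node [] (.node [] .nil (.node [(27,(.negSucc 0),1)] .nil .nil)) (.node [(13,(.negSucc 0),1)] .nil .nil)) (.node [(6,(.negSucc 0),1)] (.node [] .nil (.node [(37,(.ofNat 1),1)] .nil .nil)) (.node [(19,(.ofNat 1),1)] .nil .nil))) .nil)) (.node [(20,(.ofNat 2),1)] (.node [] (.node [] (.node [] (.node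 [] .nil (.node [(24,(.negSucc 0),1)] .nil .nil)) (.node [] .nil (.node [(45,(.ofNat 1),1)] .nil .nil))) .nil) .nil) (.node [(20,(.ofNat 1),1)] (.node [] (.node [] (.node [] .nil (.node [(1,(.negSucc 0),1),(2,(.negSucc 0),1),(3,(.negSucc 0),1),(20,(.negSucc 0),2)] .nil .nil)) (.node [] .nil (.node [(47,(.negSucc 0),1)] .nil .nil))) .nil) (.node [] .nil (.node [] .nil (.node [(22,(.ofNat 1),1)] .nil .nil))))))
noncomputable def ex17 : Trie (List (ℕ × ℤ × ℕ)) := (.node [(21,(.negSucc 1),1)] (.node [] (.node [] (.node [] (.node [] (.node [] .nil (.node [(24,(.negSucc 0),1)] .nil .nil)) .nil) (.node [(5,(.ofNat 1),1)] .nil .nil)) (.node [] (.node [] (.node [] .nil (.node [(30,(.ofNat 1),1)] .nil .nil)) .nil) (.node [] (.node [] .nil (.node [(40,(.ofNat 1),1)] .nil .nil)) .nil))) (.node [] (.node [] (.node [] (.node [] .nil (.node [(1,(.negSucc 0),1),(2,(.negSucc 0),1),(21,(.negSucc 0),2)] .nil .nil)) (.node [(14,(.negSucc 0),1)] .nil (.node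 [(47,(.negSucc 0),1)] .nil .nil))) .nil) .nil)) (.node [(21,(.ofNat 2),1)] (.node [] (.node [] (.node [] .nil (.node [] .nil (.node [(46,(.negSucc 0),1)] .nil .nil))) (.node [(6,(.ofNat 1),1)] (.node [] .nil (.node [(37,(.ofNat 1),1)] .nil .nil)) (.node [(19,(.negSucc 0),1)] .nil .nil))) (.node [] (.node [] .nil (.node [] .nil .nil)) .nil)) (.node [(21,(.negSucc 0),1)] (.node [] (.node [] (.node [] .nil (.node [(28,(.negSucc 0),1)] .nil .nil)) .nil) (.node [] .nil (.node [(20,(.ofNat 1),1)] .nil .nil))) (.node [] .nil (.node [(11,(.negSucc 0),1)] .nil (.node [(23,(.ofNat 1),1)] .nil .nil))))))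
noncomputable def ex18 : Trie (List (ℕ × ℤ × ℕ)) := (.node [(22,(.negSucc 0),1)] (.node [] (.node [] (.node [] (.node [] (.node [] .nil (.node [(27,(.negSucc 1),1)] .nil .nil)) (.node [(12,(.ofNat 1),1)] .nil (.node [(45,(.ofNat 2),1)] .nil .nil))) (.node [] (.node [] .nil (.node [(37,(.ofNat 1),1)] .nil .nil)) (.node [(20,(.ofNat 2),1)] .nil .nil))) (.node [] (.node [] (.node [] .nil (.node [(32,(.negSucc 0),1),(27,(.ofNat 1),2)] .nil .nil)) .nil) (.node [] (.node [] .nil (.node [(41,(.ofNat 1),1)] .nil .nil)) (.node [(23,(.ofNat 1),1),(19,(.ofNat 1),2)] .nil .nil)))) (.node [] (.node [] (.node [] .nil (.node [(15,(.negSucc 0),1)] .nil .nil)) (.node [(7,(.negSucc 0),1),(4,(.ofNat 1),2)] (.node [] .nil (.node [(38,(.negSucc 0),1)] .nil .nil)) .nil)) (.node [] (.node [] .nil (.node [] .nil .nil)) (.node [(11,(.negSucc 0),1)] .nil (.node [(24,(.ofNat 1),1),(20,(.ofNat 1),2)] .nil .nil))))) (.node [] (.node [] (.node [] (.node [] (.node []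 .nil (.node [(1,(.negSucc 0),1),(2,(.negSucc 1),1),(3,(.negSucc 1),1),(22,(.negSucc 0),2)] .nil .nil)) (.node [(13,(.ofNat 1),1)] .nil .nil)) .nil) .nil) (.node [(22,(.ofNat 1),1)] (.node [] (.node [] (.node [] .nil (.node [(31,(.negSucc 0),1),(25,(.ofNat 1),2)] .nil .nil)) (.node [] .nil (.node [(48,(.ofNat 1),1),(45,(.ofNat 1),2)] .nil .nil))) (.node [] (.node [] .nil (.node [(39,(.negSucc 0),1)] .nil .nil)) .nil)) (.node [(4,(.negSucc 1),1)] (.node [] .nil (.node [(19,(.ofNat 2),1)] .nil .nil)) (.node [] .nil (.node [(25,(.negSucc 1),1)] .nil .nil))))))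
noncomputable def ex19 : Trie (List (ℕ × ℤ × ℕ)) := (.node [(23,(.negSucc 0),1)] (.node [] (.node [] (.node [] (.node [] (.node [] .nil (.node [(1,(.negSucc 0),1),(2,(.negSucc 1),1),(23,(.negSucc 0),2)] .nil .nil)) (.node [] .nil (.node [(46,(.negSucc 1),1)] .nil .nil))) (.node [] .nil (.node [(21,(.ofNat 2),1)] .nil .nil))) (.node [] (.node [] (.node [] .nil (.node [(33,(.ofNat 1),1),(28,(.negSucc 0),2)] .nil .nil)) .nil) (.node [] (.node [] .nil (.node [(42,(.negSucc 0),1)] .nil .nil)) .nil))) (.node [(23,(.ofNat 1),1)] (.node [] (.node [] (.node [] .nil (.node [(31,(.negSucc 0),1),(26,(.ofNat 1),2)] .nil .nil)) (.node [(16,(.negSucc 0),1)] .nil (.node [(48,(.ofNat 1),1),(46,(.negSucc 0),2)] .nil .nil))) .nil) (.node [] (.node [] .nil (.node [(19,(.negSucc 1),1)] .nil .nil)) .nil))) (.node [] (.node [] (.node [] (.node [] (.node [] .nil (.node [(28,(.negSucc 1),1)] .nil .nil)) (.node [(14,(.ofNat 1),1)] .nil .nil)) (.node [(7,(.ofNat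 1),1),(5,(.negSucc 0),2)] (.node [] .nil (.node [(38,(.negSucc 0),1)] .nil .nil)) .nil)) (.node [] .nil (.node [(11,(.ofNat 1),1)] .nil (.node [(24,(.ofNat 1),1),(21,(.ofNat 1),2)] .nil .nil)))) (.node [(23,(.negSucc 0),1)] (.node [] .nil (.node [] (.node [] .nil (.node [(40,(.ofNat 1),1)] .nil .nil)) (.node [(22,(.ofNat 1),1),(19,(.negSucc 0),2)] .nil .nil))) (.node [(5,(.negSucc 1),1)] (.node [] (.node [] .nil (.node [(37,(.ofNat 1),1)] .nil .nil)) (.node [] .nil .nil)) (.node [(12,(.negSucc 0),1)] .nil (.node [(26,(.negSucc 1),1)] .nil .nil))))))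
noncomputable def ex20 : Trie (List (ℕ × ℤ × ℕ)) := (.node [(24,(.negSucc 0),1)] (.node [] (.node [] (.node [] (.node [] (.node [] .nil (.node [(29,(.negSucc 1),1)] .nil .nil)) (.node [(14,(.negSucc 0),1)] .nil (.node [(47,(.ofNat 2),1)] .nil .nil))) (.node [(7,(.negSucc 0),1),(6,(.ofNat 1),2)] .nil (.node [] .nil .nil))) (.node [] .nil (.node [(11,(.negSucc 0),1)] (.node [] .nil (.node [(43,(.ofNat 1),1)] .nil .nil)) .nil))) (.node [(24,(.negSucc 0),1)] (.node [] (.node [] (.node [] .nil (.node [(32,(.ofNat 1),1),(29,(.negSucc 0),2)] .nil .nil)) (.node [(17,(.negSucc 0),1)] .nil .nil)) (.node [] (.node [] .nil (.node [(40,(.ofNat 1),1)] .nil .nil)) (.node [(23,(.ofNat 1),1),(21,(.negSucc 0),2)] .nil .nil))) (.node [] (.node [] (.node [] .nil (.node [(37,(.ofNat 1),1)] .nil .nil)) (.node [(20,(.negSucc 1),1)] .nil .nil)) .nil))) (.node [(24,(.ofNat 2),1)] (.node [] (.node [] (.node [] (.node [] .nil (.node [(30,(.negSucc 1),1)] .nil .nil))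 (.node [] .nil (.node [(48,(.ofNat 1),1),(47,(.ofNat 1),2)] .nil .nil))) (.node [] (.node [] .nil (.node [(39,(.ofNat 1),1)] .nil .nil)) (.node [(22,(.ofNat 1),1),(20,(.negSucc 0),2)] .nil .nil))) .nil) (.node [] (.node [] (.node [] (.node [] .nil (.node [(33,(.ofNat 1),1),(30,(.negSucc 0),2)] .nil .nil)) .nil) .nil) (.node [(6,(.negSucc 1),1)] (.node [] .nil (.node [(21,(.negSucc 1),1)] .nil .nil)) (.node [(13,(.negSucc 0),1)] .nil (.node [(1,(.negSucc 0),1),(24,(.negSucc 0),2)] .nil .nil))))))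
noncomputable def ex21 : Trie (List (ℕ × ℤ × ℕ)) := (.node [] (.node [] (.node [] (.node [] .nil (.node [] (.node [] .nil (.node [(38,(.ofNat 1),1)] .nil .nil)) (.node [(22,(.negSucc 0),1)] .nil .nil))) (.node [] (.node [] (.node [] .nil (.node [(34,(.negSucc 0),1)] .nil .nil)) .nil) (.node [] .nil (.node [(26,(.ofNat 1),1)] .nil .nil)))) (.node [(25,(.ofNat 1),1)] (.node [] .nil (.node [(8,(.ofNat 1),1)] .nil .nil)) (.node [(4,(.negSucc 0),1)] .nil (.node [(12,(.ofNat 1),1)] .nil (.node [(2,(.negSucc 0),1),(3,(.negSucc 0),1),(25,(.negSucc 0),2)] .nil .nil))))) (.node [(25,(.negSucc 1),1)] (.node [] (.node [] (.node [] (.node [] .nil (.node [(31,(.ofNat 1),1)] .nil .nil)) (.node [(15,(.negSucc 0),1)] .nil .nil)) (.node [] .nil (.node [] .nil .nil))) (.node [] (.node [] .nil (.node [(19,(.ofNat 1),1)] .nil .nil)) (.node [] .nil (.node [(27,(.negSucc 0),1)] .nil .nil)))) (.node [(25,(.ofNat 1),1)] (.node [] (.node [] .nil (.node [] .nil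 (.node [(49,(.ofNat 1),1)] .nil .nil))) (.node [] (.node [] .nil (.node [(41,(.negSucc 0),1)] .nil .nil)) .nil)) (.node [] .nil (.node [] (.node [] .nil (.node [(45,(.negSucc 0),1)] .nil .nil)) .nil)))))
noncomputable def ex22 : Trie (List (ℕ × ℤ × ℕ)) := (.node [] (.node [] (.node [] (.node [] (.node [] (.node [] .nil (.node [(31,(.ofNat 1),1)] .nil .nil)) .nil) (.node [] .nil (.node [(23,(.negSucc 0),1)] .nil .nil))) (.node [] (.node [] (.node [] .nil (.node [(35,(.ofNat 1),1)] .nil .nil)) (.node [(19,(.negSucc 0),1)] .nil .nil)) .nil)) (.node [(26,(.ofNat 2),1)] (.node [] (.node [] .nil (.node [] .nil (.node [(49,(.ofNat 1),1)] .nil .nil))) (.node [] .nil (.node [] .nil .nil))) (.node [(5,(.negSucc 0),1)] .nil (.node [] .nil (.node [(28,(.negSucc 0),1)] .nil .nil))))) (.node [(26,(.negSucc 1),1)] (.node [] (.node [] (.node [] .nil (.node [(16,(.negSucc 0),1)] .nil .nil)) (.node [(8,(.negSucc 0),1)] .nil .nil)) (.node [] .nil (.node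 [(12,(.negSucc 0),1)] .nil (.node [(2,(.negSucc 0),1),(26,(.negSucc 0),2)] .nil .nil)))) (.node [(26,(.negSucc 0),1)] (.node [] .nil (.node [] (.node [] .nil (.node [(42,(.ofNat 1),1)] .nil .nil)) (.node [(25,(.ofNat 1),1)] .nil .nil))) (.node [] (.node [] (.node [] .nil (.node [(38,(.ofNat 1),1)] .nil .nil)) .nil) (.node [] (.node [] .nil (.node [(46,(.ofNat 1),1)] .nil .nil)) .nil)))))
noncomputable def ex23 : Trie (List (ℕ × ℤ × ℕ)) := (.node [] (.node [] (.node [] (.node [] (.node [] .nil (.node [(15,(.negSucc 0),1)] .nil .nil)) (.node [] (.node [] .nil (.node [(39,(.ofNat 1),1)] .nil .nil)) .nil)) (.node [] .nil (.node [] .nil (.node [(3,(.negSucc 0),1),(27,(.negSucc 0),2)] .nil .nil)))) (.node [(27,(.negSucc 0),1)] (.node [] .nil (.node [(9,(.negSucc 0),1)] (.node [] .nil (.node [(41,(.ofNat 1),1)] .nil .nil)) (.node [(25,(.negSucc 0),1)] .nil .nil))) (.node [] .nil (.node [(13,(.negSucc 0),1)] (.node [] .nil (.node [(45,(.ofNat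 1),1)] .nil .nil)) (.node [(29,(.ofNat 1),1)] .nil .nil))))) (.node [] (.node [] (.node [] (.node [] (.node [] .nil (.node [(32,(.ofNat 1),1)] .nil .nil)) .nil) .nil) (.node [(4,(.negSucc 0),1)] (.node [] .nil (.node [(20,(.negSucc 0),1)] .nil .nil)) .nil)) (.node [(27,(.ofNat 2),1)] (.node [] (.node [] (.node [] .nil (.node [(34,(.ofNat 1),1)] .nil .nil)) (.node [] .nil (.node [(50,(.ofNat 1),1)] .nil .nil))) (.node [] .nil (.node [] .nil .nil))) (.node [] (.node [] .nil (.node [(22,(.negSucc 0),1)] .nil .nil)) .nil))))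
noncomputable def ex24 : Trie (List (ℕ × ℤ × ℕ)) := (.node [] (.node [] (.node [] (.node [] (.node [] (.node [] .nil (.node [(33,(.ofNat 1),1)] .nil .nil)) .nil) .nil) (.node [(5,(.negSucc 0),1)] (.node [] .nil (.node [(21,(.negSucc 0),1)] .nil .nil)) (.node [] .nil (.node [] .nil .nil)))) (.node [(28,(.ofNat 1),1)] (.node [] (.node [] (.node [] .nil (.node [(35,(.ofNat 1),1)] .nil .nil)) (.node [] .nil (.node [(51,(.ofNat 1),1)] .nil .nil))) .nil) (.node [] (.node [] .nil (.node [(23,(.negSucc 0),1)] .nil .nil)) .nil))) (.node [] (.node [] (.node [] .nil (.node [(10,(.negSucc 0),1)] (.node [] .nil (.node [(42,(.ofNat 1),1)] .nil .nil)) (.node [(26,(.negSucc 0),1)] .nil .nil))) (.node [] .nil (.node [(14,(.negSucc 0),1)] (.node [] .nil (.node [(46,(.ofNat 1),1)] .nil .nil)) (.node [(30,(.ofNat 1),1)] .nil .nil)))) (.node [(28,(.negSucc 1),1)] (.node [] .nil (.node [] .nil (.node [(3,(.ofNat 1),1),(28,(.negSucc 0),2)] .nil .nil))) (.node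 [] (.node [] (.node [] .nil (.node [(40,(.ofNat 1),1)] .nil .nil)) .nil) (.node [(16,(.negSucc 0),1)] .nil .nil)))))
noncomputable def ex25 : Trie (List (ℕ × ℤ × ℕ)) := (.node [] (.node [] (.node [] (.node [] (.node [] .nil (.node [(17,(.negSucc 0),1)] .nil .nil)) (.node [(9,(.negSucc 0),1)] .nil .nil)) (.node [] .nil (.node [(13,(.negSucc 0),1)] .nil (.node [(30,(.negSucc 0),1)] .nil .nil)))) (.node [(29,(.negSucc 1),1)] (.node [] .nil (.node [] (.node [] .nil (.node [(43,(.ofNat 1),1)] .nil .nil)) (.node [(2,(.ofNat 1),1),(29,(.negSucc 0),2)] .nil .nil))) (.node [] (.node [] (.node [] .nil (.node [(39,(.ofNat 1),1)] .nil .nil)) .nil) (.node [] (.node [] .nil (.node [(47,(.ofNat 1),1)] .nil .nil)) .nil)))) (.node [(29,(.ofNat 2),1)] (.node [] (.node [] (.node [] .nil (.node [] .nil (.node [(50,(.ofNat 1),1)] .nil .nil))) (.node [] .nil (.node [(27,(.ofNat 1),1)] .nil .nil))) (.node [(6,(.negSucc 0),1)] .nil (.node [] .nil (.node [] .nil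 .nil)))) (.node [(29,(.ofNat 1),1)] (.node [] (.node [] (.node [] .nil (.node [(36,(.ofNat 1),1)] .nil .nil)) (.node [(20,(.negSucc 0),1)] .nil .nil)) .nil) (.node [] (.node [] .nil (.node [(24,(.negSucc 0),1)] .nil .nil)) (.node [] .nil (.node [(32,(.ofNat 1),1)] .nil .nil))))))
noncomputable def ex26 : Trie (List (ℕ × ℤ × ℕ)) := (.node [] (.node [] (.node [] (.node [] .nil (.node [(10,(.ofNat 1),1)] .nil .nil)) (.node [(6,(.negSucc 0),1)] .nil (.node [(14,(.ofNat 1),1)] .nil .nil))) (.node [(30,(.negSucc 0),1)] (.node [] (.node [] (.node [] .nil (.node [(36,(.negSucc 0),1)] .nil .nil)) .nil) (.node [] .nil (.node [(28,(.ofNat 1),1)] .nil .nil))) (.node [] (.node [] (.node [] .nil (.node [(40,(.ofNat 1),1)] .nil .nil)) (.node [(24,(.negSucc 0),1)] .nil .nil)) (.node [] .nil (.node [] .nil .nil))))) (.node [(30,(.ofNat 2),1)] (.node [] (.node [] (.node [] .nil (.node [] .nil (.node [(51,(.ofNat 1),1)] .nil .nil))) (.node [] (.node [] .nil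 (.node [(43,(.negSucc 0),1)] .nil .nil)) (.node [(2,(.ofNat 1),1),(3,(.ofNat 1),1),(30,(.negSucc 0),2)] .nil .nil))) (.node [] .nil (.node [] (.node [] .nil (.node [(47,(.negSucc 0),1)] .nil .nil)) .nil))) (.node [(30,(.negSucc 0),1)] (.node [] (.node [] .nil (.node [(21,(.ofNat 1),1)] .nil .nil)) (.node [] .nil (.node [(29,(.negSucc 0),1)] .nil .nil))) (.node [] .nil (.node [(17,(.negSucc 0),1)] .nil (.node [(33,(.ofNat 1),1)] .nil .nil))))))
noncomputable def ex27 : Trie (List (ℕ × ℤ × ℕ)) := (.node [(31,(.ofNat 1),1)] (.node [] (.node [] (.node [] (.node [] (.node [] .nil (.node [(34,(.ofNat 2),1)] .nil .nil)) (.node [] .nil (.node [(49,(.ofNat 2),1)] .nil .nil))) (.node [] (.node [] .nil (.node [(42,(.ofNat 1),1)] .nil .nil)) (.node [(1,(.ofNat 1),1),(31,(.negSucc 0),2)] .nil .nil))) (.node [] (.node [] .nil (.node [(22,(.negSucc 0),1),(25,(.negSucc 0),2)] .nil .nil)) .nil)) (.node [(31,(.ofNat 1),1)] .nil (.node [(7,(.negSucc 0),1),(8,(.ofNat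 1),2)] (.node [] .nil (.node [(25,(.ofNat 2),1)] .nil .nil)) (.node [(16,(.negSucc 0),1)] .nil (.node [(33,(.negSucc 0),1),(35,(.negSucc 0),2)] .nil .nil))))) (.node [(31,(.negSucc 1),1)] (.node [] (.node [] (.node [] (.node [] .nil (.node [(35,(.ofNat 2),1)] .nil .nil)) (.node [(18,(.negSucc 0),1)] .nil .nil)) .nil) (.node [] (.node [] (.node [] .nil (.node [(38,(.ofNat 1),1)] .nil .nil)) (.node [(23,(.negSucc 0),1),(26,(.negSucc 0),2)] .nil .nil)) (.node [(15,(.negSucc 0),1)] .nil (.node [(32,(.negSucc 0),1),(34,(.negSucc 0),2)] .nil .nil)))) (.node [] (.node [] .nil (.node [(12,(.negSucc 0),1)] (.node [] .nil (.node [(44,(.ofNat 1),1)] .nil .nil)) .nil)) (.node [(8,(.negSucc 1),1)] (.node [] (.node [] .nil (.node [(41,(.ofNat 1),1)] .nil .nil)) (.node [(26,(.ofNat 2),1)] .nil .nil)) (.node [] (.node [] .nil (.node [(48,(.ofNat 1),1),(49,(.ofNat 1),2)] .nil .nil)) (.node [] .nil .nil))))))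
noncomputable def ex28 : Trie (List (ℕ × ℤ × ℕ)) := (.node [(32,(.ofNat 1),1)] (.node [] (.node [] (.node [] (.node [] (.node [] .nil (.node [] .nil .nil)) (.node [(18,(.negSucc 0),1)] .nil (.node [(50,(.ofNat 2),1)] .nil .nil))) (.node [] (.node [] .nil (.node [(43,(.ofNat 1),1)] .nil .nil)) (.node [(29,(.ofNat 2),1)] .nil .nil))) (.node [] .nil (.node [(15,(.negSucc 0),1)] .nil (.node [(33,(.negSucc 0),1),(36,(.negSucc 0),2)] .nil .nil)))) (.node [(32,(.negSucc 0),1)] (.node [] .nil (.node [] (.node [] .nil (.node [(44,(.negSucc 0),1)] .nil .nil)) (.node [(31,(.negSucc 0),1),(34,(.ofNat 1),2)] .nil .nil))) (.node [] (.node [] (.node [] .nil (.node [(41,(.negSucc 0),1)] .nil .nil)) (.node [(27,(.ofNat 2),1)] .nil .nil)) (.node [(17,(.ofNat 1),1)] (.node [] .nil (.node [(48,(.negSucc 0),1),(50,(.negSucc 0),2)] .nil .nil)) .nil)))) (.node [] (.node [] (.node [] (.node [] (.node [] .nil (.node [(36,(.ofNat 2),1)] .nil .nil)) .nil) .nil)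 (.node [(7,(.negSucc 0),1),(9,(.negSucc 0),2)] (.node [] (.node [] .nil (.node [(39,(.ofNat 1),1)] .nil .nil)) (.node [(24,(.ofNat 1),1),(29,(.ofNat 1),2)] .nil .nil)) .nil)) (.node [(32,(.ofNat 1),1)] (.node [] (.node [] .nil (.node [(22,(.negSucc 0),1),(27,(.negSucc 0),2)] .nil .nil)) (.node [(13,(.ofNat 1),1)] .nil .nil)) (.node [(9,(.ofNat 2),1)] (.node [] .nil (.node [(1,(.ofNat 1),1),(2,(.ofNat 2),1),(32,(.negSucc 0),2)] .nil .nil)) (.node [] .nil (.node [(34,(.negSucc 1),1)] .nil .nil))))))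
noncomputable def ex29 : Trie (List (ℕ × ℤ × ℕ)) := (.node [(33,(.ofNat 1),1)] (.node [] (.node [] (.node [] (.node [] (.node [] .nil (.node [(36,(.negSucc 1),1)] .nil .nil)) (.node [] .nil (.node [(51,(.ofNat 2),1)] .nil .nil))) (.node [] .nil (.node [(30,(.ofNat 2),1)] .nil .nil))) (.node [(7,(.negSucc 0),1),(10,(.ofNat 1),2)] (.node [] .nil (.node [(24,(.ofNat 1),1),(30,(.ofNat 1),2)] .nil .nil)) (.node [(16,(.ofNat 1),1)] .nil .nil))) (.node [] .nil (.node [] (.node [] (.node [] .nil (.node [(42,(.negSucc 0),1)] .nil .nil)) (.node [(1,(.ofNat 1),1),(2,(.ofNat 2),1),(3,(.ofNat 2),1),(33,(.negSucc 0),2)] .nil .nil)) .nil))) (.node [] (.node [] (.node [] (.node [] (.node [] .nil (.node [] .nil .nil)) .nil) (.node [] (.node [] .nil (.node [(44,(.ofNat 1),1)] .nil .nil)) (.node [(31,(.negSucc 0),1),(35,(.ofNat 1),2)] .nil .nil))) (.node [] (.node [] (.node [] .nil (.node [(40,(.ofNat 1),1)] .nil .nil)) .nil) (.node [(17,(.ofNat 1),1)] (.node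 [] .nil (.node [(48,(.ofNat 1),1),(51,(.ofNat 1),2)] .nil .nil)) .nil))) (.node [(33,(.negSucc 0),1)] (.node [] (.node [] .nil (.node [(23,(.ofNat 1),1),(28,(.ofNat 1),2)] .nil .nil)) (.node [(14,(.negSucc 0),1)] .nil (.node [(32,(.negSucc 0),1),(36,(.ofNat 1),2)] .nil .nil))) (.node [(10,(.negSucc 1),1)] (.node [] (.node [] .nil (.node [(43,(.negSucc 0),1)] .nil .nil)) (.node [(28,(.ofNat 2),1)] .nil .nil)) (.node [(18,(.negSucc 0),1)] .nil (.node [(35,(.negSucc 1),1)] .nil .nil))))))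
noncomputable def ex30 : Trie (List (ℕ × ℤ × ℕ)) := (.node [(34,(.ofNat 2),1)] (.node [] (.node [] (.node [] .nil (.node [] (.node [] .nil (.node [(44,(.ofNat 1),1)] .nil .nil)) (.node [(32,(.negSucc 0),1)] .nil .nil))) (.node [] (.node [] .nil (.node [(27,(.ofNat 1),1)] .nil .nil)) (.node [] .nil (.node [(35,(.negSucc 0),1)] .nil .nil)))) (.node [] (.node [] (.node [] (.node [] .nil (.node [] .nil .nil)) .nil) .nil) (.node [(9,(.ofNat 1),1)] .nil (.node [(18,(.negSucc 0),1)] (.node [] .nil (.node [(49,(.negSucc 0),1)] .nil .nil)) (.node [(36,(.ofNat 1),1)] .nil .nil))))) (.node [(34,(.negSucc 1),1)] (.node [] .nil (.node [(8,(.ofNat 1),1)] (.node [] (.node [] .nil (.node [(41,(.ofNat 1),1)] .nil .nil)) (.node [(1,(.ofNat 1),1),(2,(.ofNat 1),1),(34,(.negSucc 0),2)] .nil .nil)) .nil)) (.node [(34,(.ofNat 1),1)] (.node [] (.node [] .nil (.node [(25,(.negSucc 0),1)] .nil .nil)) (.node [(15,(.negSucc 0),1)] .nil .nil)) (.node [] (.node []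 .nil (.node [(31,(.ofNat 1),1)] .nil .nil)) (.node [] (.node [] .nil (.node [(50,(.negSucc 0),1)] .nil .nil)) .nil)))))
noncomputable def ex31 : Trie (List (ℕ × ℤ × ℕ)) := (.node [(35,(.ofNat 2),1)] (.node [] (.node [] (.node [] .nil (.node [] .nil (.node [(33,(.negSucc 0),1)] .nil .nil))) (.node [(8,(.ofNat 1),1)] (.node [] .nil (.node [(1,(.ofNat 1),1),(2,(.ofNat 1),1),(3,(.ofNat 1),1),(35,(.negSucc 0),2)] .nil .nil)) .nil)) (.node [(35,(.ofNat 1),1)] .nil (.node [(10,(.negSucc 0),1)] (.node [] .nil (.node [(31,(.ofNat 1),1)] .nil .nil)) .nil))) (.node [(35,(.negSucc 1),1)] (.node [] .nil (.node [] (.node [] (.node [] .nil (.node [(42,(.ofNat 1),1)] .nil .nil)) (.node [(28,(.ofNat 1),1)] .nil .nil)) (.node [(18,(.negSucc 0),1)] (.node [] .nil (.node [(49,(.ofNat 1),1)] .nil .nil)) (.node [(36,(.negSucc 0),1)] .nil .nil)))) (.node [(35,(.negSucc 0),1)] (.node [] (.node [] (.node [] .nil (.node [] .nil .nil)) (.node [(26,(.ofNat 1),1)]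 .nil .nil)) (.node [(16,(.ofNat 1),1)] .nil (.node [(34,(.negSucc 0),1)] .nil .nil))) (.node [] (.node [] (.node [] .nil (.node [(44,(.negSucc 0),1)] .nil .nil)) .nil) (.node [] (.node [] .nil (.node [(51,(.negSucc 0),1)] .nil .nil)) .nil)))))
noncomputable def ex32 : Trie (List (ℕ × ℤ × ℕ)) := (.node [(36,(.ofNat 2),1)] (.node [] (.node [] .nil (.node [(9,(.negSucc 0),1)] (.node [] (.node [] .nil (.node [] .nil .nil)) (.node [(29,(.ofNat 1),1)] .nil .nil)) (.node [(18,(.negSucc 0),1)] .nil .nil))) (.node [(36,(.negSucc 0),1)] (.node [] .nil (.node [] .nil (.node [(35,(.negSucc 0),1)] .nil .nil))) (.node [] (.node [] (.node [] .nil (.node [(44,(.ofNat 1),1)] .nil .nil)) (.node [(32,(.ofNat 1),1)] .nil .nil)) (.node [] (.node [] .nil (.node [(51,(.ofNat 1),1)] .nil .nil)) .nil)))) (.node [] (.node [] (.node [] .nil (.node [] .nil (.node [(34,(.ofNat 1),1)] .nil .nil))) (.node [(10,(.negSucc 0),1)] (.node [] (.node [] .nil (.node [(43,(.ofNat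 1),1)] .nil .nil)) (.node [(30,(.negSucc 0),1)] .nil .nil)) (.node [] (.node [] .nil (.node [(50,(.ofNat 1),1)] .nil .nil)) .nil))) (.node [] (.node [] (.node [] .nil (.node [(1,(.ofNat 1),1),(2,(.ofNat 2),1),(3,(.ofNat 1),1),(36,(.negSucc 0),2)] .nil .nil)) (.node [(17,(.negSucc 0),1)] .nil .nil)) (.node [] (.node [] .nil (.node [(33,(.negSucc 0),1)] .nil .nil)) .nil))))
noncomputable def ex33 : Trie (List (ℕ × ℤ × ℕ)) := (.node [(37,(.negSucc 1),1)] (.node [] (.node [] (.node [] (.node [] (.node [] .nil (.node [(39,(.negSucc 0),1)] .nil .nil)) (.node [(23,(.ofNat 1),1)] .nil .nil)) (.node [(12,(.negSucc 0),1),(19,(.negSucc 0),2)] .nil .nil)) (.node [] (.node [] (.node [] .nil (.node [(43,(.negSucc 0),1),(47,(.negSucc 0),2)] .nil .nil)) .nil) (.node [(19,(.ofNat 2),1)] (.node [] .nil (.node [(48,(.ofNat 1),1)] .nil .nil)) .nil))) (.node [] (.node [] (.node [] (.node [] .nil (.node [(41,(.negSucc 0),1),(45,(.negSucc 0),2)] .nil .nil))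 (.node [(0,(.ofNat 1),1),(37,(.negSucc 0),2)] .nil .nil)) (.node [(14,(.negSucc 0),1),(21,(.negSucc 0),2)] (.node [] .nil (.node [(46,(.ofNat 2),1)] .nil .nil)) .nil)) (.node [] .nil (.node [(21,(.ofNat 2),1)] .nil .nil)))) (.node [(37,(.ofNat 1),1)] (.node [] (.node [] (.node [] (.node [] .nil (.node [(40,(.negSucc 0),1)] .nil .nil)) (.node [(24,(.ofNat 1),1)] .nil .nil)) (.node [(13,(.negSucc 0),1),(20,(.negSucc 0),2)] (.node [] .nil (.node [(45,(.ofNat 2),1)] .nil .nil)) .nil)) (.node [] (.node [] (.node [] .nil (.node [] .nil .nil)) .nil) (.node [(20,(.ofNat 2),1)] .nil .nil))) (.node [] (.node [] (.node [] (.node [] .nil (.node [(42,(.negSucc 0),1),(46,(.negSucc 0),2)] .nil .nil)) .nil) (.node [] (.node [] .nil (.node [(47,(.ofNat 2),1)] .nil .nil)) .nil)) (.node [(11,(.negSucc 0),1)] .nil (.node [(22,(.ofNat 1),1)] .nil (.node [(38,(.negSucc 0),1)] .nil .nil))))))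
noncomputable def ex34 : Trie (List (ℕ × ℤ × ℕ)) := (.node [(38,(.negSucc 0),1)] (.node [] (.node [] (.node [] (.node [] (.node [] .nil (.node [(41,(.ofNat 1),1)] .nil .nil)) (.node [(26,(.ofNat 2),1)] .nil .nil)) (.node [] (.node [] .nil (.node [(46,(.negSucc 1),1)] .nil .nil)) (.node [(37,(.negSucc 0),1)] .nil .nil))) (.node [] (.node [] (.node [] .nil (.node [(44,(.negSucc 0),1),(49,(.negSucc 0),2)] .nil .nil)) .nil) (.node [] (.node [] .nil (.node [(49,(.ofNat 2),1)] .nil .nil)) .nil))) (.node [(38,(.ofNat 1),1)] (.node [] (.node [] .nil (.node [(31,(.ofNat 1),1)] .nil .nil)) (.node [(16,(.ofNat 1),1),(26,(.ofNat 1),2)] .nil .nil)) (.node [(11,(.negSucc 0),1),(19,(.negSucc 0),2)] (.node [] (.node [] .nil (.node [] .nil .nil)) .nil) (.node [(23,(.negSucc 0),1)] .nil (.node [(40,(.negSucc 0),1),(46,(.ofNat 1),2)] .nil .nil))))) (.node [(38,(.negSucc 0),1)] (.node [] (.node [] (.node [] (.node [] .nil (.node [(42,(.ofNat 1),1)] .nil .nil))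 (.node [(0,(.ofNat 1),1),(1,(.ofNat 1),1),(38,(.negSucc 0),2)] .nil .nil)) (.node [(15,(.ofNat 1),1),(25,(.ofNat 1),2)] .nil .nil)) (.node [] .nil (.node [(22,(.negSucc 0),1)] .nil (.node [(39,(.negSucc 0),1),(45,(.ofNat 1),2)] .nil .nil)))) (.node [] (.node [] .nil (.node [(19,(.ofNat 2),1)] (.node [] .nil (.node [(48,(.ofNat 1),1)] .nil .nil)) .nil)) (.node [(12,(.negSucc 0),1)] (.node [] (.node [] .nil (.node [(45,(.negSucc 1),1)] .nil .nil)) .nil) (.node [(25,(.ofNat 2),1)] .nil .nil)))))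
noncomputable def ex35 : Trie (List (ℕ × ℤ × ℕ)) := (.node [(39,(.negSucc 0),1)] (.node [] (.node [] (.node [] (.node [] .nil (.node [(0,(.ofNat 1),1),(1,(.ofNat 1),1),(2,(.ofNat 2),1),(39,(.negSucc 0),2)] .nil .nil)) (.node [(15,(.ofNat 1),1),(27,(.ofNat 1),2)] (.node [] .nil (.node [(47,(.negSucc 1),1)] .nil .nil)) .nil)) (.node [] .nil (.node [(22,(.negSucc 0),1)] (.node [] .nil (.node [(50,(.ofNat 2),1)] .nil .nil)) (.node [(40,(.negSucc 0),1),(47,(.ofNat 1),2)] .nil .nil)))) (.node [(39,(.negSucc 0),1)] (.node [] (.node [] .nil (.node [(32,(.ofNat 1),1)] .nil .nil)) (.node [(17,(.negSucc 0),1),(29,(.negSucc 0),2)] (.node [] .nil (.node [(48,(.negSucc 0),1)] .nil .nil)) (.node [(38,(.negSucc 0),1),(45,(.negSucc 0),2)] .nil .nil))) (.node [] (.node [] (.node [] .nil (.node [(45,(.ofNat 2),1)] .nil .nil)) .nil) (.node [(24,(.ofNat 1),1)] .nil .nil)))) (.node [(39,(.ofNat 1),1)] (.node [] (.node [] (.node [] (.node [] .nil (.node [(43,(.ofNat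 1),1)] .nil .nil)) (.node [(29,(.ofNat 2),1)] .nil .nil)) .nil) (.node [(11,(.negSucc 0),1),(20,(.ofNat 1),2)] .nil .nil)) (.node [(39,(.ofNat 1),1)] (.node [] (.node [] (.node [] .nil (.node [(44,(.ofNat 1),1),(50,(.ofNat 1),2)] .nil .nil)) .nil) (.node [(20,(.negSucc 1),1)] .nil .nil)) (.node [(13,(.ofNat 1),1)] (.node [] (.node [] .nil (.node [] .nil .nil)) (.node [(37,(.negSucc 0),1)] .nil .nil)) (.node [(27,(.ofNat 2),1)] .nil (.node [(41,(.negSucc 0),1)] .nil .nil))))))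
noncomputable def ex36 : Trie (List (ℕ × ℤ × ℕ)) := (.node [(40,(.negSucc 0),1)] (.node [] (.node [] (.node [] (.node [] (.node [] .nil (.node [(43,(.negSucc 0),1)] .nil .nil)) (.node [(28,(.ofNat 2),1)] .nil .nil)) (.node [(16,(.negSucc 0),1),(28,(.negSucc 0),2)] (.node [] .nil (.node [] .nil .nil)) .nil)) (.node [(11,(.negSucc 0),1),(21,(.negSucc 0),2)] .nil (.node [(23,(.ofNat 1),1)] (.node [] .nil (.node [(51,(.ofNat 2),1)] .nil .nil)) .nil))) (.node [] (.node [] (.node [] (.node [] .nil (.node [(44,(.negSucc 0),1),(51,(.negSucc 0),2)] .nil .nil)) (.node [(33,(.ofNat 1),1)] .nil .nil)) .nil) (.node [] (.node [] (.node [] .nil (.node [(46,(.ofNat 2),1)] .nil .nil)) (.node [(37,(.negSucc 0),1)] .nil .nil)) .nil))) (.node [(40,(.ofNat 1),1)] (.node [] (.node [] (.node [] .nil (.node [(30,(.ofNat 2),1)] .nil .nil)) (.node [(17,(.negSucc 0),1),(30,(.negSucc 0),2)] (.node [] .nil (.node [(48,(.ofNat 1),1)] .nil .nil)) (.node [(38,(.negSucc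 0),1),(46,(.negSucc 0),2)] .nil .nil))) (.node [] .nil (.node [(24,(.ofNat 1),1)] .nil .nil))) (.node [(40,(.negSucc 0),1)] (.node [] .nil (.node [(21,(.ofNat 2),1)] .nil (.node [(39,(.negSucc 0),1),(47,(.negSucc 0),2)] .nil .nil))) (.node [(14,(.negSucc 0),1)] (.node [] (.node [] .nil (.node [(47,(.ofNat 2),1)] .nil .nil)) .nil) (.node [(0,(.ofNat 1),1),(1,(.ofNat 1),1),(2,(.ofNat 2),1),(3,(.ofNat 2),1),(40,(.negSucc 0),2)] .nil (.node [(42,(.negSucc 0),1)] .nil .nil))))))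
noncomputable def ex37 : Trie (List (ℕ × ℤ × ℕ)) := (.node [] (.node [] (.node [] (.node [] (.node [] .nil (.node [(31,(.ofNat 1),1)] .nil .nil)) (.node [] (.node [] .nil (.node [(48,(.negSucc 0),1)] .nil .nil)) (.node [(39,(.negSucc 0),1)] .nil .nil))) (.node [] .nil (.node [(25,(.negSucc 1),1)] .nil (.node [(42,(.negSucc 0),1),(49,(.ofNat 1),2)] .nil .nil)))) (.node [] (.node [] (.node [] .nil (.node [(34,(.ofNat 2),1)] .nil .nil)) (.node [(18,(.ofNat 1),1),(34,(.ofNat 1),2)] (.node [] .nil (.node [(49,(.negSucc 1),1)] .nil .nil)) .nil)) (.node [(13,(.ofNat 1),1),(27,(.ofNat 1),2)] .nil (.node [(0,(.ofNat 1),1),(1,(.ofNat 2),1),(2,(.ofNat 2),1),(41,(.negSucc 0),2)] .nil (.node [(43,(.ofNat 1),1),(50,(.negSucc 0),2)] .nil .nil))))) (.node [(41,(.negSucc 0),1)] (.node [] (.node [] (.node [] (.node [] .nil (.node [(44,(.negSucc 0),1)] .nil .nil)) (.node [(32,(.negSucc 0),1)] .nil .nil)) (.node [] (.node [] .nil (.node [] .nil .nil)) .nil))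 (.node [(12,(.ofNat 1),1),(25,(.negSucc 0),2)] (.node [] (.node [] .nil (.node [(45,(.negSucc 1),1)] .nil .nil)) (.node [(37,(.negSucc 0),1),(45,(.ofNat 1),2)] .nil .nil)) (.node [(27,(.ofNat 2),1)] .nil .nil))) (.node [(41,(.ofNat 1),1)] (.node [] .nil (.node [(22,(.ofNat 1),1)] (.node [] .nil (.node [(50,(.negSucc 1),1)] .nil .nil)) .nil)) (.node [(15,(.ofNat 1),1)] (.node [] .nil (.node [(38,(.ofNat 1),1)] .nil .nil)) .nil))))
noncomputable def ex38 : Trie (List (ℕ × ℤ × ℕ)) := (.node [] (.node [] (.node [] (.node [] (.node [] (.node [] .nil (.node [(44,(.ofNat 1),1)] .nil .nil)) .nil) (.node [] .nil (.node [(40,(.negSucc 0),1)] .nil .nil))) (.node [(12,(.ofNat 1),1),(26,(.ofNat 1),2)] (.node [] .nil (.node [(37,(.negSucc 0),1),(46,(.ofNat 1),2)] .nil .nil)) (.node [(26,(.ofNat 2),1)] .nil .nil))) (.node [(42,(.ofNat 1),1)] (.node [] (.node [] .nil (.node [(35,(.ofNat 2),1)] .nil .nil)) (.node [] (.node [] .nil (.node [] .nil .nil))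 .nil)) (.node [(14,(.negSucc 0),1),(28,(.negSucc 0),2)] (.node [] .nil (.node [(38,(.ofNat 1),1)] .nil .nil)) (.node [(28,(.ofNat 2),1)] .nil .nil)))) (.node [(42,(.negSucc 0),1)] (.node [] (.node [] (.node [] .nil (.node [(33,(.negSucc 0),1)] .nil .nil)) (.node [(18,(.ofNat 1),1),(35,(.ofNat 1),2)] (.node [] .nil (.node [(49,(.ofNat 2),1)] .nil .nil)) .nil)) (.node [] (.node [] (.node [] .nil (.node [(46,(.negSucc 1),1)] .nil .nil)) .nil) (.node [(0,(.ofNat 1),1),(1,(.ofNat 2),1),(2,(.ofNat 2),1),(3,(.ofNat 2),1),(42,(.negSucc 0),2)] .nil (.node [(43,(.negSucc 0),1),(51,(.ofNat 1),2)] .nil .nil)))) (.node [(42,(.negSucc 0),1)] (.node [] .nil (.node [(23,(.negSucc 0),1)] (.node [] .nil (.node [(51,(.negSucc 1),1)] .nil .nil)) (.node [(41,(.negSucc 0),1),(49,(.negSucc 0),2)] .nil .nil))) (.node [(16,(.negSucc 0),1)] (.node [] (.node [] .nil (.node [(48,(.ofNat 1),1)] .nil .nil)) .nil) (.node [(31,(.ofNat 1),1)] .nil .nil)))))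
noncomputable def ex39 : Trie (List (ℕ × ℤ × ℕ)) := (.node [] (.node [] (.node [] (.node [] (.node [] .nil (.node [(33,(.negSucc 0),1)] .nil .nil)) (.node [(18,(.ofNat 1),1),(36,(.ofNat 1),2)] .nil .nil)) (.node [(13,(.negSucc 0),1),(29,(.negSucc 0),2)] .nil (.node [(0,(.ofNat 1),1),(1,(.ofNat 2),1),(2,(.ofNat 4),1),(3,(.ofNat 2),1),(43,(.negSucc 0),2)] .nil .nil))) (.node [(43,(.negSucc 0),1)] (.node [] (.node [] .nil (.node [(36,(.ofNat 2),1)] .nil .nil)) (.node [] (.node [] .nil (.node [(51,(.ofNat 2),1)] .nil .nil)) (.node [(42,(.negSucc 0),1),(51,(.negSucc 0),2)] .nil .nil))) (.node [] (.node [] (.node [] .nil (.node [(48,(.negSucc 0),1)] .nil .nil)) (.node [(39,(.ofNat 1),1)] .nil .nil)) (.node [(30,(.negSucc 1),1)] .nil .nil)))) (.node [(43,(.ofNat 1),1)] (.node [] (.node [] .nil (.node [] (.node [] .nil (.node [(50,(.ofNat 2),1)] .nil .nil)) (.node [(41,(.ofNat 1),1),(50,(.ofNat 1),2)] .nil .nil))) (.node [(14,(.negSucc 0),1),(30,(.ofNat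 1),2)] (.node [] (.node [] .nil (.node [(47,(.negSucc 1),1)] .nil .nil)) .nil) (.node [(29,(.ofNat 2),1)] .nil .nil))) (.node [] (.node [] (.node [] .nil (.node [(37,(.negSucc 0),1),(47,(.ofNat 1),2)] .nil .nil)) (.node [(24,(.ofNat 1),1)] (.node [] .nil (.node [] .nil .nil)) .nil)) (.node [(17,(.ofNat 1),1)] (.node [] .nil (.node [(40,(.negSucc 0),1)] .nil .nil)) (.node [(32,(.ofNat 1),1)] .nil (.node [(44,(.negSucc 0),1)] .nil .nil))))))
noncomputable def ex40 : Trie (List (ℕ × ℤ × ℕ)) := (.node [(44,(.ofNat 1),1)] (.node [] (.node [] (.node [] (.node [] .nil (.node [(35,(.negSucc 1),1)] .nil .nil)) (.node [] (.node [] .nil (.node [(51,(.negSucc 1),1)] .nil .nil)) (.node [(43,(.negSucc 0),1)] .nil .nil))) (.node [(15,(.ofNat 1),1),(34,(.ofNat 1),2)] (.node [] .nil (.node [(39,(.ofNat 1),1),(50,(.negSucc 0),2)] .nil .nil)) (.node [(31,(.ofNat 1),1)] (.node [] .nil (.node [] .nil .nil)) .nil))) (.node [] .nil (.node [(17,(.ofNat 1),1),(36,(.ofNat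 1),2)] (.node [] (.node [] .nil (.node [(49,(.negSucc 1),1)] .nil .nil)) (.node [(41,(.negSucc 0),1)] .nil .nil)) (.node [(33,(.ofNat 1),1)] .nil .nil)))) (.node [(44,(.negSucc 0),1)] (.node [] (.node [] (.node [] .nil (.node [(36,(.ofNat 2),1)] .nil .nil)) .nil) (.node [(16,(.ofNat 1),1),(35,(.negSucc 0),2)] (.node [] (.node [] .nil (.node [(48,(.negSucc 0),1)] .nil .nil)) (.node [(40,(.negSucc 0),1),(51,(.ofNat 1),2)] .nil .nil)) (.node [(32,(.negSucc 0),1)] .nil .nil))) (.node [] (.node [] (.node [] .nil (.node [(38,(.negSucc 0),1),(49,(.ofNat 1),2)] .nil .nil)) (.node [(0,(.ofNat 1),1),(1,(.ofNat 3),1),(2,(.ofNat 4),1),(3,(.ofNat 2),1),(44,(.negSucc 0),2)] .nil .nil)) (.node [(18,(.ofNat 1),1)] (.node [] (.node [] .nil (.node [(50,(.negSucc 1),1)] .nil .nil)) (.node [(42,(.ofNat 1),1)] .nil .nil)) (.node [(34,(.ofNat 2),1)] .nil .nil)))))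
noncomputable def ex41 : Trie (List (ℕ × ℤ × ℕ)) := (.node [(45,(.negSucc 1),1)] (.node [] (.node [] (.node [] (.node [] .nil (.node [(38,(.negSucc 0),1)] .nil .nil)) (.node [(25,(.negSucc 0),1)] .nil .nil)) (.node [] (.node [] (.node [] .nil (.node [(50,(.negSucc 0),1)] .nil .nil)) .nil) (.node [] .nil (.node [(46,(.negSucc 0),1)] .nil .nil)))) (.node [] (.node [] (.node [] .nil (.node [(41,(.negSucc 0),1)] .nil .nil)) (.node [(0,(.ofNat 1),1),(1,(.ofNat 1),1),(2,(.ofNat 1),1),(45,(.negSucc 0),2)] .nil .nil)) (.node [(20,(.ofNat 1),1)] .nil (.node [(37,(.ofNat 1),1)] .nil (.node [(47,(.ofNat 1),1)] .nil .nil))))) (.node [] (.node [] (.node [] (.node [] (.node [] .nil (.node [(48,(.negSucc 0),1)] .nil .nil)) (.node [(39,(.ofNat 1),1)] .nil .nil)) (.node [(27,(.ofNat 1),1)] .nil .nil)) (.node [(19,(.ofNat 1),1)] .nil (.node [] (.node [] .nil (.node [] .nil .nil)) .nil))) (.node [(45,(.ofNat 1),1)] (.node [] (.node [] (.node [] .nil (.node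 [(49,(.negSucc 0),1)] .nil .nil)) .nil) .nil) (.node [(22,(.ofNat 1),1)] .nil .nil))))
noncomputable def ex42 : Trie (List (ℕ × ℤ × ℕ)) := (.node [(46,(.negSucc 1),1)] (.node [] (.node [] (.node [] (.node [] (.node [] .nil (.node [(48,(.ofNat 1),1)] .nil .nil)) .nil) (.node [(26,(.ofNat 1),1)] .nil .nil)) (.node [(19,(.ofNat 1),1)] (.node [] (.node [] .nil (.node [(51,(.negSucc 0),1)] .nil .nil)) .nil) .nil)) (.node [(46,(.ofNat 1),1)] (.node [] (.node [] (.node [] .nil (.node [(49,(.ofNat 1),1)] .nil .nil)) (.node [(42,(.negSucc 0),1)] .nil .nil)) (.node [(28,(.ofNat 1),1)] .nil .nil)) (.node [(21,(.negSucc 0),1)] .nil (.node [] (.node [] .nil (.node [] .nil .nil)) .nil)))) (.node [] (.node [] (.node [] (.node [] .nil (.node [(40,(.ofNat 1),1)] .nil .nil)) (.node [(0,(.ofNat 1),1),(1,(.ofNat 1),1),(2,(.ofNat 1),1),(3,(.ofNat 1),1),(46,(.negSucc 0),2)] .nil .nil)) (.node [] .nil (.node [(37,(.ofNat 1),1)] .nil (.node [(47,(.negSucc 0),1)]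 .nil .nil)))) (.node [(46,(.negSucc 0),1)] (.node [] .nil (.node [] .nil (.node [(45,(.negSucc 0),1)] .nil .nil))) (.node [(23,(.negSucc 0),1)] .nil (.node [(38,(.negSucc 0),1)] .nil .nil)))))
noncomputable def ex43 : Trie (List (ℕ × ℤ × ℕ)) := (.node [(47,(.negSucc 1),1)] (.node [] (.node [] (.node [] (.node [] .nil (.node [(40,(.ofNat 1),1)] .nil .nil)) (.node [(0,(.ofNat 1),1),(1,(.ofNat 1),1),(2,(.ofNat 2),1),(3,(.ofNat 1),1),(47,(.negSucc 0),2)] .nil .nil)) (.node [(20,(.negSucc 0),1)] .nil (.node [(37,(.ofNat 1),1)] .nil .nil))) (.node [(47,(.negSucc 0),1)] (.node [] (.node [] (.node [] .nil (.node [(50,(.ofNat 1),1)] .nil .nil)) (.node [(43,(.negSucc 0),1)] .nil .nil)) (.node [(30,(.negSucc 0),1)] .nil (.node [(46,(.negSucc 0),1)] .nil .nil))) .nil)) (.node [(47,(.ofNat 2),1)] (.node [] (.node [] .nil (.node [(29,(.ofNat 1),1)] .nil (.node [(45,(.ofNat 1),1)] .nil .nil))) (.node [(21,(.negSucc 0),1)] .nil .nil)) (.node [] (.node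 [] (.node [] (.node [] .nil (.node [(51,(.ofNat 1),1)] .nil .nil)) .nil) .nil) (.node [(24,(.ofNat 1),1)] .nil (.node [(39,(.negSucc 0),1)] (.node [] .nil (.node [] .nil .nil)) (.node [(48,(.negSucc 0),1)] .nil .nil))))))
noncomputable def ex44 : Trie (List (ℕ × ℤ × ℕ)) := (.node [(48,(.negSucc 0),1)] (.node [] (.node [] (.node [] (.node [] (.node [] .nil (.node [(50,(.negSucc 1),1)] .nil .nil)) (.node [(42,(.ofNat 1),1)] .nil (.node [] .nil .nil))) (.node [(31,(.ofNat 1),1),(49,(.negSucc 0),2)] .nil (.node [(47,(.negSucc 1),1)] .nil .nil))) (.node [(22,(.ofNat 1),1),(45,(.negSucc 0),2)] .nil (.node [(38,(.ofNat 1),1)] .nil .nil))) (.node [] (.node [] (.node [] .nil (.node [(44,(.negSucc 0),1)] .nil .nil)) (.node [(33,(.ofNat 1),1),(51,(.negSucc 0),2)] .nil .nil)) (.node [(24,(.ofNat 1),1),(47,(.negSucc 0),2)] (.node [] .nil (.node [(45,(.negSucc 1),1)] .nil .nil)) (.node [(40,(.ofNat 1),1)] .nil .nil)))) (.node [] (.node [] (.node []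 (.node [] (.node [] .nil (.node [(51,(.negSucc 1),1)] .nil .nil)) (.node [(43,(.negSucc 0),1)] .nil .nil)) (.node [(32,(.negSucc 0),1),(50,(.ofNat 1),2)] .nil .nil)) (.node [(23,(.ofNat 1),1),(46,(.ofNat 1),2)] .nil (.node [(39,(.negSucc 0),1)] .nil .nil))) (.node [] (.node [] .nil (.node [(37,(.ofNat 1),1)] .nil .nil)) (.node [(0,(.ofNat 2),1),(1,(.ofNat 3),1),(2,(.ofNat 4),1),(3,(.ofNat 2),1),(48,(.negSucc 0),2)] (.node [] .nil (.node [(46,(.ofNat 2),1)] .nil .nil)) (.node [(41,(.negSucc 0),1)] .nil (.node [(49,(.negSucc 1),1)] .nil .nil))))))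
noncomputable def ex45 : Trie (List (ℕ × ℤ × ℕ)) := (.node [] (.node [] (.node [] (.node [] .nil (.node [] .nil (.node [(48,(.negSucc 0),1)] .nil .nil))) (.node [(25,(.ofNat 1),1)] (.node [] .nil (.node [(45,(.negSucc 0),1)] .nil .nil)) .nil)) (.node [(49,(.ofNat 1),1)] (.node [] .nil (.node [(35,(.ofNat 1),1)] .nil .nil)) (.node [(0,(.ofNat 1),1),(1,(.ofNat 2),1),(2,(.ofNat 2),1),(3,(.ofNat 1),1),(49,(.negSucc 0),2)] .nil (.node [(42,(.ofNat 1),1)] .nil (.node [(51,(.negSucc 0),1)] .nil .nil))))) (.node [(49,(.negSucc 1),1)] (.node [] (.node [] (.node [] .nil (.node [(44,(.negSucc 0),1)] .nil (.node [] .nil .nil))) (.node [(34,(.negSucc 0),1)] .nil .nil)) (.node [(26,(.ofNat 1),1)] (.node [] .nil (.node [(46,(.ofNat 1),1)] .nil .nil)) (.node [(41,(.negSucc 0),1)] .nil (.node [(50,(.negSucc 0),1)] .nil .nil)))) (.node [] (.node [] .nil (.node [(38,(.ofNat 1),1)] .nil .nil)) (.node [(31,(.ofNat 1),1)] .nil .nil))))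
noncomputable def ex46 : Trie (List (ℕ × ℤ × ℕ)) := (.node [] (.node [] (.node [] (.node [] (.node [] .nil (.node [(44,(.negSucc 0),1)] .nil .nil)) (.node [(34,(.negSucc 0),1)] .nil .nil)) (.node [(27,(.ofNat 1),1)] .nil (.node [(41,(.negSucc 0),1)] .nil (.node [(51,(.negSucc 0),1)] .nil .nil)))) (.node [(50,(.negSucc 0),1)] (.node [] (.node [] .nil (.node [] .nil (.node [] .nil .nil))) (.node [(36,(.ofNat 1),1)] .nil (.node [(49,(.negSucc 0),1)] .nil .nil))) (.node [(29,(.ofNat 1),1)] .nil (.node [(43,(.ofNat 1),1)] .nil .nil)))) (.node [] (.node [] .nil (.node [(0,(.ofNat 1),1),(1,(.ofNat 2),1),(2,(.ofNat 3),1),(3,(.ofNat 1),1),(50,(.negSucc 0),2)] (.node [] .nil (.node [(47,(.ofNat 1),1)] .nil .nil)) .nil)) (.node [(50,(.ofNat 1),1)] (.node [] (.node [] .nil (.node [(45,(.negSucc 0),1)] .nil .nil)) (.node [(39,(.ofNat 1),1)] .nil .nil)) (.node [(32,(.ofNat 1),1)] (.node [] .nil (.node [(48,(.negSucc 0),1)] .nil .nil)) .nil))))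
noncomputable def ex47 : Trie (List (ℕ × ℤ × ℕ)) := (.node [] (.node [] (.node [] (.node [] .nil (.node [(35,(.negSucc 0),1)] .nil .nil)) (.node [(0,(.ofNat 1),1),(1,(.ofNat 2),1),(2,(.ofNat 3),1),(3,(.ofNat 2),1),(51,(.negSucc 0),2)] (.node [] .nil (.node [(47,(.ofNat 1),1)] .nil .nil)) (.node [(42,(.negSucc 0),1)] .nil .nil))) (.node [] .nil (.node [(30,(.ofNat 1),1)] (.node [] .nil (.node [(48,(.negSucc 0),1)] .nil .nil)) .nil))) (.node [] (.node [] (.node [] .nil (.node [(36,(.ofNat 1),1)] .nil (.node [(49,(.negSucc 0),1)] .nil .nil))) (.node [(28,(.ofNat 1),1)] .nil (.node [(43,(.ofNat 1),1)] .nil .nil))) (.node [(51,(.negSucc 0),1)] (.node [] (.node [] .nil (.node [(46,(.negSucc 0),1)] .nil (.node [] .nil .nil))) (.node [(40,(.ofNat 1),1)] .nil (.node [(50,(.negSucc 0),1)] .nil .nil))) (.node [(33,(.ofNat 1),1)] .nil (.node [(44,(.negSucc 0),1)] .nil .nil)))))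
noncomputable def ex : Trie (Trie (List (ℕ × ℤ × ℕ))) := (.node ex0 (.node .nil (.node .nil (.node .nil (.node .nil (.node .nil .nil (.node ex32 .nil .nil)) (.node ex16 .nil .nil)) (.node ex8 (.node .nil .nil (.node ex40 .nil .nil)) (.node ex24 .nil .nil))) (.node ex4 (.node .nil (.node .nil .nil (.node ex36 .nil .nil)) (.node ex20 .nil .nil)) (.node ex12 (.node .nil .nil (.node ex44 .nil .nil)) (.node ex28 .nil .nil)))) (.node ex2 (.node .nil (.node .nil (.node .nil .nil (.node ex34 .nil .nil)) (.node ex18 .nil .nil)) (.node ex10 (.node .nil .nil (.node ex42 .nil .nil)) (.node ex26 .nil .nil))) (.node ex6 (.node .nil (.node .nil .nil (.node ex38 .nil .nil)) (.node ex22 .nil .nil)) (.node ex14 (.node .nil .nil (.node ex46 .nil .nil)) (.node ex30 .nil .nil))))) (.node ex1 (.node .nil (.node .nil (.node .nil (.node .nil .nil (.node ex33 .nil .nil)) (.node ex17 .nil .nil)) (.node ex9 (.node .nil .nil (.node ex41 .nil .nil)) (.node ex25 .nil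 .nil))) (.node ex5 (.node .nil (.node .nil .nil (.node ex37 .nil .nil)) (.node ex21 .nil .nil)) (.node ex13 (.node .nil .nil (.node ex45 .nil .nil)) (.node ex29 .nil .nil)))) (.node ex3 (.node .nil (.node .nil (.node .nil .nil (.node ex35 .nil .nil)) (.node ex19 .nil .nil)) (.node ex11 (.node .nil .nil (.node ex43 .nil .nil)) (.node ex27 .nil .nil))) (.node ex7 (.node .nil (.node .nil .nil (.node ex39 .nil .nil)) (.node ex23 .nil .nil)) (.node ex15 (.node .nil .nil (.node ex47 .nil .nil)) (.node ex31 .nil .nil))))))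
noncomputable def nt3 : Trie (List (ℕ × ℤ)) := (.node [(0,(.ofNat 1))] (.node [] (.node [] (.node [] (.node [] (.node [] .nil (.node [(33,(.ofNat 1))] .nil .nil)) (.node [(15,(.ofNat 1))] .nil (.node [(48,(.ofNat 1))] .nil .nil))) (.node [(8,(.ofNat 1))] (.node [] .nil (.node [(39,(.negSucc 0))] .nil .nil)) (.node [(24,(.ofNat 1))] .nil .nil))) (.node [(5,(.negSucc 0))] (.node [] (.node [] .nil (.node [(36,(.ofNat 1))] .nil .nil)) (.node [(21,(.negSucc 0))] .nil .nil)) (.node [(12,(.ofNat 1))] (.node [] .nil (.node [(44,(.ofNat 1))] .nil .nil)) (.node [(27,(.negSucc 0))] .nil .nil)))) (.node [(2,(.ofNat 1)),(3,(.ofNat 1))] (.node [] (.node [] (.node [] .nil (.node [(35,(.ofNat 1))] .nil .nil)) (.node [(18,(.ofNat 1))] .nil (.node [(51,(.ofNat 1))] .nil .nil))) (.node [(9,(.ofNat 1))] (.node [] .nil (.node [(41,(.negSucc 0))] .nil .nil)) (.node [(25,(.ofNat 1))] .nil .nil))) (.node [(6,(.ofNat 1))] (.node [] (.node [] .nil (.node [(38,(.ofNat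 1))] .nil .nil)) (.node [(23,(.negSucc 0))] .nil .nil)) (.node [(13,(.ofNat 1))] (.node [] .nil (.node [(45,(.negSucc 0))] .nil .nil)) (.node [(29,(.negSucc 0))] .nil .nil))))) (.node [(1,(.ofNat 1))] (.node [] (.node [] (.node [] (.node [] .nil (.node [(32,(.negSucc 0))] .nil .nil)) (.node [(17,(.ofNat 1))] .nil (.node [(49,(.ofNat 1))] .nil .nil))) (.node [(10,(.negSucc 0))] (.node [] .nil (.node [(42,(.ofNat 1))] .nil .nil)) (.node [(26,(.negSucc 0))] .nil .nil))) (.node [(4,(.ofNat 1))] (.node [] (.node [] .nil (.node [(37,(.ofNat 1))] .nil .nil)) (.node [(20,(.ofNat 1))] .nil .nil)) (.node [(14,(.negSucc 0))] (.node [] .nil (.node [(46,(.ofNat 1))] .nil .nil)) (.node [(30,(.ofNat 1))] .nil .nil)))) (.node [(3,(.negSucc 0))] (.node [] (.node [] (.node [] .nil (.node [(34,(.negSucc 0))] .nil .nil)) (.node [(19,(.ofNat 1))] .nil (.node [(50,(.negSucc 0))] .nil .nil))) (.node [(11,(.ofNat 1))] (.node [] .nil (.node [(43,(.ofNat 1))] .nil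 .nil)) (.node [(28,(.negSucc 0))] .nil .nil))) (.node [(7,(.ofNat 1))] (.node [] (.node [] .nil (.node [(40,(.ofNat 1))] .nil .nil)) (.node [(22,(.ofNat 1))] .nil .nil)) (.node [(16,(.negSucc 0))] (.node [] .nil (.node [(47,(.ofNat 1))] .nil .nil)) (.node [(31,(.ofNat 1))] .nil .nil))))))
noncomputable def nt2 : Trie (List (ℕ × ℤ)) := (.node [(0,(.ofNat 1))] (.node [] (.node [] (.node [] (.node [] (.node [] .nil (.node [(31,(.negSucc 0))] .nil .nil)) (.node [(17,(.negSucc 0))] .nil (.node [(48,(.ofNat 1))] .nil .nil))) (.node [(9,(.negSucc 0))] (.node [] .nil (.node [(40,(.ofNat 1))] .nil .nil)) (.node [(23,(.ofNat 1))] .nil .nil))) (.node [(4,(.ofNat 1))] (.node [] (.node [] .nil (.node [(35,(.negSucc 0))] .nil .nil)) (.node [(19,(.ofNat 1))] .nil .nil)) (.node [(13,(.negSucc 0))] (.node [] .nil (.node [(44,(.ofNat 1))] .nil .nil)) (.node [(30,(.negSucc 0))] .nil .nil)))) (.node [(2,(.negSucc 0))] (.node [] (.node [] (.node [] .nil (.node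 [(34,(.ofNat 1))] .nil .nil)) (.node [(18,(.ofNat 1))] .nil (.node [(49,(.negSucc 0))] .nil .nil))) (.node [(10,(.ofNat 1))] (.node [] .nil (.node [(43,(.ofNat 1))] .nil .nil)) (.node [(29,(.negSucc 0))] .nil .nil))) (.node [(5,(.ofNat 1))] (.node [] (.node [] .nil (.node [(39,(.ofNat 1))] .nil .nil)) (.node [(22,(.ofNat 1))] .nil .nil)) (.node [(14,(.ofNat 1))] (.node [] .nil (.node [(47,(.ofNat 1))] .nil .nil)) (.node [(28,(.ofNat 1))] .nil .nil))))) (.node [(1,(.ofNat 1)),(2,(.ofNat 2))] (.node [] (.node [] (.node [] (.node [] .nil (.node [(33,(.ofNat 1))] .nil .nil)) (.node [(16,(.ofNat 1))] .nil (.node [(50,(.ofNat 1))] .nil .nil))) (.node [(8,(.ofNat 1))] (.node [] .nil (.node [(41,(.ofNat 1))] .nil .nil)) (.node [(27,(.ofNat 1))] .nil .nil))) (.node [(6,(.negSucc 0))] (.node [] (.node [] .nil (.node [(37,(.ofNat 1))] .nil .nil)) (.node [(21,(.ofNat 1))] .nil .nil)) (.node [(12,(.ofNat 1))] (.node [] .nil (.node [(45,(.ofNat 1))]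 .nil .nil)) (.node [(26,(.negSucc 0))] .nil .nil)))) (.node [(2,(.ofNat 1)),(3,(.ofNat 1))] (.node [] (.node [] (.node [] .nil (.node [(36,(.ofNat 1))] .nil .nil)) (.node [(20,(.negSucc 0))] .nil (.node [(51,(.ofNat 1))] .nil .nil))) (.node [(11,(.ofNat 1))] (.node [] .nil (.node [(42,(.negSucc 0))] .nil .nil)) (.node [(25,(.negSucc 0))] .nil .nil))) (.node [(7,(.ofNat 1))] (.node [] (.node [] .nil (.node [(38,(.negSucc 0))] .nil .nil)) (.node [(24,(.negSucc 0))] .nil .nil)) (.node [(15,(.ofNat 1))] (.node [] .nil (.node [(46,(.negSucc 0))] .nil .nil)) (.node [(32,(.ofNat 1))] .nil .nil))))))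
noncomputable def nt1 : Trie (List (ℕ × ℤ)) := (.node [(0,(.ofNat 1)),(1,(.ofNat 1))] (.node [] (.node [] (.node [] (.node [] (.node [] .nil (.node [(32,(.negSucc 0))] .nil .nil)) (.node [(14,(.ofNat 1))] .nil (.node [(48,(.negSucc 0))] .nil .nil))) (.node [(6,(.ofNat 1))] (.node [] .nil (.node [(42,(.ofNat 1))] .nil .nil)) (.node [(31,(.negSucc 0))] .nil .nil))) (.node [(4,(.ofNat 1))] (.node [] (.node [] .nil (.node [(36,(.ofNat 1))] .nil .nil)) (.node [(25,(.negSucc 0))] .nil .nil)) (.node [(11,(.ofNat 1))] (.node [] .nil (.node [(43,(.negSucc 0))] .nil .nil)) (.node [(28,(.ofNat 1))] .nil .nil)))) (.node [(1,(.ofNat 1)),(2,(.ofNat 1))] (.node [] (.node [] (.node [] .nil (.node [(29,(.negSucc 0))] .nil .nil)) (.node [(17,(.ofNat 1))] .nil (.node [(50,(.ofNat 1))] .nil .nil))) (.node [(10,(.ofNat 1))] (.node [] .nil (.node [(40,(.negSucc 0))] .nil .nil)) (.node [(21,(.negSucc 0))] .nil .nil))) (.node [(8,(.ofNat 1))] (.node [] (.node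 [] .nil (.node [(37,(.negSucc 0))] .nil .nil)) (.node [(22,(.negSucc 0))] .nil .nil)) (.node [(16,(.negSucc 0))] (.node [] .nil (.node [(46,(.ofNat 1))] .nil .nil)) (.node [(35,(.negSucc 0))] .nil .nil))))) (.node [(1,(.negSucc 0))] (.node [] (.node [] (.node [] (.node [] .nil (.node [(33,(.negSucc 0))] .nil .nil)) (.node [(18,(.negSucc 0))] .nil (.node [(47,(.ofNat 1))] .nil .nil))) (.node [(9,(.ofNat 1))] (.node [] .nil (.node [(39,(.negSucc 0))] .nil .nil)) (.node [(20,(.negSucc 0))] .nil .nil))) (.node [(5,(.ofNat 1))] (.node [] (.node [] .nil (.node [(38,(.ofNat 1))] .nil .nil)) (.node [(26,(.negSucc 0))] .nil .nil)) (.node [(15,(.negSucc 0))] (.node [] .nil (.node [(45,(.ofNat 1))] .nil .nil)) (.node [(34,(.negSucc 0))] .nil .nil)))) (.node [(3,(.ofNat 1))] (.node [] (.node [] (.node [] .nil (.node [(30,(.negSucc 0))] .nil .nil)) (.node [(19,(.ofNat 1))] .nil (.node [(51,(.ofNat 1))] .nil .nil))) (.node [(12,(.negSucc 0))] (.node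 [] .nil (.node [(44,(.ofNat 1))] .nil .nil)) (.node [(27,(.ofNat 1))] .nil .nil))) (.node [(7,(.negSucc 0))] (.node [] (.node [] .nil (.node [(41,(.ofNat 1))] .nil .nil)) (.node [(23,(.negSucc 0))] .nil .nil)) (.node [(13,(.ofNat 1))] (.node [] .nil (.node [(49,(.ofNat 1))] .nil .nil)) (.node [(24,(.negSucc 0))] .nil .nil))))))
noncomputable def nt0 : Trie (List (ℕ × ℤ)) := (.node [(0,(.negSucc 0))] (.node [] (.node [] (.node [] (.node [] (.node [] .nil (.node [(39,(.negSucc 0))] .nil .nil)) (.node [(23,(.ofNat 1))] .nil (.node [(44,(.negSucc 0))] .nil .nil))) (.node [(19,(.negSucc 0))] (.node [] .nil (.node [(33,(.ofNat 1))] .nil .nil)) (.node [(17,(.negSucc 0))] .nil .nil))) (.node [(4,(.ofNat 1))] (.node [] (.node [] .nil (.node [(47,(.negSucc 0))] .nil .nil)) (.node [(9,(.negSucc 0))] .nil .nil)) (.node [(12,(.negSucc 0))] (.node [] .nil (.node [(48,(.ofNat 1))] .nil .nil)) (.node [(28,(.ofNat 1))] .nil .nil)))) (.node [(2,(.ofNat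 1))] (.node [] (.node [] (.node [] .nil (.node [(45,(.negSucc 0))] .nil .nil)) (.node [(37,(.negSucc 0))] .nil (.node [(50,(.ofNat 1))] .nil .nil))) (.node [(21,(.negSucc 0))] (.node [] .nil (.node [(42,(.negSucc 0))] .nil .nil)) (.node [(26,(.ofNat 1))] .nil .nil))) (.node [(6,(.ofNat 1))] (.node [] (.node [] .nil (.node [(31,(.ofNat 1))] .nil .nil)) (.node [(15,(.negSucc 0))] .nil .nil)) (.node [(14,(.negSucc 0))] (.node [] .nil (.node [(35,(.negSucc 0))] .nil .nil)) (.node [(30,(.ofNat 1))] .nil .nil))))) (.node [(0,(.ofNat 1)),(1,(.ofNat 1))] (.node [] (.node [] (.node [] (.node [] .nil (.node [(40,(.negSucc 0))] .nil .nil)) (.node [(24,(.ofNat 1))] .nil (.node [(49,(.ofNat 1))] .nil .nil))) (.node [(20,(.negSucc 0))] (.node [] .nil (.node [(41,(.negSucc 0))] .nil .nil)) (.node [(25,(.ofNat 1))] .nil .nil))) (.node [(5,(.ofNat 1))] (.node [] (.node [] .nil (.node [(18,(.negSucc 0))] .nil .nil)) (.node [(10,(.negSucc 0))] .nil .nil))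 (.node [(13,(.negSucc 0))] (.node [] .nil (.node [(34,(.negSucc 0))] .nil .nil)) (.node [(29,(.ofNat 1))] .nil .nil)))) (.node [(3,(.ofNat 1))] (.node [] (.node [] (.node [] .nil (.node [(46,(.negSucc 0))] .nil .nil)) (.node [(8,(.negSucc 0))] .nil (.node [(51,(.ofNat 1))] .nil .nil))) (.node [(7,(.ofNat 1))] (.node [] .nil (.node [(43,(.negSucc 0))] .nil .nil)) (.node [(27,(.ofNat 1))] .nil .nil))) (.node [(11,(.negSucc 0))] (.node [] (.node [] .nil (.node [(32,(.ofNat 1))] .nil .nil)) (.node [(16,(.negSucc 0))] .nil .nil)) (.node [(22,(.ofNat 1))] (.node [] .nil (.node [(36,(.negSucc 0))] .nil .nil)) (.node [(38,(.negSucc 0))] .nil .nil))))))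
noncomputable def nt : Trie (Trie (List (ℕ × ℤ))) := (.node nt0 (.node .nil .nil (.node nt2 .nil .nil)) (.node nt1 .nil (.node nt3 .nil .nil)))
noncomputable def w3 : Trie (ℕ × ℤ) := (.node (1,(.negSucc 0)) (.node (0,0) (.node (0,0) (.node (0,0) (.node (0,0) (.node (0,0) .nil (.node (32,(.ofNat 1)) .nil .nil)) (.node (17,(.negSucc 0)) .nil .nil)) (.node (8,(.ofNat 1)) (.node (0,0) .nil (.node (40,(.ofNat 1)) .nil .nil)) (.node (23,(.negSucc 0)) .nil .nil))) (.node (4,(.ofNat 1)) (.node (0,0) (.node (0,0) .nil (.node (35,(.negSucc 0)) .nil .nil)) (.node (20,(.ofNat 1)) .nil .nil)) (.node (11,(.ofNat 1)) (.node (0,0) .nil (.node (44,(.ofNat 1)) .nil .nil)) (.node (29,(.ofNat 1)) .nil .nil)))) (.node (2,(.ofNat 1)) (.node (0,0) (.node (0,0) (.node (0,0) .nil (.node (34,(.ofNat 1)) .nil .nil)) (.node (19,(.negSucc 0)) .nil .nil)) (.node (9,(.ofNat 1)) (.node (0,0) .nil (.node (41,(.negSucc 0)) .nil .nil)) (.node (25,(.negSucc 0)) .nil .nil)))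 (.node (5,(.ofNat 1)) (.node (0,0) (.node (0,0) .nil (.node (37,(.negSucc 0)) .nil .nil)) (.node (21,(.ofNat 1)) .nil .nil)) (.node (14,(.ofNat 1)) (.node (0,0) .nil (.node (47,(.ofNat 1)) .nil .nil)) (.node (31,(.ofNat 1)) .nil .nil))))) (.node (0,(.ofNat 1)) (.node (0,0) (.node (0,0) (.node (0,0) (.node (0,0) .nil (.node (33,(.ofNat 1)) .nil .nil)) (.node (16,(.ofNat 1)) .nil .nil)) (.node (10,(.negSucc 0)) (.node (0,0) .nil (.node (42,(.ofNat 1)) .nil .nil)) (.node (26,(.ofNat 1)) .nil .nil))) (.node (6,(.negSucc 0)) (.node (0,0) (.node (0,0) .nil (.node (38,(.ofNat 1)) .nil .nil)) (.node (22,(.negSucc 0)) .nil .nil)) (.node (13,(.ofNat 1)) (.node (0,0) .nil (.node (45,(.ofNat 1)) .nil .nil)) (.node (28,(.negSucc 0)) .nil .nil)))) (.node (3,(.ofNat 1)) (.node (0,0) (.node (0,0) (.node (0,0) .nil (.node (36,(.ofNat 1)) .nil .nil)) (.node (18,(.ofNat 1)) .nil .nil)) (.node (12,(.negSucc 0)) (.node (0,0) .nil (.node (43,(.ofNat 1)) .nil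 .nil)) (.node (27,(.ofNat 1)) .nil .nil))) (.node (7,(.ofNat 1)) (.node (0,0) (.node (0,0) .nil (.node (39,(.ofNat 1)) .nil .nil)) (.node (24,(.negSucc 0)) .nil .nil)) (.node (15,(.ofNat 1)) (.node (0,0) .nil (.node (46,(.negSucc 0)) .nil .nil)) (.node (30,(.negSucc 0)) .nil .nil))))))
noncomputable def w2 : Trie (ℕ × ℤ) := (.node (0,(.ofNat 1)) (.node (0,0) (.node (0,0) (.node (0,0) (.node (0,0) (.node (0,0) .nil (.node (31,(.negSucc 0)) .nil .nil)) (.node (15,(.ofNat 1)) .nil .nil)) (.node (9,(.negSucc 0)) (.node (0,0) .nil (.node (40,(.ofNat 1)) .nil .nil)) (.node (26,(.negSucc 0)) .nil .nil))) (.node (5,(.negSucc 0)) (.node (0,0) (.node (0,0) .nil (.node (36,(.ofNat 1)) .nil .nil)) (.node (19,(.ofNat 1)) .nil .nil)) (.node (13,(.negSucc 0)) (.node (0,0) .nil (.node (44,(.ofNat 1)) .nil .nil)) (.node (27,(.negSucc 0)) .nil .nil)))) (.node (1,(.ofNat 1)) (.node (0,0) (.node (0,0) (.node (0,0) .nil (.node (35,(.ofNat 1)) .nil .nil)) (.node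 (18,(.ofNat 1)) .nil .nil)) (.node (10,(.ofNat 1)) (.node (0,0) .nil (.node (43,(.ofNat 1)) .nil .nil)) (.node (24,(.ofNat 1)) .nil .nil))) (.node (6,(.ofNat 1)) (.node (0,0) (.node (0,0) .nil (.node (39,(.ofNat 1)) .nil .nil)) (.node (25,(.negSucc 0)) .nil .nil)) (.node (14,(.ofNat 1)) (.node (0,0) .nil (.node (45,(.negSucc 0)) .nil .nil)) (.node (30,(.ofNat 1)) .nil .nil))))) (.node (2,(.negSucc 0)) (.node (0,0) (.node (0,0) (.node (0,0) (.node (0,0) .nil (.node (33,(.ofNat 1)) .nil .nil)) (.node (17,(.ofNat 1)) .nil .nil)) (.node (8,(.ofNat 1)) (.node (0,0) .nil (.node (41,(.ofNat 1)) .nil .nil)) (.node (22,(.negSucc 0)) .nil .nil))) (.node (4,(.ofNat 1)) (.node (0,0) (.node (0,0) .nil (.node (37,(.ofNat 1)) .nil .nil)) (.node (23,(.ofNat 1)) .nil .nil)) (.node (12,(.ofNat 1)) (.node (0,0) .nil (.node (46,(.ofNat 1)) .nil .nil)) (.node (29,(.ofNat 1)) .nil .nil)))) (.node (3,(.ofNat 1)) (.node (0,0) (.node (0,0) (.node (0,0) .nil (.node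 (34,(.negSucc 0)) .nil .nil)) (.node (20,(.negSucc 0)) .nil .nil)) (.node (11,(.ofNat 1)) (.node (0,0) .nil (.node (42,(.negSucc 0)) .nil .nil)) (.node (28,(.ofNat 1)) .nil .nil))) (.node (7,(.ofNat 1)) (.node (0,0) (.node (0,0) .nil (.node (38,(.negSucc 0)) .nil .nil)) (.node (21,(.negSucc 0)) .nil .nil)) (.node (16,(.negSucc 0)) (.node (0,0) .nil (.node (47,(.ofNat 1)) .nil .nil)) (.node (32,(.ofNat 1)) .nil .nil))))))
noncomputable def w1 : Trie (ℕ × ℤ) := (.node (0,(.ofNat 1)) (.node (0,0) (.node (0,0) (.node (0,0) (.node (0,0) (.node (0,0) .nil (.node (32,(.ofNat 1)) .nil .nil)) (.node (21,(.negSucc 0)) .nil .nil)) (.node (7,(.ofNat 1)) (.node (0,0) .nil (.node (39,(.negSucc 0)) .nil .nil)) (.node (24,(.ofNat 1)) .nil .nil))) (.node (2,(.ofNat 1)) (.node (0,0) (.node (0,0) .nil (.node (38,(.ofNat 1)) .nil .nil)) (.node (27,(.negSucc 0)) .nil .nil)) (.node (10,(.ofNat 1)) (.node (0,0) .nil (.node (44,(.negSucc 0)) .nil .nil)) (.node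 (28,(.negSucc 0)) .nil .nil)))) (.node (4,(.ofNat 1)) (.node (0,0) (.node (0,0) (.node (0,0) .nil (.node (33,(.negSucc 0)) .nil .nil)) (.node (18,(.negSucc 0)) .nil .nil)) (.node (12,(.negSucc 0)) (.node (0,0) .nil (.node (42,(.ofNat 1)) .nil .nil)) (.node (31,(.negSucc 0)) .nil .nil))) (.node (6,(.ofNat 1)) (.node (0,0) (.node (0,0) .nil (.node (36,(.negSucc 0)) .nil .nil)) (.node (17,(.negSucc 0)) .nil .nil)) (.node (13,(.ofNat 1)) (.node (0,0) .nil (.node (46,(.ofNat 1)) .nil .nil)) (.node (25,(.negSucc 0)) .nil .nil))))) (.node (1,(.ofNat 1)) (.node (0,0) (.node (0,0) (.node (0,0) (.node (0,0) .nil (.node (34,(.ofNat 1)) .nil .nil)) (.node (22,(.negSucc 0)) .nil .nil)) (.node (11,(.negSucc 0)) (.node (0,0) .nil (.node (41,(.ofNat 1)) .nil .nil)) (.node (30,(.negSucc 0)) .nil .nil))) (.node (5,(.ofNat 1)) (.node (0,0) (.node (0,0) .nil (.node (35,(.negSucc 0)) .nil .nil)) (.node (16,(.negSucc 0)) .nil .nil)) (.node (14,(.negSucc 0))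 (.node (0,0) .nil (.node (43,(.ofNat 1)) .nil .nil)) (.node (29,(.negSucc 0)) .nil .nil)))) (.node (3,(.negSucc 0)) (.node (0,0) (.node (0,0) (.node (0,0) .nil (.node (37,(.ofNat 1)) .nil .nil)) (.node (19,(.negSucc 0)) .nil .nil)) (.node (9,(.ofNat 1)) (.node (0,0) .nil (.node (45,(.ofNat 1)) .nil .nil)) (.node (20,(.negSucc 0)) .nil .nil))) (.node (8,(.negSucc 0)) (.node (0,0) (.node (0,0) .nil (.node (40,(.ofNat 1)) .nil .nil)) (.node (23,(.ofNat 1)) .nil .nil)) (.node (15,(.ofNat 1)) (.node (0,0) .nil (.node (47,(.ofNat 1)) .nil .nil)) (.node (26,(.negSucc 0)) .nil .nil))))))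
noncomputable def w0 : Trie (ℕ × ℤ) := (.node (0,(.ofNat 1)) (.node (0,0) (.node (0,0) (.node (0,0) (.node (0,0) (.node (0,0) .nil (.node (43,(.negSucc 0)) .nil .nil)) (.node (5,(.negSucc 0)) .nil .nil)) (.node (8,(.negSucc 0)) (.node (0,0) .nil (.node (44,(.ofNat 1)) .nil .nil)) (.node (24,(.ofNat 1)) .nil .nil))) (.node (15,(.negSucc 0)) (.node (0,0) (.node (0,0) .nil (.node (29,(.ofNat 1)) .nil .nil)) (.node (13,(.negSucc 0)) .nil .nil)) (.node (19,(.ofNat 1)) (.node (0,0) .nil (.node (40,(.negSucc 0)) .nil .nil)) (.node (35,(.negSucc 0)) .nil .nil)))) (.node (2,(.ofNat 1)) (.node (0,0) (.node (0,0) (.node (0,0) .nil (.node (27,(.ofNat 1)) .nil .nil)) (.node (11,(.negSucc 0)) .nil .nil)) (.node (10,(.negSucc 0)) (.node (0,0) .nil (.node (31,(.negSucc 0)) .nil .nil)) (.node (26,(.ofNat 1)) .nil .nil))) (.node (17,(.negSucc 0)) (.node (0,0) (.node (0,0) .nil (.node (38,(.negSucc 0)) .nil .nil)) (.node (22,(.ofNat 1)) .nil .nil)) (.node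 (33,(.negSucc 0)) (.node (0,0) .nil (.node (46,(.ofNat 1)) .nil .nil)) (.node (41,(.negSucc 0)) .nil .nil))))) (.node (1,(.ofNat 1)) (.node (0,0) (.node (0,0) (.node (0,0) (.node (0,0) .nil (.node (14,(.negSucc 0)) .nil .nil)) (.node (6,(.negSucc 0)) .nil .nil)) (.node (9,(.negSucc 0)) (.node (0,0) .nil (.node (30,(.negSucc 0)) .nil .nil)) (.node (25,(.ofNat 1)) .nil .nil))) (.node (16,(.negSucc 0)) (.node (0,0) (.node (0,0) .nil (.node (37,(.negSucc 0)) .nil .nil)) (.node (21,(.ofNat 1)) .nil .nil)) (.node (20,(.ofNat 1)) (.node (0,0) .nil (.node (45,(.ofNat 1)) .nil .nil)) (.node (36,(.negSucc 0)) .nil .nil)))) (.node (7,(.negSucc 0)) (.node (0,0) (.node (0,0) (.node (0,0) .nil (.node (28,(.ofNat 1)) .nil .nil)) (.node (12,(.negSucc 0)) .nil .nil)) (.node (18,(.ofNat 1)) (.node (0,0) .nil (.node (32,(.negSucc 0)) .nil .nil)) (.node (34,(.negSucc 0)) .nil .nil))) (.node (3,(.ofNat 1)) (.node (0,0) (.node (0,0) .nil (.node (39,(.negSucc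 0)) .nil .nil)) (.node (23,(.ofNat 1)) .nil .nil)) (.node (4,(.negSucc 0)) (.node (0,0) .nil (.node (47,(.ofNat 1)) .nil .nil)) (.node (42,(.negSucc 0)) .nil .nil))))))
noncomputable def w : Trie (Trie (ℕ × ℤ)) := (.node w0 (.node .nil .nil (.node w2 .nil .nil)) (.node w1 .nil (.node w3 .nil .nil)))
noncomputable def chi : Trie ℕ := (.node 3584058971944521077275010700440990347315493 (.node 0 (.node 0 (.node 0 (.node 0 (.node 0 .nil (.node 12693410312445328599962305028316889569441490 .nil .nil)) (.node 6727002783761210767507639268313677488039708 .nil .nil)) (.node 3278570331621372973978539208937590294960365 (.node 0 .nil (.node 15922106466805302649507439203316246434919497 .nil .nil)) (.node 11996680689255748034056856438183419739977442 .nil .nil))) (.node 6414518416125005941854107834690896361838820 (.node 0 (.node 0 .nil (.node 15139624501072437724289485006056106880701657 .nil .nil)) (.node 9471709885398411272774230795436913777809243 .nil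 .nil)) (.node 8853736877439058343824227870310732599253227 (.node 0 .nil (.node 15929102194118359371864499145435627508765257 .nil .nil)) (.node 10254191851131276197992184992697053332027083 .nil .nil)))) (.node 6328766073581721582541602227564226637085028 (.node 0 (.node 0 (.node 0 .nil (.node 9650210297798036713756301951809634301162587 .nil .nil)) (.node 3982295682124010262241047741190441198270173 .nil .nil)) (.node 8767984534895773984511722263184062874499435 (.node 0 .nil (.node 12394917399435237219022893478932870590932122 .nil .nil)) (.node 12302169329578896137353327929686819792332570 .nil .nil))) (.node 9159225517762206447120699361814132651608355 (.node 0 (.node 0 .nil (.node 15225376843615722083601990613182776605455449 .nil .nil)) (.node 9251973587618547528790264911060183450207907 .nil .nil)) (.node 9550466500628638909729676460444202428717275 (.node 0 .nil (.node 13091647022624817784928342069066340420396170 .nil .nil)) (.node 9948703210808128094695713501193653279671955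 .nil .nil))))) (.node 6023277433258573479245130736060826584729900 (.node 0 (.node 0 (.node 0 (.node 0 .nil (.node 9564457955254752354443796344682964576408795 .nil .nil)) (.node 9166221245075263169477759303933513725454115 .nil .nil)) (.node 3889547612267669180571482191944390399670621 (.node 0 .nil (.node 9955698938121184817052773443313034353517715 .nil .nil)) (.node 9862950868264843735383207894066983554918163 .nil .nil))) (.node 6720007056448154045150579326194296414193948 (.node 0 (.node 0 .nil (.node 10346939920987617279661750541943104130626635 .nil .nil)) (.node 6812755126304495126820144875440347212793500 .nil .nil)) (.node 9464714158085354550417170853317532703963483 (.node 0 .nil (.node 12786158382301669681631870577562940368041042 .nil .nil)) (.node 15132628773759381001932425063936725806855897 .nil .nil)))) (.node 3185822261765031892308973659691539496360813 (.node 0 (.node 0 (.node 0 .nil (.node 10261187578444332920349244934816434405872843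 .nil .nil)) (.node 8860732604752115066181287812430113673098987 .nil .nil)) (.node 3975299954810953539883987799071060124424413 (.node 0 .nil (.node 12700406039758385322319364970436270643287250 .nil .nil)) (.node 9643214570484979991399242009690253227316827 .nil .nil))) (.node 3192817989078088614666033601810920570206573 (.node 0 (.node 0 .nil (.node 15836354124262018290194933596189576710165705 .nil .nil)) (.node 7118243766627643230116616366943747265148628 .nil .nil)) (.node 6421514143438062664211167776810277435684580 (.node 0 .nil (.node 15530865483938870186898462104686176657810577 .nil .nil)) (.node 12387921672122180496665833536813489517086362 .nil .nil))))))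
noncomputable def par : Trie (ℕ × ℕ × ℕ) := (.node (3,1,8) (.node (0,0,0) (.node (0,0,0) (.node (0,0,0) (.node (0,0,0) (.node (0,0,0) .nil (.node (2,31,3) .nil .nil)) (.node (3,17,3) .nil .nil)) (.node (2,9,6) (.node (0,0,0) .nil (.node (1,39,6) .nil .nil)) (.node (2,26,2) .nil .nil))) (.node (2,5,5) (.node (0,0,0) (.node (0,0,0) .nil (.node (3,35,3) .nil .nil)) (.node (0,13,3) .nil .nil)) (.node (2,13,3) (.node (0,0,0) .nil (.node (0,40,7) .nil .nil)) (.node (2,27,3) .nil .nil)))) (.node (1,4,6) (.node (0,0,0) (.node (0,0,0) (.node (0,0,0) .nil (.node (1,33,1) .nil .nil)) (.node (3,19,5) .nil .nil)) (.node (1,12,4) (.node (0,0,0) .nil (.node (3,41,3) .nil .nil)) (.node (3,25,1) .nil .nil))) (.node (0,17,3) (.node (0,0,0) (.node (0,0,0) .nil (.node (3,37,4) .nil .nil)) (.node (2,25,1) .nil .nil)) (.node (0,33,1) (.node (0,0,0) .nil (.node (2,45,6) .nil .nil)) (.node (1,25,1) .nil .nil))))) (.node (2,2,7) (.node (0,0,0) (.node (0,0,0) (.node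 (0,0,0) (.node (0,0,0) .nil (.node (4,0,0) .nil .nil)) (.node (1,22,2) .nil .nil)) (.node (3,10,5) (.node (0,0,0) .nil (.node (0,30,2) .nil .nil)) (.node (4,2,0) .nil .nil))) (.node (3,6,4) (.node (0,0,0) (.node (0,0,0) .nil (.node (1,35,3) .nil .nil)) (.node (3,22,2) .nil .nil)) (.node (1,14,2) (.node (0,0,0) .nil (.node (1,43,5) .nil .nil)) (.node (3,28,4) .nil .nil)))) (.node (0,7,8) (.node (0,0,0) (.node (0,0,0) (.node (0,0,0) .nil (.node (2,34,2) .nil .nil)) (.node (2,20,4) .nil .nil)) (.node (3,12,4) (.node (0,0,0) .nil (.node (2,42,4) .nil .nil)) (.node (0,34,2) .nil .nil))) (.node (1,8,7) (.node (0,0,0) (.node (0,0,0) .nil (.node (2,38,5) .nil .nil)) (.node (2,21,3) .nil .nil)) (.node (2,16,4) (.node (0,0,0) .nil (.node (3,46,7) .nil .nil)) (.node (3,30,2) .nil .nil))))))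
noncomputable def T : Tabs := ⟨4, 48, 52, ex, nt⟩
noncomputable def X : Extra := ⟨w, chi, .nil, par⟩
theorem ex_ok : exBeq chevF4 T.ex = true := by decide +kernel
end Cfsg.Agent.Lib.Chev.TabF4
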