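import Cfsg.Agent.Lib.Chev.Comm
import Cfsg.Prelude.Def_ChevG2

namespace Cfsg.Agent.Lib.Chev.TabG2
open Cfsg.Agent.Lib.Chev Cfsg.Lie

noncomputable def ex0 : Trie (List (ℕ × ℤ × ℕ)) := (.node [] (.node [] (.node [] (.node [] .nil (.node [(3,(.ofNat 1),1)] .nil .nil)) (.node [] .nil (.node [(7,(.negSucc 0),1)] .nil .nil))) (.node [] (.node [] .nil (.node [(4,(.ofNat 1),1)] .nil .nil)) .nil)) (.node [(2,(.ofNat 1),1)] (.node [] .nil (.node [] .nil (.node [(0,(.negSucc 0),1),(1,(.negSucc 1),1),(2,(.negSucc 0),2)] .nil .nil))) (.node [] (.node [] .nil (.node [(5,(.negSucc 0),1)] .nil .nil)) .nil)))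
noncomputable def ex1 : Trie (List (ℕ × ℤ × ℕ)) := (.node [(3,(.ofNat 3),1)] (.node [] (.node [] .nil (.node [] .nil (.node [(0,(.negSucc 0),1),(1,(.negSucc 0),1),(3,(.negSucc 0),2)] .nil .nil))) .nil) (.node [(3,(.negSucc 0),1)] (.node [] (.node [] .nil (.node [(4,(.ofNat 1),1)] .nil .nil)) (.node [] .nil (.node [(8,(.negSucc 0),1)] .nil .nil))) (.node [] (.node [] .nil (.node [(6,(.negSucc 0),1)] .nil .nil)) (.node [(2,(.ofNat 1),1)] .nil .nil))))
noncomputable def ex2 : Trie (List (ℕ × ℤ × ℕ)) := (.node [(4,(.ofNat 1),1)] (.node [] (.node [] .nil (.node [] .nil (.node [(9,(.negSucc 0),1),(5,(.ofNat 1),2),(2,(.ofNat 1),3)] .nil .nil))) (.node [] (.node [] .nil (.node [(6,(.ofNat 2),1),(3,(.ofNat 3),2)] .nil .nil)) (.node [(3,(.ofNat 3),1)] .nil .nil))) (.node [] (.node [] (.node [] .nil (.node [(5,(.negSucc 1),1),(2,(.negSucc 2),2)] .nil .nil)) (.node [(2,(.ofNat 3),1)] .nil (.node [(10,(.negSucc 0),1),(6,(.negSucc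 0),2),(3,(.negSucc 0),3)] .nil .nil))) (.node [] (.node [] .nil (.node [(0,(.negSucc 1),1),(1,(.negSucc 2),1),(4,(.negSucc 0),2)] .nil .nil)) .nil)))
noncomputable def ex3 : Trie (List (ℕ × ℤ × ℕ)) := (.node [(5,(.negSucc 0),1)] (.node [] (.node [] (.node [] .nil (.node [(6,(.ofNat 1),1),(4,(.negSucc 0),2),(2,(.ofNat 1),3)] .nil .nil)) (.node [(2,(.negSucc 2),1)] .nil .nil)) (.node [] (.node [] .nil (.node [(0,(.negSucc 0),1),(1,(.negSucc 2),1),(5,(.negSucc 0),2)] .nil .nil)) (.node [(4,(.negSucc 1),1),(2,(.ofNat 3),2)] .nil .nil))) (.node [(5,(.ofNat 1),1)] (.node [] (.node [] .nil (.node [(7,(.negSucc 2),1)] .nil .nil)) (.node [] .nil (.node [(11,(.ofNat 1),1),(9,(.ofNat 1),2),(7,(.negSucc 0),3)] .nil .nil))) (.node [] (.node [] .nil (.node [(9,(.ofNat 2),1),(7,(.negSucc 2),2)] .nil .nil)) .nil)))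
noncomputable def ex4 : Trie (List (ℕ × ℤ × ℕ)) := (.node [(6,(.ofNat 2),1)] (.node [] (.node [] .nil (.node [(3,(.negSucc 2),1)] .nil (.node [(11,(.ofNat 1),1),(10,(.negSucc 0),2),(8,(.ofNat 1),3)] .nil .nil))) (.node [] (.node [] .nil (.node [(8,(.negSucc 2),1)] .nil .nil)) (.node [] .nil .nil))) (.node [(6,(.negSucc 0),1)] (.node [] (.node [] .nil (.node [(0,(.negSucc 0),1),(6,(.negSucc 0),2)] .nil .nil)) (.node [(4,(.ofNat 2),1),(3,(.negSucc 2),2)] .nil .nil)) (.node [] (.node [] .nil (.node [(10,(.negSucc 1),1),(8,(.ofNat 3),2)] .nil .nil)) (.node [(5,(.ofNat 1),1),(4,(.ofNat 1),2),(3,(.negSucc 0),3)] .nil .nil))))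
noncomputable def ex5 : Trie (List (ℕ × ℤ × ℕ)) := (.node [(7,(.negSucc 2),1)] (.node [] (.node [] (.node [] .nil (.node [(1,(.negSucc 0),1),(7,(.negSucc 0),2)] .nil .nil)) .nil) (.node [] (.node [] .nil (.node [(9,(.ofNat 1),1)] .nil .nil)) (.node [(5,(.negSucc 0),1)] .nil .nil))) (.node [(7,(.ofNat 2),1)] (.node [] .nil (.node [] .nil (.node [(12,(.ofNat 1),1)] .nil .nil))) (.node [(2,(.negSucc 0),1)] .nil (.node [] .nil .nil))))
noncomputable def ex6 : Trie (List (ℕ × ℤ × ℕ)) := (.node [(8,(.ofNat 3),1)] (.node [] (.node [] (.node [] .nil (.node [] .nil .nil)) (.node [] .nil (.node [(13,(.ofNat 1),1)] .nil .nil))) (.node [(3,(.negSucc 0),1)] .nil .nil)) (.node [(8,(.negSucc 1),1)] (.node [] (.node [] .nil (.node [(10,(.ofNat 1),1)] .nil .nil)) (.node [(6,(.negSucc 0),1)] .nil .nil)) (.node [] .nil (.node [(1,(.ofNat 1),1),(8,(.negSucc 0),2)] .nil .nil))))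
noncomputable def ex7 : Trie (List (ℕ × ℤ × ℕ)) := (.node [(9,(.negSucc 1),1)] (.node [] (.node [] (.node [] .nil (.node [(10,(.negSucc 0),1),(11,(.ofNat 1),2),(12,(.ofNat 1),3)] .nil .nil)) (.node [(5,(.ofNat 2),1),(7,(.ofNat 3),2)] .nil .nil)) (.node [] (.node [] .nil (.node [(11,(.negSucc 1),1),(12,(.negSucc 2),2)] .nil .nil)) (.node [(0,(.ofNat 1),1),(9,(.negSucc 0),2)] .nil .nil))) (.node [(9,(.ofNat 1),1)] (.node [] (.node [] .nil (.node [] .nil .nil)) (.node [(7,(.ofNat 3),1)] .nil .nil)) (.node [(4,(.negSucc 0),1),(5,(.negSucc 0),2),(7,(.negSucc 0),3)] (.node [] .nil (.node [(12,(.ofNat 3),1)] .nil .nil)) .nil)))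
noncomputable def ex8 : Trie (List (ℕ × ℤ × ℕ)) := (.node [(10,(.ofNat 1),1)] (.node [] (.node [] .nil (.node [(6,(.negSucc 1),1),(8,(.negSucc 2),2)] .nil .nil)) (.node [(4,(.negSucc 0),1),(6,(.ofNat 1),2),(8,(.ofNat 1),3)] (.node [] .nil (.node [] .nil .nil)) (.node [(8,(.ofNat 3),1)] .nil .nil))) (.node [(10,(.negSucc 0),1)] (.node [] (.node [] .nil (.node [(11,(.ofNat 2),1),(13,(.ofNat 3),2)] .nil .nil)) (.node [(0,(.ofNat 1),1),(1,(.ofNat 3),1),(10,(.negSucc 0),2)] .nil .nil)) (.node [] (.node [] .nil (.node [(13,(.ofNat 3),1)] .nil .nil)) (.node [(9,(.negSucc 0),1),(11,(.negSucc 0),2),(13,(.negSucc 0),3)] .nil .nil))))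
noncomputable def ex9 : Trie (List (ℕ × ℤ × ℕ)) := (.node [(11,(.negSucc 0),1)] (.node [] (.node [] .nil (.node [(0,(.ofNat 2),1),(1,(.ofNat 3),1),(11,(.negSucc 0),2)] .nil .nil)) (.node [(5,(.ofNat 1),1),(9,(.negSucc 0),2),(12,(.ofNat 1),3)] (.node [] .nil (.node [(13,(.negSucc 2),1)] .nil .nil)) (.node [(10,(.ofNat 2),1),(13,(.negSucc 2),2)] .nil .nil))) (.node [] (.node [] (.node [] .nil (.node [(12,(.negSucc 2),1)] .nil .nil)) (.node [(9,(.negSucc 1),1),(12,(.ofNat 3),2)] .nil .nil)) (.node [(6,(.ofNat 1),1),(10,(.ofNat 1),2),(13,(.negSucc 0),3)] (.node [] .nil (.node [] .nil .nil)) .nil)))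
noncomputable def ex10 : Trie (List (ℕ × ℤ × ℕ)) := (.node [(12,(.negSucc 2),1)] (.node [] (.node [] (.node [] .nil (.node [(13,(.negSucc 0),1)] .nil .nil)) (.node [(9,(.ofNat 1),1)] .nil (.node [] .nil .nil))) (.node [(7,(.ofNat 1),1)] .nil (.node [(11,(.negSucc 0),1)] .nil .nil))) (.node [(12,(.ofNat 1),1)] .nil (.node [(0,(.ofNat 1),1),(1,(.ofNat 1),1),(12,(.negSucc 0),2)] .nil .nil)))
noncomputable def ex11 : Trie (List (ℕ × ℤ × ℕ)) := (.node [] (.node [] (.node [] .nil (.node [(10,(.ofNat 1),1)] .nil .nil)) (.node [(0,(.ofNat 1),1),(1,(.ofNat 2),1),(13,(.negSucc 0),2)] .nil .nil)) (.node [(13,(.negSucc 0),1)] (.node [] .nil (.node [(11,(.negSucc 0),1)] .nil (.node [] .nil .nil))) (.node [(8,(.ofNat 1),1)] .nil (.node [(12,(.negSucc 0),1)] .nil .nil))))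
noncomputable def ex : Trie (Trie (List (ℕ × ℤ × ℕ))) := (.node ex0 (.node .nil (.node .nil (.node .nil .nil (.node ex8 .nil .nil)) (.node ex4 .nil .nil)) (.node ex2 (.node .nil .nil (.node ex10 .nil .nil)) (.node ex6 .nil .nil))) (.node ex1 (.node .nil (.node .nil .nil (.node ex9 .nil .nil)) (.node ex5 .nil .nil)) (.node ex3 (.node .nil .nil (.node ex11 .nil .nil)) (.node ex7 .nil .nil))))
noncomputable def nt1 : Trie (List (ℕ × ℤ)) := (.node [(0,(.ofNat 1)),(1,(.ofNat 3))] (.node [] (.node [] (.node [] .nil (.node [(7,(.negSucc 0))] .nil .nil)) (.node [(4,(.ofNat 1))] .nil (.node [(13,(.ofNat 1))] .nil .nil))) (.node [(3,(.negSucc 0))] (.node [] .nil (.node [(9,(.negSucc 0))] .nil .nil)) (.node [(5,(.ofNat 1))] .nil .nil))) (.node [(1,(.negSucc 0))] (.node [] (.node [] .nil (.node [(10,(.ofNat 1))] .nil .nil)) (.node [(6,(.negSucc 0))] .nil (.node [(12,(.negSucc 0))] .nil .nil))) (.node [(2,(.ofNat 1))] (.node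 [] .nil (.node [(11,(.ofNat 1))] .nil .nil)) (.node [(8,(.negSucc 0))] .nil .nil))))
noncomputable def nt0 : Trie (List (ℕ × ℤ)) := (.node [(0,(.negSucc 0))] (.node [] (.node [] (.node [] .nil (.node [(12,(.ofNat 1))] .nil .nil)) (.node [(5,(.negSucc 0))] .nil (.node [(8,(.negSucc 0))] .nil .nil))) (.node [(2,(.ofNat 1))] (.node [] .nil (.node [(11,(.ofNat 1))] .nil .nil)) (.node [(9,(.negSucc 0))] .nil .nil))) (.node [(0,(.ofNat 1)),(1,(.ofNat 1))] (.node [] (.node [] .nil (.node [(6,(.negSucc 0))] .nil .nil)) (.node [(4,(.ofNat 1))] .nil (.node [(13,(.ofNat 1))] .nil .nil))) (.node [(7,(.negSucc 0))] (.node [] .nil (.node [(10,(.negSucc 0))] .nil .nil)) (.node [(3,(.ofNat 1))] .nil .nil))))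
noncomputable def nt : Trie (Trie (List (ℕ × ℤ))) := (.node nt0 .nil (.node nt1 .nil .nil))
noncomputable def w1 : Trie (ℕ × ℤ) := (.node (1,(.negSucc 0)) (.node (0,0) (.node (0,0) (.node (0,0) .nil (.node (7,(.negSucc 0)) .nil .nil)) (.node (3,(.ofNat 1)) .nil .nil)) (.node (2,(.ofNat 1)) (.node (0,0) .nil (.node (11,(.ofNat 1)) .nil .nil)) (.node (5,(.negSucc 0)) .nil .nil))) (.node (0,(.ofNat 1)) (.node (0,0) (.node (0,0) .nil (.node (9,(.ofNat 1)) .nil .nil)) (.node (6,(.negSucc 0)) .nil .nil)) (.node (4,(.negSucc 0)) (.node (0,0) .nil (.node (10,(.negSucc 0)) .nil .nil)) (.node (8,(.ofNat 1)) .nil .nil))))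
noncomputable def w0 : Trie (ℕ × ℤ) := (.node (0,(.ofNat 1)) (.node (0,0) (.node (0,0) (.node (0,0) .nil (.node (9,(.ofNat 1)) .nil .nil)) (.node (7,(.negSucc 0)) .nil .nil)) (.node (3,(.negSucc 0)) (.node (0,0) .nil (.node (6,(.negSucc 0)) .nil .nil)) (.node (10,(.ofNat 1)) .nil .nil))) (.node (5,(.negSucc 0)) (.node (0,0) (.node (0,0) .nil (.node (8,(.negSucc 0)) .nil .nil)) (.node (1,(.ofNat 1)) .nil .nil)) (.node (2,(.ofNat 1)) (.node (0,0) .nil (.node (11,(.ofNat 1)) .nil .nil)) (.node (4,(.negSucc 0)) .nil .nil))))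
noncomputable def w : Trie (Trie (ℕ × ℤ)) := (.node w0 .nil (.node w1 .nil .nil))
noncomputable def chi : Trie ℕ := (.node 11046369573 (.node 0 (.node 0 (.node 0 .nil (.node 55387374232 .nil .nil)) (.node 26109039923 .nil .nil)) (.node 172870006 (.node 0 .nil (.node 40324703882 .nil .nil)) (.node 36982539490 .nil .nil))) (.node 18577704748 (.node 0 (.node 0 .nil (.node 58729538624 .nil .nil)) (.node 21919869140 .nil .nil)) (.node 3515034398 (.node 0 .nil (.node 47856039057 .nil .nil)) (.node 32793368707 .nil .nil))))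
noncomputable def par : Trie (ℕ × ℕ × ℕ) := (.node (1,1,3) (.node (0,0,0) (.node (0,0,0) (.node (0,0,0) .nil (.node (1,7,1) .nil .nil)) (.node (0,7,1) .nil .nil)) (.node (0,3,3) (.node (0,0,0) .nil (.node (0,6,1) .nil .nil)) (.node (2,1,0) .nil .nil))) (.node (0,5,2) (.node (0,0,0) (.node (0,0,0) .nil (.node (0,8,2) .nil .nil)) (.node (1,6,1) .nil .nil)) (.node (1,4,2) (.node (0,0,0) .nil (.node (1,10,2) .nil .nil)) (.node (2,0,0) .nil .nil))))
noncomputable def T : Tabs := ⟨2, 12, 14, ex, nt⟩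
noncomputable def X : Extra := ⟨w, chi, .nil, par⟩
theorem ex_ok : exBeq chevG2 T.ex = true := by decide +kernel
end Cfsg.Agent.Lib.Chev.TabG2
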