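import Cfsg.Agent.Lib.Chev.TwSign
import Cfsg.Agent.Lib.Chev.TabE6
import Cfsg.Agent.Lib.Chev.RootE6T

namespace Cfsg.Agent.Lib.Chev.TwTabE6
open Cfsg.Agent.Lib.Chev Cfsg.Lie

noncomputable def rf : Trie ℕ := (.node 0 (.node 0 (.node 0 (.node 0 (.node 0 (.node 0 (.node 0 .nil (.node 54 .nil .nil)) (.node 32 .nil .nil)) (.node 4 .nil (.node 50 .nil .nil))) (.node 8 (.node 0 .nil (.node 43 .nil .nil)) (.node 24 .nil (.node 36 .nil .nil)))) (.node 16 (.node 0 (.node 0 (.node 0 .nil (.node 66 .nil .nil)) (.node 56 .nil .nil)) (.node 20 .nil (.node 62 .nil .nil))) (.node 26 (.node 0 .nil (.node 44 .nil .nil)) (.node 31 .nil (.node 60 .nil .nil))))) (.node 2 (.node 0 (.node 0 (.node 0 (.node 0 .nil (.node 68 .nil .nil)) (.node 29 .nil .nil)) (.node 18 .nil (.node 48 .nil .nil))) (.node 22 (.node 0 .nil (.node 37 .nil .nil)) (.node 12 .nil (.node 41 .nil .nil)))) (.node 6 (.node 0 (.node 0 (.node 0 .nil (.node 70 .nil .nil)) (.node 57 .nil .nil))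 (.node 10 .nil (.node 64 .nil .nil))) (.node 33 (.node 0 .nil (.node 46 .nil .nil)) (.node 13 .nil (.node 52 .nil .nil)))))) (.node 1 (.node 0 (.node 0 (.node 0 (.node 0 (.node 0 .nil (.node 65 .nil .nil)) (.node 14 .nil .nil)) (.node 7 .nil (.node 61 .nil .nil))) (.node 19 (.node 0 .nil (.node 58 .nil .nil)) (.node 25 .nil (.node 38 .nil .nil)))) (.node 3 (.node 0 (.node 0 (.node 0 .nil (.node 69 .nil .nil)) (.node 42 .nil .nil)) (.node 23 .nil (.node 53 .nil .nil))) (.node 30 (.node 0 .nil (.node 59 .nil .nil)) (.node 34 .nil (.node 49 .nil .nil))))) (.node 5 (.node 0 (.node 0 (.node 0 (.node 0 .nil (.node 55 .nil .nil)) (.node 15 .nil .nil)) (.node 9 .nil (.node 51 .nil .nil))) (.node 11 (.node 0 .nil (.node 40 .nil .nil)) (.node 27 .nil (.node 45 .nil .nil)))) (.node 17 (.node 0 (.node 0 (.node 0 .nil (.node 71 .nil .nil)) (.node 39 .nil .nil)) (.node 21 .nil (.node 67 .nil .nil))) (.node 35 (.node 0 .nil (.node 47 .nil .nil)) (.node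 28 .nil (.node 63 .nil .nil)))))))
noncomputable def ri : Trie ℕ := (.node 0 (.node 0 (.node 0 (.node 0 (.node 0 (.node 0 (.node 0 .nil (.node 54 .nil .nil)) (.node 32 .nil .nil)) (.node 4 .nil (.node 50 .nil .nil))) (.node 8 (.node 0 .nil (.node 43 .nil .nil)) (.node 24 .nil (.node 36 .nil .nil)))) (.node 16 (.node 0 (.node 0 (.node 0 .nil (.node 66 .nil .nil)) (.node 56 .nil .nil)) (.node 20 .nil (.node 62 .nil .nil))) (.node 26 (.node 0 .nil (.node 44 .nil .nil)) (.node 31 .nil (.node 60 .nil .nil))))) (.node 2 (.node 0 (.node 0 (.node 0 (.node 0 .nil (.node 68 .nil .nil)) (.node 29 .nil .nil)) (.node 18 .nil (.node 48 .nil .nil))) (.node 22 (.node 0 .nil (.node 37 .nil .nil)) (.node 12 .nil (.node 41 .nil .nil)))) (.node 6 (.node 0 (.node 0 (.node 0 .nil (.node 70 .nil .nil)) (.node 57 .nil .nil)) (.node 10 .nil (.node 64 .nil .nil))) (.node 33 (.node 0 .nil (.node 46 .nil .nil)) (.node 13 .nil (.node 52 .nil .nil)))))) (.node 1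 (.node 0 (.node 0 (.node 0 (.node 0 (.node 0 .nil (.node 65 .nil .nil)) (.node 14 .nil .nil)) (.node 7 .nil (.node 61 .nil .nil))) (.node 19 (.node 0 .nil (.node 58 .nil .nil)) (.node 25 .nil (.node 38 .nil .nil)))) (.node 3 (.node 0 (.node 0 (.node 0 .nil (.node 69 .nil .nil)) (.node 42 .nil .nil)) (.node 23 .nil (.node 53 .nil .nil))) (.node 30 (.node 0 .nil (.node 59 .nil .nil)) (.node 34 .nil (.node 49 .nil .nil))))) (.node 5 (.node 0 (.node 0 (.node 0 (.node 0 .nil (.node 55 .nil .nil)) (.node 15 .nil .nil)) (.node 9 .nil (.node 51 .nil .nil))) (.node 11 (.node 0 .nil (.node 40 .nil .nil)) (.node 27 .nil (.node 45 .nil .nil)))) (.node 17 (.node 0 (.node 0 (.node 0 .nil (.node 71 .nil .nil)) (.node 39 .nil .nil)) (.node 21 .nil (.node 67 .nil .nil))) (.node 35 (.node 0 .nil (.node 47 .nil .nil)) (.node 28 .nil (.node 63 .nil .nil)))))))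
noncomputable def pf : Trie ℕ := (.node 5 (.node 0 (.node 0 .nil (.node 2 .nil .nil)) (.node 4 .nil .nil)) (.node 1 (.node 0 .nil (.node 0 .nil .nil)) (.node 3 .nil .nil)))
noncomputable def pi : Trie ℕ := (.node 5 (.node 0 (.node 0 .nil (.node 2 .nil .nil)) (.node 4 .nil .nil)) (.node 1 (.node 0 .nil (.node 0 .nil .nil)) (.node 3 .nil .nil)))
noncomputable def S : PermTab := ⟨rf, ri, pf, pi⟩
noncomputable def g : Trie ℤ := (.node (.ofNat 1) (.node (.ofNat 1) (.node (.ofNat 1) (.node (.ofNat 1) (.node (.ofNat 1) (.node (.ofNat 1) (.node (.ofNat 1) .nil (.node (.negSucc 0) .nil .nil)) (.node (.ofNat 1) .nil .nil)) (.node (.negSucc 0) .nil (.node (.ofNat 1) .nil .nil))) (.node (.ofNat 1) (.node (.ofNat 1) .nil (.node (.negSucc 0) .nil .nil)) (.node (.ofNat 1) .nil (.node (.ofNat 1) .nil .nil)))) (.node (.negSucc 0) (.node (.ofNat 1) (.node (.ofNat 1) (.node (.ofNat 1) .nil (.node (.ofNat 1) .nil .nil)) (.node (.ofNat 1) .nil .nil)) (.node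 (.ofNat 1) .nil (.node (.negSucc 0) .nil .nil))) (.node (.negSucc 0) (.node (.ofNat 1) .nil (.node (.ofNat 1) .nil .nil)) (.node (.negSucc 0) .nil (.node (.ofNat 1) .nil .nil))))) (.node (.ofNat 1) (.node (.ofNat 1) (.node (.ofNat 1) (.node (.ofNat 1) (.node (.ofNat 1) .nil (.node (.ofNat 1) .nil .nil)) (.node (.ofNat 1) .nil .nil)) (.node (.ofNat 1) .nil (.node (.ofNat 1) .nil .nil))) (.node (.negSucc 0) (.node (.ofNat 1) .nil (.node (.ofNat 1) .nil .nil)) (.node (.negSucc 0) .nil (.node (.ofNat 1) .nil .nil)))) (.node (.ofNat 1) (.node (.ofNat 1) (.node (.ofNat 1) (.node (.ofNat 1) .nil (.node (.ofNat 1) .nil .nil)) (.node (.negSucc 0) .nil .nil)) (.node (.negSucc 0) .nil (.node (.negSucc 0) .nil .nil))) (.node (.negSucc 0) (.node (.ofNat 1) .nil (.node (.ofNat 1) .nil .nil)) (.node (.ofNat 1) .nil (.node (.negSucc 0) .nil .nil)))))) (.node (.ofNat 1) (.node (.ofNat 1) (.node (.ofNat 1) (.node (.ofNat 1) (.node (.ofNat 1) (.node (.ofNat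 1) .nil (.node (.ofNat 1) .nil .nil)) (.node (.negSucc 0) .nil .nil)) (.node (.negSucc 0) .nil (.node (.negSucc 0) .nil .nil))) (.node (.negSucc 0) (.node (.ofNat 1) .nil (.node (.ofNat 1) .nil .nil)) (.node (.ofNat 1) .nil (.node (.negSucc 0) .nil .nil)))) (.node (.ofNat 1) (.node (.ofNat 1) (.node (.ofNat 1) (.node (.ofNat 1) .nil (.node (.ofNat 1) .nil .nil)) (.node (.ofNat 1) .nil .nil)) (.node (.ofNat 1) .nil (.node (.ofNat 1) .nil .nil))) (.node (.ofNat 1) (.node (.ofNat 1) .nil (.node (.negSucc 0) .nil .nil)) (.node (.ofNat 1) .nil (.node (.negSucc 0) .nil .nil))))) (.node (.ofNat 1) (.node (.ofNat 1) (.node (.ofNat 1) (.node (.ofNat 1) (.node (.ofNat 1) .nil (.node (.negSucc 0) .nil .nil)) (.node (.ofNat 1) .nil .nil)) (.node (.negSucc 0) .nil (.node (.ofNat 1) .nil .nil))) (.node (.ofNat 1) (.node (.ofNat 1) .nil (.node (.negSucc 0) .nil .nil)) (.node (.ofNat 1) .nil (.node (.negSucc 0) .nil .nil)))) (.node (.negSucc 0) (.node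 (.ofNat 1) (.node (.ofNat 1) (.node (.ofNat 1) .nil (.node (.ofNat 1) .nil .nil)) (.node (.ofNat 1) .nil .nil)) (.node (.ofNat 1) .nil (.node (.negSucc 0) .nil .nil))) (.node (.ofNat 1) (.node (.ofNat 1) .nil (.node (.ofNat 1) .nil .nil)) (.node (.negSucc 0) .nil (.node (.ofNat 1) .nil .nil)))))))

theorem ok : PermOK RootE6T.R chevE6 S := by
  constructor <;> decide +kernel
theorem sign_ok : checkSign TabE6.T S g = true := by decide +kernel
theorem sq_ok : allBelow (fun r => intIsZero (Int.sub (Int.mul (Trie.find (Int.ofNat 1) g r) (Trie.find (Int.ofNat 1) g r)) (Int.ofNat 1))) chevE6.nroots = true := by decide +kernel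
theorem unit_ok : ∀ r < chevE6.nroots, Trie.find (Int.ofNat 1) g r = 1 ∨ Trie.find (Int.ofNat 1) g r = -1 := by decide +kernel
theorem neg_ok : ∀ r < chevE6.nroots, Trie.find (Int.ofNat 1) g (chevE6.neg r) = Trie.find (Int.ofNat 1) g r := by decide +kernel

end Cfsg.Agent.Lib.Chev.TwTabE6
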