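import Cfsg.Agent.Lib.Chev.TwW1
import Cfsg.Agent.Lib.Chev.TabE6
import Cfsg.Agent.Lib.Chev.RootE6T

namespace Cfsg.Agent.Lib.Chev.TwWE6
open Cfsg.Agent.Lib.Chev Cfsg.Lie

def gen : ℕ → List ℕ
  | 0 => [0, 5]
  | 1 => [1]
  | 2 => [2, 4]
  | 3 => [3]
  | 4 => [2, 4]
  | 5 => [0, 5]
  | _ => []
noncomputable def gm : List (List (List ℤ)) := [[[(.negSucc 0),(.ofNat 0),(.ofNat 0),(.ofNat 0),(.ofNat 0),(.ofNat 0)],[(.ofNat 0),(.ofNat 1),(.ofNat 0),(.ofNat 0),(.ofNat 0),(.ofNat 0)],[(.ofNat 1),(.ofNat 0),(.ofNat 1),(.ofNat 0),(.ofNat 0),(.ofNat 0)],[(.ofNat 0),(.ofNat 0),(.ofNat 0),(.ofNat 1),(.ofNat 0),(.ofNat 0)],[(.ofNat 0),(.ofNat 0),(.ofNat 0),(.ofNat 0),(.ofNat 1),(.ofNat 1)],[(.ofNat 0),(.ofNat 0),(.ofNat 0),(.ofNat 0),(.ofNat 0),(.negSucc 0)]],[[(.ofNat 1),(.ofNat 0),(.ofNat 0),(.ofNat 0),(.ofNat 0),(.ofNat 0)],[(.ofNat 0),(.negSucc 0),(.ofNat 0),(.ofNat 0),(.ofNat 0),(.ofNat 0)],[(.ofNat 0),(.ofNat 0),(.ofNat 1),(.ofNat 0),(.ofNat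 0),(.ofNat 0)],[(.ofNat 0),(.ofNat 1),(.ofNat 0),(.ofNat 1),(.ofNat 0),(.ofNat 0)],[(.ofNat 0),(.ofNat 0),(.ofNat 0),(.ofNat 0),(.ofNat 1),(.ofNat 0)],[(.ofNat 0),(.ofNat 0),(.ofNat 0),(.ofNat 0),(.ofNat 0),(.ofNat 1)]],[[(.ofNat 1),(.ofNat 0),(.ofNat 1),(.ofNat 0),(.ofNat 0),(.ofNat 0)],[(.ofNat 0),(.ofNat 1),(.ofNat 0),(.ofNat 0),(.ofNat 0),(.ofNat 0)],[(.ofNat 0),(.ofNat 0),(.negSucc 0),(.ofNat 0),(.ofNat 0),(.ofNat 0)],[(.ofNat 0),(.ofNat 0),(.ofNat 1),(.ofNat 1),(.ofNat 1),(.ofNat 0)],[(.ofNat 0),(.ofNat 0),(.ofNat 0),(.ofNat 0),(.negSucc 0),(.ofNat 0)],[(.ofNat 0),(.ofNat 0),(.ofNat 0),(.ofNat 0),(.ofNat 1),(.ofNat 1)]],[[(.ofNat 1),(.ofNat 0),(.ofNat 0),(.ofNat 0),(.ofNat 0),(.ofNat 0)],[(.ofNat 0),(.ofNat 1),(.ofNat 0),(.ofNat 1),(.ofNat 0),(.ofNat 0)],[(.ofNat 0),(.ofNat 0),(.ofNat 1),(.ofNat 1),(.ofNat 0),(.ofNat 0)],[(.ofNat 0),(.ofNat 0),(.ofNat 0),(.negSucc 0),(.ofNat 0),(.ofNat 0)],[(.ofNat 0),(.ofNat 0),(.ofNat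 0),(.ofNat 1),(.ofNat 1),(.ofNat 0)],[(.ofNat 0),(.ofNat 0),(.ofNat 0),(.ofNat 0),(.ofNat 0),(.ofNat 1)]],[[(.ofNat 1),(.ofNat 0),(.ofNat 1),(.ofNat 0),(.ofNat 0),(.ofNat 0)],[(.ofNat 0),(.ofNat 1),(.ofNat 0),(.ofNat 0),(.ofNat 0),(.ofNat 0)],[(.ofNat 0),(.ofNat 0),(.negSucc 0),(.ofNat 0),(.ofNat 0),(.ofNat 0)],[(.ofNat 0),(.ofNat 0),(.ofNat 1),(.ofNat 1),(.ofNat 1),(.ofNat 0)],[(.ofNat 0),(.ofNat 0),(.ofNat 0),(.ofNat 0),(.negSucc 0),(.ofNat 0)],[(.ofNat 0),(.ofNat 0),(.ofNat 0),(.ofNat 0),(.ofNat 1),(.ofNat 1)]],[[(.negSucc 0),(.ofNat 0),(.ofNat 0),(.ofNat 0),(.ofNat 0),(.ofNat 0)],[(.ofNat 0),(.ofNat 1),(.ofNat 0),(.ofNat 0),(.ofNat 0),(.ofNat 0)],[(.ofNat 1),(.ofNat 0),(.ofNat 1),(.ofNat 0),(.ofNat 0),(.ofNat 0)],[(.ofNat 0),(.ofNat 0),(.ofNat 0),(.ofNat 1),(.ofNat 0),(.ofNat 0)],[(.ofNat 0),(.ofNat 0),(.ofNat 0),(.ofNat 0),(.ofNat 1),(.ofNat 1)],[(.ofNat 0),(.ofNat 0),(.ofNat 0),(.ofNat 0),(.ofNat 0),(.negSucc 0)]]]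
noncomputable def om : Trie (List ℤ) := (.node [(.ofNat 1),(.ofNat 1),(.ofNat 1),(.ofNat 1),(.ofNat 1),(.ofNat 1)] (.node [] (.node [] (.node [] (.node [] (.node [] (.node [] (.node [] (.node [] (.node [] (.node [] .nil (.node [(.negSucc 4),(.negSucc 6),(.ofNat 2),(.ofNat 2),(.ofNat 2),(.negSucc 4)] .nil .nil)) (.node [(.negSucc 0),(.ofNat 2),(.ofNat 8),(.negSucc 10),(.ofNat 8),(.negSucc 0)] .nil .nil)) (.node [(.ofNat 7),(.ofNat 6),(.negSucc 3),(.negSucc 0),(.negSucc 3),(.ofNat 7)] .nil (.node [(.ofNat 2),(.ofNat 7),(.negSucc 6),(.ofNat 4),(.negSucc 6),(.ofNat 2)] .nil .nil))) (.node [(.ofNat 6),(.negSucc 3),(.negSucc 1),(.ofNat 3),(.negSucc 1),(.ofNat 6)] (.node [] .nil (.node [(.ofNat 1),(.ofNat 1),(.negSucc 7),(.ofNat 9),(.negSucc 7),(.ofNat 1)] .nil .nil)) (.node [(.negSucc 1),(.negSucc 2),(.ofNat 8),(.negSucc 6),(.ofNat 8),(.negSucc 1)] .nil (.node [(.negSucc 6),(.negSucc 4),(.ofNat 6),(.negSucc 1),(.ofNat 6),(.negSucc 6)] .nil .nil)))) (.node [(.ofNat 2),(.ofNat 5),(.ofNat 4),(.negSucc 6),(.ofNat 4),(.ofNat 2)] (.node [] (.node [] (.node [] .nil (.node [(.negSucc 1),(.negSucc 3),(.ofNat 4),(.negSucc 4),(.ofNat 4),(.negSucc 1)] .nil .nil)) (.node [(.ofNat 1),(.negSucc 0),(.negSucc 7),(.ofNat 11),(.negSucc 7),(.ofNat 1)] .nil .nil)) (.node [(.negSucc 3),(.ofNat 10),(.ofNat 3),(.negSucc 4),(.ofNat 3),(.negSucc 3)] .nil (.node [(.ofNat 4),(.negSucc 3),(.negSucc 7),(.ofNat 9),(.negSucc 7),(.ofNat 4)] .nil .nil))) (.node [(.ofNat 2),(.negSucc 3),(.negSucc 5),(.ofNat 11),(.negSucc 5),(.ofNat 2)] (.node [] .nil (.node [(.ofNat 1),(.ofNat 9),(.ofNat 3),(.negSucc 10),(.ofNat 3),(.ofNat 1)] .nil .nil)) (.node [(.negSucc 0),(.negSucc 0),(.negSucc 5),(.ofNat 11),(.negSucc 5),(.negSucc 0)] .nil (.node [(.negSucc 1),(.ofNat 7),(.ofNat 4),(.negSucc 9),(.ofNat 4),(.negSucc 1)] .nil .nil))))) (.node [(.ofNat 4),(.negSucc 0),(.negSucc 2),(.ofNat 5),(.negSucc 2),(.ofNat 4)] (.node [] (.node [] (.node [] (.node [] .nil (.node [(.negSucc 4),(.ofNat 5),(.ofNat 1),(.negSucc 2),(.ofNat 1),(.negSucc 4)] .nil .nil)) (.node [(.ofNat 8),(.ofNat 5),(.negSucc 2),(.negSucc 3),(.negSucc 2),(.ofNat 8)] .nil .nil)) (.node [(.ofNat 2),(.negSucc 6),(.ofNat 5),(.negSucc 3),(.ofNat 5),(.ofNat 2)] .nil (.node [(.negSucc 3),(.negSucc 5),(.ofNat 7),(.negSucc 4),(.ofNat 7),(.negSucc 3)] .nil .nil))) (.node [(.ofNat 4),(.negSucc 0),(.ofNat 4),(.negSucc 5),(.ofNat 4),(.ofNat 4)] (.node [] .nil (.node [(.negSucc 7),(.ofNat 4),(.ofNat 6),(.negSucc 4),(.ofNat 6),(.negSucc 7)] .nil .nil)) (.node [(.ofNat 7),(.negSucc 1),(.ofNat 1),(.negSucc 4),(.ofNat 1),(.ofNat 7)] .nil (.node [(.ofNat 3),(.ofNat 3),(.ofNat 3),(.negSucc 9),(.ofNat 3),(.ofNat 3)] .nil .nil)))) (.node [(.ofNat 5),(.ofNat 2),(.ofNat 2),(.negSucc 4),(.ofNat 2),(.ofNat 5)] (.node [] (.node [] (.node [] .nil (.node [(.negSucc 2),(.negSucc 2),(.negSucc 2),(.ofNat 5),(.negSucc 2),(.negSucc 2)] .nil .nil)) (.node [(.negSucc 7),(.negSucc 1),(.ofNat 7),(.negSucc 2),(.ofNat 7),(.negSucc 7)] .nil .nil)) (.node [(.ofNat 4),(.ofNat 10),(.ofNat 1),(.negSucc 8),(.ofNat 1),(.ofNat 4)] .nil (.node [(.negSucc 1),(.ofNat 11),(.ofNat 1),(.negSucc 6),(.ofNat 1),(.negSucc 1)] .nil .nil))) (.node [(.negSucc 2),(.ofNat 6),(.ofNat 7),(.negSucc 8),(.ofNat 7),(.negSucc 2)] (.node [] .nil (.node [(.negSucc 6),(.ofNat 7),(.ofNat 5),(.negSucc 5),(.ofNat 5),(.negSucc 6)] .nil .nil)) (.node [(.ofNat 8),(.negSucc 0),(.negSucc 0),(.negSucc 2),(.negSucc 0),(.ofNat 8)] .nil (.node [(.negSucc 2),(.negSucc 9),(.negSucc 0),(.ofNat 7),(.negSucc 0),(.negSucc 2)] .nil .nil)))))) (.node [(.ofNat 1),(.ofNat 1),(.negSucc 1),(.ofNat 5),(.negSucc 1),(.ofNat 1)] (.node [] (.node [] (.node [] (.node [] (.node [] .nil (.node [(.ofNat 2),(.negSucc 4),(.negSucc 5),(.ofNat 7),(.negSucc 5),(.ofNat 2)] .nil .nil)) (.node [(.ofNat 4),(.ofNat 11),(.negSucc 0),(.negSucc 6),(.negSucc 0),(.ofNat 4)] .nil .nil)) (.node [(.negSucc 2),(.ofNat 1),(.negSucc 3),(.ofNat 9),(.negSucc 3),(.negSucc 2)] .nil (.node [(.ofNat 8),(.negSucc 2),(.negSucc 2),(.negSucc 0),(.negSucc 2),(.ofNat 8)] .nil .nil))) (.node [(.negSucc 1),(.negSucc 3),(.negSucc 1),(.ofNat 9),(.negSucc 1),(.negSucc 1)] (.node [] .nil (.node [(.ofNat 5),(.ofNat 10),(.negSucc 2),(.negSucc 4),(.negSucc 2),(.ofNat 5)] .nil .nil)) (.node [(.ofNat 2),(.ofNat 1),(.negSucc 7),(.ofNat 10),(.negSucc 7),(.ofNat 2)] .nil (.node [(.negSucc 1),(.negSucc 1),(.ofNat 7),(.negSucc 8),(.ofNat 7),(.negSucc 1)] .nil .nil)))) (.node [(.negSucc 2),(.ofNat 1),(.negSucc 0),(.ofNat 6),(.negSucc 0),(.negSucc 2)] (.node [] (.node [] (.node [] .nil (.node [(.negSucc 3),(.ofNat 5),(.negSucc 0),(.negSucc 0),(.negSucc 0),(.negSucc 3)] .nil .nil)) (.node [(.ofNat 5),(.negSucc 6),(.ofNat 2),(.negSucc 2),(.ofNat 2),(.ofNat 5)] .nil .nil)) (.node [(.ofNat 1),(.negSucc 8),(.negSucc 3),(.ofNat 11),(.negSucc 3),(.ofNat 1)] .nil (.node [(.negSucc 6),(.ofNat 5),(.ofNat 6),(.negSucc 6),(.ofNat 6),(.negSucc 6)] .nil .nil))) (.node [(.ofNat 7),(.negSucc 1),(.negSucc 1),(.ofNat 1),(.negSucc 1),(.ofNat 7)] (.node [] .nil (.node [(.ofNat 7),(.negSucc 6),(.negSucc 1),(.ofNat 1),(.negSucc 1),(.ofNat 7)] .nil .nil)) (.node [(.ofNat 4),(.negSucc 6),(.negSucc 6),(.ofNat 11),(.negSucc 6),(.ofNat 4)] .nil (.node [(.ofNat 5),(.negSucc 6),(.negSucc 2),(.ofNat 2),(.negSucc 2),(.ofNat 5)] .nil .nil))))) (.node [(.ofNat 4),(.negSucc 3),(.negSucc 1),(.ofNat 5),(.negSucc 1),(.ofNat 4)] (.node [] (.node [] (.node [] (.node [] .nil (.node [(.ofNat 3),(.ofNat 3),(.negSucc 5),(.ofNat 2),(.negSucc 5),(.ofNat 3)] .nil .nil)) (.node [(.negSucc 4),(.ofNat 10),(.ofNat 4),(.negSucc 6),(.ofNat 4),(.negSucc 4)] .nil .nil)) (.node [(.ofNat 7),(.ofNat 1),(.ofNat 1),(.negSucc 5),(.ofNat 1),(.ofNat 7)] .nil (.node [(.negSucc 0),(.ofNat 10),(.ofNat 2),(.negSucc 8),(.ofNat 2),(.negSucc 0)] .nil .nil))) (.node [(.negSucc 3),(.negSucc 6),(.ofNat 2),(.ofNat 6),(.ofNat 2),(.negSucc 3)] (.node [] .nil (.node [(.negSucc 3),(.ofNat 9),(.negSucc 1),(.ofNat 1),(.negSucc 1),(.negSucc 3)] .nil .nil)) (.node [(.negSucc 5),(.ofNat 5),(.negSucc 0),(.ofNat 4),(.negSucc 0),(.negSucc 5)] .nil (.node [(.negSucc 5),(.negSucc 0),(.negSucc 1),(.ofNat 6),(.negSucc 1),(.negSucc 5)] .nil .nil)))) (.node [(.negSucc 0),(.negSucc 4),(.ofNat 5),(.negSucc 0),(.ofNat 5),(.negSucc 0)] (.node [] (.node [] (.node [] .nil (.node [(.ofNat 1),(.negSucc 0),(.negSucc 3),(.ofNat 2),(.negSucc 3),(.ofNat 1)] .nil .nil)) (.node [(.negSucc 3),(.negSucc 4),(.ofNat 8),(.negSucc 5),(.ofNat 8),(.negSucc 3)] .nil .nil)) (.node [(.negSucc 6),(.negSucc 5),(.ofNat 3),(.ofNat 5),(.ofNat 3),(.negSucc 6)] .nil (.node [(.ofNat 3),(.ofNat 6),(.negSucc 6),(.ofNat 3),(.negSucc 6),(.ofNat 3)] .nil .nil))) (.node [(.ofNat 2),(.ofNat 3),(.ofNat 6),(.negSucc 9),(.ofNat 6),(.ofNat 2)] (.node [] .nil (.node [(.negSucc 1),(.ofNat 9),(.negSucc 3),(.ofNat 2),(.negSucc 3),(.negSucc 1)] .nil .nil)) (.node [(.negSucc 4),(.ofNat 3),(.negSucc 2),(.ofNat 7),(.negSucc 2),(.negSucc 4)] .nil (.node [(.ofNat 2),(.ofNat 5),(.negSucc 5),(.ofNat 2),(.negSucc 5),(.ofNat 2)] .nil .nil))))))) (.node [(.negSucc 0),(.ofNat 2),(.ofNat 3),(.negSucc 0),(.ofNat 3),(.negSucc 0)] (.node [] (.node [] (.node [] (.node [] (.node [] (.node [] .nil (.node [(.negSucc 2),(.ofNat 3),(.ofNat 5),(.negSucc 8),(.ofNat 5),(.negSucc 2)] .nil .nil)) (.node [(.ofNat 2),(.ofNat 11),(.negSucc 3),(.negSucc 0),(.negSucc 3),(.ofNat 2)] .nil .nil)) (.node [(.negSucc 5),(.ofNat 1),(.ofNat 8),(.negSucc 5),(.ofNat 8),(.negSucc 5)] .nil (.node [(.ofNat 4),(.ofNat 4),(.negSucc 7),(.ofNat 5),(.negSucc 7),(.ofNat 4)] .nil .nil))) (.node [(.negSucc 4),(.ofNat 5),(.ofNat 1),(.ofNat 2),(.ofNat 1),(.negSucc 4)] (.node [] .nil (.node [(.ofNat 3),(.ofNat 5),(.negSucc 7),(.ofNat 6),(.negSucc 7),(.ofNat 3)] .nil .nil)) (.node [(.ofNat 1),(.negSucc 10),(.negSucc 1),(.ofNat 9),(.negSucc 1),(.ofNat 1)] .nil (.node [(.negSucc 2),(.negSucc 9),(.negSucc 1),(.ofNat 9),(.negSucc 1),(.negSucc 2)] .nil .nil)))) (.node [(.ofNat 5),(.ofNat 5),(.negSucc 0),(.negSucc 1),(.negSucc 0),(.ofNat 5)] (.node [] (.node [] (.node [] .nil (.node [(.ofNat 3),(.ofNat 5),(.negSucc 3),(.negSucc 1),(.negSucc 3),(.ofNat 3)] .nil .nil)) (.node [(.ofNat 3),(.ofNat 11),(.negSucc 3),(.negSucc 1),(.negSucc 3),(.ofNat 3)] .nil .nil)) (.node [(.negSucc 1),(.negSucc 6),(.negSucc 2),(.ofNat 11),(.negSucc 2),(.negSucc 1)] .nil (.node [(.ofNat 8),(.negSucc 1),(.negSucc 4),(.ofNat 1),(.negSucc 4),(.ofNat 8)] .nil .nil))) (.node [(.ofNat 3),(.ofNat 3),(.ofNat 5),(.negSucc 8),(.ofNat 5),(.ofNat 3)] (.node [] .nil (.node [(.ofNat 3),(.ofNat 11),(.negSucc 1),(.negSucc 5),(.negSucc 1),(.ofNat 3)] .nil .nil)) (.node [(.ofNat 1),(.ofNat 1),(.ofNat 7),(.negSucc 10),(.ofNat 7),(.ofNat 1)] .nil (.node [(.ofNat 2),(.ofNat 9),(.negSucc 2),(.negSucc 3),(.negSucc 2),(.ofNat 2)] .nil .nil))))) (.node [(.negSucc 0),(.ofNat 1),(.negSucc 0),(.ofNat 5),(.negSucc 0),(.negSucc 0)] (.node [] (.node [] (.node [] (.node [] .nil (.node [(.negSucc 1),(.ofNat 4),(.ofNat 4),(.negSucc 8),(.ofNat 4),(.negSucc 1)] .nil .nil)) (.node [(.negSucc 5),(.negSucc 8),(.ofNat 3),(.ofNat 5),(.ofNat 3),(.negSucc 5)] .nil .nil)) (.node [(.ofNat 3),(.ofNat 11),(.negSucc 0),(.negSucc 4),(.negSucc 0),(.ofNat 3)] .nil (.node [(.negSucc 1),(.ofNat 4),(.negSucc 5),(.ofNat 7),(.negSucc 5),(.negSucc 1)] .nil .nil))) (.node [(.ofNat 7),(.ofNat 2),(.negSucc 1),(.negSucc 0),(.negSucc 1),(.ofNat 7)] (.node [] .nil (.node [(.negSucc 4),(.negSucc 9),(.ofNat 1),(.ofNat 7),(.ofNat 1),(.negSucc 4)] .nil .nil)) (.node [(.negSucc 7),(.negSucc 0),(.ofNat 6),(.negSucc 0),(.ofNat 6),(.negSucc 7)] .nil (.node [(.ofNat 6),(.ofNat 1),(.negSucc 6),(.ofNat 3),(.negSucc 6),(.ofNat 6)] .nil .nil)))) (.node [(.negSucc 3),(.negSucc 3),(.ofNat 6),(.negSucc 0),(.ofNat 6),(.negSucc 3)] (.node [] (.node [] (.node [] .nil (.node [(.ofNat 2),(.ofNat 1),(.negSucc 0),(.negSucc 3),(.negSucc 0),(.ofNat 2)] .nil .nil)) (.node [(.negSucc 5),(.ofNat 3),(.ofNat 8),(.negSucc 8),(.ofNat 8),(.negSucc 5)] .nil .nil)) (.node [(.ofNat 7),(.ofNat 7),(.negSucc 4),(.negSucc 0),(.negSucc 4),(.ofNat 7)] .nil (.node [(.ofNat 2),(.negSucc 10),(.negSucc 2),(.ofNat 7),(.negSucc 2),(.ofNat 2)] .nil .nil))) (.node [(.negSucc 0),(.ofNat 5),(.ofNat 7),(.negSucc 9),(.ofNat 7),(.negSucc 0)] (.node [] .nil (.node [(.negSucc 3),(.negSucc 8),(.negSucc 1),(.ofNat 10),(.negSucc 1),(.negSucc 3)] .nil .nil)) (.node [(.negSucc 7),(.ofNat 5),(.ofNat 4),(.negSucc 1),(.ofNat 4),(.negSucc 7)] .nil (.node [(.negSucc 1),(.ofNat 5),(.negSucc 4),(.ofNat 4),(.negSucc 4),(.negSucc 1)] .nil .nil)))))) (.node [(.negSucc 1),(.ofNat 4),(.ofNat 4),(.negSucc 2),(.ofNat 4),(.negSucc 1)] (.node [] (.node [] (.node [] (.node [] (.node [] .nil (.node [(.ofNat 4),(.ofNat 5),(.negSucc 2),(.negSucc 3),(.negSucc 2),(.ofNat 4)] .nil .nil)) (.node [(.ofNat 6),(.ofNat 3),(.ofNat 2),(.negSucc 8),(.ofNat 2),(.ofNat 6)] .nil .nil)) (.node [(.negSucc 0),(.negSucc 10),(.ofNat 2),(.ofNat 5),(.ofNat 2),(.negSucc 0)] .nil (.node [(.negSucc 6),(.negSucc 1),(.negSucc 0),(.ofNat 7),(.negSucc 0),(.negSucc 6)] .nil .nil))) (.node [(.ofNat 2),(.ofNat 4),(.negSucc 5),(.ofNat 7),(.negSucc 5),(.ofNat 2)] (.node [] .nil (.node [(.ofNat 8),(.negSucc 3),(.negSucc 1),(.negSucc 0),(.negSucc 1),(.ofNat 8)] .nil .nil)) (.node [(.ofNat 4),(.ofNat 11),(.negSucc 1),(.negSucc 4),(.negSucc 1),(.ofNat 4)] .nil (.node [(.ofNat 1),(.ofNat 5),(.ofNat 4),(.negSucc 10),(.ofNat 4),(.ofNat 1)] .nil .nil)))) (.node [(.ofNat 2),(.ofNat 9),(.ofNat 1),(.negSucc 4),(.ofNat 1),(.ofNat 2)] (.node [] (.node [] (.node [] .nil (.node [(.ofNat 2),(.negSucc 2),(.negSucc 4),(.ofNat 4),(.negSucc 4),(.ofNat 2)] .nil .nil)) (.node [(.ofNat 7),(.ofNat 1),(.negSucc 7),(.ofNat 6),(.negSucc 7),(.ofNat 7)] .nil .nil)) (.node [(.ofNat 2),(.ofNat 9),(.ofNat 4),(.negSucc 10),(.ofNat 4),(.ofNat 2)] .nil (.node [(.negSucc 2),(.negSucc 8),(.negSucc 2),(.ofNat 10),(.negSucc 2),(.negSucc 2)] .nil .nil))) (.node [(.negSucc 5),(.ofNat 6),(.ofNat 3),(.negSucc 0),(.ofNat 3),(.negSucc 5)] (.node [] .nil (.node [(.ofNat 8),(.ofNat 3),(.negSucc 2),(.negSucc 3),(.negSucc 2),(.ofNat 8)] .nil .nil)) (.node [(.ofNat 6),(.negSucc 8),(.negSucc 2),(.ofNat 5),(.negSucc 2),(.ofNat 6)] .nil (.node [(.negSucc 6),(.ofNat 1),(.ofNat 3),(.negSucc 1),(.ofNat 3),(.negSucc 6)] .nil .nil))))) (.node [(.negSucc 2),(.ofNat 3),(.ofNat 6),(.negSucc 4),(.ofNat 6),(.negSucc 2)] (.node [] (.node [] (.node [] (.node [] .nil (.node [(.negSucc 4),(.ofNat 3),(.ofNat 3),(.negSucc 4),(.ofNat 3),(.negSucc 4)] .nil .nil)) (.node [(.negSucc 2),(.ofNat 9),(.ofNat 6),(.negSucc 10),(.ofNat 6),(.negSucc 2)] .nil .nil)) (.node [(.negSucc 6),(.negSucc 4),(.ofNat 2),(.ofNat 6),(.ofNat 2),(.negSucc 6)] .nil (.node [(.ofNat 2),(.ofNat 10),(.negSucc 0),(.negSucc 6),(.negSucc 0),(.ofNat 2)] .nil .nil))) (.node [(.negSucc 1),(.ofNat 5),(.ofNat 7),(.negSucc 8),(.ofNat 7),(.negSucc 1)] (.node [] .nil (.node [(.negSucc 0),(.ofNat 2),(.negSucc 6),(.ofNat 9),(.negSucc 6),(.negSucc 0)] .nil .nil)) (.node [(.negSucc 2),(.negSucc 8),(.ofNat 6),(.negSucc 0),(.ofNat 6),(.negSucc 2)] .nil (.node [(.negSucc 2),(.negSucc 0),(.ofNat 7),(.negSucc 8),(.ofNat 7),(.negSucc 2)] .nil .nil)))) (.node [(.ofNat 3),(.ofNat 3),(.negSucc 5),(.ofNat 7),(.negSucc 5),(.ofNat 3)] (.node [] (.node [] (.node [] .nil (.node [(.ofNat 1),(.ofNat 1),(.negSucc 1),(.negSucc 1),(.negSucc 1),(.ofNat 1)] .nil .nil)) (.node [(.negSucc 1),(.negSucc 9),(.negSucc 2),(.ofNat 11),(.negSucc 2),(.negSucc 1)] .nil .nil)) (.node [(.negSucc 3),(.ofNat 1),(.negSucc 3),(.ofNat 9),(.negSucc 3),(.negSucc 3)] .nil (.node [(.ofNat 6),(.ofNat 6),(.negSucc 2),(.negSucc 4),(.negSucc 2),(.ofNat 6)] .nil .nil))) (.node [(.ofNat 4),(.negSucc 8),(.negSucc 0),(.ofNat 5),(.negSucc 0),(.ofNat 4)] (.node [] .nil (.node [(.ofNat 1),(.negSucc 9),(.ofNat 1),(.ofNat 1),(.ofNat 1),(.ofNat 1)] .nil .nil)) (.node [(.negSucc 2),(.negSucc 1),(.negSucc 4),(.ofNat 11),(.negSucc 4),(.negSucc 2)] .nil (.node [(.ofNat 5),(.negSucc 1),(.negSucc 6),(.ofNat 5),(.negSucc 6),(.ofNat 5)] .nil .nil)))))))) (.node [(.ofNat 1),(.negSucc 1),(.ofNat 2),(.ofNat 1),(.ofNat 2),(.ofNat 1)] (.node [] (.node [] (.node [] (.node [] (.node [] (.node [] (.node [] .nil (.node [(.negSucc 3),(.ofNat 7),(.ofNat 2),(.negSucc 5),(.ofNat 2),(.negSucc 3)] .nil .nil)) (.node [(.ofNat 1),(.ofNat 1),(.negSucc 7),(.ofNat 10),(.negSucc 7),(.ofNat 1)] .nil .nil)) (.node [(.negSucc 6),(.negSucc 1),(.ofNat 5),(.ofNat 1),(.ofNat 5),(.negSucc 6)] .nil (.node [(.ofNat 3),(.ofNat 6),(.ofNat 3),(.negSucc 10),(.ofNat 3),(.ofNat 3)] .nil .nil))) (.node [(.negSucc 5),(.negSucc 2),(.ofNat 3),(.ofNat 4),(.ofNat 3),(.negSucc 5)] (.node [] .nil (.node [(.ofNat 2),(.negSucc 0),(.ofNat 6),(.negSucc 9),(.ofNat 6),(.ofNat 2)] .nil .nil)) (.node [(.negSucc 0),(.negSucc 8),(.negSucc 1),(.ofNat 10),(.negSucc 1),(.negSucc 0)] .nil (.node [(.negSucc 3),(.negSucc 9),(.ofNat 1),(.ofNat 5),(.ofNat 1),(.negSucc 3)] .nil .nil)))) (.node [(.ofNat 4),(.negSucc 3),(.ofNat 2),(.negSucc 0),(.ofNat 2),(.ofNat 4)] (.node [] (.node [] (.node [] .nil (.node [(.ofNat 1),(.ofNat 1),(.ofNat 1),(.negSucc 5),(.ofNat 1),(.ofNat 1)] .nil .nil)) (.node [(.ofNat 2),(.negSucc 10),(.negSucc 3),(.ofNat 10),(.negSucc 3),(.ofNat 2)] .nil .nil)) (.node [(.negSucc 2),(.ofNat 6),(.negSucc 2),(.ofNat 5),(.negSucc 2),(.negSucc 2)] .nil (.node [(.ofNat 7),(.negSucc 5),(.negSucc 2),(.ofNat 1),(.negSucc 2),(.ofNat 7)] .nil .nil))) (.node [(.ofNat 3),(.negSucc 9),(.ofNat 1),(.ofNat 3),(.ofNat 1),(.ofNat 3)] (.node [] .nil (.node [(.ofNat 2),(.ofNat 11),(.negSucc 3),(.negSucc 1),(.negSucc 3),(.ofNat 2)] .nil .nil)) (.node [(.negSucc 0),(.ofNat 11),(.ofNat 4),(.negSucc 9),(.ofNat 4),(.negSucc 0)] .nil (.node [(.ofNat 1),(.negSucc 9),(.negSucc 1),(.ofNat 5),(.negSucc 1),(.ofNat 1)] .nil .nil))))) (.node [(.negSucc 2),(.negSucc 1),(.ofNat 1),(.ofNat 5),(.ofNat 1),(.negSucc 2)] (.node [] (.node [] (.node [] (.node [] .nil (.node [(.negSucc 2),(.negSucc 5),(.negSucc 2),(.ofNat 7),(.negSucc 2),(.negSucc 2)] .nil .nil)) (.node [(.negSucc 7),(.ofNat 1),(.ofNat 1),(.ofNat 4),(.ofNat 1),(.negSucc 7)] .nil .nil)) (.node [(.ofNat 2),(.ofNat 11),(.ofNat 2),(.negSucc 8),(.ofNat 2),(.ofNat 2)] .nil (.node [(.negSucc 2),(.negSucc 1),(.ofNat 8),(.negSucc 8),(.ofNat 8),(.negSucc 2)] .nil .nil))) (.node [(.ofNat 6),(.negSucc 4),(.negSucc 3),(.ofNat 6),(.negSucc 3),(.ofNat 6)] (.node [] .nil (.node [(.negSucc 5),(.negSucc 3),(.negSucc 1),(.ofNat 9),(.negSucc 1),(.negSucc 5)] .nil .nil)) (.node [(.ofNat 8),(.ofNat 1),(.negSucc 0),(.negSucc 3),(.negSucc 0),(.ofNat 8)] .nil (.node [(.ofNat 4),(.ofNat 1),(.negSucc 7),(.ofNat 6),(.negSucc 7),(.ofNat 4)] .nil .nil)))) (.node [(.negSucc 5),(.ofNat 3),(.ofNat 3),(.ofNat 1),(.ofNat 3),(.negSucc 5)] (.node [] (.node [] (.node [] .nil (.node [(.negSucc 0),(.negSucc 5),(.negSucc 2),(.ofNat 5),(.negSucc 2),(.negSucc 0)] .nil .nil)) (.node [(.negSucc 7),(.ofNat 5),(.ofNat 5),(.negSucc 3),(.ofNat 5),(.negSucc 7)] .nil .nil)) (.node [(.ofNat 7),(.negSucc 6),(.negSucc 3),(.ofNat 5),(.negSucc 3),(.ofNat 7)] .nil (.node [(.negSucc 0),(.ofNat 9),(.ofNat 3),(.negSucc 9),(.ofNat 3),(.negSucc 0)] .nil .nil))) (.node [(.negSucc 1),(.ofNat 4),(.negSucc 3),(.ofNat 7),(.negSucc 3),(.negSucc 1)] (.node [] .nil (.node [(.negSucc 4),(.negSucc 4),(.negSucc 2),(.ofNat 10),(.negSucc 2),(.negSucc 4)] .nil .nil)) (.node [(.negSucc 7),(.negSucc 3),(.ofNat 4),(.ofNat 3),(.ofNat 4),(.negSucc 7)] .nil (.node [(.negSucc 2),(.ofNat 6),(.ofNat 4),(.negSucc 8),(.ofNat 4),(.negSucc 2)] .nil .nil)))))) (.node [(.ofNat 3),(.ofNat 5),(.ofNat 1),(.negSucc 2),(.ofNat 1),(.ofNat 3)] (.node [] (.node [] (.node [] (.node [] (.node [] .nil (.node [(.ofNat 3),(.ofNat 1),(.ofNat 1),(.negSucc 6),(.ofNat 1),(.ofNat 3)] .nil .nil)) (.node [(.ofNat 5),(.ofNat 10),(.negSucc 3),(.negSucc 2),(.negSucc 3),(.ofNat 5)] .nil .nil)) (.node [(.negSucc 1),(.negSucc 3),(.negSucc 3),(.ofNat 11),(.negSucc 3),(.negSucc 1)] .nil (.node [(.negSucc 7),(.negSucc 2),(.ofNat 6),(.negSucc 1),(.ofNat 6),(.negSucc 7)] .nil .nil))) (.node [(.ofNat 1),(.negSucc 4),(.negSucc 4),(.ofNat 11),(.negSucc 4),(.ofNat 1)] (.node [] .nil (.node [(.ofNat 7),(.negSucc 0),(.negSucc 7),(.ofNat 7),(.negSucc 7),(.ofNat 7)] .nil .nil)) (.node [(.ofNat 4),(.negSucc 9),(.ofNat 1),(.ofNat 1),(.ofNat 1),(.ofNat 4)] .nil (.node [(.negSucc 0),(.negSucc 8),(.ofNat 3),(.negSucc 0),(.ofNat 3),(.negSucc 0)] .nil .nil)))) (.node [(.negSucc 0),(.ofNat 5),(.ofNat 5),(.negSucc 5),(.ofNat 5),(.negSucc 0)] (.node [] (.node [] (.node [] .nil (.node [(.negSucc 1),(.ofNat 2),(.ofNat 3),(.negSucc 6),(.ofNat 3),(.negSucc 1)] .nil .nil)) (.node [(.ofNat 6),(.negSucc 3),(.negSucc 7),(.ofNat 9),(.negSucc 7),(.ofNat 6)] .nil .nil)) (.node [(.ofNat 1),(.ofNat 11),(.negSucc 1),(.negSucc 1),(.negSucc 1),(.ofNat 1)] .nil (.node [(.negSucc 3),(.negSucc 0),(.ofNat 8),(.negSucc 8),(.ofNat 8),(.negSucc 3)] .nil .nil))) (.node [(.negSucc 6),(.negSucc 0),(.ofNat 4),(.ofNat 2),(.ofNat 4),(.negSucc 6)] (.node [] .nil (.node [(.ofNat 7),(.ofNat 7),(.negSucc 2),(.negSucc 4),(.negSucc 2),(.ofNat 7)] .nil .nil)) (.node [(.ofNat 5),(.negSucc 4),(.ofNat 3),(.negSucc 4),(.ofNat 3),(.ofNat 5)] .nil (.node [(.ofNat 6),(.negSucc 0),(.negSucc 6),(.ofNat 4),(.negSucc 6),(.ofNat 6)] .nil .nil))))) (.node [(.negSucc 3),(.negSucc 0),(.ofNat 1),(.ofNat 5),(.ofNat 1),(.negSucc 3)] (.node [] (.node [] (.node [] (.node [] .nil (.node [(.ofNat 4),(.ofNat 5),(.negSucc 4),(.negSucc 0),(.negSucc 4),(.ofNat 4)] .nil .nil)) (.node [(.negSucc 3),(.ofNat 4),(.negSucc 3),(.ofNat 7),(.negSucc 3),(.negSucc 3)] .nil .nil)) (.node [(.ofNat 8),(.ofNat 1),(.negSucc 1),(.negSucc 1),(.negSucc 1),(.ofNat 8)] .nil (.node [(.ofNat 2),(.negSucc 6),(.negSucc 6),(.ofNat 11),(.negSucc 6),(.ofNat 2)] .nil .nil))) (.node [(.negSucc 2),(.ofNat 3),(.negSucc 2),(.ofNat 7),(.negSucc 2),(.negSucc 2)] (.node [] .nil (.node [(.negSucc 1),(.negSucc 10),(.negSucc 1),(.ofNat 10),(.negSucc 1),(.negSucc 1)] .nil .nil)) (.node [(.negSucc 3),(.negSucc 0),(.negSucc 3),(.ofNat 10),(.negSucc 3),(.negSucc 3)] .nil (.node [(.negSucc 3),(.negSucc 4),(.ofNat 6),(.negSucc 4),(.ofNat 6),(.negSucc 3)] .nil .nil)))) (.node [(.ofNat 2),(.negSucc 8),(.ofNat 1),(.ofNat 4),(.ofNat 1),(.ofNat 2)] (.node [] (.node [] (.node [] .nil (.node [(.negSucc 1),(.negSucc 3),(.negSucc 1),(.ofNat 3),(.negSucc 1),(.negSucc 1)] .nil .nil)) (.node [(.negSucc 3),(.ofNat 11),(.ofNat 3),(.negSucc 6),(.ofNat 3),(.negSucc 3)] .nil .nil)) (.node [(.negSucc 6),(.ofNat 7),(.ofNat 3),(.negSucc 1),(.ofNat 3),(.negSucc 6)] .nil (.node [(.ofNat 4),(.negSucc 4),(.ofNat 2),(.negSucc 4),(.ofNat 2),(.ofNat 4)] .nil .nil))) (.node [(.ofNat 3),(.negSucc 2),(.ofNat 5),(.negSucc 5),(.ofNat 5),(.ofNat 3)] (.node [] .nil (.node [(.negSucc 0),(.ofNat 1),(.negSucc 6),(.ofNat 9),(.negSucc 6),(.negSucc 0)] .nil .nil)) (.node [(.negSucc 3),(.ofNat 7),(.negSucc 2),(.ofNat 4),(.negSucc 2),(.negSucc 3)] .nil (.node [(.ofNat 4),(.negSucc 6),(.negSucc 1),(.ofNat 1),(.negSucc 1),(.ofNat 4)] .nil .nil))))))) (.node [(.ofNat 3),(.ofNat 2),(.negSucc 1),(.ofNat 3),(.negSucc 1),(.ofNat 3)] (.node [] (.node [] (.node [] (.node [] (.node [] (.node [] .nil (.node [(.negSucc 0),(.negSucc 9),(.negSucc 0),(.ofNat 5),(.negSucc 0),(.negSucc 0)] .nil .nil)) (.node [(.ofNat 4),(.negSucc 4),(.ofNat 4),(.negSucc 5),(.ofNat 4),(.ofNat 4)] .nil .nil)) (.node [(.negSucc 3),(.ofNat 9),(.ofNat 3),(.negSucc 3),(.ofNat 3),(.negSucc 3)] .nil (.node [(.ofNat 7),(.negSucc 5),(.negSucc 0),(.negSucc 0),(.negSucc 0),(.ofNat 7)] .nil .nil))) (.node [(.negSucc 2),(.negSucc 6),(.ofNat 5),(.ofNat 1),(.ofNat 5),(.negSucc 2)] (.node [] .nil (.node [(.ofNat 4),(.ofNat 6),(.ofNat 3),(.negSucc 10),(.ofNat 3),(.ofNat 4)] .nil .nil)) (.node [(.ofNat 1),(.ofNat 2),(.ofNat 7),(.negSucc 10),(.ofNat 7),(.ofNat 1)] .nil (.node [(.negSucc 2),(.ofNat 7),(.negSucc 3),(.ofNat 3),(.negSucc 3),(.negSucc 2)] .nil .nil)))) (.node [(.negSucc 3),(.negSucc 3),(.ofNat 2),(.ofNat 5),(.ofNat 2),(.negSucc 3)] (.node [] (.node [] (.node [] .nil (.node [(.negSucc 4),(.negSucc 2),(.ofNat 3),(.negSucc 1),(.ofNat 3),(.negSucc 4)] .nil .nil)) (.node [(.ofNat 4),(.ofNat 7),(.ofNat 3),(.negSucc 10),(.ofNat 3),(.ofNat 4)] .nil .nil)) (.node [(.negSucc 1),(.ofNat 11),(.ofNat 1),(.negSucc 3),(.ofNat 1),(.negSucc 1)] .nil (.node [(.negSucc 7),(.ofNat 2),(.ofNat 3),(.negSucc 0),(.ofNat 3),(.negSucc 7)] .nil .nil))) (.node [(.ofNat 4),(.ofNat 9),(.negSucc 0),(.negSucc 3),(.negSucc 0),(.ofNat 4)] (.node [] .nil (.node [(.ofNat 4),(.ofNat 5),(.negSucc 7),(.ofNat 5),(.negSucc 7),(.ofNat 4)] .nil .nil)) (.node [(.ofNat 3),(.negSucc 10),(.ofNat 1),(.ofNat 2),(.ofNat 1),(.ofNat 3)] .nil (.node [(.ofNat 3),(.ofNat 3),(.ofNat 2),(.negSucc 8),(.ofNat 2),(.ofNat 3)] .nil .nil))))) (.node [(.ofNat 2),(.ofNat 7),(.ofNat 2),(.negSucc 4),(.ofNat 2),(.ofNat 2)] (.node [] (.node [] (.node [] (.node [] .nil (.node [(.ofNat 1),(.ofNat 6),(.negSucc 3),(.negSucc 0),(.negSucc 3),(.ofNat 1)] .nil .nil)) (.node [(.negSucc 5),(.ofNat 9),(.ofNat 2),(.negSucc 2),(.ofNat 2),(.negSucc 5)] .nil .nil)) (.node [(.ofNat 4),(.ofNat 5),(.ofNat 4),(.negSucc 9),(.ofNat 4),(.ofNat 4)] .nil (.node [(.negSucc 0),(.negSucc 9),(.ofNat 4),(.negSucc 0),(.ofNat 4),(.negSucc 0)] .nil .nil))) (.node [(.negSucc 5),(.ofNat 5),(.ofNat 2),(.ofNat 1),(.ofNat 2),(.negSucc 5)] (.node [] .nil (.node [(.negSucc 3),(.negSucc 10),(.ofNat 3),(.ofNat 4),(.ofNat 3),(.negSucc 3)] .nil .nil)) (.node [(.negSucc 6),(.negSucc 5),(.ofNat 1),(.ofNat 7),(.ofNat 1),(.negSucc 6)] .nil (.node [(.negSucc 7),(.negSucc 0),(.ofNat 4),(.negSucc 0),(.ofNat 4),(.negSucc 7)] .nil .nil)))) (.node [(.negSucc 2),(.ofNat 7),(.ofNat 5),(.negSucc 5),(.ofNat 5),(.negSucc 2)] (.node [] (.node [] (.node [] .nil (.node [(.negSucc 2),(.ofNat 2),(.ofNat 2),(.negSucc 4),(.ofNat 2),(.negSucc 2)] .nil .nil)) (.node [(.negSucc 4),(.negSucc 6),(.negSucc 1),(.ofNat 10),(.negSucc 1),(.negSucc 4)] .nil .nil)) (.node [(.ofNat 8),(.ofNat 4),(.negSucc 3),(.negSucc 0),(.negSucc 3),(.ofNat 8)] .nil (.node [(.ofNat 2),(.ofNat 7),(.ofNat 2),(.negSucc 9),(.ofNat 2),(.ofNat 2)] .nil .nil))) (.node [(.ofNat 2),(.negSucc 10),(.ofNat 1),(.ofNat 4),(.ofNat 1),(.ofNat 2)] (.node [] .nil (.node [(.negSucc 2),(.negSucc 10),(.negSucc 0),(.ofNat 9),(.negSucc 0),(.negSucc 2)] .nil .nil)) (.node [(.negSucc 5),(.negSucc 4),(.negSucc 0),(.ofNat 9),(.negSucc 0),(.negSucc 5)] .nil (.node [(.negSucc 0),(.ofNat 10),(.negSucc 0),(.negSucc 4),(.negSucc 0),(.negSucc 0)] .nil .nil)))))) (.node [(.ofNat 2),(.negSucc 2),(.ofNat 3),(.negSucc 0),(.ofNat 3),(.ofNat 2)] (.node [] (.node [] (.node [] (.node [] (.node [] .nil (.node [(.negSucc 5),(.negSucc 3),(.ofNat 2),(.ofNat 1),(.ofNat 2),(.negSucc 5)] .nil .nil)) (.node [(.ofNat 8),(.negSucc 1),(.negSucc 0),(.negSucc 2),(.negSucc 0),(.ofNat 8)] .nil .nil)) (.node [(.ofNat 1),(.ofNat 1),(.negSucc 6),(.ofNat 10),(.negSucc 6),(.ofNat 1)] .nil (.node [(.negSucc 5),(.negSucc 4),(.ofNat 7),(.negSucc 3),(.ofNat 7),(.negSucc 5)] .nil .nil))) (.node [(.ofNat 3),(.negSucc 2),(.negSucc 5),(.ofNat 10),(.negSucc 5),(.ofNat 3)] (.node [] .nil (.node [(.negSucc 7),(.negSucc 4),(.ofNat 5),(.ofNat 1),(.ofNat 5),(.negSucc 7)] .nil .nil)) (.node [(.ofNat 6),(.negSucc 4),(.negSucc 6),(.ofNat 9),(.negSucc 6),(.ofNat 6)] .nil (.node [(.ofNat 2),(.ofNat 5),(.negSucc 6),(.ofNat 4),(.negSucc 6),(.ofNat 2)] .nil .nil)))) (.node [(.ofNat 4),(.negSucc 5),(.negSucc 2),(.ofNat 7),(.negSucc 2),(.ofNat 4)] (.node [] (.node [] (.node [] .nil (.node [(.ofNat 4),(.negSucc 0),(.negSucc 0),(.negSucc 3),(.negSucc 0),(.ofNat 4)] .nil .nil)) (.node [(.ofNat 8),(.ofNat 1),(.negSucc 6),(.ofNat 3),(.negSucc 6),(.ofNat 8)] .nil .nil)) (.node [(.ofNat 3),(.ofNat 5),(.ofNat 5),(.negSucc 10),(.ofNat 5),(.ofNat 3)] .nil (.node [(.negSucc 1),(.negSucc 3),(.negSucc 5),(.ofNat 11),(.negSucc 5),(.negSucc 1)] .nil .nil))) (.node [(.negSucc 3),(.ofNat 5),(.negSucc 0),(.ofNat 4),(.negSucc 0),(.negSucc 3)] (.node [] .nil (.node [(.negSucc 7),(.ofNat 3),(.ofNat 6),(.negSucc 4),(.ofNat 6),(.negSucc 7)] .nil .nil)) (.node [(.ofNat 6),(.ofNat 9),(.negSucc 3),(.negSucc 2),(.negSucc 3),(.ofNat 6)] .nil (.node [(.negSucc 4),(.negSucc 1),(.negSucc 2),(.ofNat 7),(.negSucc 2),(.negSucc 4)] .nil .nil))))) (.node [(.negSucc 0),(.ofNat 6),(.ofNat 4),(.negSucc 4),(.ofNat 4),(.negSucc 0)] (.node [] (.node [] (.node [] (.node [] .nil (.node [(.negSucc 3),(.ofNat 5),(.ofNat 1),(.negSucc 3),(.ofNat 1),(.negSucc 3)] .nil .nil)) (.node [(.negSucc 0),(.negSucc 10),(.negSucc 1),(.ofNat 10),(.negSucc 1),(.negSucc 0)] .nil .nil)) (.node [(.negSucc 5),(.negSucc 0),(.ofNat 8),(.negSucc 4),(.ofNat 8),(.negSucc 5)] .nil (.node [(.ofNat 3),(.ofNat 1),(.ofNat 4),(.negSucc 9),(.ofNat 4),(.ofNat 3)] .nil .nil))) (.node [(.ofNat 1),(.negSucc 10),(.ofNat 1),(.ofNat 5),(.ofNat 1),(.ofNat 1)] (.node [] .nil (.node [(.ofNat 1),(.negSucc 10),(.ofNat 1),(.ofNat 2),(.ofNat 1),(.ofNat 1)] .nil .nil)) (.node [(.negSucc 1),(.negSucc 3),(.ofNat 8),(.negSucc 6),(.ofNat 8),(.negSucc 1)] .nil (.node [(.negSucc 1),(.negSucc 10),(.negSucc 0),(.ofNat 7),(.negSucc 0),(.negSucc 1)] .nil .nil)))) (.node [(.ofNat 4),(.ofNat 1),(.ofNat 4),(.negSucc 6),(.ofNat 4),(.ofNat 4)] (.node [] (.node [] (.node [] .nil (.node [(.ofNat 1),(.negSucc 0),(.negSucc 1),(.negSucc 0),(.negSucc 1),(.ofNat 1)] .nil .nil)) (.node [(.negSucc 0),(.ofNat 1),(.negSucc 6),(.ofNat 10),(.negSucc 6),(.negSucc 0)] .nil .nil)) (.node [(.negSucc 2),(.ofNat 9),(.ofNat 6),(.negSucc 9),(.ofNat 6),(.negSucc 2)] .nil (.node [(.ofNat 8),(.negSucc 0),(.negSucc 3),(.negSucc 0),(.negSucc 3),(.ofNat 8)] .nil .nil))) (.node [(.ofNat 6),(.negSucc 0),(.ofNat 2),(.negSucc 4),(.ofNat 2),(.ofNat 6)] (.node [] .nil (.node [(.ofNat 2),(.negSucc 10),(.negSucc 3),(.ofNat 9),(.negSucc 3),(.ofNat 2)] .nil .nil)) (.node [(.negSucc 0),(.negSucc 10),(.negSucc 0),(.ofNat 9),(.negSucc 0),(.negSucc 0)] .nil (.node [(.negSucc 6),(.negSucc 0),(.ofNat 3),(.negSucc 0),(.ofNat 3),(.negSucc 6)] .nil .nil))))))))) (.node [(.ofNat 1),(.ofNat 2),(.ofNat 2),(.negSucc 0),(.ofNat 2),(.ofNat 1)] (.node [] (.node [] (.node [] (.node [] (.node [] (.node [] (.node [] (.node [] .nil (.node [(.negSucc 4),(.ofNat 5),(.ofNat 4),(.negSucc 6),(.ofNat 4),(.negSucc 4)] .nil .nil)) (.node [(.negSucc 0),(.ofNat 11),(.negSucc 1),(.negSucc 0),(.negSucc 1),(.negSucc 0)] .nil .nil)) (.node [(.ofNat 8),(.ofNat 2),(.negSucc 2),(.negSucc 0),(.negSucc 2),(.ofNat 8)] .nil (.node [(.ofNat 3),(.negSucc 10),(.negSucc 1),(.ofNat 5),(.negSucc 1),(.ofNat 3)] .nil .nil))) (.node [(.ofNat 6),(.ofNat 5),(.negSucc 3),(.ofNat 1),(.negSucc 3),(.ofNat 6)] (.node [] .nil (.node [(.ofNat 1),(.ofNat 11),(.negSucc 3),(.negSucc 0),(.negSucc 3),(.ofNat 1)] .nil .nil)) (.node [(.negSucc 1),(.ofNat 4),(.ofNat 8),(.negSucc 10),(.ofNat 8),(.negSucc 1)] .nil (.node [(.negSucc 6),(.ofNat 5),(.ofNat 5),(.negSucc 5),(.ofNat 5),(.negSucc 6)] .nil .nil)))) (.node [(.ofNat 3),(.ofNat 7),(.ofNat 2),(.negSucc 5),(.ofNat 2),(.ofNat 3)] (.node [] (.node [] (.node [] .nil (.node [(.negSucc 0),(.ofNat 5),(.negSucc 3),(.ofNat 1),(.negSucc 3),(.negSucc 0)] .nil .nil)) (.node [(.ofNat 1),(.ofNat 10),(.negSucc 4),(.ofNat 1),(.negSucc 4),(.ofNat 1)] .nil .nil)) (.node [(.negSucc 2),(.negSucc 2),(.ofNat 8),(.negSucc 5),(.ofNat 8),(.negSucc 2)] .nil (.node [(.ofNat 4),(.ofNat 9),(.negSucc 2),(.negSucc 4),(.negSucc 2),(.ofNat 4)] .nil .nil))) (.node [(.ofNat 2),(.ofNat 10),(.negSucc 0),(.negSucc 2),(.negSucc 0),(.ofNat 2)] (.node [] .nil (.node [(.ofNat 2),(.negSucc 8),(.negSucc 5),(.ofNat 11),(.negSucc 5),(.ofNat 2)] .nil .nil)) (.node [(.negSucc 0),(.ofNat 10),(.negSucc 2),(.ofNat 1),(.negSucc 2),(.negSucc 0)] .nil (.node [(.negSucc 0),(.ofNat 5),(.negSucc 5),(.ofNat 5),(.negSucc 5),(.negSucc 0)] .nil .nil))))) (.node [(.ofNat 4),(.ofNat 5),(.ofNat 1),(.negSucc 3),(.ofNat 1),(.ofNat 4)] (.node [] (.node [] (.node [] (.node [] .nil (.node [(.negSucc 3),(.ofNat 1),(.negSucc 2),(.ofNat 4),(.negSucc 2),(.negSucc 3)] .nil .nil)) (.node [(.negSucc 7),(.negSucc 3),(.ofNat 2),(.ofNat 5),(.ofNat 2),(.negSucc 7)] .nil .nil)) (.node [(.ofNat 2),(.negSucc 1),(.negSucc 6),(.ofNat 11),(.negSucc 6),(.ofNat 2)] .nil (.node [(.negSucc 3),(.ofNat 5),(.negSucc 3),(.ofNat 5),(.negSucc 3),(.negSucc 3)] .nil .nil))) (.node [(.ofNat 5),(.negSucc 6),(.negSucc 1),(.ofNat 5),(.negSucc 1),(.ofNat 5)] (.node [] .nil (.node [(.negSucc 6),(.ofNat 1),(.negSucc 0),(.ofNat 6),(.negSucc 0),(.negSucc 6)] .nil .nil)) (.node [(.ofNat 8),(.negSucc 3),(.negSucc 3),(.ofNat 3),(.negSucc 3),(.ofNat 8)] .nil (.node [(.ofNat 3),(.ofNat 9),(.negSucc 3),(.negSucc 2),(.negSucc 3),(.ofNat 3)] .nil .nil)))) (.node [(.ofNat 6),(.negSucc 2),(.negSucc 2),(.ofNat 4),(.negSucc 2),(.ofNat 6)] (.node [] (.node [] (.node [] .nil (.node [(.negSucc 1),(.negSucc 1),(.ofNat 3),(.negSucc 4),(.ofNat 3),(.negSucc 1)] .nil .nil)) (.node [(.negSucc 7),(.ofNat 1),(.ofNat 7),(.negSucc 4),(.ofNat 7),(.negSucc 7)] .nil .nil)) (.node [(.ofNat 5),(.ofNat 10),(.negSucc 1),(.negSucc 4),(.negSucc 1),(.ofNat 5)] .nil (.node [(.negSucc 0),(.negSucc 8),(.ofNat 4),(.negSucc 1),(.ofNat 4),(.negSucc 0)] .nil .nil))) (.node [(.negSucc 2),(.ofNat 10),(.ofNat 4),(.negSucc 6),(.ofNat 4),(.negSucc 2)] (.node [] .nil (.node [(.negSucc 5),(.negSucc 5),(.ofNat 7),(.negSucc 2),(.ofNat 7),(.negSucc 5)] .nil .nil)) (.node [(.ofNat 8),(.ofNat 2),(.negSucc 0),(.negSucc 4),(.negSucc 0),(.ofNat 8)] .nil (.node [(.negSucc 2),(.negSucc 5),(.negSucc 3),(.ofNat 9),(.negSucc 3),(.negSucc 2)] .nil .nil)))))) (.node [(.ofNat 2),(.ofNat 3),(.ofNat 3),(.negSucc 3),(.ofNat 3),(.ofNat 2)] (.node [] (.node [] (.node [] (.node [] (.node [] .nil (.node [(.ofNat 2),(.ofNat 7),(.negSucc 3),(.negSucc 1),(.negSucc 3),(.ofNat 2)] .nil .nil)) (.node [(.ofNat 5),(.negSucc 6),(.negSucc 6),(.ofNat 10),(.negSucc 6),(.ofNat 5)] .nil .nil)) (.node [(.negSucc 2),(.ofNat 7),(.ofNat 7),(.negSucc 9),(.ofNat 7),(.negSucc 2)] .nil (.node [(.ofNat 8),(.ofNat 2),(.negSucc 4),(.negSucc 0),(.negSucc 4),(.ofNat 8)] .nil .nil))) (.node [(.negSucc 0),(.ofNat 5),(.negSucc 2),(.ofNat 5),(.negSucc 2),(.negSucc 0)] (.node [] .nil (.node [(.ofNat 6),(.negSucc 5),(.ofNat 1),(.negSucc 2),(.ofNat 1),(.ofNat 6)] .nil .nil)) (.node [(.ofNat 3),(.negSucc 1),(.negSucc 7),(.ofNat 11),(.negSucc 7),(.ofNat 3)] .nil (.node [(.negSucc 1),(.ofNat 10),(.ofNat 1),(.negSucc 6),(.ofNat 1),(.negSucc 1)] .nil .nil)))) (.node [(.negSucc 1),(.ofNat 7),(.ofNat 4),(.negSucc 4),(.ofNat 4),(.negSucc 1)] (.node [] (.node [] (.node [] .nil (.node [(.negSucc 2),(.ofNat 3),(.negSucc 2),(.ofNat 2),(.negSucc 2),(.negSucc 2)] .nil .nil)) (.node [(.ofNat 5),(.ofNat 5),(.negSucc 7),(.ofNat 5),(.negSucc 7),(.ofNat 5)] .nil .nil)) (.node [(.ofNat 1),(.ofNat 1),(.ofNat 7),(.negSucc 9),(.ofNat 7),(.ofNat 1)] .nil (.node [(.negSucc 4),(.negSucc 4),(.ofNat 7),(.negSucc 4),(.ofNat 7),(.negSucc 4)] .nil .nil))) (.node [(.ofNat 7),(.ofNat 5),(.negSucc 4),(.ofNat 1),(.negSucc 4),(.ofNat 7)] (.node [] .nil (.node [(.ofNat 7),(.ofNat 1),(.negSucc 7),(.ofNat 5),(.negSucc 7),(.ofNat 7)] .nil .nil)) (.node [(.ofNat 4),(.ofNat 5),(.ofNat 4),(.negSucc 10),(.ofNat 4),(.ofNat 4)] .nil (.node [(.ofNat 5),(.ofNat 5),(.negSucc 0),(.negSucc 6),(.negSucc 0),(.ofNat 5)] .nil .nil))))) (.node [(.ofNat 4),(.ofNat 5),(.negSucc 0),(.negSucc 0),(.negSucc 0),(.ofNat 4)] (.node [] (.node [] (.node [] (.node [] .nil (.node [(.ofNat 4),(.negSucc 3),(.negSucc 5),(.ofNat 5),(.negSucc 5),(.ofNat 4)] .nil .nil)) (.node [(.negSucc 3),(.negSucc 8),(.ofNat 6),(.negSucc 0),(.ofNat 6),(.negSucc 3)] .nil .nil)) (.node [(.ofNat 7),(.ofNat 7),(.negSucc 3),(.negSucc 1),(.negSucc 3),(.ofNat 7)] .nil (.node [(.ofNat 1),(.ofNat 6),(.negSucc 6),(.ofNat 5),(.negSucc 6),(.ofNat 1)] .nil .nil))) (.node [(.negSucc 2),(.negSucc 5),(.ofNat 6),(.negSucc 0),(.ofNat 6),(.negSucc 2)] (.node [] .nil (.node [(.negSucc 2),(.negSucc 8),(.negSucc 2),(.ofNat 11),(.negSucc 2),(.negSucc 2)] .nil .nil)) (.node [(.negSucc 4),(.ofNat 10),(.ofNat 3),(.negSucc 4),(.ofNat 3),(.negSucc 4)] .nil (.node [(.negSucc 4),(.ofNat 2),(.negSucc 2),(.ofNat 5),(.negSucc 2),(.negSucc 4)] .nil .nil)))) (.node [(.ofNat 1),(.ofNat 5),(.negSucc 4),(.ofNat 6),(.negSucc 4),(.ofNat 1)] (.node [] (.node [] (.node [] .nil (.node [(.ofNat 2),(.negSucc 0),(.negSucc 0),(.negSucc 2),(.negSucc 0),(.ofNat 2)] .nil .nil)) (.node [(.negSucc 3),(.ofNat 4),(.ofNat 8),(.negSucc 10),(.ofNat 8),(.negSucc 3)] .nil .nil)) (.node [(.negSucc 6),(.ofNat 1),(.ofNat 8),(.negSucc 5),(.ofNat 8),(.negSucc 6)] .nil (.node [(.ofNat 3),(.ofNat 10),(.negSucc 3),(.negSucc 2),(.negSucc 3),(.ofNat 3)] .nil .nil))) (.node [(.ofNat 2),(.ofNat 11),(.negSucc 0),(.negSucc 3),(.negSucc 0),(.ofNat 2)] (.node [] .nil (.node [(.negSucc 0),(.negSucc 9),(.negSucc 3),(.ofNat 11),(.negSucc 3),(.negSucc 0)] .nil .nil)) (.node [(.negSucc 3),(.negSucc 9),(.ofNat 5),(.ofNat 1),(.ofNat 5),(.negSucc 3)] .nil (.node [(.ofNat 3),(.negSucc 2),(.ofNat 2),(.negSucc 5),(.ofNat 2),(.ofNat 3)] .nil .nil))))))) (.node [(.ofNat 2),(.negSucc 0),(.negSucc 0),(.ofNat 4),(.negSucc 0),(.ofNat 2)] (.node [] (.node [] (.node [] (.node [] (.node [] (.node [] .nil (.node [(.negSucc 1),(.negSucc 4),(.negSucc 4),(.ofNat 9),(.negSucc 4),(.negSucc 1)] .nil .nil)) (.node [(.ofNat 3),(.ofNat 9),(.negSucc 5),(.ofNat 2),(.negSucc 5),(.ofNat 3)] .nil .nil)) (.node [(.negSucc 3),(.negSucc 4),(.negSucc 0),(.ofNat 9),(.negSucc 0),(.negSucc 3)] .nil (.node [(.ofNat 5),(.negSucc 4),(.ofNat 2),(.negSucc 4),(.ofNat 2),(.ofNat 5)] .nil .nil))) (.node [(.negSucc 3),(.negSucc 0),(.ofNat 7),(.negSucc 3),(.ofNat 7),(.negSucc 3)] (.node [] .nil (.node [(.ofNat 4),(.negSucc 8),(.negSucc 5),(.ofNat 10),(.negSucc 5),(.ofNat 4)] .nil .nil)) (.node [(.ofNat 1),(.negSucc 9),(.negSucc 3),(.ofNat 11),(.negSucc 3),(.ofNat 1)] .nil (.node [(.negSucc 2),(.ofNat 1),(.ofNat 7),(.negSucc 9),(.ofNat 7),(.negSucc 2)] .nil .nil)))) (.node [(.negSucc 4),(.ofNat 3),(.ofNat 2),(.ofNat 2),(.ofNat 2),(.negSucc 4)] (.node [] (.node [] (.node [] .nil (.node [(.ofNat 4),(.negSucc 3),(.negSucc 1),(.negSucc 0),(.negSucc 1),(.ofNat 4)] .nil .nil)) (.node [(.ofNat 4),(.negSucc 4),(.negSucc 7),(.ofNat 11),(.negSucc 7),(.ofNat 4)] .nil .nil)) (.node [(.negSucc 1),(.ofNat 3),(.ofNat 8),(.negSucc 9),(.ofNat 8),(.negSucc 1)] .nil (.node [(.negSucc 7),(.negSucc 2),(.ofNat 5),(.negSucc 0),(.ofNat 5),(.negSucc 7)] .nil .nil))) (.node [(.ofNat 4),(.negSucc 4),(.negSucc 4),(.ofNat 9),(.negSucc 4),(.ofNat 4)] (.node [] .nil (.node [(.ofNat 4),(.negSucc 5),(.ofNat 3),(.negSucc 4),(.ofNat 3),(.ofNat 4)] .nil .nil)) (.node [(.ofNat 2),(.ofNat 10),(.negSucc 4),(.ofNat 1),(.negSucc 4),(.ofNat 2)] .nil (.node [(.ofNat 3),(.negSucc 5),(.ofNat 1),(.negSucc 2),(.ofNat 1),(.ofNat 3)] .nil .nil))))) (.node [(.ofNat 1),(.ofNat 5),(.ofNat 4),(.negSucc 5),(.ofNat 4),(.ofNat 1)] (.node [] (.node [] (.node [] (.node [] .nil (.node [(.negSucc 0),(.negSucc 4),(.ofNat 4),(.negSucc 4),(.ofNat 4),(.negSucc 0)] .nil .nil)) (.node [(.negSucc 5),(.ofNat 3),(.negSucc 1),(.ofNat 6),(.negSucc 1),(.negSucc 5)] .nil .nil)) (.node [(.ofNat 4),(.negSucc 3),(.ofNat 4),(.negSucc 4),(.ofNat 4),(.ofNat 4)] .nil (.node [(.negSucc 0),(.negSucc 10),(.negSucc 2),(.ofNat 10),(.negSucc 2),(.negSucc 0)] .nil .nil))) (.node [(.negSucc 5),(.negSucc 3),(.ofNat 4),(.ofNat 3),(.ofNat 4),(.negSucc 5)] (.node [] .nil (.node [(.negSucc 4),(.ofNat 3),(.ofNat 8),(.negSucc 9),(.ofNat 8),(.negSucc 4)] .nil .nil)) (.node [(.negSucc 7),(.ofNat 4),(.ofNat 4),(.negSucc 0),(.ofNat 4),(.negSucc 7)] .nil (.node [(.ofNat 7),(.negSucc 1),(.negSucc 4),(.ofNat 1),(.negSucc 4),(.ofNat 7)] .nil .nil)))) (.node [(.negSucc 3),(.ofNat 6),(.ofNat 1),(.ofNat 1),(.ofNat 1),(.negSucc 3)] (.node [] (.node [] (.node [] .nil (.node [(.negSucc 3),(.negSucc 0),(.ofNat 3),(.negSucc 3),(.ofNat 3),(.negSucc 3)] .nil .nil)) (.node [(.negSucc 5),(.ofNat 9),(.ofNat 4),(.negSucc 5),(.ofNat 4),(.negSucc 5)] .nil .nil)) (.node [(.ofNat 8),(.negSucc 0),(.negSucc 1),(.negSucc 0),(.negSucc 1),(.ofNat 8)] .nil (.node [(.ofNat 2),(.negSucc 6),(.ofNat 3),(.negSucc 3),(.ofNat 3),(.ofNat 2)] .nil .nil))) (.node [(.ofNat 1),(.negSucc 5),(.ofNat 6),(.negSucc 4),(.ofNat 6),(.ofNat 1)] (.node [] .nil (.node [(.negSucc 3),(.ofNat 6),(.ofNat 7),(.negSucc 10),(.ofNat 7),(.negSucc 3)] .nil .nil)) (.node [(.negSucc 6),(.negSucc 1),(.ofNat 8),(.negSucc 4),(.ofNat 8),(.negSucc 6)] .nil (.node [(.negSucc 0),(.negSucc 4),(.negSucc 5),(.ofNat 10),(.negSucc 5),(.negSucc 0)] .nil .nil)))))) (.node [(.ofNat 1),(.negSucc 0),(.negSucc 1),(.ofNat 6),(.negSucc 1),(.ofNat 1)] (.node [] (.node [] (.node [] (.node [] (.node [] .nil (.node [(.ofNat 5),(.ofNat 3),(.negSucc 1),(.negSucc 4),(.negSucc 1),(.ofNat 5)] .nil .nil)) (.node [(.ofNat 6),(.ofNat 9),(.negSucc 1),(.negSucc 5),(.negSucc 1),(.ofNat 6)] .nil .nil)) (.node [(.negSucc 0),(.ofNat 6),(.ofNat 7),(.negSucc 10),(.ofNat 7),(.negSucc 0)] .nil (.node [(.negSucc 6),(.ofNat 6),(.ofNat 6),(.negSucc 6),(.ofNat 6),(.negSucc 6)] .nil .nil))) (.node [(.ofNat 3),(.negSucc 8),(.ofNat 1),(.ofNat 3),(.ofNat 1),(.ofNat 3)] (.node [] .nil (.node [(.ofNat 8),(.ofNat 3),(.negSucc 1),(.negSucc 4),(.negSucc 1),(.ofNat 8)] .nil .nil)) (.node [(.ofNat 5),(.ofNat 3),(.negSucc 7),(.ofNat 7),(.negSucc 7),(.ofNat 5)] .nil (.node [(.ofNat 2),(.negSucc 6),(.ofNat 2),(.negSucc 2),(.ofNat 2),(.ofNat 2)] .nil .nil)))) (.node [(.ofNat 3),(.ofNat 3),(.negSucc 4),(.ofNat 6),(.negSucc 4),(.ofNat 3)] (.node [] (.node [] (.node [] .nil (.node [(.ofNat 3),(.negSucc 4),(.negSucc 3),(.ofNat 3),(.negSucc 3),(.ofNat 3)] .nil .nil)) (.node [(.ofNat 8),(.negSucc 1),(.negSucc 6),(.ofNat 5),(.negSucc 6),(.ofNat 8)] .nil .nil)) (.node [(.ofNat 3),(.negSucc 8),(.ofNat 3),(.negSucc 0),(.ofNat 3),(.ofNat 3)] .nil (.node [(.negSucc 2),(.ofNat 10),(.negSucc 1),(.negSucc 0),(.negSucc 1),(.negSucc 2)] .nil .nil))) (.node [(.negSucc 4),(.ofNat 2),(.ofNat 8),(.negSucc 6),(.ofNat 8),(.negSucc 4)] (.node [] .nil (.node [(.negSucc 7),(.negSucc 3),(.ofNat 6),(.negSucc 0),(.ofNat 6),(.negSucc 7)] .nil .nil)) (.node [(.ofNat 6),(.ofNat 3),(.negSucc 7),(.ofNat 6),(.negSucc 7),(.ofNat 6)] .nil (.node [(.negSucc 5),(.ofNat 1),(.negSucc 0),(.ofNat 3),(.negSucc 0),(.negSucc 5)] .nil .nil))))) (.node [(.negSucc 1),(.ofNat 2),(.negSucc 0),(.ofNat 5),(.negSucc 0),(.negSucc 1)] (.node [] (.node [] (.node [] (.node [] .nil (.node [(.negSucc 3),(.negSucc 0),(.negSucc 2),(.ofNat 5),(.negSucc 2),(.negSucc 3)] .nil .nil)) (.node [(.negSucc 1),(.ofNat 10),(.negSucc 2),(.ofNat 1),(.negSucc 2),(.negSucc 1)] .nil .nil)) (.node [(.negSucc 6),(.ofNat 5),(.ofNat 1),(.ofNat 2),(.ofNat 1),(.negSucc 6)] .nil (.node [(.ofNat 3),(.negSucc 9),(.negSucc 4),(.ofNat 9),(.negSucc 4),(.ofNat 3)] .nil .nil))) (.node [(.negSucc 0),(.ofNat 5),(.negSucc 3),(.ofNat 6),(.negSucc 3),(.negSucc 0)] (.node [] .nil (.node [(.negSucc 0),(.ofNat 11),(.ofNat 3),(.negSucc 9),(.ofNat 3),(.negSucc 0)] .nil .nil)) (.node [(.negSucc 2),(.ofNat 5),(.ofNat 8),(.negSucc 10),(.ofNat 8),(.negSucc 2)] .nil (.node [(.negSucc 2),(.ofNat 9),(.ofNat 1),(.negSucc 5),(.ofNat 1),(.negSucc 2)] .nil .nil)))) (.node [(.ofNat 3),(.ofNat 9),(.ofNat 1),(.negSucc 5),(.ofNat 1),(.ofNat 3)] (.node [] (.node [] (.node [] .nil (.node [(.negSucc 0),(.negSucc 0),(.negSucc 2),(.ofNat 2),(.negSucc 2),(.negSucc 0)] .nil .nil)) (.node [(.negSucc 1),(.ofNat 11),(.negSucc 1),(.negSucc 0),(.negSucc 1),(.negSucc 1)] .nil .nil)) (.node [(.negSucc 2),(.negSucc 9),(.ofNat 5),(.ofNat 1),(.ofNat 5),(.negSucc 2)] .nil (.node [(.ofNat 7),(.negSucc 0),(.negSucc 5),(.ofNat 2),(.negSucc 5),(.ofNat 7)] .nil .nil))) (.node [(.ofNat 4),(.ofNat 4),(.ofNat 4),(.negSucc 8),(.ofNat 4),(.ofNat 4)] (.node [] .nil (.node [(.ofNat 1),(.negSucc 0),(.ofNat 6),(.negSucc 9),(.ofNat 6),(.ofNat 1)] .nil .nil)) (.node [(.negSucc 1),(.negSucc 8),(.ofNat 6),(.negSucc 1),(.ofNat 6),(.negSucc 1)] .nil (.node [(.ofNat 6),(.negSucc 3),(.negSucc 3),(.ofNat 1),(.negSucc 3),(.ofNat 6)] .nil .nil)))))))) (.node [(.ofNat 2),(.ofNat 1),(.negSucc 0),(.ofNat 3),(.negSucc 0),(.ofNat 2)] (.node [] (.node [] (.node [] (.node [] (.node [] (.node [] (.node [] .nil (.node [(.negSucc 2),(.negSucc 5),(.ofNat 4),(.negSucc 2),(.ofNat 4),(.negSucc 2)] .nil .nil)) (.node [(.ofNat 2),(.negSucc 9),(.negSucc 4),(.ofNat 11),(.negSucc 4),(.ofNat 2)] .nil .nil)) (.node [(.negSucc 6),(.ofNat 5),(.ofNat 2),(.ofNat 1),(.ofNat 2),(.negSucc 6)] .nil (.node [(.ofNat 4),(.negSucc 4),(.negSucc 7),(.ofNat 10),(.negSucc 7),(.ofNat 4)] .nil .nil))) (.node [(.negSucc 4),(.negSucc 4),(.ofNat 4),(.ofNat 3),(.ofNat 4),(.negSucc 4)] (.node [] .nil (.node [(.ofNat 3),(.negSucc 10),(.negSucc 3),(.ofNat 9),(.negSucc 3),(.ofNat 3)] .nil .nil)) (.node [(.negSucc 0),(.ofNat 9),(.negSucc 2),(.ofNat 2),(.negSucc 2),(.negSucc 0)] .nil (.node [(.negSucc 3),(.ofNat 5),(.ofNat 6),(.negSucc 9),(.ofNat 6),(.negSucc 3)] .nil .nil)))) (.node [(.ofNat 4),(.ofNat 6),(.negSucc 2),(.ofNat 1),(.negSucc 2),(.ofNat 4)] (.node [] (.node [] (.node [] .nil (.node [(.ofNat 2),(.ofNat 3),(.negSucc 4),(.ofNat 1),(.negSucc 4),(.ofNat 2)] .nil .nil)) (.node [(.ofNat 2),(.ofNat 1),(.ofNat 6),(.negSucc 10),(.ofNat 6),(.ofNat 2)] .nil .nil)) (.node [(.negSucc 1),(.negSucc 10),(.ofNat 3),(.ofNat 4),(.ofNat 3),(.negSucc 1)] .nil (.node [(.ofNat 7),(.ofNat 1),(.negSucc 5),(.ofNat 1),(.negSucc 5),(.ofNat 7)] .nil .nil))) (.node [(.ofNat 3),(.negSucc 5),(.ofNat 4),(.negSucc 2),(.ofNat 4),(.ofNat 3)] (.node [] .nil (.node [(.ofNat 3),(.negSucc 1),(.ofNat 5),(.negSucc 8),(.ofNat 5),(.ofNat 3)] .nil .nil)) (.node [(.ofNat 1),(.negSucc 9),(.ofNat 4),(.negSucc 0),(.ofNat 4),(.ofNat 1)] .nil (.node [(.ofNat 1),(.ofNat 5),(.ofNat 3),(.negSucc 9),(.ofNat 3),(.ofNat 1)] .nil .nil))))) (.node [(.negSucc 1),(.negSucc 3),(.ofNat 4),(.ofNat 1),(.ofNat 4),(.negSucc 1)] (.node [] (.node [] (.node [] (.node [] .nil (.node [(.negSucc 2),(.ofNat 7),(.negSucc 1),(.negSucc 0),(.negSucc 1),(.negSucc 2)] .nil .nil)) (.node [(.negSucc 7),(.ofNat 5),(.ofNat 3),(.negSucc 0),(.ofNat 3),(.negSucc 7)] .nil .nil)) (.node [(.ofNat 3),(.negSucc 5),(.negSucc 5),(.ofNat 11),(.negSucc 5),(.ofNat 3)] .nil (.node [(.negSucc 2),(.ofNat 11),(.ofNat 1),(.negSucc 5),(.ofNat 1),(.negSucc 2)] .nil .nil))) (.node [(.ofNat 6),(.ofNat 6),(.negSucc 2),(.negSucc 0),(.negSucc 2),(.ofNat 6)] (.node [] .nil (.node [(.negSucc 5),(.ofNat 6),(.ofNat 7),(.negSucc 8),(.ofNat 7),(.negSucc 5)] .nil .nil)) (.node [(.ofNat 8),(.ofNat 5),(.negSucc 3),(.negSucc 1),(.negSucc 3),(.ofNat 8)] .nil (.node [(.ofNat 5),(.ofNat 7),(.negSucc 2),(.negSucc 4),(.negSucc 2),(.ofNat 5)] .nil .nil)))) (.node [(.negSucc 4),(.ofNat 5),(.ofNat 4),(.negSucc 1),(.ofNat 4),(.negSucc 4)] (.node [] (.node [] (.node [] .nil (.node [(.ofNat 1),(.ofNat 1),(.negSucc 3),(.ofNat 1),(.negSucc 3),(.ofNat 1)] .nil .nil)) (.node [(.negSucc 5),(.negSucc 3),(.ofNat 8),(.negSucc 4),(.ofNat 8),(.negSucc 5)] .nil .nil)) (.node [(.ofNat 7),(.negSucc 0),(.ofNat 1),(.negSucc 4),(.ofNat 1),(.ofNat 7)] .nil (.node [(.ofNat 1),(.ofNat 5),(.negSucc 6),(.ofNat 5),(.negSucc 6),(.ofNat 1)] .nil .nil))) (.node [(.negSucc 0),(.negSucc 9),(.ofNat 2),(.ofNat 5),(.ofNat 2),(.negSucc 0)] (.node [] .nil (.node [(.negSucc 4),(.ofNat 10),(.ofNat 2),(.negSucc 4),(.ofNat 2),(.negSucc 4)] .nil .nil)) (.node [(.negSucc 7),(.ofNat 1),(.ofNat 7),(.negSucc 3),(.ofNat 7),(.negSucc 7)] .nil (.node [(.negSucc 1),(.negSucc 6),(.ofNat 4),(.negSucc 2),(.ofNat 4),(.negSucc 1)] .nil .nil)))))) (.node [(.negSucc 2),(.ofNat 2),(.ofNat 1),(.ofNat 3),(.ofNat 1),(.negSucc 2)] (.node [] (.node [] (.node [] (.node [] (.node [] .nil (.node [(.ofNat 4),(.negSucc 0),(.negSucc 6),(.ofNat 5),(.negSucc 6),(.ofNat 4)] .nil .nil)) (.node [(.ofNat 6),(.negSucc 3),(.ofNat 2),(.negSucc 4),(.ofNat 2),(.ofNat 6)] .nil .nil)) (.node [(.negSucc 1),(.ofNat 10),(.ofNat 1),(.negSucc 2),(.ofNat 1),(.negSucc 1)] .nil (.node [(.negSucc 7),(.ofNat 3),(.ofNat 5),(.negSucc 3),(.ofNat 5),(.negSucc 7)] .nil .nil))) (.node [(.ofNat 1),(.ofNat 11),(.ofNat 1),(.negSucc 5),(.ofNat 1),(.ofNat 1)] (.node [] .nil (.node [(.ofNat 7),(.ofNat 7),(.negSucc 1),(.negSucc 5),(.negSucc 1),(.ofNat 7)] .nil .nil)) (.node [(.ofNat 4),(.ofNat 7),(.negSucc 6),(.ofNat 4),(.negSucc 6),(.ofNat 4)] .nil (.node [(.ofNat 1),(.negSucc 10),(.negSucc 1),(.ofNat 6),(.negSucc 1),(.ofNat 1)] .nil .nil)))) (.node [(.ofNat 2),(.negSucc 4),(.ofNat 4),(.negSucc 1),(.ofNat 4),(.ofNat 2)] (.node [] (.node [] (.node [] .nil (.node [(.negSucc 0),(.ofNat 6),(.negSucc 2),(.negSucc 0),(.negSucc 2),(.negSucc 0)] .nil .nil)) (.node [(.ofNat 6),(.ofNat 6),(.ofNat 1),(.negSucc 8),(.ofNat 1),(.ofNat 6)] .nil .nil)) (.node [(.ofNat 2),(.negSucc 10),(.ofNat 2),(.ofNat 2),(.ofNat 2),(.ofNat 2)] .nil (.node [(.negSucc 3),(.ofNat 10),(.ofNat 1),(.negSucc 4),(.ofNat 1),(.negSucc 3)] .nil .nil))) (.node [(.negSucc 5),(.negSucc 4),(.ofNat 2),(.ofNat 6),(.ofNat 2),(.negSucc 5)] (.node [] .nil (.node [(.ofNat 8),(.negSucc 2),(.negSucc 1),(.negSucc 1),(.negSucc 1),(.ofNat 8)] .nil .nil)) (.node [(.ofNat 5),(.ofNat 7),(.negSucc 6),(.ofNat 3),(.negSucc 6),(.ofNat 5)] .nil (.node [(.ofNat 7),(.negSucc 0),(.negSucc 3),(.negSucc 0),(.negSucc 3),(.ofNat 7)] .nil .nil))))) (.node [(.negSucc 3),(.ofNat 5),(.ofNat 5),(.negSucc 3),(.ofNat 5),(.negSucc 3)] (.node [] (.node [] (.node [] (.node [] .nil (.node [(.negSucc 5),(.negSucc 2),(.ofNat 3),(.negSucc 0),(.ofNat 3),(.negSucc 5)] .nil .nil)) (.node [(.negSucc 3),(.ofNat 11),(.ofNat 1),(.negSucc 3),(.ofNat 1),(.negSucc 3)] .nil .nil)) (.node [(.negSucc 7),(.negSucc 0),(.ofNat 4),(.ofNat 2),(.ofNat 4),(.negSucc 7)] .nil (.node [(.ofNat 2),(.negSucc 1),(.ofNat 5),(.negSucc 8),(.ofNat 5),(.ofNat 2)] .nil .nil))) (.node [(.negSucc 2),(.ofNat 9),(.ofNat 4),(.negSucc 5),(.ofNat 4),(.negSucc 2)] (.node [] .nil (.node [(.negSucc 1),(.ofNat 1),(.ofNat 8),(.negSucc 10),(.ofNat 8),(.negSucc 1)] .nil .nil)) (.node [(.negSucc 3),(.ofNat 10),(.ofNat 5),(.negSucc 8),(.ofNat 5),(.negSucc 3)] .nil (.node [(.negSucc 2),(.negSucc 6),(.negSucc 3),(.ofNat 10),(.negSucc 3),(.negSucc 2)] .nil .nil)))) (.node [(.ofNat 3),(.negSucc 5),(.ofNat 3),(.negSucc 0),(.ofNat 3),(.ofNat 3)] (.node [] (.node [] (.node [] .nil (.node [(.negSucc 0),(.ofNat 1),(.negSucc 2),(.ofNat 1),(.negSucc 2),(.negSucc 0)] .nil .nil)) (.node [(.negSucc 2),(.ofNat 9),(.negSucc 2),(.ofNat 2),(.negSucc 2),(.negSucc 2)] .nil .nil)) (.node [(.negSucc 3),(.negSucc 9),(.ofNat 3),(.ofNat 5),(.ofNat 3),(.negSucc 3)] .nil (.node [(.ofNat 5),(.ofNat 2),(.negSucc 7),(.ofNat 5),(.negSucc 7),(.ofNat 5)] .nil .nil))) (.node [(.ofNat 3),(.ofNat 6),(.negSucc 5),(.ofNat 5),(.negSucc 5),(.ofNat 3)] (.node [] .nil (.node [(.negSucc 0),(.ofNat 11),(.negSucc 2),(.negSucc 0),(.negSucc 2),(.negSucc 0)] .nil .nil)) (.node [(.negSucc 3),(.ofNat 11),(.ofNat 2),(.negSucc 4),(.ofNat 2),(.negSucc 3)] .nil (.node [(.ofNat 4),(.ofNat 6),(.negSucc 0),(.negSucc 6),(.negSucc 0),(.ofNat 4)] .nil .nil))))))) (.node [(.negSucc 0),(.negSucc 1),(.ofNat 3),(.ofNat 1),(.ofNat 3),(.negSucc 0)] (.node [] (.node [] (.node [] (.node [] (.node [] (.node [] .nil (.node [(.negSucc 0),(.ofNat 5),(.ofNat 4),(.negSucc 9),(.ofNat 4),(.negSucc 0)] .nil .nil)) (.node [(.ofNat 4),(.ofNat 4),(.ofNat 4),(.negSucc 10),(.ofNat 4),(.ofNat 4)] .nil .nil)) (.node [(.negSucc 2),(.negSucc 8),(.ofNat 2),(.ofNat 6),(.ofNat 2),(.negSucc 2)] .nil (.node [(.ofNat 7),(.ofNat 5),(.negSucc 0),(.negSucc 6),(.negSucc 0),(.ofNat 7)] .nil .nil))) (.node [(.negSucc 2),(.ofNat 6),(.ofNat 6),(.negSucc 6),(.ofNat 6),(.negSucc 2)] (.node [] .nil (.node [(.ofNat 5),(.negSucc 4),(.negSucc 7),(.ofNat 10),(.negSucc 7),(.ofNat 5)] .nil .nil)) (.node [(.ofNat 1),(.ofNat 11),(.negSucc 2),(.negSucc 0),(.negSucc 2),(.ofNat 1)] .nil (.node [(.negSucc 1),(.negSucc 6),(.negSucc 4),(.ofNat 11),(.negSucc 4),(.negSucc 1)] .nil .nil)))) (.node [(.negSucc 3),(.ofNat 5),(.ofNat 3),(.negSucc 0),(.ofNat 3),(.negSucc 3)] (.node [] (.node [] (.node [] .nil (.node [(.negSucc 3),(.negSucc 3),(.negSucc 1),(.ofNat 5),(.negSucc 1),(.negSucc 3)] .nil .nil)) (.node [(.ofNat 4),(.ofNat 11),(.negSucc 1),(.negSucc 5),(.negSucc 1),(.ofNat 4)] .nil .nil)) (.node [(.negSucc 0),(.ofNat 9),(.negSucc 1),(.ofNat 1),(.negSucc 1),(.negSucc 0)] .nil (.node [(.negSucc 6),(.negSucc 5),(.ofNat 6),(.negSucc 0),(.ofNat 6),(.negSucc 6)] .nil .nil))) (.node [(.ofNat 6),(.negSucc 5),(.negSucc 2),(.ofNat 5),(.negSucc 2),(.ofNat 6)] (.node [] .nil (.node [(.ofNat 5),(.ofNat 5),(.ofNat 2),(.negSucc 9),(.ofNat 2),(.ofNat 5)] .nil .nil)) (.node [(.ofNat 4),(.negSucc 10),(.negSucc 1),(.ofNat 6),(.negSucc 1),(.ofNat 4)] .nil (.node [(.ofNat 4),(.negSucc 0),(.negSucc 7),(.ofNat 7),(.negSucc 7),(.ofNat 4)] .nil .nil))))) (.node [(.ofNat 3),(.ofNat 1),(.negSucc 3),(.ofNat 6),(.negSucc 3),(.ofNat 3)] (.node [] (.node [] (.node [] (.node [] .nil (.node [(.ofNat 2),(.ofNat 2),(.ofNat 1),(.negSucc 6),(.ofNat 1),(.ofNat 2)] .nil .nil)) (.node [(.negSucc 4),(.negSucc 2),(.negSucc 2),(.ofNat 10),(.negSucc 2),(.negSucc 4)] .nil .nil)) (.node [(.ofNat 7),(.negSucc 5),(.negSucc 3),(.ofNat 5),(.negSucc 3),(.ofNat 7)] .nil (.node [(.negSucc 0),(.ofNat 1),(.ofNat 7),(.negSucc 10),(.ofNat 7),(.negSucc 0)] .nil .nil))) (.node [(.negSucc 4),(.negSucc 1),(.ofNat 7),(.negSucc 2),(.ofNat 7),(.negSucc 4)] (.node [] .nil (.node [(.negSucc 3),(.negSucc 3),(.ofNat 8),(.negSucc 6),(.ofNat 8),(.negSucc 3)] .nil .nil)) (.node [(.negSucc 6),(.ofNat 2),(.ofNat 8),(.negSucc 6),(.ofNat 8),(.negSucc 6)] .nil (.node [(.negSucc 6),(.negSucc 0),(.ofNat 1),(.ofNat 2),(.ofNat 1),(.negSucc 6)] .nil .nil)))) (.node [(.negSucc 1),(.ofNat 4),(.negSucc 1),(.ofNat 5),(.negSucc 1),(.negSucc 1)] (.node [] (.node [] (.node [] .nil (.node [(.negSucc 1),(.ofNat 4),(.negSucc 1),(.negSucc 0),(.negSucc 1),(.negSucc 1)] .nil .nil)) (.node [(.negSucc 4),(.ofNat 10),(.ofNat 1),(.negSucc 2),(.ofNat 1),(.negSucc 4)] .nil .nil)) (.node [(.negSucc 7),(.ofNat 1),(.ofNat 6),(.negSucc 1),(.ofNat 6),(.negSucc 7)] .nil (.node [(.ofNat 3),(.negSucc 2),(.negSucc 7),(.ofNat 9),(.negSucc 7),(.ofNat 3)] .nil .nil))) (.node [(.ofNat 2),(.negSucc 6),(.negSucc 4),(.ofNat 11),(.negSucc 4),(.ofNat 2)] (.node [] .nil (.node [(.negSucc 2),(.ofNat 5),(.negSucc 4),(.ofNat 6),(.negSucc 4),(.negSucc 2)] .nil .nil)) (.node [(.negSucc 5),(.ofNat 9),(.ofNat 3),(.negSucc 3),(.ofNat 3),(.negSucc 5)] .nil (.node [(.ofNat 2),(.negSucc 8),(.negSucc 2),(.ofNat 5),(.negSucc 2),(.ofNat 2)] .nil .nil)))))) (.node [(.ofNat 3),(.negSucc 4),(.ofNat 1),(.ofNat 2),(.ofNat 1),(.ofNat 3)] (.node [] (.node [] (.node [] (.node [] (.node [] .nil (.node [(.negSucc 4),(.negSucc 4),(.ofNat 4),(.negSucc 1),(.ofNat 4),(.negSucc 4)] .nil .nil)) (.node [(.ofNat 8),(.ofNat 1),(.negSucc 0),(.negSucc 4),(.negSucc 0),(.ofNat 8)] .nil .nil)) (.node [(.ofNat 1),(.ofNat 10),(.negSucc 1),(.negSucc 0),(.negSucc 1),(.ofNat 1)] .nil (.node [(.negSucc 4),(.ofNat 5),(.ofNat 7),(.negSucc 9),(.ofNat 7),(.negSucc 4)] .nil .nil))) (.node [(.ofNat 3),(.ofNat 9),(.negSucc 0),(.negSucc 2),(.negSucc 0),(.ofNat 3)] (.node [] .nil (.node [(.negSucc 7),(.negSucc 0),(.ofNat 7),(.negSucc 3),(.ofNat 7),(.negSucc 7)] .nil .nil)) (.node [(.ofNat 6),(.ofNat 9),(.negSucc 2),(.negSucc 3),(.negSucc 2),(.ofNat 6)] .nil (.node [(.ofNat 3),(.negSucc 8),(.negSucc 1),(.ofNat 3),(.negSucc 1),(.ofNat 3)] .nil .nil)))) (.node [(.ofNat 4),(.ofNat 7),(.negSucc 1),(.negSucc 0),(.negSucc 1),(.ofNat 4)] (.node [] (.node [] (.node [] .nil (.node [(.negSucc 3),(.negSucc 3),(.ofNat 2),(.negSucc 0),(.ofNat 2),(.negSucc 3)] .nil .nil)) (.node [(.ofNat 8),(.ofNat 5),(.negSucc 3),(.negSucc 2),(.negSucc 3),(.ofNat 8)] .nil .nil)) (.node [(.ofNat 4),(.negSucc 0),(.negSucc 7),(.ofNat 10),(.negSucc 7),(.ofNat 4)] .nil (.node [(.negSucc 1),(.ofNat 3),(.negSucc 5),(.ofNat 7),(.negSucc 5),(.negSucc 1)] .nil .nil))) (.node [(.negSucc 2),(.negSucc 5),(.negSucc 0),(.ofNat 9),(.negSucc 0),(.negSucc 2)] (.node [] .nil (.node [(.negSucc 6),(.negSucc 0),(.negSucc 0),(.ofNat 7),(.negSucc 0),(.negSucc 6)] .nil .nil)) (.node [(.ofNat 8),(.negSucc 4),(.negSucc 3),(.ofNat 3),(.negSucc 3),(.ofNat 8)] .nil (.node [(.negSucc 3),(.negSucc 4),(.ofNat 5),(.negSucc 3),(.ofNat 5),(.negSucc 3)] .nil .nil))))) (.node [(.ofNat 2),(.negSucc 6),(.ofNat 2),(.ofNat 2),(.ofNat 2),(.ofNat 2)] (.node [] (.node [] (.node [] (.node [] .nil (.node [(.negSucc 2),(.ofNat 1),(.ofNat 4),(.negSucc 6),(.ofNat 4),(.negSucc 2)] .nil .nil)) (.node [(.negSucc 0),(.negSucc 1),(.ofNat 8),(.negSucc 8),(.ofNat 8),(.negSucc 0)] .nil .nil)) (.node [(.negSucc 3),(.negSucc 4),(.negSucc 1),(.ofNat 10),(.negSucc 1),(.negSucc 3)] .nil (.node [(.ofNat 3),(.ofNat 7),(.negSucc 6),(.ofNat 3),(.negSucc 6),(.ofNat 3)] .nil .nil))) (.node [(.ofNat 1),(.ofNat 6),(.ofNat 6),(.negSucc 10),(.ofNat 6),(.ofNat 1)] (.node [] .nil (.node [(.ofNat 1),(.negSucc 0),(.negSucc 7),(.ofNat 10),(.negSucc 7),(.ofNat 1)] .nil .nil)) (.node [(.negSucc 0),(.negSucc 9),(.negSucc 0),(.ofNat 9),(.negSucc 0),(.negSucc 0)] .nil (.node [(.negSucc 1),(.negSucc 6),(.ofNat 5),(.negSucc 3),(.ofNat 5),(.negSucc 1)] .nil .nil)))) (.node [(.ofNat 5),(.negSucc 1),(.ofNat 2),(.negSucc 2),(.ofNat 2),(.ofNat 5)] (.node [] (.node [] (.node [] .nil (.node [(.negSucc 0),(.ofNat 1),(.negSucc 0),(.negSucc 1),(.negSucc 0),(.negSucc 0)] .nil .nil)) (.node [(.ofNat 1),(.negSucc 9),(.negSucc 4),(.ofNat 11),(.negSucc 4),(.ofNat 1)] .nil .nil)) (.node [(.negSucc 1),(.negSucc 10),(.ofNat 1),(.ofNat 7),(.ofNat 1),(.negSucc 1)] .nil (.node [(.negSucc 7),(.ofNat 1),(.ofNat 4),(.negSucc 1),(.ofNat 4),(.negSucc 7)] .nil .nil))) (.node [(.ofNat 7),(.negSucc 0),(.negSucc 0),(.negSucc 0),(.negSucc 0),(.ofNat 7)] (.node [] .nil (.node [(.ofNat 2),(.ofNat 2),(.ofNat 5),(.negSucc 10),(.ofNat 5),(.ofNat 2)] .nil .nil)) (.node [(.negSucc 0),(.negSucc 9),(.negSucc 2),(.ofNat 11),(.negSucc 2),(.negSucc 0)] .nil (.node [(.negSucc 5),(.negSucc 0),(.negSucc 0),(.ofNat 4),(.negSucc 0),(.negSucc 5)] .nil .nil)))))))))) (.node [(.ofNat 1),(.negSucc 0),(.ofNat 1),(.ofNat 2),(.ofNat 1),(.ofNat 1)] (.node [] (.node [] (.node [] (.node [] (.node [] (.node [] (.node [] (.node [] (.node [] .nil (.node [(.negSucc 4),(.ofNat 2),(.negSucc 1),(.ofNat 3),(.negSucc 1),(.negSucc 4)] .nil .nil)) (.node [(.negSucc 0),(.ofNat 10),(.ofNat 5),(.negSucc 10),(.ofNat 5),(.negSucc 0)] .nil .nil)) (.node [(.ofNat 8),(.negSucc 0),(.negSucc 3),(.ofNat 2),(.negSucc 3),(.ofNat 8)] .nil (.node [(.ofNat 2),(.ofNat 11),(.negSucc 0),(.negSucc 6),(.negSucc 0),(.ofNat 2)] .nil .nil))) (.node [(.ofNat 6),(.ofNat 1),(.ofNat 1),(.negSucc 3),(.ofNat 1),(.ofNat 6)] (.node [] .nil (.node [(.ofNat 1),(.ofNat 10),(.ofNat 3),(.negSucc 10),(.ofNat 3),(.ofNat 1)] .nil .nil)) (.node [(.negSucc 1),(.negSucc 1),(.negSucc 4),(.ofNat 11),(.negSucc 4),(.negSucc 1)] .nil (.node [(.negSucc 6),(.ofNat 1),(.ofNat 1),(.ofNat 1),(.ofNat 1),(.negSucc 6)] .nil .nil)))) (.node [(.ofNat 3),(.negSucc 0),(.negSucc 3),(.ofNat 7),(.negSucc 3),(.ofNat 3)] (.node [] (.node [] (.node [] .nil (.node [(.negSucc 1),(.ofNat 7),(.negSucc 1),(.negSucc 1),(.negSucc 1),(.negSucc 1)] .nil .nil)) (.node [(.ofNat 1),(.ofNat 2),(.negSucc 7),(.ofNat 9),(.negSucc 7),(.ofNat 1)] .nil .nil)) (.node [(.negSucc 2),(.negSucc 6),(.ofNat 7),(.negSucc 2),(.ofNat 7),(.negSucc 2)] .nil (.node [(.ofNat 4),(.ofNat 5),(.ofNat 2),(.negSucc 9),(.ofNat 2),(.ofNat 4)] .nil .nil))) (.node [(.ofNat 2),(.ofNat 7),(.negSucc 4),(.ofNat 4),(.negSucc 4),(.ofNat 2)] (.node [] .nil (.node [(.ofNat 1),(.ofNat 10),(.ofNat 1),(.negSucc 8),(.ofNat 1),(.ofNat 1)] .nil .nil)) (.node [(.negSucc 0),(.ofNat 1),(.ofNat 8),(.negSucc 9),(.ofNat 8),(.negSucc 0)] .nil (.node [(.negSucc 0),(.negSucc 5),(.negSucc 5),(.ofNat 11),(.negSucc 5),(.negSucc 0)] .nil .nil))))) (.node [(.ofNat 4),(.ofNat 4),(.negSucc 1),(.ofNat 1),(.negSucc 1),(.ofNat 4)] (.node [] (.node [] (.node [] (.node [] .nil (.node [(.negSucc 3),(.negSucc 6),(.ofNat 2),(.ofNat 1),(.ofNat 2),(.negSucc 3)] .nil .nil)) (.node [(.negSucc 7),(.negSucc 4),(.ofNat 4),(.ofNat 3),(.ofNat 4),(.negSucc 7)] .nil .nil)) (.node [(.ofNat 2),(.negSucc 2),(.ofNat 6),(.negSucc 6),(.ofNat 6),(.ofNat 2)] .nil (.node [(.negSucc 3),(.ofNat 1),(.ofNat 8),(.negSucc 9),(.ofNat 8),(.negSucc 3)] .nil .nil))) (.node [(.ofNat 4),(.ofNat 5),(.negSucc 4),(.ofNat 4),(.negSucc 4),(.ofNat 4)] (.node [] .nil (.node [(.negSucc 7),(.ofNat 5),(.ofNat 4),(.negSucc 2),(.ofNat 4),(.negSucc 7)] .nil .nil)) (.node [(.ofNat 7),(.ofNat 1),(.ofNat 1),(.negSucc 6),(.ofNat 1),(.ofNat 7)] .nil (.node [(.ofNat 3),(.ofNat 6),(.ofNat 1),(.negSucc 8),(.ofNat 1),(.ofNat 3)] .nil .nil)))) (.node [(.ofNat 5),(.ofNat 5),(.negSucc 3),(.ofNat 2),(.negSucc 3),(.ofNat 5)] (.node [] (.node [] (.node [] .nil (.node [(.negSucc 2),(.ofNat 5),(.negSucc 0),(.negSucc 1),(.negSucc 0),(.negSucc 2)] .nil .nil)) (.node [(.negSucc 7),(.negSucc 0),(.ofNat 1),(.ofNat 5),(.ofNat 1),(.negSucc 7)] .nil .nil)) (.node [(.ofNat 5),(.negSucc 4),(.negSucc 6),(.ofNat 10),(.negSucc 6),(.ofNat 5)] .nil (.node [(.negSucc 0),(.negSucc 9),(.ofNat 2),(.ofNat 1),(.ofNat 2),(.negSucc 0)] .nil .nil))) (.node [(.negSucc 2),(.ofNat 9),(.ofNat 2),(.negSucc 2),(.ofNat 2),(.negSucc 2)] (.node [] .nil (.node [(.negSucc 5),(.negSucc 8),(.ofNat 3),(.ofNat 4),(.ofNat 3),(.negSucc 5)] .nil .nil)) (.node [(.ofNat 8),(.ofNat 1),(.negSucc 6),(.ofNat 4),(.negSucc 6),(.ofNat 8)] .nil (.node [(.negSucc 2),(.negSucc 8),(.ofNat 1),(.ofNat 3),(.ofNat 1),(.negSucc 2)] .nil .nil)))))) (.node [(.ofNat 2),(.negSucc 3),(.ofNat 2),(.ofNat 1),(.ofNat 2),(.ofNat 2)] (.node [] (.node [] (.node [] (.node [] (.node [] .nil (.node [(.ofNat 2),(.negSucc 3),(.ofNat 2),(.negSucc 4),(.ofNat 2),(.ofNat 2)] .nil .nil)) (.node [(.ofNat 5),(.negSucc 9),(.negSucc 0),(.ofNat 3),(.negSucc 0),(.ofNat 5)] .nil .nil)) (.node [(.negSucc 2),(.ofNat 3),(.ofNat 8),(.negSucc 8),(.ofNat 8),(.negSucc 2)] .nil (.node [(.ofNat 8),(.negSucc 0),(.negSucc 5),(.ofNat 2),(.negSucc 5),(.ofNat 8)] .nil .nil))) (.node [(.negSucc 1),(.ofNat 9),(.ofNat 3),(.negSucc 4),(.ofNat 3),(.negSucc 1)] (.node [] .nil (.node [(.ofNat 6),(.negSucc 8),(.negSucc 2),(.ofNat 4),(.negSucc 2),(.ofNat 6)] .nil .nil)) (.node [(.ofNat 3),(.negSucc 4),(.ofNat 5),(.negSucc 5),(.ofNat 5),(.ofNat 3)] .nil (.node [(.negSucc 1),(.ofNat 7),(.ofNat 5),(.negSucc 10),(.ofNat 5),(.negSucc 1)] .nil .nil)))) (.node [(.negSucc 1),(.negSucc 1),(.negSucc 0),(.ofNat 7),(.negSucc 0),(.negSucc 1)] (.node [] (.node [] (.node [] .nil (.node [(.negSucc 2),(.negSucc 0),(.ofNat 4),(.negSucc 5),(.ofNat 4),(.negSucc 2)] .nil .nil)) (.node [(.ofNat 5),(.ofNat 3),(.ofNat 3),(.negSucc 9),(.ofNat 3),(.ofNat 5)] .nil .nil)) (.node [(.ofNat 1),(.negSucc 0),(.negSucc 6),(.ofNat 11),(.negSucc 6),(.ofNat 1)] .nil (.node [(.negSucc 6),(.ofNat 6),(.ofNat 4),(.negSucc 4),(.ofNat 4),(.negSucc 6)] .nil .nil))) (.node [(.ofNat 7),(.ofNat 1),(.negSucc 0),(.negSucc 1),(.negSucc 0),(.ofNat 7)] (.node [] .nil (.node [(.ofNat 7),(.negSucc 1),(.negSucc 7),(.ofNat 7),(.negSucc 7),(.ofNat 7)] .nil .nil)) (.node [(.ofNat 4),(.ofNat 4),(.negSucc 7),(.ofNat 7),(.negSucc 7),(.ofNat 4)] .nil (.node [(.ofNat 5),(.ofNat 2),(.negSucc 6),(.ofNat 3),(.negSucc 6),(.ofNat 5)] .nil .nil))))) (.node [(.ofNat 4),(.ofNat 4),(.ofNat 2),(.negSucc 4),(.ofNat 2),(.ofNat 4)] (.node [] (.node [] (.node [] (.node [] .nil (.node [(.ofNat 4),(.negSucc 4),(.negSucc 2),(.ofNat 1),(.negSucc 2),(.ofNat 4)] .nil .nil)) (.node [(.negSucc 3),(.negSucc 10),(.ofNat 2),(.ofNat 6),(.ofNat 2),(.negSucc 3)] .nil .nil)) (.node [(.ofNat 7),(.ofNat 6),(.negSucc 5),(.ofNat 1),(.negSucc 5),(.ofNat 7)] .nil (.node [(.ofNat 1),(.negSucc 8),(.ofNat 2),(.negSucc 0),(.ofNat 2),(.ofNat 1)] .nil .nil))) (.node [(.negSucc 3),(.ofNat 1),(.ofNat 8),(.negSucc 6),(.ofNat 8),(.negSucc 3)] (.node [] .nil (.node [(.negSucc 3),(.ofNat 11),(.ofNat 2),(.negSucc 5),(.ofNat 2),(.negSucc 3)] .nil .nil)) (.node [(.negSucc 4),(.negSucc 4),(.negSucc 1),(.ofNat 10),(.negSucc 1),(.negSucc 4)] .nil (.node [(.negSucc 5),(.ofNat 6),(.ofNat 3),(.negSucc 4),(.ofNat 3),(.negSucc 5)] .nil .nil)))) (.node [(.ofNat 1),(.negSucc 4),(.negSucc 3),(.ofNat 10),(.negSucc 3),(.ofNat 1)] (.node [] (.node [] (.node [] .nil (.node [(.ofNat 1),(.ofNat 2),(.negSucc 2),(.negSucc 0),(.negSucc 2),(.ofNat 1)] .nil .nil)) (.node [(.negSucc 3),(.negSucc 3),(.negSucc 3),(.ofNat 11),(.negSucc 3),(.negSucc 3)] .nil .nil)) (.node [(.negSucc 6),(.negSucc 4),(.ofNat 1),(.ofNat 7),(.ofNat 1),(.negSucc 6)] .nil (.node [(.ofNat 3),(.ofNat 9),(.negSucc 1),(.negSucc 5),(.negSucc 1),(.ofNat 3)] .nil .nil))) (.node [(.ofNat 2),(.ofNat 7),(.ofNat 5),(.negSucc 10),(.ofNat 5),(.ofNat 2)] (.node [] .nil (.node [(.negSucc 0),(.negSucc 10),(.ofNat 3),(.ofNat 1),(.ofNat 3),(.negSucc 0)] .nil .nil)) (.node [(.negSucc 4),(.ofNat 5),(.ofNat 8),(.negSucc 9),(.ofNat 8),(.negSucc 4)] .nil (.node [(.ofNat 3),(.negSucc 5),(.negSucc 5),(.ofNat 7),(.negSucc 5),(.ofNat 3)] .nil .nil))))))) (.node [(.ofNat 1),(.negSucc 0),(.ofNat 3),(.negSucc 0),(.ofNat 3),(.ofNat 1)] (.node [] (.node [] (.node [] (.node [] (.node [] (.node [] .nil (.node [(.negSucc 2),(.ofNat 6),(.negSucc 2),(.ofNat 1),(.negSucc 2),(.negSucc 2)] .nil .nil)) (.node [(.ofNat 3),(.negSucc 8),(.ofNat 3),(.negSucc 1),(.ofNat 3),(.ofNat 3)] .nil .nil)) (.node [(.negSucc 4),(.negSucc 1),(.ofNat 8),(.negSucc 4),(.ofNat 8),(.negSucc 4)] .nil (.node [(.ofNat 4),(.ofNat 10),(.negSucc 2),(.negSucc 4),(.negSucc 2),(.ofNat 4)] .nil .nil))) (.node [(.negSucc 3),(.negSucc 5),(.ofNat 1),(.ofNat 7),(.ofNat 1),(.negSucc 3)] (.node [] .nil (.node [(.ofNat 4),(.negSucc 10),(.negSucc 1),(.ofNat 5),(.negSucc 1),(.ofNat 4)] .nil .nil)) (.node [(.ofNat 1),(.negSucc 10),(.ofNat 3),(.ofNat 1),(.ofNat 3),(.ofNat 1)] .nil (.node [(.negSucc 2),(.negSucc 5),(.ofNat 6),(.negSucc 4),(.ofNat 6),(.negSucc 2)] .nil .nil)))) (.node [(.ofNat 6),(.ofNat 3),(.negSucc 2),(.ofNat 1),(.negSucc 2),(.ofNat 6)] (.node [] (.node [] (.node [] .nil (.node [(.ofNat 4),(.negSucc 4),(.negSucc 4),(.ofNat 4),(.negSucc 4),(.ofNat 4)] .nil .nil)) (.node [(.ofNat 4),(.negSucc 10),(.negSucc 0),(.ofNat 4),(.negSucc 0),(.ofNat 4)] .nil .nil)) (.node [(.negSucc 1),(.ofNat 2),(.negSucc 4),(.ofNat 9),(.negSucc 4),(.negSucc 1)] .nil (.node [(.ofNat 8),(.ofNat 1),(.negSucc 3),(.negSucc 1),(.negSucc 3),(.ofNat 8)] .nil .nil))) (.node [(.ofNat 3),(.ofNat 7),(.ofNat 4),(.negSucc 9),(.ofNat 4),(.ofNat 3)] (.node [] .nil (.node [(.ofNat 4),(.negSucc 9),(.negSucc 4),(.ofNat 9),(.negSucc 4),(.ofNat 4)] .nil .nil)) (.node [(.ofNat 2),(.negSucc 0),(.negSucc 7),(.ofNat 11),(.negSucc 7),(.ofNat 2)] .nil (.node [(.ofNat 3),(.negSucc 8),(.negSucc 3),(.ofNat 6),(.negSucc 3),(.ofNat 3)] .nil .nil))))) (.node [(.ofNat 1),(.negSucc 5),(.ofNat 3),(.ofNat 1),(.ofNat 3),(.ofNat 1)] (.node [] (.node [] (.node [] (.node [] .nil (.node [(.negSucc 1),(.ofNat 5),(.negSucc 3),(.ofNat 2),(.negSucc 3),(.negSucc 1)] .nil .nil)) (.node [(.negSucc 5),(.negSucc 5),(.negSucc 0),(.ofNat 9),(.negSucc 0),(.negSucc 5)] .nil .nil)) (.node [(.ofNat 4),(.negSucc 9),(.negSucc 0),(.ofNat 5),(.negSucc 0),(.ofNat 4)] .nil (.node [(.negSucc 1),(.ofNat 11),(.negSucc 1),(.negSucc 1),(.negSucc 1),(.negSucc 1)] .nil .nil))) (.node [(.negSucc 6),(.ofNat 1),(.ofNat 4),(.ofNat 1),(.ofNat 4),(.negSucc 6)] (.node [] .nil (.node [(.negSucc 4),(.negSucc 6),(.ofNat 7),(.negSucc 2),(.ofNat 7),(.negSucc 4)] .nil .nil)) (.node [(.negSucc 7),(.ofNat 3),(.ofNat 2),(.ofNat 2),(.ofNat 2),(.negSucc 7)] .nil (.node [(.ofNat 6),(.ofNat 5),(.negSucc 1),(.negSucc 5),(.negSucc 1),(.ofNat 6)] .nil .nil)))) (.node [(.negSucc 3),(.ofNat 1),(.ofNat 7),(.negSucc 4),(.ofNat 7),(.negSucc 3)] (.node [] (.node [] (.node [] .nil (.node [(.ofNat 3),(.negSucc 1),(.negSucc 0),(.negSucc 2),(.negSucc 0),(.ofNat 3)] .nil .nil)) (.node [(.negSucc 5),(.ofNat 4),(.negSucc 1),(.ofNat 5),(.negSucc 1),(.negSucc 5)] .nil .nil)) (.node [(.ofNat 8),(.negSucc 2),(.negSucc 4),(.ofNat 4),(.negSucc 4),(.ofNat 8)] .nil (.node [(.ofNat 2),(.negSucc 9),(.negSucc 0),(.ofNat 3),(.negSucc 0),(.ofNat 2)] .nil .nil))) (.node [(.negSucc 0),(.ofNat 11),(.ofNat 2),(.negSucc 5),(.ofNat 2),(.negSucc 0)] (.node [] .nil (.node [(.negSucc 3),(.negSucc 6),(.ofNat 7),(.negSucc 3),(.ofNat 7),(.negSucc 3)] .nil .nil)) (.node [(.negSucc 6),(.negSucc 6),(.ofNat 2),(.ofNat 6),(.ofNat 2),(.negSucc 6)] .nil (.node [(.negSucc 0),(.negSucc 10),(.negSucc 0),(.ofNat 6),(.negSucc 0),(.negSucc 0)] .nil .nil)))))) (.node [(.negSucc 0),(.negSucc 0),(.ofNat 4),(.negSucc 0),(.ofNat 4),(.negSucc 0)] (.node [] (.node [] (.node [] (.node [] (.node [] .nil (.node [(.ofNat 5),(.negSucc 4),(.negSucc 3),(.ofNat 2),(.negSucc 3),(.ofNat 5)] .nil .nil)) (.node [(.ofNat 6),(.ofNat 4),(.negSucc 7),(.ofNat 5),(.negSucc 7),(.ofNat 6)] .nil .nil)) (.node [(.negSucc 0),(.negSucc 4),(.ofNat 7),(.negSucc 4),(.ofNat 7),(.negSucc 0)] .nil (.node [(.negSucc 6),(.ofNat 1),(.negSucc 0),(.ofNat 5),(.negSucc 0),(.negSucc 6)] .nil .nil))) (.node [(.ofNat 2),(.ofNat 7),(.negSucc 3),(.ofNat 3),(.negSucc 3),(.ofNat 2)] (.node [] .nil (.node [(.ofNat 8),(.negSucc 0),(.negSucc 6),(.ofNat 4),(.negSucc 6),(.ofNat 8)] .nil .nil)) (.node [(.ofNat 5),(.negSucc 9),(.negSucc 1),(.ofNat 5),(.negSucc 1),(.ofNat 5)] .nil (.node [(.ofNat 1),(.ofNat 10),(.negSucc 1),(.negSucc 4),(.negSucc 1),(.ofNat 1)] .nil .nil)))) (.node [(.ofNat 3),(.negSucc 6),(.ofNat 2),(.ofNat 1),(.ofNat 2),(.ofNat 3)] (.node [] (.node [] (.node [] .nil (.node [(.ofNat 2),(.ofNat 4),(.negSucc 3),(.negSucc 0),(.negSucc 3),(.ofNat 2)] .nil .nil)) (.node [(.ofNat 8),(.negSucc 4),(.negSucc 2),(.ofNat 1),(.negSucc 2),(.ofNat 8)] .nil .nil)) (.node [(.ofNat 3),(.negSucc 10),(.negSucc 0),(.ofNat 6),(.negSucc 0),(.ofNat 3)] .nil (.node [(.negSucc 2),(.ofNat 6),(.ofNat 6),(.negSucc 10),(.ofNat 6),(.negSucc 2)] .nil .nil))) (.node [(.negSucc 4),(.negSucc 6),(.ofNat 3),(.ofNat 5),(.ofNat 3),(.negSucc 4)] (.node [] .nil (.node [(.negSucc 7),(.negSucc 4),(.ofNat 4),(.ofNat 2),(.ofNat 4),(.negSucc 7)] .nil .nil)) (.node [(.ofNat 6),(.negSucc 5),(.negSucc 6),(.ofNat 9),(.negSucc 6),(.ofNat 6)] .nil (.node [(.negSucc 5),(.negSucc 5),(.ofNat 3),(.ofNat 1),(.ofNat 3),(.negSucc 5)] .nil .nil))))) (.node [(.negSucc 1),(.negSucc 2),(.ofNat 5),(.negSucc 0),(.ofNat 5),(.negSucc 1)] (.node [] (.node [] (.node [] (.node [] .nil (.node [(.negSucc 3),(.negSucc 5),(.ofNat 3),(.negSucc 0),(.ofNat 3),(.negSucc 3)] .nil .nil)) (.node [(.negSucc 1),(.negSucc 0),(.negSucc 5),(.ofNat 11),(.negSucc 5),(.negSucc 1)] .nil .nil)) (.node [(.negSucc 6),(.negSucc 0),(.ofNat 6),(.negSucc 0),(.ofNat 6),(.negSucc 6)] .nil (.node [(.ofNat 2),(.ofNat 11),(.negSucc 2),(.negSucc 3),(.negSucc 2),(.ofNat 2)] .nil .nil))) (.node [(.negSucc 0),(.negSucc 4),(.negSucc 2),(.ofNat 10),(.negSucc 2),(.negSucc 0)] (.node [] .nil (.node [(.negSucc 0),(.ofNat 10),(.negSucc 3),(.ofNat 1),(.negSucc 3),(.negSucc 0)] .nil .nil)) (.node [(.negSucc 2),(.ofNat 2),(.negSucc 4),(.ofNat 9),(.negSucc 4),(.negSucc 2)] .nil (.node [(.negSucc 2),(.ofNat 6),(.negSucc 3),(.ofNat 3),(.negSucc 3),(.negSucc 2)] .nil .nil)))) (.node [(.ofNat 3),(.ofNat 6),(.negSucc 3),(.ofNat 3),(.negSucc 3),(.ofNat 3)] (.node [] (.node [] (.node [] .nil (.node [(.negSucc 1),(.negSucc 0),(.ofNat 1),(.negSucc 2),(.ofNat 1),(.negSucc 1)] .nil .nil)) (.node [(.negSucc 1),(.ofNat 10),(.ofNat 5),(.negSucc 10),(.ofNat 5),(.negSucc 1)] .nil .nil)) (.node [(.negSucc 3),(.ofNat 5),(.ofNat 8),(.negSucc 9),(.ofNat 8),(.negSucc 3)] .nil (.node [(.ofNat 7),(.negSucc 4),(.negSucc 1),(.negSucc 0),(.negSucc 1),(.ofNat 7)] .nil .nil))) (.node [(.ofNat 4),(.negSucc 4),(.negSucc 5),(.ofNat 10),(.negSucc 5),(.ofNat 4)] (.node [] .nil (.node [(.ofNat 1),(.negSucc 8),(.ofNat 3),(.negSucc 1),(.ofNat 3),(.ofNat 1)] .nil .nil)) (.node [(.negSucc 2),(.ofNat 11),(.ofNat 4),(.negSucc 8),(.ofNat 4),(.negSucc 2)] .nil (.node [(.ofNat 5),(.ofNat 5),(.negSucc 3),(.negSucc 2),(.negSucc 3),(.ofNat 5)] .nil .nil)))))))) (.node [(.ofNat 1),(.ofNat 1),(.ofNat 3),(.negSucc 1),(.ofNat 3),(.ofNat 1)] (.node [] (.node [] (.node [] (.node [] (.node [] (.node [] (.node [] .nil (.node [(.negSucc 2),(.negSucc 8),(.negSucc 0),(.ofNat 6),(.negSucc 0),(.negSucc 2)] .nil .nil)) (.node [(.ofNat 2),(.negSucc 10),(.ofNat 2),(.ofNat 1),(.ofNat 2),(.ofNat 2)] .nil .nil)) (.node [(.negSucc 6),(.ofNat 1),(.ofNat 6),(.negSucc 1),(.ofNat 6),(.negSucc 6)] .nil (.node [(.ofNat 3),(.ofNat 10),(.negSucc 4),(.negSucc 0),(.negSucc 4),(.ofNat 3)] .nil .nil))) (.node [(.negSucc 5),(.ofNat 4),(.ofNat 4),(.negSucc 0),(.ofNat 4),(.negSucc 5)] (.node [] .nil (.node [(.ofNat 2),(.ofNat 9),(.negSucc 5),(.ofNat 2),(.negSucc 5),(.ofNat 2)] .nil .nil)) (.node [(.negSucc 0),(.ofNat 1),(.negSucc 5),(.ofNat 10),(.negSucc 5),(.negSucc 0)] .nil (.node [(.negSucc 3),(.negSucc 3),(.negSucc 3),(.ofNat 9),(.negSucc 3),(.negSucc 3)] .nil .nil)))) (.node [(.ofNat 4),(.ofNat 1),(.ofNat 3),(.negSucc 4),(.ofNat 3),(.ofNat 4)] (.node [] (.node [] (.node [] .nil (.node [(.ofNat 2),(.negSucc 1),(.ofNat 1),(.negSucc 4),(.ofNat 1),(.ofNat 2)] .nil .nil)) (.node [(.ofNat 2),(.negSucc 9),(.ofNat 3),(.negSucc 0),(.ofNat 3),(.ofNat 2)] .nil .nil)) (.node [(.negSucc 2),(.ofNat 10),(.ofNat 5),(.negSucc 8),(.ofNat 5),(.negSucc 2)] .nil (.node [(.ofNat 7),(.negSucc 4),(.negSucc 0),(.negSucc 1),(.negSucc 0),(.ofNat 7)] .nil .nil))) (.node [(.ofNat 3),(.negSucc 8),(.negSucc 0),(.ofNat 6),(.negSucc 0),(.ofNat 3)] (.node [] .nil (.node [(.ofNat 3),(.negSucc 4),(.negSucc 7),(.ofNat 11),(.negSucc 7),(.ofNat 3)] .nil .nil)) (.node [(.ofNat 1),(.negSucc 10),(.negSucc 2),(.ofNat 10),(.negSucc 2),(.ofNat 1)] .nil (.node [(.ofNat 1),(.negSucc 4),(.ofNat 4),(.negSucc 5),(.ofNat 4),(.ofNat 1)] .nil .nil))))) (.node [(.negSucc 2),(.ofNat 5),(.ofNat 4),(.negSucc 2),(.ofNat 4),(.negSucc 2)] (.node [] (.node [] (.node [] (.node [] .nil (.node [(.negSucc 2),(.negSucc 2),(.ofNat 5),(.negSucc 5),(.ofNat 5),(.negSucc 2)] .nil .nil)) (.node [(.negSucc 7),(.ofNat 2),(.ofNat 7),(.negSucc 4),(.ofNat 7),(.negSucc 7)] .nil .nil)) (.node [(.ofNat 3),(.negSucc 9),(.ofNat 2),(.ofNat 1),(.ofNat 2),(.ofNat 3)] .nil (.node [(.negSucc 2),(.ofNat 9),(.negSucc 2),(.ofNat 1),(.negSucc 2),(.negSucc 2)] .nil .nil))) (.node [(.ofNat 6),(.negSucc 0),(.ofNat 1),(.negSucc 2),(.ofNat 1),(.ofNat 6)] (.node [] .nil (.node [(.negSucc 5),(.negSucc 2),(.ofNat 8),(.negSucc 5),(.ofNat 8),(.negSucc 5)] .nil .nil)) (.node [(.ofNat 8),(.ofNat 4),(.negSucc 5),(.ofNat 1),(.negSucc 5),(.ofNat 8)] .nil (.node [(.ofNat 5),(.negSucc 1),(.negSucc 7),(.ofNat 7),(.negSucc 7),(.ofNat 5)] .nil .nil)))) (.node [(.negSucc 4),(.negSucc 2),(.ofNat 2),(.ofNat 5),(.ofNat 2),(.negSucc 4)] (.node [] (.node [] (.node [] .nil (.node [(.negSucc 0),(.ofNat 1),(.ofNat 2),(.negSucc 5),(.ofNat 2),(.negSucc 0)] .nil .nil)) (.node [(.negSucc 5),(.negSucc 8),(.ofNat 2),(.ofNat 6),(.ofNat 2),(.negSucc 5)] .nil .nil)) (.node [(.ofNat 7),(.negSucc 5),(.negSucc 5),(.ofNat 7),(.negSucc 5),(.ofNat 7)] .nil (.node [(.ofNat 1),(.negSucc 5),(.negSucc 6),(.ofNat 11),(.negSucc 6),(.ofNat 1)] .nil .nil))) (.node [(.negSucc 1),(.ofNat 7),(.negSucc 1),(.ofNat 3),(.negSucc 1),(.negSucc 1)] (.node [] .nil (.node [(.negSucc 4),(.negSucc 2),(.ofNat 8),(.negSucc 6),(.ofNat 8),(.negSucc 4)] .nil .nil)) (.node [(.negSucc 7),(.negSucc 2),(.ofNat 2),(.ofNat 5),(.ofNat 2),(.negSucc 7)] .nil (.node [(.negSucc 2),(.ofNat 9),(.negSucc 0),(.negSucc 2),(.negSucc 0),(.negSucc 2)] .nil .nil)))))) (.node [(.ofNat 4),(.ofNat 1),(.negSucc 2),(.ofNat 4),(.negSucc 2),(.ofNat 4)] (.node [] (.node [] (.node [] (.node [] (.node [] .nil (.node [(.ofNat 4),(.negSucc 5),(.negSucc 0),(.negSucc 0),(.negSucc 0),(.ofNat 4)] .nil .nil)) (.node [(.ofNat 6),(.negSucc 8),(.negSucc 3),(.ofNat 6),(.negSucc 3),(.ofNat 6)] .nil .nil)) (.node [(.negSucc 1),(.ofNat 7),(.negSucc 2),(.ofNat 4),(.negSucc 2),(.negSucc 1)] .nil (.node [(.negSucc 7),(.ofNat 1),(.ofNat 2),(.ofNat 1),(.ofNat 2),(.negSucc 7)] .nil .nil))) (.node [(.ofNat 1),(.ofNat 5),(.ofNat 6),(.negSucc 9),(.ofNat 6),(.ofNat 1)] (.node [] .nil (.node [(.ofNat 7),(.ofNat 2),(.negSucc 7),(.ofNat 5),(.negSucc 7),(.ofNat 7)] .nil .nil)) (.node [(.ofNat 4),(.negSucc 5),(.negSucc 6),(.ofNat 11),(.negSucc 6),(.ofNat 4)] .nil (.node [(.negSucc 0),(.ofNat 6),(.negSucc 5),(.ofNat 5),(.negSucc 5),(.negSucc 0)] .nil .nil)))) (.node [(.ofNat 1),(.ofNat 5),(.negSucc 3),(.ofNat 5),(.negSucc 3),(.ofNat 1)] (.node [] (.node [] (.node [] .nil (.node [(.negSucc 0),(.negSucc 4),(.negSucc 3),(.ofNat 6),(.negSucc 3),(.negSucc 0)] .nil .nil)) (.node [(.ofNat 6),(.negSucc 2),(.ofNat 2),(.negSucc 5),(.ofNat 2),(.ofNat 6)] .nil .nil)) (.node [(.ofNat 1),(.ofNat 11),(.ofNat 3),(.negSucc 9),(.ofNat 3),(.ofNat 1)] .nil (.node [(.negSucc 3),(.ofNat 4),(.negSucc 3),(.ofNat 5),(.negSucc 3),(.negSucc 3)] .nil .nil))) (.node [(.negSucc 6),(.ofNat 2),(.ofNat 5),(.negSucc 0),(.ofNat 5),(.negSucc 6)] (.node [] .nil (.node [(.ofNat 8),(.negSucc 3),(.negSucc 3),(.ofNat 1),(.negSucc 3),(.ofNat 8)] .nil .nil)) (.node [(.ofNat 5),(.negSucc 2),(.negSucc 7),(.ofNat 10),(.negSucc 7),(.ofNat 5)] .nil (.node [(.ofNat 6),(.ofNat 4),(.negSucc 3),(.negSucc 2),(.negSucc 3),(.ofNat 6)] .nil .nil))))) (.node [(.negSucc 3),(.ofNat 4),(.ofNat 2),(.ofNat 1),(.ofNat 2),(.negSucc 3)] (.node [] (.node [] (.node [] (.node [] .nil (.node [(.ofNat 5),(.negSucc 2),(.negSucc 1),(.negSucc 1),(.negSucc 1),(.ofNat 5)] .nil .nil)) (.node [(.negSucc 3),(.ofNat 5),(.ofNat 8),(.negSucc 10),(.ofNat 8),(.negSucc 3)] .nil .nil)) (.node [(.ofNat 8),(.ofNat 3),(.negSucc 4),(.ofNat 1),(.negSucc 4),(.ofNat 8)] .nil (.node [(.ofNat 2),(.negSucc 2),(.negSucc 7),(.ofNat 10),(.negSucc 7),(.ofNat 2)] .nil .nil))) (.node [(.negSucc 2),(.ofNat 6),(.negSucc 0),(.ofNat 3),(.negSucc 0),(.negSucc 2)] (.node [] .nil (.node [(.negSucc 1),(.negSucc 9),(.ofNat 5),(.negSucc 0),(.ofNat 5),(.negSucc 1)] .nil .nil)) (.node [(.negSucc 3),(.ofNat 6),(.negSucc 2),(.ofNat 5),(.negSucc 2),(.negSucc 3)] .nil (.node [(.negSucc 3),(.ofNat 5),(.ofNat 5),(.negSucc 8),(.ofNat 5),(.negSucc 3)] .nil .nil)))) (.node [(.ofNat 2),(.ofNat 5),(.ofNat 5),(.negSucc 8),(.ofNat 5),(.ofNat 2)] (.node [] (.node [] (.node [] .nil (.node [(.negSucc 1),(.ofNat 1),(.ofNat 1),(.negSucc 3),(.ofNat 1),(.negSucc 1)] .nil .nil)) (.node [(.negSucc 2),(.negSucc 8),(.ofNat 6),(.negSucc 1),(.ofNat 6),(.negSucc 2)] .nil .nil)) (.node [(.negSucc 4),(.ofNat 5),(.negSucc 1),(.ofNat 5),(.negSucc 1),(.negSucc 4)] .nil (.node [(.ofNat 4),(.ofNat 5),(.ofNat 1),(.negSucc 8),(.ofNat 1),(.ofNat 4)] .nil .nil))) (.node [(.ofNat 3),(.negSucc 0),(.negSucc 6),(.ofNat 10),(.negSucc 6),(.ofNat 3)] (.node [] .nil (.node [(.negSucc 0),(.ofNat 10),(.ofNat 4),(.negSucc 10),(.ofNat 4),(.negSucc 0)] .nil .nil)) (.node [(.negSucc 3),(.ofNat 9),(.ofNat 6),(.negSucc 9),(.ofNat 6),(.negSucc 3)] .nil (.node [(.ofNat 4),(.ofNat 1),(.negSucc 6),(.ofNat 4),(.negSucc 6),(.ofNat 4)] .nil .nil))))))) (.node [(.negSucc 1),(.ofNat 1),(.ofNat 1),(.ofNat 3),(.ofNat 1),(.negSucc 1)] (.node [] (.node [] (.node [] (.node [] (.node [] (.node [] .nil (.node [(.negSucc 0),(.negSucc 4),(.ofNat 5),(.negSucc 5),(.ofNat 5),(.negSucc 0)] .nil .nil)) (.node [(.ofNat 4),(.negSucc 3),(.negSucc 7),(.ofNat 11),(.negSucc 7),(.ofNat 4)] .nil .nil)) (.node [(.negSucc 2),(.negSucc 9),(.ofNat 4),(.ofNat 3),(.ofNat 4),(.negSucc 2)] .nil (.node [(.ofNat 7),(.negSucc 0),(.negSucc 7),(.ofNat 6),(.negSucc 7),(.ofNat 7)] .nil .nil))) (.node [(.negSucc 2),(.ofNat 3),(.negSucc 1),(.ofNat 6),(.negSucc 1),(.negSucc 2)] (.node [] .nil (.node [(.ofNat 4),(.ofNat 10),(.negSucc 4),(.negSucc 0),(.negSucc 4),(.ofNat 4)] .nil .nil)) (.node [(.ofNat 1),(.ofNat 10),(.ofNat 4),(.negSucc 10),(.ofNat 4),(.ofNat 1)] .nil (.node [(.negSucc 1),(.negSucc 10),(.ofNat 1),(.ofNat 4),(.ofNat 1),(.negSucc 1)] .nil .nil)))) (.node [(.negSucc 3),(.ofNat 4),(.ofNat 6),(.negSucc 4),(.ofNat 6),(.negSucc 3)] (.node [] (.node [] (.node [] .nil (.node [(.negSucc 3),(.negSucc 4),(.ofNat 1),(.ofNat 1),(.ofNat 1),(.negSucc 3)] .nil .nil)) (.node [(.ofNat 4),(.ofNat 9),(.negSucc 5),(.ofNat 1),(.negSucc 5),(.ofNat 4)] .nil .nil)) (.node [(.negSucc 0),(.negSucc 5),(.ofNat 7),(.negSucc 4),(.ofNat 7),(.negSucc 0)] .nil (.node [(.negSucc 6),(.negSucc 6),(.ofNat 4),(.ofNat 2),(.ofNat 4),(.negSucc 6)] .nil .nil))) (.node [(.ofNat 5),(.negSucc 1),(.ofNat 3),(.negSucc 4),(.ofNat 3),(.ofNat 5)] (.node [] .nil (.node [(.ofNat 5),(.negSucc 9),(.negSucc 2),(.ofNat 5),(.negSucc 2),(.ofNat 5)] .nil .nil)) (.node [(.ofNat 3),(.ofNat 9),(.ofNat 3),(.negSucc 10),(.ofNat 3),(.ofNat 3)] .nil (.node [(.ofNat 3),(.ofNat 6),(.negSucc 5),(.ofNat 1),(.negSucc 5),(.ofNat 3)] .nil .nil))))) (.node [(.ofNat 3),(.negSucc 2),(.ofNat 3),(.negSucc 1),(.ofNat 3),(.ofNat 3)] (.node [] (.node [] (.node [] (.node [] .nil (.node [(.ofNat 2),(.negSucc 6),(.negSucc 3),(.ofNat 5),(.negSucc 3),(.ofNat 2)] .nil .nil)) (.node [(.negSucc 4),(.negSucc 4),(.ofNat 8),(.negSucc 4),(.ofNat 8),(.negSucc 4)] .nil .nil)) (.node [(.ofNat 5),(.ofNat 5),(.negSucc 6),(.ofNat 5),(.negSucc 6),(.ofNat 5)] .nil (.node [(.negSucc 0),(.negSucc 0),(.negSucc 6),(.ofNat 10),(.negSucc 6),(.negSucc 0)] .nil .nil))) (.node [(.negSucc 4),(.negSucc 4),(.ofNat 1),(.ofNat 7),(.ofNat 1),(.negSucc 4)] (.node [] .nil (.node [(.negSucc 3),(.negSucc 4),(.negSucc 3),(.ofNat 11),(.negSucc 3),(.negSucc 3)] .nil .nil)) (.node [(.negSucc 6),(.negSucc 0),(.ofNat 8),(.negSucc 4),(.ofNat 8),(.negSucc 6)] .nil (.node [(.negSucc 6),(.negSucc 4),(.ofNat 5),(.negSucc 0),(.ofNat 5),(.negSucc 6)] .nil .nil)))) (.node [(.negSucc 1),(.negSucc 6),(.ofNat 4),(.ofNat 2),(.ofNat 4),(.negSucc 1)] (.node [] (.node [] (.node [] .nil (.node [(.negSucc 1),(.negSucc 2),(.negSucc 2),(.ofNat 4),(.negSucc 2),(.negSucc 1)] .nil .nil)) (.node [(.negSucc 4),(.ofNat 7),(.ofNat 7),(.negSucc 9),(.ofNat 7),(.negSucc 4)] .nil .nil)) (.node [(.negSucc 7),(.negSucc 1),(.ofNat 5),(.ofNat 1),(.ofNat 5),(.negSucc 7)] .nil (.node [(.ofNat 3),(.negSucc 6),(.negSucc 6),(.ofNat 10),(.negSucc 6),(.ofNat 3)] .nil .nil))) (.node [(.ofNat 2),(.negSucc 9),(.negSucc 0),(.ofNat 7),(.negSucc 0),(.ofNat 2)] (.node [] .nil (.node [(.negSucc 2),(.ofNat 2),(.ofNat 8),(.negSucc 10),(.ofNat 8),(.negSucc 2)] .nil .nil)) (.node [(.negSucc 5),(.ofNat 6),(.negSucc 0),(.ofNat 3),(.negSucc 0),(.negSucc 5)] .nil (.node [(.ofNat 1),(.negSucc 4),(.ofNat 3),(.negSucc 4),(.ofNat 3),(.ofNat 1)] .nil .nil)))))) (.node [(.ofNat 2),(.ofNat 2),(.negSucc 2),(.ofNat 5),(.negSucc 2),(.ofNat 2)] (.node [] (.node [] (.node [] (.node [] (.node [] .nil (.node [(.negSucc 5),(.ofNat 3),(.ofNat 3),(.negSucc 3),(.ofNat 3),(.negSucc 5)] .nil .nil)) (.node [(.ofNat 8),(.negSucc 0),(.negSucc 6),(.ofNat 5),(.negSucc 6),(.ofNat 8)] .nil .nil)) (.node [(.ofNat 1),(.ofNat 9),(.negSucc 3),(.ofNat 2),(.negSucc 3),(.ofNat 1)] .nil (.node [(.negSucc 4),(.negSucc 9),(.ofNat 2),(.ofNat 5),(.ofNat 2),(.negSucc 4)] .nil .nil))) (.node [(.ofNat 3),(.ofNat 6),(.ofNat 4),(.negSucc 8),(.ofNat 4),(.ofNat 3)] (.node [] .nil (.node [(.negSucc 7),(.negSucc 1),(.ofNat 1),(.ofNat 5),(.ofNat 1),(.negSucc 7)] .nil .nil)) (.node [(.ofNat 6),(.ofNat 6),(.negSucc 6),(.ofNat 3),(.negSucc 6),(.ofNat 6)] .nil (.node [(.ofNat 3),(.negSucc 9),(.negSucc 3),(.ofNat 7),(.negSucc 3),(.ofNat 3)] .nil .nil)))) (.node [(.ofNat 4),(.negSucc 0),(.ofNat 3),(.negSucc 3),(.ofNat 3),(.ofNat 4)] (.node [] (.node [] (.node [] .nil (.node [(.negSucc 3),(.negSucc 4),(.negSucc 0),(.ofNat 4),(.negSucc 0),(.negSucc 3)] .nil .nil)) (.node [(.ofNat 8),(.ofNat 4),(.negSucc 1),(.negSucc 4),(.negSucc 1),(.ofNat 8)] .nil .nil)) (.node [(.ofNat 4),(.negSucc 4),(.ofNat 4),(.negSucc 4),(.ofNat 4),(.ofNat 4)] .nil (.node [(.negSucc 1),(.ofNat 2),(.ofNat 7),(.negSucc 10),(.ofNat 7),(.negSucc 1)] .nil .nil))) (.node [(.negSucc 2),(.negSucc 8),(.ofNat 4),(.ofNat 3),(.ofNat 4),(.negSucc 2)] (.node [] .nil (.node [(.negSucc 7),(.ofNat 4),(.ofNat 4),(.negSucc 2),(.ofNat 4),(.negSucc 7)] .nil .nil)) (.node [(.ofNat 7),(.negSucc 0),(.ofNat 1),(.negSucc 5),(.ofNat 1),(.ofNat 7)] .nil (.node [(.negSucc 4),(.ofNat 7),(.ofNat 2),(.negSucc 4),(.ofNat 2),(.negSucc 4)] .nil .nil))))) (.node [(.ofNat 1),(.negSucc 4),(.ofNat 4),(.negSucc 0),(.ofNat 4),(.ofNat 1)] (.node [] (.node [] (.node [] (.node [] .nil (.node [(.negSucc 2),(.negSucc 6),(.negSucc 1),(.ofNat 6),(.negSucc 1),(.negSucc 2)] .nil .nil)) (.node [(.negSucc 0),(.negSucc 9),(.ofNat 5),(.negSucc 0),(.ofNat 5),(.negSucc 0)] .nil .nil)) (.node [(.negSucc 3),(.negSucc 8),(.ofNat 3),(.ofNat 5),(.ofNat 3),(.negSucc 3)] .nil (.node [(.ofNat 3),(.ofNat 3),(.negSucc 7),(.ofNat 6),(.negSucc 7),(.ofNat 3)] .nil .nil))) (.node [(.ofNat 1),(.negSucc 4),(.ofNat 6),(.negSucc 4),(.ofNat 6),(.ofNat 1)] (.node [] .nil (.node [(.ofNat 1),(.negSucc 9),(.ofNat 3),(.negSucc 0),(.ofNat 3),(.ofNat 1)] .nil .nil)) (.node [(.negSucc 1),(.ofNat 9),(.ofNat 6),(.negSucc 10),(.ofNat 6),(.negSucc 1)] .nil (.node [(.negSucc 1),(.negSucc 9),(.ofNat 1),(.ofNat 3),(.ofNat 1),(.negSucc 1)] .nil .nil)))) (.node [(.ofNat 5),(.negSucc 4),(.negSucc 3),(.ofNat 7),(.negSucc 3),(.ofNat 5)] (.node [] (.node [] (.node [] .nil (.node [(.negSucc 0),(.negSucc 1),(.negSucc 1),(.ofNat 1),(.negSucc 1),(.negSucc 0)] .nil .nil)) (.node [(.ofNat 1),(.negSucc 10),(.ofNat 2),(.ofNat 1),(.ofNat 2),(.ofNat 1)] .nil .nil)) (.node [(.negSucc 2),(.ofNat 11),(.ofNat 2),(.negSucc 4),(.ofNat 2),(.negSucc 2)] .nil (.node [(.negSucc 7),(.negSucc 1),(.ofNat 3),(.ofNat 1),(.ofNat 3),(.negSucc 7)] .nil .nil))) (.node [(.ofNat 7),(.negSucc 4),(.negSucc 4),(.ofNat 6),(.negSucc 4),(.ofNat 7)] (.node [] .nil (.node [(.ofNat 2),(.negSucc 3),(.negSucc 7),(.ofNat 11),(.negSucc 7),(.ofNat 2)] .nil .nil)) (.node [(.negSucc 0),(.negSucc 10),(.ofNat 4),(.ofNat 1),(.ofNat 4),(.negSucc 0)] .nil (.node [(.negSucc 5),(.negSucc 4),(.ofNat 4),(.negSucc 0),(.ofNat 4),(.negSucc 5)] .nil .nil))))))))) (.node [(.negSucc 0),(.ofNat 1),(.ofNat 2),(.ofNat 1),(.ofNat 2),(.negSucc 0)] (.node [] (.node [] (.node [] (.node [] (.node [] (.node [] (.node [] (.node [] .nil (.node [(.negSucc 3),(.negSucc 0),(.negSucc 3),(.ofNat 7),(.negSucc 3),(.negSucc 3)] .nil .nil)) (.node [(.ofNat 1),(.negSucc 0),(.ofNat 7),(.negSucc 9),(.ofNat 7),(.ofNat 1)] .nil .nil)) (.node [(.negSucc 7),(.ofNat 1),(.ofNat 4),(.ofNat 1),(.ofNat 4),(.negSucc 7)] .nil (.node [(.ofNat 3),(.negSucc 8),(.negSucc 5),(.ofNat 10),(.negSucc 5),(.ofNat 3)] .nil .nil))) (.node [(.ofNat 7),(.ofNat 1),(.negSucc 2),(.ofNat 1),(.negSucc 2),(.ofNat 7)] (.node [] .nil (.node [(.ofNat 1),(.ofNat 11),(.ofNat 1),(.negSucc 8),(.ofNat 1),(.ofNat 1)] .nil .nil)) (.node [(.negSucc 1),(.ofNat 11),(.ofNat 4),(.negSucc 8),(.ofNat 4),(.negSucc 1)] .nil (.node [(.negSucc 5),(.ofNat 1),(.negSucc 1),(.ofNat 5),(.negSucc 1),(.negSucc 5)] .nil .nil)))) (.node [(.ofNat 4),(.negSucc 4),(.negSucc 0),(.ofNat 4),(.negSucc 0),(.ofNat 4)] (.node [] (.node [] (.node [] .nil (.node [(.ofNat 1),(.negSucc 5),(.negSucc 3),(.ofNat 5),(.negSucc 3),(.ofNat 1)] .nil .nil)) (.node [(.ofNat 1),(.ofNat 11),(.ofNat 2),(.negSucc 9),(.ofNat 2),(.ofNat 1)] .nil .nil)) (.node [(.negSucc 2),(.negSucc 0),(.negSucc 3),(.ofNat 10),(.negSucc 3),(.negSucc 2)] .nil (.node [(.ofNat 6),(.ofNat 1),(.negSucc 7),(.ofNat 5),(.negSucc 7),(.ofNat 6)] .nil .nil))) (.node [(.ofNat 2),(.ofNat 11),(.ofNat 1),(.negSucc 6),(.ofNat 1),(.ofNat 2)] (.node [] .nil (.node [(.ofNat 2),(.ofNat 4),(.negSucc 7),(.ofNat 7),(.negSucc 7),(.ofNat 2)] .nil .nil)) (.node [(.negSucc 0),(.ofNat 11),(.negSucc 0),(.negSucc 1),(.negSucc 0),(.negSucc 0)] .nil (.node [(.negSucc 0),(.ofNat 11),(.negSucc 0),(.negSucc 4),(.negSucc 0),(.negSucc 0)] .nil .nil))))) (.node [(.negSucc 3),(.ofNat 1),(.ofNat 1),(.ofNat 4),(.ofNat 1),(.negSucc 3)] (.node [] (.node [] (.node [] (.node [] .nil (.node [(.negSucc 3),(.ofNat 6),(.ofNat 3),(.negSucc 6),(.ofNat 3),(.negSucc 3)] .nil .nil)) (.node [(.negSucc 7),(.negSucc 0),(.ofNat 7),(.negSucc 2),(.ofNat 7),(.negSucc 7)] .nil .nil)) (.node [(.ofNat 2),(.ofNat 4),(.ofNat 6),(.negSucc 10),(.ofNat 6),(.ofNat 2)] .nil (.node [(.negSucc 2),(.negSucc 4),(.negSucc 4),(.ofNat 11),(.negSucc 4),(.negSucc 2)] .nil .nil))) (.node [(.ofNat 5),(.ofNat 2),(.ofNat 3),(.negSucc 6),(.ofNat 3),(.ofNat 5)] (.node [] .nil (.node [(.negSucc 5),(.negSucc 8),(.ofNat 4),(.ofNat 3),(.ofNat 4),(.negSucc 5)] .nil .nil)) (.node [(.ofNat 8),(.negSucc 2),(.negSucc 5),(.ofNat 5),(.negSucc 5),(.ofNat 8)] .nil (.node [(.ofNat 4),(.negSucc 4),(.ofNat 1),(.negSucc 3),(.ofNat 1),(.ofNat 4)] .nil .nil)))) (.node [(.ofNat 6),(.ofNat 4),(.negSucc 1),(.negSucc 0),(.negSucc 1),(.ofNat 6)] (.node [] (.node [] (.node [] .nil (.node [(.negSucc 1),(.ofNat 3),(.negSucc 2),(.ofNat 1),(.negSucc 2),(.negSucc 1)] .nil .nil)) (.node [(.negSucc 7),(.ofNat 2),(.ofNat 1),(.ofNat 3),(.ofNat 1),(.negSucc 7)] .nil .nil)) (.node [(.ofNat 6),(.ofNat 5),(.negSucc 6),(.ofNat 4),(.negSucc 6),(.ofNat 6)] .nil (.node [(.negSucc 0),(.negSucc 0),(.ofNat 7),(.negSucc 9),(.ofNat 7),(.negSucc 0)] .nil .nil))) (.node [(.negSucc 1),(.negSucc 4),(.ofNat 7),(.negSucc 3),(.ofNat 7),(.negSucc 1)] (.node [] .nil (.node [(.negSucc 5),(.ofNat 5),(.ofNat 7),(.negSucc 8),(.ofNat 7),(.negSucc 5)] .nil .nil)) (.node [(.ofNat 8),(.ofNat 5),(.negSucc 4),(.negSucc 0),(.negSucc 4),(.ofNat 8)] .nil (.node [(.negSucc 2),(.ofNat 3),(.ofNat 6),(.negSucc 9),(.ofNat 6),(.negSucc 2)] .nil .nil)))))) (.node [(.ofNat 3),(.negSucc 1),(.negSucc 1),(.ofNat 5),(.negSucc 1),(.ofNat 3)] (.node [] (.node [] (.node [] (.node [] (.node [] .nil (.node [(.ofNat 3),(.negSucc 6),(.negSucc 4),(.ofNat 6),(.negSucc 4),(.ofNat 3)] .nil .nil)) (.node [(.ofNat 5),(.ofNat 7),(.ofNat 2),(.negSucc 9),(.ofNat 2),(.ofNat 5)] .nil .nil)) (.node [(.negSucc 1),(.negSucc 6),(.negSucc 1),(.ofNat 10),(.negSucc 1),(.negSucc 1)] .nil (.node [(.negSucc 7),(.negSucc 3),(.ofNat 4),(.ofNat 1),(.ofNat 4),(.negSucc 7)] .nil .nil))) (.node [(.ofNat 1),(.negSucc 9),(.ofNat 1),(.ofNat 5),(.ofNat 1),(.ofNat 1)] (.node [] .nil (.node [(.ofNat 6),(.ofNat 5),(.ofNat 1),(.negSucc 8),(.ofNat 1),(.ofNat 6)] .nil .nil)) (.node [(.ofNat 3),(.ofNat 11),(.ofNat 1),(.negSucc 8),(.ofNat 1),(.ofNat 3)] .nil (.node [(.negSucc 1),(.ofNat 11),(.negSucc 0),(.negSucc 3),(.negSucc 0),(.negSucc 1)] .nil .nil)))) (.node [(.negSucc 0),(.negSucc 5),(.ofNat 4),(.ofNat 1),(.ofNat 4),(.negSucc 0)] (.node [] (.node [] (.node [] .nil (.node [(.negSucc 1),(.negSucc 6),(.negSucc 1),(.ofNat 5),(.negSucc 1),(.negSucc 1)] .nil .nil)) (.node [(.ofNat 6),(.negSucc 8),(.negSucc 1),(.ofNat 3),(.negSucc 1),(.ofNat 6)] .nil .nil)) (.node [(.ofNat 1),(.ofNat 10),(.negSucc 3),(.ofNat 1),(.negSucc 3),(.ofNat 1)] .nil (.node [(.negSucc 3),(.negSucc 4),(.negSucc 3),(.ofNat 10),(.negSucc 3),(.negSucc 3)] .nil .nil))) (.node [(.ofNat 8),(.ofNat 1),(.negSucc 3),(.ofNat 1),(.negSucc 3),(.ofNat 8)] (.node [] .nil (.node [(.ofNat 7),(.ofNat 6),(.negSucc 0),(.negSucc 6),(.negSucc 0),(.ofNat 7)] .nil .nil)) (.node [(.ofNat 4),(.ofNat 11),(.negSucc 2),(.negSucc 3),(.negSucc 2),(.ofNat 4)] .nil (.node [(.ofNat 6),(.negSucc 4),(.negSucc 1),(.negSucc 0),(.negSucc 1),(.ofNat 6)] .nil .nil))))) (.node [(.ofNat 5),(.ofNat 3),(.negSucc 2),(.ofNat 2),(.negSucc 2),(.ofNat 5)] (.node [] (.node [] (.node [] (.node [] .nil (.node [(.ofNat 4),(.ofNat 4),(.negSucc 1),(.negSucc 4),(.negSucc 1),(.ofNat 4)] .nil .nil)) (.node [(.negSucc 3),(.negSucc 6),(.negSucc 2),(.ofNat 11),(.negSucc 2),(.negSucc 3)] .nil .nil)) (.node [(.ofNat 8),(.negSucc 1),(.negSucc 2),(.ofNat 1),(.negSucc 2),(.ofNat 8)] .nil (.node [(.ofNat 2),(.negSucc 10),(.negSucc 0),(.ofNat 4),(.negSucc 0),(.ofNat 2)] .nil .nil))) (.node [(.negSucc 2),(.negSucc 2),(.negSucc 1),(.ofNat 9),(.negSucc 1),(.negSucc 2)] (.node [] .nil (.node [(.negSucc 2),(.ofNat 11),(.negSucc 0),(.negSucc 1),(.negSucc 0),(.negSucc 2)] .nil .nil)) (.node [(.negSucc 3),(.negSucc 4),(.ofNat 8),(.negSucc 4),(.ofNat 8),(.negSucc 3)] .nil (.node [(.negSucc 3),(.negSucc 8),(.ofNat 1),(.ofNat 4),(.ofNat 1),(.negSucc 3)] .nil .nil)))) (.node [(.ofNat 1),(.ofNat 10),(.ofNat 1),(.negSucc 4),(.ofNat 1),(.ofNat 1)] (.node [] (.node [] (.node [] .nil (.node [(.negSucc 2),(.negSucc 1),(.ofNat 2),(.negSucc 2),(.ofNat 2),(.negSucc 2)] .nil .nil)) (.node [(.negSucc 3),(.ofNat 5),(.negSucc 3),(.ofNat 6),(.negSucc 3),(.negSucc 3)] .nil .nil)) (.node [(.negSucc 6),(.ofNat 6),(.ofNat 1),(.ofNat 1),(.ofNat 1),(.negSucc 6)] .nil (.node [(.ofNat 4),(.negSucc 8),(.negSucc 2),(.ofNat 4),(.negSucc 2),(.ofNat 4)] .nil .nil))) (.node [(.ofNat 3),(.negSucc 6),(.ofNat 4),(.negSucc 2),(.ofNat 4),(.ofNat 3)] (.node [] .nil (.node [(.negSucc 0),(.negSucc 1),(.negSucc 6),(.ofNat 11),(.negSucc 6),(.negSucc 0)] .nil .nil)) (.node [(.negSucc 3),(.negSucc 5),(.negSucc 2),(.ofNat 11),(.negSucc 2),(.negSucc 3)] .nil (.node [(.ofNat 3),(.ofNat 7),(.negSucc 4),(.negSucc 0),(.negSucc 4),(.ofNat 3)] .nil .nil))))))) (.node [(.ofNat 2),(.ofNat 4),(.ofNat 2),(.negSucc 2),(.ofNat 2),(.ofNat 2)] (.node [] (.node [] (.node [] (.node [] (.node [] (.node [] .nil (.node [(.negSucc 1),(.ofNat 9),(.negSucc 0),(.negSucc 3),(.negSucc 0),(.negSucc 1)] .nil .nil)) (.node [(.ofNat 4),(.negSucc 10),(.negSucc 2),(.ofNat 7),(.negSucc 2),(.ofNat 4)] .nil .nil)) (.node [(.negSucc 3),(.ofNat 5),(.negSucc 1),(.ofNat 5),(.negSucc 1),(.negSucc 3)] .nil (.node [(.ofNat 7),(.negSucc 6),(.negSucc 2),(.ofNat 2),(.negSucc 2),(.ofNat 7)] .nil .nil))) (.node [(.negSucc 3),(.ofNat 7),(.ofNat 2),(.negSucc 0),(.ofNat 2),(.negSucc 3)] (.node [] .nil (.node [(.ofNat 4),(.negSucc 6),(.ofNat 3),(.negSucc 3),(.ofNat 3),(.ofNat 4)] .nil .nil)) (.node [(.ofNat 1),(.negSucc 0),(.ofNat 7),(.negSucc 8),(.ofNat 7),(.ofNat 1)] .nil (.node [(.negSucc 2),(.ofNat 3),(.negSucc 4),(.ofNat 6),(.negSucc 4),(.negSucc 2)] .nil .nil)))) (.node [(.negSucc 3),(.negSucc 4),(.ofNat 5),(.ofNat 1),(.ofNat 5),(.negSucc 3)] (.node [] (.node [] (.node [] .nil (.node [(.ofNat 4),(.ofNat 1),(.negSucc 0),(.negSucc 4),(.negSucc 0),(.ofNat 4)] .nil .nil)) (.node [(.ofNat 4),(.negSucc 3),(.ofNat 4),(.negSucc 6),(.ofNat 4),(.ofNat 4)] .nil .nil)) (.node [(.negSucc 1),(.ofNat 7),(.ofNat 7),(.negSucc 10),(.ofNat 7),(.negSucc 1)] .nil (.node [(.negSucc 7),(.negSucc 0),(.ofNat 2),(.ofNat 2),(.ofNat 2),(.negSucc 7)] .nil .nil))) (.node [(.ofNat 4),(.ofNat 5),(.negSucc 5),(.ofNat 5),(.negSucc 5),(.ofNat 4)] (.node [] .nil (.node [(.ofNat 4),(.ofNat 1),(.ofNat 4),(.negSucc 9),(.ofNat 4),(.ofNat 4)] .nil .nil)) (.node [(.ofNat 2),(.ofNat 11),(.ofNat 2),(.negSucc 9),(.ofNat 2),(.ofNat 2)] .nil (.node [(.ofNat 3),(.negSucc 2),(.ofNat 3),(.negSucc 6),(.ofNat 3),(.ofNat 3)] .nil .nil))))) (.node [(.ofNat 2),(.negSucc 1),(.negSucc 2),(.ofNat 7),(.negSucc 2),(.ofNat 2)] (.node [] (.node [] (.node [] (.node [] .nil (.node [(.ofNat 1),(.negSucc 4),(.negSucc 4),(.ofNat 6),(.negSucc 4),(.ofNat 1)] .nil .nil)) (.node [(.negSucc 5),(.ofNat 4),(.ofNat 8),(.negSucc 8),(.ofNat 8),(.negSucc 5)] .nil .nil)) (.node [(.ofNat 4),(.ofNat 1),(.negSucc 7),(.ofNat 9),(.negSucc 7),(.ofNat 4)] .nil (.node [(.negSucc 0),(.negSucc 10),(.ofNat 2),(.ofNat 2),(.ofNat 2),(.negSucc 0)] .nil .nil))) (.node [(.negSucc 5),(.ofNat 1),(.ofNat 7),(.negSucc 3),(.ofNat 7),(.negSucc 5)] (.node [] .nil (.node [(.negSucc 4),(.ofNat 5),(.negSucc 2),(.ofNat 5),(.negSucc 2),(.negSucc 4)] .nil .nil)) (.node [(.negSucc 6),(.negSucc 6),(.ofNat 3),(.ofNat 5),(.ofNat 3),(.negSucc 6)] .nil (.node [(.ofNat 7),(.ofNat 1),(.negSucc 3),(.negSucc 1),(.negSucc 3),(.ofNat 7)] .nil .nil)))) (.node [(.negSucc 2),(.negSucc 0),(.negSucc 0),(.ofNat 7),(.negSucc 0),(.negSucc 2)] (.node [] (.node [] (.node [] .nil (.node [(.negSucc 2),(.negSucc 4),(.negSucc 0),(.ofNat 3),(.negSucc 0),(.negSucc 2)] .nil .nil)) (.node [(.negSucc 4),(.negSucc 9),(.ofNat 4),(.ofNat 3),(.ofNat 4),(.negSucc 4)] .nil .nil)) (.node [(.ofNat 8),(.ofNat 3),(.negSucc 5),(.ofNat 2),(.negSucc 5),(.ofNat 8)] .nil (.node [(.ofNat 2),(.ofNat 4),(.ofNat 4),(.negSucc 10),(.ofNat 4),(.ofNat 2)] .nil .nil))) (.node [(.ofNat 1),(.ofNat 9),(.negSucc 2),(.ofNat 1),(.negSucc 2),(.ofNat 1)] (.node [] .nil (.node [(.negSucc 3),(.ofNat 10),(.negSucc 0),(.negSucc 0),(.negSucc 0),(.negSucc 3)] .nil .nil)) (.node [(.negSucc 6),(.ofNat 1),(.ofNat 8),(.negSucc 6),(.ofNat 8),(.negSucc 6)] .nil (.node [(.negSucc 0),(.ofNat 5),(.ofNat 5),(.negSucc 10),(.ofNat 5),(.negSucc 0)] .nil .nil)))))) (.node [(.ofNat 1),(.ofNat 6),(.ofNat 3),(.negSucc 4),(.ofNat 3),(.ofNat 1)] (.node [] (.node [] (.node [] (.node [] (.node [] .nil (.node [(.ofNat 6),(.negSucc 2),(.negSucc 2),(.negSucc 0),(.negSucc 2),(.ofNat 6)] .nil .nil)) (.node [(.ofNat 8),(.negSucc 4),(.negSucc 4),(.ofNat 4),(.negSucc 4),(.ofNat 8)] .nil .nil)) (.node [(.ofNat 1),(.negSucc 8),(.negSucc 2),(.ofNat 10),(.negSucc 2),(.ofNat 1)] .nil (.node [(.negSucc 6),(.ofNat 7),(.ofNat 4),(.negSucc 4),(.ofNat 4),(.negSucc 6)] .nil .nil))) (.node [(.ofNat 3),(.negSucc 5),(.negSucc 3),(.ofNat 9),(.negSucc 3),(.ofNat 3)] (.node [] .nil (.node [(.ofNat 8),(.ofNat 4),(.negSucc 3),(.negSucc 2),(.negSucc 3),(.ofNat 8)] .nil .nil)) (.node [(.ofNat 5),(.ofNat 5),(.ofNat 3),(.negSucc 9),(.ofNat 3),(.ofNat 5)] .nil (.node [(.ofNat 2),(.negSucc 3),(.ofNat 4),(.negSucc 6),(.ofNat 4),(.ofNat 2)] .nil .nil)))) (.node [(.ofNat 3),(.ofNat 6),(.ofNat 3),(.negSucc 6),(.ofNat 3),(.ofNat 3)] (.node [] (.node [] (.node [] .nil (.node [(.ofNat 3),(.ofNat 2),(.negSucc 0),(.negSucc 4),(.negSucc 0),(.ofNat 3)] .nil .nil)) (.node [(.ofNat 8),(.negSucc 0),(.negSucc 0),(.negSucc 3),(.negSucc 0),(.ofNat 8)] .nil .nil)) (.node [(.ofNat 3),(.ofNat 2),(.negSucc 7),(.ofNat 9),(.negSucc 7),(.ofNat 3)] .nil (.node [(.negSucc 1),(.negSucc 10),(.negSucc 1),(.ofNat 9),(.negSucc 1),(.negSucc 1)] .nil .nil))) (.node [(.negSucc 3),(.negSucc 0),(.ofNat 8),(.negSucc 5),(.ofNat 8),(.negSucc 3)] (.node [] .nil (.node [(.negSucc 7),(.negSucc 0),(.ofNat 1),(.ofNat 4),(.ofNat 1),(.negSucc 7)] .nil .nil)) (.node [(.ofNat 6),(.ofNat 4),(.ofNat 2),(.negSucc 8),(.ofNat 2),(.ofNat 6)] .nil (.node [(.negSucc 5),(.ofNat 5),(.ofNat 4),(.negSucc 5),(.ofNat 4),(.negSucc 5)] .nil .nil))))) (.node [(.negSucc 0),(.negSucc 0),(.negSucc 0),(.ofNat 6),(.negSucc 0),(.negSucc 0)] (.node [] (.node [] (.node [] (.node [] .nil (.node [(.negSucc 3),(.ofNat 4),(.negSucc 1),(.ofNat 1),(.negSucc 1),(.negSucc 3)] .nil .nil)) (.node [(.negSucc 1),(.ofNat 11),(.ofNat 4),(.negSucc 9),(.ofNat 4),(.negSucc 1)] .nil .nil)) (.node [(.negSucc 6),(.ofNat 6),(.ofNat 3),(.negSucc 0),(.ofNat 3),(.negSucc 6)] .nil (.node [(.ofNat 3),(.negSucc 5),(.ofNat 3),(.negSucc 4),(.ofNat 3),(.ofNat 3)] .nil .nil))) (.node [(.negSucc 0),(.ofNat 10),(.ofNat 2),(.negSucc 4),(.ofNat 2),(.negSucc 0)] (.node [] .nil (.node [(.ofNat 1),(.negSucc 10),(.negSucc 3),(.ofNat 10),(.negSucc 3),(.ofNat 1)] .nil .nil)) (.node [(.negSucc 1),(.negSucc 10),(.ofNat 4),(.ofNat 2),(.ofNat 4),(.negSucc 1)] .nil (.node [(.negSucc 2),(.ofNat 10),(.negSucc 0),(.negSucc 2),(.negSucc 0),(.negSucc 2)] .nil .nil)))) (.node [(.ofNat 4),(.negSucc 6),(.negSucc 1),(.ofNat 6),(.negSucc 1),(.ofNat 4)] (.node [] (.node [] (.node [] .nil (.node [(.negSucc 0),(.ofNat 2),(.negSucc 1),(.negSucc 0),(.negSucc 1),(.negSucc 0)] .nil .nil)) (.node [(.negSucc 0),(.negSucc 0),(.ofNat 8),(.negSucc 9),(.ofNat 8),(.negSucc 0)] .nil .nil)) (.node [(.negSucc 2),(.negSucc 5),(.negSucc 2),(.ofNat 11),(.negSucc 2),(.negSucc 2)] .nil (.node [(.ofNat 7),(.ofNat 2),(.negSucc 4),(.negSucc 0),(.negSucc 4),(.ofNat 7)] .nil .nil))) (.node [(.ofNat 4),(.ofNat 10),(.negSucc 0),(.negSucc 4),(.negSucc 0),(.ofNat 4)] (.node [] .nil (.node [(.ofNat 1),(.ofNat 9),(.ofNat 2),(.negSucc 9),(.ofNat 2),(.ofNat 1)] .nil .nil)) (.node [(.negSucc 1),(.ofNat 1),(.negSucc 5),(.ofNat 10),(.negSucc 5),(.negSucc 1)] .nil (.node [(.ofNat 6),(.ofNat 3),(.negSucc 2),(.negSucc 3),(.negSucc 2),(.ofNat 6)] .nil .nil)))))))) (.node [(.negSucc 0),(.negSucc 0),(.ofNat 2),(.ofNat 2),(.ofNat 2),(.negSucc 0)] (.node [] (.node [] (.node [] (.node [] (.node [] (.node [] (.node [] .nil (.node [(.negSucc 2),(.negSucc 2),(.ofNat 6),(.negSucc 6),(.ofNat 6),(.negSucc 2)] .nil .nil)) (.node [(.ofNat 2),(.ofNat 10),(.ofNat 3),(.negSucc 10),(.ofNat 3),(.ofNat 2)] .nil .nil)) (.node [(.negSucc 5),(.negSucc 5),(.ofNat 3),(.ofNat 5),(.ofNat 3),(.negSucc 5)] .nil (.node [(.ofNat 4),(.negSucc 0),(.ofNat 4),(.negSucc 8),(.ofNat 4),(.ofNat 4)] .nil .nil))) (.node [(.negSucc 4),(.ofNat 2),(.ofNat 7),(.negSucc 4),(.ofNat 7),(.negSucc 4)] (.node [] .nil (.node [(.ofNat 3),(.ofNat 2),(.ofNat 5),(.negSucc 10),(.ofNat 5),(.ofNat 3)] .nil .nil)) (.node [(.negSucc 0),(.ofNat 10),(.negSucc 0),(.negSucc 0),(.negSucc 0),(.negSucc 0)] .nil (.node [(.negSucc 3),(.ofNat 9),(.ofNat 1),(.negSucc 4),(.ofNat 1),(.negSucc 3)] .nil .nil)))) (.node [(.ofNat 5),(.negSucc 2),(.negSucc 2),(.ofNat 5),(.negSucc 2),(.ofNat 5)] (.node [] (.node [] (.node [] .nil (.node [(.ofNat 3),(.negSucc 2),(.negSucc 5),(.ofNat 5),(.negSucc 5),(.ofNat 3)] .nil .nil)) (.node [(.ofNat 3),(.negSucc 8),(.negSucc 5),(.ofNat 11),(.negSucc 5),(.ofNat 3)] .nil .nil)) (.node [(.negSucc 1),(.negSucc 9),(.ofNat 1),(.ofNat 7),(.ofNat 1),(.negSucc 1)] .nil (.node [(.ofNat 7),(.ofNat 5),(.negSucc 1),(.negSucc 5),(.negSucc 1),(.ofNat 7)] .nil .nil))) (.node [(.ofNat 3),(.ofNat 1),(.negSucc 6),(.ofNat 9),(.negSucc 6),(.ofNat 3)] (.node [] .nil (.node [(.ofNat 3),(.ofNat 9),(.negSucc 5),(.ofNat 1),(.negSucc 5),(.ofNat 3)] .nil .nil)) (.node [(.ofNat 1),(.negSucc 1),(.ofNat 7),(.negSucc 8),(.ofNat 7),(.ofNat 1)] .nil (.node [(.ofNat 2),(.negSucc 4),(.negSucc 6),(.ofNat 9),(.negSucc 6),(.ofNat 2)] .nil .nil))))) (.node [(.negSucc 1),(.ofNat 3),(.ofNat 5),(.negSucc 3),(.ofNat 5),(.negSucc 1)] (.node [] (.node [] (.node [] (.node [] .nil (.node [(.negSucc 1),(.negSucc 8),(.negSucc 0),(.ofNat 5),(.negSucc 0),(.negSucc 1)] .nil .nil)) (.node [(.negSucc 6),(.negSucc 0),(.ofNat 8),(.negSucc 5),(.ofNat 8),(.negSucc 6)] .nil .nil)) (.node [(.ofNat 3),(.ofNat 9),(.ofNat 3),(.negSucc 9),(.ofNat 3),(.ofNat 3)] .nil (.node [(.negSucc 1),(.negSucc 8),(.negSucc 3),(.ofNat 11),(.negSucc 3),(.negSucc 1)] .nil .nil))) (.node [(.ofNat 7),(.negSucc 0),(.negSucc 2),(.ofNat 2),(.negSucc 2),(.ofNat 7)] (.node [] .nil (.node [(.negSucc 5),(.ofNat 9),(.ofNat 3),(.negSucc 4),(.ofNat 3),(.negSucc 5)] .nil .nil)) (.node [(.negSucc 7),(.negSucc 2),(.ofNat 3),(.ofNat 4),(.ofNat 3),(.negSucc 7)] .nil (.node [(.ofNat 6),(.negSucc 5),(.negSucc 2),(.ofNat 1),(.negSucc 2),(.ofNat 6)] .nil .nil)))) (.node [(.negSucc 3),(.negSucc 4),(.ofNat 3),(.ofNat 4),(.ofNat 3),(.negSucc 3)] (.node [] (.node [] (.node [] .nil (.node [(.ofNat 2),(.negSucc 3),(.negSucc 3),(.ofNat 3),(.negSucc 3),(.ofNat 2)] .nil .nil)) (.node [(.negSucc 5),(.negSucc 2),(.negSucc 1),(.ofNat 9),(.negSucc 1),(.negSucc 5)] .nil .nil)) (.node [(.ofNat 7),(.ofNat 2),(.ofNat 1),(.negSucc 6),(.ofNat 1),(.ofNat 7)] .nil (.node [(.ofNat 1),(.ofNat 11),(.negSucc 1),(.negSucc 4),(.negSucc 1),(.ofNat 1)] .nil .nil))) (.node [(.negSucc 0),(.negSucc 4),(.negSucc 3),(.ofNat 11),(.negSucc 3),(.negSucc 0)] (.node [] .nil (.node [(.negSucc 3),(.negSucc 10),(.ofNat 2),(.ofNat 5),(.ofNat 2),(.negSucc 3)] .nil .nil)) (.node [(.negSucc 7),(.ofNat 4),(.ofNat 2),(.ofNat 1),(.ofNat 2),(.negSucc 7)] .nil (.node [(.negSucc 1),(.negSucc 3),(.ofNat 6),(.negSucc 6),(.ofNat 6),(.negSucc 1)] .nil .nil)))))) (.node [(.negSucc 1),(.negSucc 0),(.ofNat 1),(.ofNat 4),(.ofNat 1),(.negSucc 1)] (.node [] (.node [] (.node [] (.node [] (.node [] .nil (.node [(.ofNat 4),(.ofNat 4),(.negSucc 5),(.ofNat 1),(.negSucc 5),(.ofNat 4)] .nil .nil)) (.node [(.ofNat 6),(.negSucc 2),(.negSucc 7),(.ofNat 9),(.negSucc 7),(.ofNat 6)] .nil .nil)) (.node [(.negSucc 1),(.ofNat 11),(.ofNat 3),(.negSucc 6),(.ofNat 3),(.negSucc 1)] .nil (.node [(.negSucc 6),(.negSucc 6),(.ofNat 5),(.ofNat 1),(.ofNat 5),(.negSucc 6)] .nil .nil))) (.node [(.ofNat 2),(.negSucc 4),(.ofNat 5),(.negSucc 3),(.ofNat 5),(.ofNat 2)] (.node [] .nil (.node [(.ofNat 8),(.negSucc 4),(.negSucc 3),(.ofNat 2),(.negSucc 3),(.ofNat 8)] .nil .nil)) (.node [(.ofNat 4),(.ofNat 9),(.ofNat 2),(.negSucc 9),(.ofNat 2),(.ofNat 4)] .nil (.node [(.ofNat 1),(.negSucc 4),(.negSucc 6),(.ofNat 10),(.negSucc 6),(.ofNat 1)] .nil .nil)))) (.node [(.ofNat 2),(.negSucc 3),(.negSucc 3),(.ofNat 9),(.negSucc 3),(.ofNat 2)] (.node [] (.node [] (.node [] .nil (.node [(.ofNat 1),(.negSucc 0),(.ofNat 1),(.negSucc 4),(.ofNat 1),(.ofNat 1)] .nil .nil)) (.node [(.ofNat 6),(.ofNat 9),(.negSucc 2),(.negSucc 4),(.negSucc 2),(.ofNat 6)] .nil .nil)) (.node [(.ofNat 2),(.negSucc 3),(.ofNat 6),(.negSucc 6),(.ofNat 6),(.ofNat 2)] .nil (.node [(.negSucc 2),(.negSucc 10),(.ofNat 1),(.ofNat 5),(.ofNat 1),(.negSucc 2)] .nil .nil))) (.node [(.negSucc 5),(.negSucc 0),(.ofNat 7),(.negSucc 2),(.ofNat 7),(.negSucc 5)] (.node [] .nil (.node [(.ofNat 8),(.ofNat 1),(.negSucc 5),(.ofNat 1),(.negSucc 5),(.ofNat 8)] .nil .nil)) (.node [(.ofNat 5),(.ofNat 10),(.negSucc 0),(.negSucc 6),(.negSucc 0),(.ofNat 5)] .nil (.node [(.negSucc 6),(.negSucc 1),(.ofNat 2),(.ofNat 1),(.ofNat 2),(.negSucc 6)] .nil .nil))))) (.node [(.negSucc 2),(.negSucc 4),(.ofNat 4),(.ofNat 2),(.ofNat 4),(.negSucc 2)] (.node [] (.node [] (.node [] (.node [] .nil (.node [(.negSucc 4),(.negSucc 4),(.ofNat 1),(.ofNat 2),(.ofNat 1),(.negSucc 4)] .nil .nil)) (.node [(.negSucc 2),(.negSucc 10),(.ofNat 4),(.ofNat 2),(.ofNat 4),(.negSucc 2)] .nil .nil)) (.node [(.negSucc 7),(.ofNat 2),(.ofNat 5),(.negSucc 0),(.ofNat 5),(.negSucc 7)] .nil (.node [(.ofNat 2),(.ofNat 7),(.ofNat 3),(.negSucc 10),(.ofNat 3),(.ofNat 2)] .nil .nil))) (.node [(.negSucc 1),(.negSucc 8),(.ofNat 3),(.ofNat 4),(.ofNat 3),(.negSucc 1)] (.node [] .nil (.node [(.negSucc 0),(.negSucc 0),(.negSucc 6),(.ofNat 11),(.negSucc 6),(.negSucc 0)] .nil .nil)) (.node [(.negSucc 2),(.negSucc 10),(.ofNat 2),(.ofNat 6),(.ofNat 2),(.negSucc 2)] .nil (.node [(.negSucc 2),(.negSucc 2),(.negSucc 4),(.ofNat 9),(.negSucc 4),(.negSucc 2)] .nil .nil)))) (.node [(.ofNat 3),(.negSucc 2),(.negSucc 4),(.ofNat 9),(.negSucc 4),(.ofNat 3)] (.node [] (.node [] (.node [] .nil (.node [(.ofNat 1),(.negSucc 1),(.negSucc 2),(.ofNat 1),(.negSucc 2),(.ofNat 1)] .nil .nil)) (.node [(.negSucc 1),(.negSucc 10),(.ofNat 4),(.ofNat 1),(.ofNat 4),(.negSucc 1)] .nil .nil)) (.node [(.negSucc 3),(.negSucc 3),(.ofNat 8),(.negSucc 4),(.ofNat 8),(.negSucc 3)] .nil (.node [(.ofNat 6),(.negSucc 0),(.negSucc 7),(.ofNat 6),(.negSucc 7),(.ofNat 6)] .nil .nil))) (.node [(.ofNat 3),(.ofNat 10),(.ofNat 2),(.negSucc 8),(.ofNat 2),(.ofNat 3)] (.node [] .nil (.node [(.negSucc 0),(.ofNat 11),(.ofNat 2),(.negSucc 8),(.ofNat 2),(.negSucc 0)] .nil .nil)) (.node [(.negSucc 2),(.negSucc 4),(.ofNat 8),(.negSucc 5),(.ofNat 8),(.negSucc 2)] .nil (.node [(.ofNat 5),(.negSucc 4),(.negSucc 0),(.negSucc 1),(.negSucc 0),(.ofNat 5)] .nil .nil))))))) (.node [(.negSucc 0),(.ofNat 1),(.ofNat 4),(.negSucc 1),(.ofNat 4),(.negSucc 0)] (.node [] (.node [] (.node [] (.node [] (.node [] (.node [] .nil (.node [(.ofNat 1),(.ofNat 5),(.negSucc 4),(.ofNat 1),(.negSucc 4),(.ofNat 1)] .nil .nil)) (.node [(.ofNat 4),(.ofNat 5),(.negSucc 7),(.ofNat 6),(.negSucc 7),(.ofNat 4)] .nil .nil)) (.node [(.negSucc 2),(.negSucc 5),(.ofNat 7),(.negSucc 2),(.ofNat 7),(.negSucc 2)] .nil (.node [(.ofNat 7),(.ofNat 6),(.negSucc 2),(.negSucc 4),(.negSucc 2),(.ofNat 7)] .nil .nil))) (.node [(.negSucc 1),(.negSucc 4),(.ofNat 6),(.negSucc 1),(.ofNat 6),(.negSucc 1)] (.node [] .nil (.node [(.ofNat 5),(.negSucc 2),(.ofNat 3),(.negSucc 6),(.ofNat 3),(.ofNat 5)] .nil .nil)) (.node [(.ofNat 2),(.negSucc 8),(.ofNat 4),(.negSucc 1),(.ofNat 4),(.ofNat 2)] .nil (.node [(.negSucc 1),(.negSucc 2),(.negSucc 5),(.ofNat 10),(.negSucc 5),(.negSucc 1)] .nil .nil)))) (.node [(.negSucc 2),(.negSucc 2),(.ofNat 6),(.negSucc 1),(.ofNat 6),(.negSucc 2)] (.node [] (.node [] (.node [] .nil (.node [(.negSucc 3),(.ofNat 4),(.ofNat 2),(.negSucc 4),(.ofNat 2),(.negSucc 3)] .nil .nil)) (.node [(.ofNat 5),(.negSucc 9),(.negSucc 3),(.ofNat 7),(.negSucc 3),(.ofNat 5)] .nil .nil)) (.node [(.ofNat 1),(.negSucc 9),(.negSucc 1),(.ofNat 9),(.negSucc 1),(.ofNat 1)] .nil (.node [(.negSucc 6),(.negSucc 0),(.negSucc 0),(.ofNat 6),(.negSucc 0),(.negSucc 6)] .nil .nil))) (.node [(.ofNat 6),(.ofNat 1),(.ofNat 2),(.negSucc 5),(.ofNat 2),(.ofNat 6)] (.node [] .nil (.node [(.ofNat 6),(.negSucc 4),(.ofNat 1),(.negSucc 3),(.ofNat 1),(.ofNat 6)] .nil .nil)) (.node [(.ofNat 4),(.negSucc 8),(.ofNat 2),(.negSucc 0),(.ofNat 2),(.ofNat 4)] .nil (.node [(.ofNat 4),(.ofNat 7),(.negSucc 1),(.negSucc 5),(.negSucc 1),(.ofNat 4)] .nil .nil))))) (.node [(.ofNat 4),(.negSucc 4),(.ofNat 1),(.ofNat 1),(.ofNat 1),(.ofNat 4)] (.node [] (.node [] (.node [] (.node [] .nil (.node [(.ofNat 3),(.negSucc 0),(.ofNat 1),(.negSucc 5),(.ofNat 1),(.ofNat 3)] .nil .nil)) (.node [(.negSucc 4),(.ofNat 7),(.negSucc 1),(.ofNat 3),(.negSucc 1),(.negSucc 4)] .nil .nil)) (.node [(.ofNat 7),(.negSucc 4),(.negSucc 5),(.ofNat 7),(.negSucc 5),(.ofNat 7)] .nil (.node [(.negSucc 0),(.ofNat 9),(.ofNat 4),(.negSucc 10),(.ofNat 4),(.negSucc 0)] .nil .nil))) (.node [(.negSucc 4),(.ofNat 7),(.ofNat 3),(.negSucc 1),(.ofNat 3),(.negSucc 4)] (.node [] .nil (.node [(.negSucc 3),(.ofNat 7),(.ofNat 7),(.negSucc 10),(.ofNat 7),(.negSucc 3)] .nil .nil)) (.node [(.negSucc 6),(.ofNat 7),(.ofNat 2),(.negSucc 0),(.ofNat 2),(.negSucc 6)] .nil (.node [(.negSucc 6),(.ofNat 2),(.ofNat 2),(.negSucc 0),(.ofNat 2),(.negSucc 6)] .nil .nil)))) (.node [(.negSucc 1),(.ofNat 5),(.ofNat 6),(.negSucc 6),(.ofNat 6),(.negSucc 1)] (.node [] (.node [] (.node [] .nil (.node [(.negSucc 0),(.negSucc 0),(.ofNat 2),(.negSucc 4),(.ofNat 2),(.negSucc 0)] .nil .nil)) (.node [(.negSucc 3),(.negSucc 10),(.ofNat 1),(.ofNat 7),(.ofNat 1),(.negSucc 3)] .nil .nil)) (.node [(.negSucc 7),(.ofNat 3),(.ofNat 3),(.ofNat 1),(.ofNat 3),(.negSucc 7)] .nil (.node [(.ofNat 3),(.negSucc 0),(.ofNat 4),(.negSucc 8),(.ofNat 4),(.ofNat 3)] .nil .nil))) (.node [(.ofNat 2),(.ofNat 2),(.negSucc 6),(.ofNat 9),(.negSucc 6),(.ofNat 2)] (.node [] .nil (.node [(.negSucc 1),(.negSucc 0),(.ofNat 8),(.negSucc 9),(.ofNat 8),(.negSucc 1)] .nil .nil)) (.node [(.negSucc 4),(.negSucc 9),(.ofNat 3),(.ofNat 5),(.ofNat 3),(.negSucc 4)] .nil (.node [(.ofNat 2),(.ofNat 4),(.ofNat 2),(.negSucc 8),(.ofNat 2),(.ofNat 2)] .nil .nil)))))) (.node [(.ofNat 3),(.ofNat 3),(.ofNat 3),(.negSucc 4),(.ofNat 3),(.ofNat 3)] (.node [] (.node [] (.node [] (.node [] (.node [] .nil (.node [(.negSucc 4),(.negSucc 1),(.negSucc 1),(.ofNat 5),(.negSucc 1),(.negSucc 4)] .nil .nil)) (.node [(.ofNat 8),(.ofNat 2),(.negSucc 6),(.ofNat 3),(.negSucc 6),(.ofNat 8)] .nil .nil)) (.node [(.ofNat 2),(.negSucc 10),(.negSucc 0),(.ofNat 7),(.negSucc 0),(.ofNat 2)] .nil (.node [(.negSucc 3),(.negSucc 9),(.negSucc 0),(.ofNat 9),(.negSucc 0),(.negSucc 3)] .nil .nil))) (.node [(.ofNat 3),(.ofNat 10),(.ofNat 1),(.negSucc 6),(.ofNat 1),(.ofNat 3)] (.node [] .nil (.node [(.negSucc 7),(.ofNat 1),(.ofNat 1),(.ofNat 3),(.ofNat 1),(.negSucc 7)] .nil .nil)) (.node [(.ofNat 7),(.negSucc 6),(.negSucc 4),(.ofNat 6),(.negSucc 4),(.ofNat 7)] .nil (.node [(.ofNat 3),(.negSucc 5),(.negSucc 6),(.ofNat 9),(.negSucc 6),(.ofNat 3)] .nil .nil)))) (.node [(.ofNat 5),(.negSucc 4),(.negSucc 0),(.ofNat 3),(.negSucc 0),(.ofNat 5)] (.node [] (.node [] (.node [] .nil (.node [(.negSucc 3),(.ofNat 1),(.ofNat 3),(.negSucc 4),(.ofNat 3),(.negSucc 3)] .nil .nil)) (.node [(.negSucc 7),(.negSucc 4),(.ofNat 3),(.ofNat 4),(.ofNat 3),(.negSucc 7)] .nil .nil)) (.node [(.ofNat 4),(.ofNat 6),(.negSucc 6),(.ofNat 5),(.negSucc 6),(.ofNat 4)] .nil (.node [(.negSucc 1),(.ofNat 7),(.negSucc 4),(.ofNat 4),(.negSucc 4),(.negSucc 1)] .nil .nil))) (.node [(.negSucc 2),(.negSucc 2),(.negSucc 2),(.ofNat 10),(.negSucc 2),(.negSucc 2)] (.node [] .nil (.node [(.negSucc 6),(.ofNat 2),(.negSucc 0),(.ofNat 5),(.negSucc 0),(.negSucc 6)] .nil .nil)) (.node [(.ofNat 8),(.negSucc 3),(.negSucc 5),(.ofNat 5),(.negSucc 5),(.ofNat 8)] .nil (.node [(.negSucc 3),(.ofNat 1),(.negSucc 3),(.ofNat 6),(.negSucc 3),(.negSucc 3)] .nil .nil))))) (.node [(.ofNat 2),(.ofNat 4),(.negSucc 3),(.ofNat 5),(.negSucc 3),(.ofNat 2)] (.node [] (.node [] (.node [] (.node [] .nil (.node [(.negSucc 1),(.negSucc 4),(.negSucc 3),(.ofNat 7),(.negSucc 3),(.negSucc 1)] .nil .nil)) (.node [(.negSucc 0),(.ofNat 1),(.ofNat 8),(.negSucc 10),(.ofNat 8),(.negSucc 0)] .nil .nil)) (.node [(.negSucc 3),(.ofNat 4),(.ofNat 8),(.negSucc 8),(.ofNat 8),(.negSucc 3)] .nil (.node [(.ofNat 4),(.negSucc 9),(.negSucc 2),(.ofNat 5),(.negSucc 2),(.ofNat 4)] .nil .nil))) (.node [(.ofNat 2),(.negSucc 6),(.negSucc 3),(.ofNat 10),(.negSucc 3),(.ofNat 2)] (.node [] .nil (.node [(.ofNat 1),(.ofNat 1),(.ofNat 6),(.negSucc 10),(.ofNat 6),(.ofNat 1)] .nil .nil)) (.node [(.negSucc 0),(.negSucc 8),(.negSucc 2),(.ofNat 11),(.negSucc 2),(.negSucc 0)] .nil (.node [(.negSucc 1),(.ofNat 4),(.ofNat 6),(.negSucc 10),(.ofNat 6),(.negSucc 1)] .nil .nil)))) (.node [(.ofNat 5),(.ofNat 7),(.negSucc 1),(.negSucc 1),(.negSucc 1),(.ofNat 5)] (.node [] (.node [] (.node [] .nil (.node [(.negSucc 0),(.negSucc 0),(.negSucc 0),(.negSucc 0),(.negSucc 0),(.negSucc 0)] .nil .nil)) (.node [(.ofNat 1),(.negSucc 1),(.negSucc 7),(.ofNat 11),(.negSucc 7),(.ofNat 1)] .nil .nil)) (.node [(.negSucc 1),(.negSucc 6),(.ofNat 7),(.negSucc 3),(.ofNat 7),(.negSucc 1)] .nil (.node [(.negSucc 6),(.negSucc 5),(.ofNat 4),(.ofNat 1),(.ofNat 4),(.negSucc 6)] .nil .nil))) (.node [(.ofNat 7),(.ofNat 5),(.negSucc 5),(.ofNat 2),(.negSucc 5),(.ofNat 7)] (.node [] .nil (.node [(.ofNat 2),(.ofNat 3),(.negSucc 7),(.ofNat 7),(.negSucc 7),(.ofNat 2)] .nil .nil)) (.node [(.negSucc 0),(.negSucc 0),(.ofNat 8),(.negSucc 8),(.ofNat 8),(.negSucc 0)] .nil (.node [(.negSucc 5),(.ofNat 4),(.ofNat 2),(.negSucc 2),(.ofNat 2),(.negSucc 5)] .nil .nil)))))))))))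
noncomputable def nxt : Trie (List ℕ) := (.node [3,1,6,2,6,3] (.node [] (.node [] (.node [] (.node [] (.node [] (.node [] (.node [] (.node [] (.node [] (.node [] .nil (.node [976,989,1085,1054,1085,976] .nil .nil)) (.node [396,574,661,447,661,396] .nil .nil)) (.node [315,302,157,210,157,315] .nil (.node [863,820,621,825,621,863] .nil .nil))) (.node [170,99,68,165,68,170] (.node [] .nil (.node [756,702,491,705,491,756] .nil .nil)) (.node [289,330,535,327,535,289] .nil (.node [837,848,1002,845,1002,837] .nil .nil)))) (.node [111,86,130,43,130,111] (.node [] (.node [] (.node [] .nil (.node [1041,1064,1127,1063,1127,1041] .nil .nil)) (.node [695,516,429,641,429,695] .nil .nil)) (.node [251,374,450,267,450,251] .nil (.node [901,776,686,885,686,901] .nil .nil))) (.node [276,152,104,241,104,276] (.node [] .nil (.node [815,761,834,639,834,815] .nil .nil)) (.node [337,389,313,513,313,337] .nil (.node [876,998,1042,911,1042,876] .nil .nil)))))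 (.node [52,21,9,49,9,52] (.node [] (.node [] (.node [] (.node [] .nil (.node [1017,1079,1104,1025,1104,1017] .nil .nil)) (.node [612,601,411,481,411,612] .nil .nil)) (.node [383,241,415,236,415,383] .nil (.node [714,746,927,743,927,714] .nil .nil))) (.node [219,124,257,123,257,219] (.node [] .nil (.node [605,730,808,609,808,605] .nil .nil)) (.node [490,359,540,356,540,490] .nil (.node [995,971,1019,877,1019,995] .nil .nil)))) (.node [135,126,168,71,168,135] (.node [] (.node [] (.node [] .nil (.node [1095,1106,1078,1132,1078,1095] .nil .nil)) (.node [540,549,755,545,755,540] .nil .nil)) (.node [438,404,471,299,471,438] .nil (.node [769,909,963,808,963,769] .nil .nil))) (.node [157,271,351,179,351,157] (.node [] .nil (.node [662,791,863,674,863,662] .nil .nil)) (.node [547,420,358,418,358,547] .nil (.node [925,955,900,1031,900,925] .nil .nil)))))) (.node [40,26,3,27,3,40] (.node [] (.node [] (.node [] (.node [] (.node [] .nil (.node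 [1087,1008,948,1070,948,1087] .nil .nil)) (.node [628,585,403,465,403,628] .nil .nil)) (.node [199,323,169,325,169,199] .nil (.node [842,728,655,725,655,842] .nil .nil))) (.node [87,110,76,184,76,87] (.node [] .nil (.node [742,717,519,594,519,742] .nil .nil)) (.node [507,457,264,459,264,507] .nil (.node [822,861,1016,859,1016,822] .nil .nil)))) (.node [46,107,35,108,35,46] (.node [] (.node [] (.node [] .nil (.node [1076,1117,1056,1083,1056,1076] .nil .nil)) (.node [681,531,720,529,720,681] .nil .nil)) (.node [447,285,221,396,221,447] .nil (.node [782,896,962,792,962,782] .nil .nil))) (.node [260,168,126,254,126,260] (.node [] .nil (.node [791,662,592,780,592,791] .nil .nil)) (.node [563,406,321,526,321,563] .nil (.node [1024,934,874,1015,874,1024] .nil .nil))))) (.node [76,33,17,69,17,76] (.node [] (.node [] (.node [] (.node [] .nil (.node [1106,1095,995,1096,995,1106] .nil .nil)) (.node [471,619,697,496,697,471] .nil .nil)) (.node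 [370,358,420,253,420,370] .nil (.node [705,865,921,756,921,705] .nil .nil))) (.node [123,139,275,219,275,123] (.node [] .nil (.node [589,744,556,747,556,589] .nil .nil)) (.node [355,492,314,494,314,355] .nil (.node [887,899,843,987,843,887] .nil .nil)))) (.node [61,84,202,83,202,61] (.node [] (.node [] (.node [] .nil (.node [1146,1126,1105,1144,1105,1146] .nil .nil)) (.node [524,565,774,561,774,524] .nil .nil)) (.node [302,315,499,429,499,302] .nil (.node [953,927,746,930,746,953] .nil .nil))) (.node [330,289,363,191,363,330] (.node [] .nil (.node [645,807,618,809,618,645] .nil .nil)) (.node [410,558,367,560,367,410] .nil (.node [1065,1040,902,1042,902,1065] .nil .nil))))))) (.node [2,14,29,3,29,2] (.node [] (.node [] (.node [] (.node [] (.node [] (.node [] .nil (.node [972,1061,1094,994,1094,972] .nil .nil)) (.node [634,580,387,458,387,634] .nil .nil)) (.node [207,316,400,214,400,207] .nil (.node [853,832,626,834,626,853] .nil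 .nil))) (.node [97,173,220,175,220,97] (.node [] .nil (.node [750,709,497,712,497,750] .nil .nil)) (.node [508,340,280,455,280,508] .nil (.node [826,858,797,952,797,826] .nil .nil)))) (.node [102,95,34,51,34,102] (.node [] (.node [] (.node [] .nil (.node [1121,1114,1038,1072,1038,1121] .nil .nil)) (.node [691,646,452,522,452,691] .nil .nil)) (.node [238,277,217,386,217,238] .nil (.node [893,786,710,892,710,893] .nil .nil))) (.node [273,244,309,155,309,273] (.node [] .nil (.node [806,770,579,648,579,806] .nil .nil)) (.node [575,515,604,394,604,575] .nil (.node [1035,1006,868,924,868,1035] .nil .nil))))) (.node [16,59,13,60,13,16] (.node [] (.node [] (.node [] (.node [] .nil (.node [1007,1088,1113,1034,1113,1007] .nil .nil)) (.node [472,494,690,614,690,472] .nil .nil)) (.node [381,345,195,246,195,381] .nil (.node [707,860,672,864,672,707] .nil .nil))) (.node [213,208,96,131,96,213] (.node [] .nil (.node [591,622,799,741,799,591]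 .nil .nil)) (.node [362,366,569,365,569,362] .nil (.node [986,980,814,981,814,986] .nil .nil)))) (.node [68,77,192,75,192,68] (.node [] (.node [] (.node [] .nil (.node [1141,1138,1092,1112,1092,1141] .nil .nil)) (.node [536,677,767,553,767,536] .nil .nil)) (.node [431,415,241,305,241,431] .nil (.node [956,825,753,923,753,956] .nil .nil))) (.node [149,281,355,185,355,149] (.node [] .nil (.node [650,688,613,801,613,650] .nil .nil)) (.node [422,545,627,425,627,422] .nil (.node [924,1034,898,1035,898,924] .nil .nil)))))) (.node [11,38,63,13,63,11] (.node [] (.node [] (.node [] (.node [] (.node [] .nil (.node [1084,1073,966,1013,966,1084] .nil .nil)) (.node [616,597,666,473,666,616] .nil .nil)) (.node [188,233,392,333,392,188] .nil (.node [721,735,669,848,669,721] .nil .nil))) (.node [228,192,77,195,77,228] (.node [] .nil (.node [730,605,534,601,534,730] .nil .nil)) (.node [502,462,292,351,292,502] .nil (.node [1003,965,1017,869,1017,1003]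 .nil .nil)))) (.node [145,116,158,63,158,145] (.node [] (.node [] (.node [] .nil (.node [1133,1094,1061,1128,1061,1133] .nil .nil)) (.node [674,660,449,662,449,674] .nil .nil)) (.node [445,399,476,290,476,445] .nil (.node [771,805,737,906,737,771] .nil .nil))) (.node [166,263,324,172,324,166] (.node [] .nil (.node [790,784,593,665,593,790] .nil .nil)) (.node [552,414,346,534,346,552] .nil (.node [939,1020,1058,942,1058,939] .nil .nil))))) (.node [31,79,120,36,120,31] (.node [] (.node [] (.node [] (.node [] .nil (.node [1050,1100,1123,1055,1123,1050] .nil .nil)) (.node [461,629,711,504,711,461] .nil .nil)) (.node [253,262,433,370,433,253] .nil (.node [914,873,705,767,705,914] .nil .nil))) (.node [117,227,301,144,301,117] (.node [] .nil (.node [577,755,549,759,549,577] .nil .nil)) (.node [346,380,583,378,583,346] .nil (.node [879,906,1046,904,1046,879] .nil .nil)))) (.node [180,156,56,159,56,180] (.node [] (.node [] (.node [] .nil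 (.node [1150,1148,1125,1136,1125,1150] .nil .nil)) (.node [518,570,495,694,495,518] .nil .nil)) (.node [299,436,259,438,259,299] .nil (.node [945,935,772,835,772,945] .nil .nil))) (.node [317,204,154,298,154,317] (.node [] .nil (.node [865,705,873,817,873,865] .nil .nil)) (.node [402,441,365,568,365,402] .nil (.node [1055,977,912,1050,912,1055] .nil .nil)))))))) (.node [14,2,19,9,19,14] (.node [] (.node [] (.node [] (.node [] (.node [] (.node [] (.node [] .nil (.node [975,1057,1089,991,1089,975] .nil .nil)) (.node [636,576,370,579,370,636] .nil .nil)) (.node [208,213,385,313,385,208] .nil (.node [857,827,888,709,888,857] .nil .nil))) (.node [98,100,223,171,223,98] (.node [] .nil (.node [751,582,785,580,785,751] .nil .nil)) (.node [283,334,270,449,270,283] .nil (.node [831,854,992,948,992,831] .nil .nil)))) (.node [104,49,128,47,128,104] (.node [] (.node [] (.node [] .nil (.node [1125,1111,1128,1067,1128,1125] .nil .nil)) (.node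 [692,520,443,644,443,692] .nil .nil)) (.node [246,379,216,381,216,246] .nil (.node [895,783,714,889,714,895] .nil .nil))) (.node [269,159,297,243,297,269] (.node [] .nil (.node [809,764,571,645,571,809] .nil .nil)) (.node [341,509,584,389,584,341] .nil (.node [1036,921,865,1005,865,1036] .nil .nil))))) (.node [19,22,81,56,81,19] (.node [] (.node [] (.node [] (.node [] .nil (.node [1009,1033,985,1086,985,1009] .nil .nil)) (.node [481,609,674,612,674,481] .nil .nil)) (.node [387,342,408,239,408,387] .nil (.node [710,749,933,748,933,710] .nil .nil))) (.node [214,130,86,207,86,214] (.node [] .nil (.node [596,617,546,739,546,596] .nil .nil)) (.node [486,480,304,361,304,486] .nil (.node [991,974,801,975,801,991] .nil .nil)))) (.node [73,132,180,133,180,73] (.node [] (.node [] (.node [] .nil (.node [1091,1110,1081,1135,1081,1091] .nil .nil)) (.node [544,668,750,548,750,544] .nil .nil)) (.node [427,306,243,416,243,427] .nil (.node [763,916,968,813,968,763]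 .nil .nil))) (.node [152,276,133,279,133,152] (.node [] .nil (.node [654,683,607,798,607,654] .nil .nil)) (.node [418,426,625,547,625,418] .nil (.node [929,1030,1068,951,1068,929] .nil .nil)))))) (.node [37,30,50,12,50,37] (.node [] (.node [] (.node [] (.node [] (.node [] .nil (.node [1086,1071,1099,1009,1099,1086] .nil .nil)) (.node [622,591,397,470,397,622] .nil .nil)) (.node [192,228,170,331,170,192] .nil (.node [726,732,911,729,911,726] .nil .nil))) (.node [231,114,75,190,75,231] (.node [] .nil (.node [734,600,511,723,511,734] .nil .nil)) (.node [498,352,529,463,529,498] .nil (.node [817,868,1006,865,1006,817] .nil .nil)))) (.node [42,112,161,59,161,42] (.node [] (.node [] (.node [] .nil (.node [1070,1122,1137,1087,1137,1070] .nil .nil)) (.node [676,537,444,659,444,676] .nil .nil)) (.node [451,392,233,285,233,451] .nil (.node [775,801,974,799,974,775] .nil .nil))) (.node [167,169,323,261,323,167] (.node [] .nil (.node [795,779,588,661,588,795]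 .nil .nil)) (.node [557,411,601,409,601,557] .nil (.node [1022,936,867,1019,867,1022] .nil .nil))))) (.node [32,35,107,77,107,32] (.node [] (.node [] (.node [] (.node [] .nil (.node [1104,1097,1003,1047,1003,1104] .nil .nil)) (.node [465,625,426,628,426,465] .nil .nil)) (.node [366,362,207,257,207,366] .nil (.node [910,768,681,875,681,910] .nil .nil))) (.node [120,223,100,226,100,120] (.node [] .nil (.node [580,634,561,751,561,580] .nil .nil)) (.node [350,376,310,501,310,350] .nil (.node [884,902,1040,900,1040,884] .nil .nil)))) (.node [183,88,197,151,197,183] (.node [] (.node [] (.node [] .nil (.node [1127,1134,1118,1145,1118,1127] .nil .nil)) (.node [528,684,758,564,758,528] .nil .nil)) (.node [306,427,500,314,500,306] .nil (.node [948,833,979,831,979,948] .nil .nil))) (.node [322,200,361,197,361,322] (.node [] .nil (.node [640,813,610,816,610,640] .nil .nil)) (.node [406,563,372,566,372,406] .nil (.node [1057,975,922,1045,922,1057]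 .nil .nil))))))) (.node [22,19,2,20,2,22] (.node [] (.node [] (.node [] (.node [] (.node [] (.node [] .nil (.node [964,1004,957,1066,957,964] .nil .nil)) (.node [624,466,663,462,663,624] .nil .nil)) (.node [204,317,390,220,390,204] .nil (.node [846,723,658,720,658,846] .nil .nil))) (.node [89,108,238,178,238,89] (.node [] .nil (.node [746,714,783,586,783,746] .nil .nil)) (.node [512,455,543,336,543,512] .nil (.node [830,950,795,955,795,830] .nil .nil)))) (.node [48,53,144,105,144,48] (.node [] (.node [] (.node [] .nil (.node [1077,1080,1133,1079,1133,1077] .nil .nil)) (.node [687,651,724,525,724,687] .nil .nil)) (.node [242,382,451,277,451,242] .nil (.node [786,893,946,789,946,786] .nil .nil))) (.node [268,248,122,161,122,268] (.node [] .nil (.node [802,774,565,777,565,802] .nil .nil)) (.node [567,403,585,521,585,567] .nil (.node [1032,1010,1050,927,1050,1032] .nil .nil))))) (.node [82,62,94,29,94,82] (.node [] (.node [] (.node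 [] (.node [] .nil (.node [1110,1091,996,1039,996,1110] .nil .nil)) (.node [476,613,688,493,688,476] .nil .nil)) (.node [377,349,422,249,422,377] .nil (.node [701,757,925,753,925,701] .nil .nil))) (.node [130,214,267,216,267,130] (.node [] .nil (.node [585,628,810,745,810,585] .nil .nil)) (.node [357,371,553,491,553,357] .nil (.node [892,894,1027,893,1027,892] .nil .nil)))) (.node [66,140,193,80,193,66] (.node [] (.node [] (.node [] .nil (.node [1115,1139,1147,1120,1147,1115] .nil .nil)) (.node [530,559,489,682,489,530] .nil .nil)) (.node [426,418,250,309,250,426] .nil (.node [960,922,975,821,975,960] .nil .nil))) (.node [326,195,345,288,345,326] (.node [] .nil (.node [646,691,623,804,623,646] .nil .nil)) (.node [412,432,369,555,369,412] .nil (.node [921,1036,914,962,914,921] .nil .nil)))))) (.node [57,18,71,17,71,57] (.node [] (.node [] (.node [] (.node [] (.node [] .nil (.node [1018,1023,1102,1078,1102,1018] .nil .nil)) (.node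 [608,482,416,478,416,608] .nil .nil)) (.node [389,337,171,341,171,389] .nil (.node [719,739,919,737,919,719] .nil .nil))) (.node [223,120,79,201,79,223] (.node [] .nil (.node [601,612,803,730,803,601] .nil .nil)) (.node [492,355,281,475,281,492] .nil (.node [1000,967,798,968,798,1000] .nil .nil)))) (.node [137,70,41,124,41,137] (.node [] (.node [] (.node [] .nil (.node [1130,1099,1071,1097,1071,1130] .nil .nil)) (.node [671,665,456,667,456,671] .nil .nil)) (.node [442,401,483,294,483,442] .nil (.node [765,808,730,913,730,765] .nil .nil))) (.node [161,266,136,268,136,161] (.node [] .nil (.node [666,788,862,669,862,666] .nil .nil)) (.node [556,533,344,413,344,556] .nil (.node [933,946,893,1026,893,933] .nil .nil))))) (.node [27,83,121,40,121,27] (.node [] (.node [] (.node [] (.node [] .nil (.node [1048,1101,1121,1058,1121,1048] .nil .nil)) (.node [453,514,439,635,439,453] .nil .nil)) (.node [252,264,457,263,457,252] .nil (.node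 [906,879,939,771,939,906] .nil .nil))) (.node [280,150,287,234,287,280] (.node [] .nil (.node [811,643,819,761,819,811] .nil .nil)) (.node [343,386,596,382,596,343] .nil (.node [872,915,855,999,855,872] .nil .nil)))) (.node [177,160,211,92,211,177] (.node [] (.node [] (.node [] .nil (.node [1151,1144,1135,1143,1135,1151] .nil .nil)) (.node [516,695,486,698,486,516] .nil .nil)) (.node [295,440,522,323,522,295] .nil (.node [940,841,775,840,775,940] .nil .nil))) (.node [316,207,362,206,362,316] (.node [] .nil (.node [859,708,631,822,631,859] .nil .nil)) (.node [392,451,382,574,382,392] .nil (.node [982,984,1082,983,1082,982] .nil .nil))))))))) (.node [8,4,12,0,12,8] (.node [] (.node [] (.node [] (.node [] (.node [] (.node [] (.node [] (.node [] .nil (.node [978,1054,1090,988,1090,978] .nil .nil)) (.node [398,572,381,450,381,398] .nil .nil)) (.node [311,307,163,211,163,311] .nil (.node [855,712,637,827,637,855] .nil .nil))) (.node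 [172,164,64,166,64,172] (.node [] .nil (.node [758,699,505,578,505,758] .nil .nil)) (.node [291,444,537,328,537,291] .nil (.node [839,941,1000,847,1000,839] .nil .nil)))) (.node [108,89,127,46,127,108] (.node [] (.node [] (.node [] .nil (.node [1039,1109,1026,1110,1026,1039] .nil .nil)) (.node [697,638,438,642,438,697] .nil .nil)) (.node [244,273,469,270,469,244] .nil (.node [903,883,704,776,704,903] .nil .nil))) (.node [278,237,115,153,115,278] (.node [] .nil (.node [807,645,562,766,562,807] .nil .nil)) (.node [339,510,320,514,320,339] .nil (.node [870,1002,848,1004,848,870] .nil .nil))))) (.node [54,47,72,21,72,54] (.node [] (.node [] (.node [] (.node [] .nil (.node [1013,1082,984,1084,984,1013] .nil .nil)) (.node [479,487,676,610,676,479] .nil .nil)) (.node [385,239,174,344,174,385] .nil (.node [716,851,673,854,673,716] .nil .nil))) (.node [217,127,89,205,89,217] (.node [] .nil (.node [600,734,548,736,548,600] .nil .nil)) (.node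 [484,364,298,480,298,484] .nil (.node [997,969,815,880,815,997] .nil .nil)))) (.node [132,73,45,129,45,132] (.node [] (.node [] (.node [] .nil (.node [1093,1108,1143,1107,1143,1093] .nil .nil)) (.node [542,670,756,546,756,542] .nil .nil)) (.node [434,409,247,301,247,434] .nil (.node [761,815,969,811,969,761] .nil .nil))) (.node [159,269,339,180,339,159] (.node [] .nil (.node [658,678,869,675,869,658] .nil .nil)) (.node [549,540,359,419,359,549] .nil (.node [927,953,895,1032,895,927] .nil .nil)))))) (.node [39,28,51,10,51,39] (.node [] (.node [] (.node [] (.node [] (.node [] .nil (.node [1089,1069,960,1008,960,1089] .nil .nil)) (.node [620,470,383,593,383,620] .nil .nil)) (.node [201,321,406,223,406,201] .nil (.node [844,840,647,727,647,844] .nil .nil))) (.node [85,185,78,187,78,85] (.node [] .nil (.node [738,598,780,595,780,738] .nil .nil)) (.node [504,347,265,461,265,504] .nil (.node [824,957,1004,862,1004,824] .nil .nil))))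 (.node [44,109,153,58,153,44] (.node [] (.node [] (.node [] .nil (.node [1072,1120,1053,1121,1053,1072] .nil .nil)) (.node [683,654,442,656,442,683] .nil .nil)) (.node [449,395,481,283,481,449] .nil (.node [778,798,967,797,967,778] .nil .nil))) (.node [262,253,117,256,117,262] (.node [] .nil (.node [793,781,575,783,575,793] .nil .nil)) (.node [565,524,606,405,606,565] .nil (.node [1026,1015,885,933,885,1026] .nil .nil))))) (.node [78,67,20,33,20,78] (.node [] (.node [] (.node [] (.node [] .nil (.node [1102,1047,999,1099,999,1102] .nil .nil)) (.node [463,501,706,498,706,463] .nil .nil)) (.node [372,356,201,255,201,372] .nil (.node [917,869,678,871,678,917] .nil .nil))) (.node [118,142,294,140,294,118] (.node [] .nil (.node [583,630,552,749,552,583] .nil .nil)) (.node [354,495,570,373,570,354] .nil (.node [886,988,844,989,844,886] .nil .nil)))) (.node [186,148,54,150,54,186] (.node [] (.node [] (.node [] .nil (.node [1145,1128,1111,1127,1111,1145]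 .nil .nil)) (.node [526,686,776,563,776,526] .nil .nil)) (.node [304,429,516,312,516,304] .nil (.node [955,925,757,830,757,955] .nil .nil))) (.node [332,287,150,193,150,332] (.node [] .nil (.node [638,697,619,814,619,638] .nil .nil)) (.node [404,438,638,562,638,404] .nil (.node [1061,972,1077,969,1077,1061] .nil .nil))))))) (.node [23,6,1,18,1,23] (.node [] (.node [] (.node [] (.node [] (.node [] (.node [] .nil (.node [967,1000,941,1064,941,967] .nil .nil)) (.node [630,583,380,584,380,630] .nil .nil)) (.node [202,220,173,319,173,202] .nil (.node [850,718,889,717,889,850] .nil .nil))) (.node [93,105,245,103,245,93] (.node [] .nil (.node [744,589,506,715,506,744] .nil .nil)) (.node [510,339,269,456,269,510] .nil (.node [828,952,1013,856,1013,828] .nil .nil)))) (.node [51,101,141,102,141,51] (.node [] (.node [] (.node [] .nil (.node [1118,1075,1041,1073,1041,1118] .nil .nil)) (.node [685,527,435,652,435,685] .nil .nil)) (.node [240,384,474,275,474,240]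 .nil (.node [784,790,951,787,951,784] .nil .nil))) (.node [266,161,112,250,112,266] (.node [] .nil (.node [800,652,836,649,836,800] .nil .nil)) (.node [570,518,325,520,325,570] .nil (.node [1030,929,1045,926,1045,1030] .nil .nil))))) (.node [84,61,97,26,97,84] (.node [] (.node [] (.node [] (.node [] .nil (.node [1005,1038,1114,1036,1114,1005] .nil .nil)) (.node [474,615,425,618,425,474] .nil .nil)) (.node [375,250,418,248,418,375] .nil (.node [699,758,684,867,684,699] .nil .nil))) (.node [128,133,276,215,276,128] (.node [] .nil (.node [593,741,829,620,829,593] .nil .nil)) (.node [364,484,564,367,564,364] .nil (.node [983,891,822,982,822,983] .nil .nil)))) (.node [70,137,181,139,181,70] (.node [] (.node [] (.node [] .nil (.node [1116,1119,1146,1117,1146,1116] .nil .nil)) (.node [538,675,752,554,752,538] .nil .nil)) (.node [424,308,252,307,252,424] .nil (.node [958,823,976,819,976,958] .nil .nil))) (.node [333,190,357,188,357,333]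 (.node [] .nil (.node [652,800,880,685,880,652] .nil .nil)) (.node [416,430,639,427,639,416] .nil (.node [919,962,896,1038,896,919] .nil .nil)))))) (.node [59,16,7,42,7,59] (.node [] (.node [] (.node [] (.node [] (.node [] .nil (.node [1080,1077,972,1016,972,1080] .nil .nil)) (.node [618,595,407,474,407,618] .nil .nil)) (.node [190,333,413,231,413,190] .nil (.node [723,846,917,734,917,723] .nil .nil))) (.node [221,122,248,198,248,221] (.node [] .nil (.node [732,726,536,602,536,732] .nil .nil)) (.node [496,469,273,471,273,496] .nil (.node [998,876,1012,873,1012,998] .nil .nil)))) (.node [141,119,39,122,39,141] (.node [] (.node [] (.node [] .nil (.node [1131,1096,1066,1129,1066,1131] .nil .nil)) (.node [669,543,455,666,455,669] .nil .nil)) (.node [440,295,472,293,472,440] .nil (.node [773,904,742,805,742,773] .nil .nil))) (.node [163,265,347,173,347,163] (.node [] .nil (.node [664,672,860,668,860,664] .nil .nil)) (.node [554,535,330,538,330,554]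 .nil (.node [936,1022,897,1023,897,936] .nil .nil))))) (.node [29,81,22,82,22,29] (.node [] (.node [] (.node [] (.node [] .nil (.node [1046,1058,1020,1103,1020,1046] .nil .nil)) (.node [458,632,434,634,434,458] .nil .nil)) (.node [255,369,432,372,432,255] .nil (.node [904,773,693,879,693,904] .nil .nil))) (.node [114,231,102,233,102,114] (.node [] .nil (.node [579,753,825,636,825,579] .nil .nil)) (.node [348,503,594,379,594,348] .nil (.node [881,993,1035,907,1035,881] .nil .nil)))) (.node [182,154,204,90,204,182] (.node [] (.node [] (.node [] .nil (.node [1136,1142,1130,1150,1130,1136] .nil .nil)) (.node [520,692,502,570,502,520] .nil .nil)) (.node [293,325,518,440,518,293] .nil (.node [942,838,762,939,762,942] .nil .nil))) (.node [319,298,364,202,364,319] (.node [] .nil (.node [867,703,890,699,890,867] .nil .nil)) (.node [399,445,650,443,650,399] .nil (.node [1052,981,923,1051,923,1052] .nil .nil)))))))) (.node [13,10,0,11,0,13]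 (.node [] (.node [] (.node [] (.node [] (.node [] (.node [] (.node [] .nil (.node [970,996,1091,993,1091,970] .nil .nil)) (.node [632,458,378,582,378,632] .nil .nil)) (.node [210,312,373,315,373,210] .nil (.node [851,716,624,833,624,851] .nil .nil))) (.node [95,102,231,174,231,95] (.node [] .nil (.node [748,584,509,710,509,748] .nil .nil)) (.node [285,447,268,451,268,285] .nil (.node [833,948,1008,851,1008,833] .nil .nil)))) (.node [106,92,27,94,27,106] (.node [] (.node [] (.node [] .nil (.node [1123,1112,1032,1113,1032,1123] .nil .nil)) (.node [694,644,727,518,727,694] .nil .nil)) (.node [236,279,453,383,453,236] .nil (.node [897,890,703,891,703,897] .nil .nil))) (.node [271,157,302,154,302,271] (.node [] .nil (.node [804,647,840,646,840,804] .nil .nil)) (.node [573,397,591,393,591,573] .nil (.node [1038,1005,1048,919,1048,1038] .nil .nil))))) (.node [17,24,87,57,87,17] (.node [] (.node [] (.node [] (.node [] .nil (.node [1011,1085,989,1033,989,1011]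 .nil .nil)) (.node [483,607,683,487,683,483] .nil .nil)) (.node [379,246,178,348,178,379] .nil (.node [712,855,915,750,915,712] .nil .nil))) (.node [216,206,91,130,91,216] (.node [] .nil (.node [598,738,818,615,818,598] .nil .nil)) (.node [488,478,300,363,300,488] .nil (.node [989,976,823,886,823,989] .nil .nil)))) (.node [72,134,186,74,186,72] (.node [] (.node [] (.node [] .nil (.node [1142,1136,1086,1137,1086,1142] .nil .nil)) (.node [534,555,765,552,765,534] .nil .nil)) (.node [429,304,480,302,480,429] .nil (.node [962,919,739,921,739,962] .nil .nil))) (.node [147,187,335,281,335,147] (.node [] .nil (.node [656,797,858,683,858,656] .nil .nil)) (.node [420,547,636,423,636,420] .nil (.node [922,960,1069,957,1069,922] .nil .nil)))))) (.node [12,36,58,37,58,12] (.node [] (.node [] (.node [] (.node [] (.node [] .nil (.node [1082,1013,952,1075,952,1082] .nil .nil)) (.node [614,475,664,472,664,614] .nil .nil)) (.node [194,327,391,229,391,194]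 .nil (.node [728,842,907,731,907,728] .nil .nil))) (.node [233,188,242,114,242,233] (.node [] .nil (.node [736,720,531,600,531,736] .nil .nil)) (.node [500,464,274,467,274,500] .nil (.node [1001,871,811,965,811,1001] .nil .nil)))) (.node [143,64,164,62,164,143] (.node [] (.node [] (.node [] .nil (.node [1068,1124,1059,1090,1059,1068] .nil .nil)) (.node [678,658,723,535,723,678] .nil .nil)) (.node [443,292,462,399,462,443] .nil (.node [777,900,955,802,955,777] .nil .nil))) (.node [164,172,318,264,318,164] (.node [] .nil (.node [788,666,597,663,597,788] .nil .nil)) (.node [559,530,331,532,331,559] .nil (.node [1020,939,879,938,879,1020] .nil .nil))))) (.node [34,75,114,35,114,34] (.node [] (.node [] (.node [] (.node [] .nil (.node [1051,1053,1120,1052,1120,1051] .nil .nil)) (.node [467,623,691,500,691,467] .nil .nil)) (.node [257,259,436,366,436,257] .nil (.node [912,766,938,764,938,912] .nil .nil))) (.node [122,221,285,141,285,122]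 (.node [] .nil (.node [582,751,835,632,835,582] .nil .nil)) (.node [352,498,578,376,578,352] .nil (.node [877,908,845,995,845,877] .nil .nil)))) (.node [178,91,206,89,206,178] (.node [] (.node [] (.node [] .nil (.node [1126,1146,1119,1147,1119,1126] .nil .nil)) (.node [522,690,494,691,494,522] .nil .nil)) (.node [297,320,510,435,510,297] .nil (.node [946,933,749,934,749,946] .nil .nil))) (.node [324,294,142,296,142,324] (.node [] .nil (.node [642,810,628,697,628,642] .nil .nil)) (.node [408,561,634,437,634,408] .nil (.node [1059,1045,929,974,929,1059] .nil .nil))))))) (.node [4,8,43,25,43,4] (.node [] (.node [] (.node [] (.node [] (.node [] (.node [] .nil (.node [966,1066,1096,1002,1096,966] .nil .nil)) (.node [626,587,667,464,667,626] .nil .nil)) (.node [197,225,388,322,388,197] .nil (.node [848,837,659,721,659,848] .nil .nil))) (.node [91,178,246,107,246,91] (.node [] .nil (.node [740,594,503,718,503,740] .nil .nil)) (.node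 [514,453,279,339,279,514] .nil (.node [820,863,791,959,791,820] .nil .nil)))) (.node [50,103,146,53,146,50] (.node [] (.node [] (.node [] .nil (.node [1074,1083,1052,1119,1052,1074] .nil .nil)) (.node [689,649,459,527,459,689] .nil .nil)) (.node [235,388,225,391,225,235] .nil (.node [780,794,961,791,961,780] .nil .nil))) (.node [263,166,118,252,118,263] (.node [] .nil (.node [798,778,839,654,839,798] .nil .nil)) (.node [561,408,342,524,342,561] .nil (.node [1027,932,852,1014,852,1027] .nil .nil))))) (.node [80,65,15,66,15,80] (.node [] (.node [] (.node [] (.node [] .nil (.node [1108,1093,1115,1040,1115,1108] .nil .nil)) (.node [469,496,423,621,423,469] .nil .nil)) (.node [368,256,198,358,198,368] .nil (.node [703,867,936,754,936,703] .nil .nil))) (.node [126,135,290,134,290,126] (.node [] .nil (.node [587,626,832,623,832,587] .nil .nil)) (.node [359,490,577,369,577,359] .nil (.node [890,897,1022,984,1022,890] .nil .nil)))) (.node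 [63,144,53,145,53,63] (.node [] (.node [] (.node [] .nil (.node [1113,1140,1103,1123,1103,1113] .nil .nil)) (.node [532,680,747,559,747,532] .nil .nil)) (.node [308,424,507,310,507,308] .nil (.node [951,829,741,929,741,951] .nil .nil))) (.node [328,193,140,291,140,328] (.node [] .nil (.node [648,803,612,806,612,648] .nil .nil)) (.node [414,552,630,432,630,414] .nil (.node [1063,968,916,1041,916,1063] .nil .nil)))))) (.node [55,20,67,45,67,55] (.node [] (.node [] (.node [] (.node [] (.node [] .nil (.node [1015,1026,1109,1024,1109,1015] .nil .nil)) (.node [610,603,417,479,417,610] .nil .nil)) (.node [391,335,187,235,187,391] .nil (.node [718,850,924,740,924,718] .nil .nil))) (.node [225,197,88,121,88,225] (.node [] .nil (.node [603,610,813,607,813,603] .nil .nil)) (.node [494,472,295,355,295,494] .nil (.node [993,881,817,970,817,993] .nil .nil)))) (.node [139,123,44,70,44,139] (.node [] (.node [] (.node [] .nil (.node [1098,1103,1140,1101,1140,1098]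 .nil .nil)) (.node [673,663,466,543,466,673] .nil .nil)) (.node [436,299,219,407,219,436] .nil (.node [767,911,732,914,732,767] .nil .nil))) (.node [155,181,137,273,137,155] (.node [] .nil (.node [660,674,609,794,609,660] .nil .nil)) (.node [545,422,349,540,349,545] .nil (.node [931,949,1067,947,1067,931] .nil .nil))))) (.node [109,44,123,86,123,109] (.node [] (.node [] (.node [] (.node [] .nil (.node [1044,1105,1126,1060,1126,1044] .nil .nil)) (.node [455,512,721,508,721,455] .nil .nil)) (.node [249,267,214,377,214,249] .nil (.node [908,877,687,882,687,908] .nil .nil))) (.node [282,234,305,148,305,282] (.node [] .nil (.node [813,640,551,763,551,813] .nil .nil)) (.node [335,391,327,511,327,335] .nil (.node [874,913,1043,909,1043,874] .nil .nil)))) (.node [174,96,208,95,208,174] (.node [] (.node [] (.node [] .nil (.node [1144,1151,1141,1146,1141,1144] .nil .nil)) (.node [754,578,498,703,498,754] .nil .nil)) (.node [287,332,508,444,508,287]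 .nil (.node [841,940,991,843,991,841] .nil .nil))) (.node [313,209,165,208,165,313] (.node [] .nil (.node [861,822,891,706,891,861] .nil .nil)) (.node [394,450,374,575,374,394] .nil (.node [980,986,942,1053,942,980] .nil .nil)))))))))) (.node [7,0,10,5,10,7] (.node [] (.node [] (.node [] (.node [] (.node [] (.node [] (.node [] (.node [] (.node [] .nil (.node [977,1055,943,1056,943,977] .nil .nil)) (.node [397,573,653,448,653,397] .nil .nil)) (.node [310,211,160,308,160,310] .nil (.node [864,819,643,707,643,864] .nil .nil))) (.node [171,165,209,98,209,171] (.node [] .nil (.node [757,701,777,576,777,757] .nil .nil)) (.node [290,329,260,445,260,290] .nil (.node [838,942,986,943,986,838] .nil .nil)))) (.node [107,46,25,91,25,107] (.node [] (.node [] (.node [] .nil (.node [1042,1107,1028,1065,1028,1042] .nil .nil)) (.node [696,639,430,643,430,696] .nil .nil)) (.node [243,274,464,269,464,243] .nil (.node [902,884,937,774,937,902] .nil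 .nil))) (.node [277,238,108,242,108,277] (.node [] .nil (.node [816,760,824,640,824,816] .nil .nil)) (.node [338,511,600,388,600,338] .nil (.node [869,917,846,1003,846,869] .nil .nil))))) (.node [53,48,11,50,11,53] (.node [] (.node [] (.node [] (.node [] .nil (.node [1012,1028,1107,1081,1107,1012] .nil .nil)) (.node [478,488,685,608,685,478] .nil .nil)) (.node [384,240,419,237,419,384] .nil (.node [715,852,932,744,932,715] .nil .nil))) (.node [220,202,84,204,84,220] (.node [] .nil (.node [606,729,802,611,802,606] .nil .nil)) (.node [491,477,542,357,542,491] .nil (.node [996,970,1014,878,1014,996] .nil .nil)))) (.node [136,125,42,127,42,136] (.node [] (.node [] (.node [] .nil (.node [1096,1131,1084,1106,1084,1096] .nil .nil)) (.node [541,548,734,672,734,541] .nil .nil)) (.node [433,301,227,411,227,433] .nil (.node [760,816,964,916,964,760] .nil .nil))) (.node [158,270,334,181,334,158] (.node [] .nil (.node [657,679,856,796,856,657]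 .nil .nil)) (.node [548,541,338,544,338,548] .nil (.node [926,954,1063,1030,1063,926] .nil .nil)))))) (.node [38,11,48,28,48,38] (.node [] (.node [] (.node [] (.node [] (.node [] .nil (.node [1088,1007,1098,1006,1098,1088] .nil .nil)) (.node [619,471,404,592,404,619] .nil .nil)) (.node [200,322,410,222,410,200] .nil (.node [843,727,644,841,644,843] .nil .nil))) (.node [88,183,235,110,235,88] (.node [] .nil (.node [737,599,521,719,521,737] .nil .nil)) (.node [503,348,539,345,539,503] .nil (.node [823,958,1011,860,1011,823] .nil .nil)))) (.node [43,58,36,111,36,43] (.node [] (.node [] (.node [] .nil (.node [1071,1086,1136,1085,1136,1071] .nil .nil)) (.node [682,655,728,530,728,682] .nil .nil)) (.node [448,284,215,397,215,448] .nil (.node [783,895,953,793,953,783] .nil .nil))) (.node [261,254,129,167,129,261] (.node [] .nil (.node [792,661,574,782,574,792] .nil .nil)) (.node [564,525,319,528,319,564] .nil (.node [1025,1016,861,1017,861,1025]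 .nil .nil))))) (.node [77,68,99,32,99,77] (.node [] (.node [] (.node [] (.node [] .nil (.node [1101,1048,1005,1098,1005,1101] .nil .nil)) (.node [462,502,692,624,692,462] .nil .nil)) (.node [371,357,190,360,190,371] .nil (.node [916,763,926,760,926,916] .nil .nil))) (.node [124,219,299,137,299,124] (.node [] .nil (.node [590,743,809,627,809,590] .nil .nil)) (.node [353,373,312,497,312,353] .nil (.node [888,985,1033,899,1033,888] .nil .nil)))) (.node [185,85,55,149,55,185] (.node [] (.node [] (.node [] .nil (.node [1147,1143,1108,1126,1108,1147] .nil .nil)) (.node [525,564,484,687,484,525] .nil .nil)) (.node [303,314,492,430,492,303] .nil (.node [954,926,763,829,763,954] .nil .nil))) (.node [331,288,360,192,360,331] (.node [] .nil (.node [637,698,872,812,872,637] .nil .nil)) (.node [411,557,648,433,648,411] .nil (.node [1060,973,905,1044,905,1060] .nil .nil))))))) (.node [25,5,32,4,32,25] (.node [] (.node [] (.node [] (.node []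 (.node [] (.node [] .nil (.node [973,1060,945,1062,945,973] .nil .nil)) (.node [629,461,657,460,657,629] .nil .nil)) (.node [205,218,402,217,402,205] .nil (.node [854,831,641,716,641,854] .nil .nil))) (.node [92,106,222,177,222,92] (.node [] .nil (.node [743,590,517,714,517,743] .nil .nil)) (.node [509,341,523,454,523,509] .nil (.node [827,857,1009,855,1009,827] .nil .nil)))) (.node [100,98,31,99,31,100] (.node [] (.node [] (.node [] .nil (.node [1117,1076,1037,1116,1037,1117] .nil .nil)) (.node [684,528,460,651,460,684] .nil .nil)) (.node [239,385,213,387,213,239] .nil (.node [894,892,715,785,715,894] .nil .nil))) (.node [274,243,306,156,306,274] (.node [] .nil (.node [799,653,573,775,573,799] .nil .nil)) (.node [569,400,316,519,316,569] .nil (.node [1029,930,866,1010,866,1029] .nil .nil))))) (.node [83,27,92,61,92,83] (.node [] (.node [] (.node [] (.node [] .nil (.node [1008,1087,987,1089,987,1008] .nil .nil)) (.node [473,493,428,616,428,473]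 .nil .nil)) (.node [374,251,196,349,196,374] .nil (.node [708,859,689,752,689,708] .nil .nil))) (.node [131,212,272,213,272,131] (.node [] .nil (.node [592,621,820,619,820,592] .nil .nil)) (.node [363,485,554,488,554,363] .nil (.node [987,979,833,887,833,987] .nil .nil)))) (.node [69,138,199,76,199,69] (.node [] (.node [] (.node [] .nil (.node [1139,1115,1093,1114,1093,1139] .nil .nil)) (.node [537,676,487,679,487,537] .nil .nil)) (.node [423,309,244,420,244,423] .nil (.node [957,824,760,922,760,957] .nil .nil))) (.node [150,280,340,186,340,150] (.node [] .nil (.node [651,687,877,684,877,651] .nil .nil)) (.node [415,431,620,551,620,415] .nil (.node [918,963,909,1037,909,918] .nil .nil)))))) (.node [9,15,65,14,65,9] (.node [] (.node [] (.node [] (.node [] (.node [] .nil (.node [1079,1017,965,1077,965,1079] .nil .nil)) (.node [617,596,386,599,386,617] .nil .nil)) (.node [189,232,412,230,412,189] .nil (.node [722,847,671,849,671,722]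 .nil .nil))) (.node [229,191,82,194,82,229] (.node [] .nil (.node [731,604,515,728,515,731] .nil .nil)) (.node [495,354,293,468,293,495] .nil (.node [1004,964,816,870,816,1004] .nil .nil)))) (.node [140,66,162,118,162,140] (.node [] (.node [] (.node [] .nil (.node [1134,1127,1064,1094,1064,1134] .nil .nil)) (.node [668,544,468,664,468,668] .nil .nil)) (.node [439,296,236,401,236,439] .nil (.node [772,905,973,803,973,772] .nil .nil))) (.node [162,175,328,265,328,162] (.node [] .nil (.node [663,673,851,788,851,663] .nil .nil)) (.node [553,413,333,536,333,553] .nil (.node [935,945,1060,1021,1060,935] .nil .nil))))) (.node [28,39,119,38,119,28] (.node [] (.node [] (.node [] (.node [] .nil (.node [1045,1059,1124,1057,1124,1045] .nil .nil)) (.node [457,507,424,633,424,457] .nil .nil)) (.node [254,261,448,260,448,254] .nil (.node [915,872,698,768,698,915] .nil .nil))) (.node [113,146,103,232,103,113] (.node [] .nil (.node [578,754,560,758,560,578]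 .nil .nil)) (.node [347,504,311,505,311,347] .nil (.node [880,994,849,997,849,880] .nil .nil)))) (.node [181,155,60,158,60,181] (.node [] (.node [] (.node [] .nil (.node [1138,1141,1151,1140,1151,1138] .nil .nil)) (.node [519,693,773,569,773,519] .nil .nil)) (.node [300,435,527,318,527,300] .nil (.node [941,839,778,836,778,941] .nil .nil))) (.node [318,203,143,300,143,318] (.node [] .nil (.node [866,704,883,700,883,866] .nil .nil)) (.node [403,567,642,441,642,403] .nil (.node [1056,1049,920,977,920,1056] .nil .nil)))))))) (.node [15,9,21,1,21,15] (.node [] (.node [] (.node [] (.node [] (.node [] (.node [] (.node [] .nil (.node [969,997,947,1061,947,969] .nil .nil)) (.node [631,459,649,581,649,631] .nil .nil)) (.node [209,313,389,212,389,209] .nil (.node [858,826,633,711,633,858] .nil .nil))) (.node [99,170,228,100,228,99] (.node [] .nil (.node [752,706,501,708,501,752] .nil .nil)) (.node [284,448,261,452,261,284] .nil (.node [832,853,787,949,787,832]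 .nil .nil)))) (.node [105,93,131,48,131,105] (.node [] (.node [] (.node [] .nil (.node [1122,1070,1129,1069,1129,1122] .nil .nil)) (.node [693,519,717,517,717,693] .nil .nil)) (.node [247,378,458,272,458,247] .nil (.node [896,782,719,779,719,896] .nil .nil))) (.node [270,158,116,244,116,270] (.node [] .nil (.node [803,648,557,772,557,803] .nil .nil)) (.node [572,398,326,515,326,572] .nil (.node [1037,920,1049,918,1049,1037] .nil .nil))))) (.node [20,55,85,22,85,20] (.node [] (.node [] (.node [] (.node [] .nil (.node [1010,1032,1112,1029,1112,1010] .nil .nil)) (.node [482,608,696,485,696,482] .nil .nil)) (.node [378,247,409,346,409,378] .nil (.node [711,856,679,858,679,711] .nil .nil))) (.node [215,129,254,128,254,215] (.node [] .nil (.node [597,616,821,613,821,597] .nil .nil)) (.node [487,479,291,483,291,487] .nil (.node [988,886,804,978,804,988] .nil .nil)))) (.node [71,74,179,135,179,71] (.node [] (.node [] (.node [] .nil (.node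 [1092,1135,1144,1109,1144,1092] .nil .nil)) (.node [533,556,744,677,744,533] .nil .nil)) (.node [428,305,234,417,234,428] .nil (.node [961,818,738,920,738,961] .nil .nil))) (.node [153,275,139,278,139,153] (.node [] .nil (.node [655,682,878,680,878,655] .nil .nil)) (.node [419,425,615,549,615,419] .nil (.node [930,1029,903,953,903,930] .nil .nil)))))) (.node [35,32,5,34,5,35] (.node [] (.node [] (.node [] (.node [] (.node [] .nil (.node [1081,1014,970,1012,970,1081] .nil .nil)) (.node [613,476,399,597,399,613] .nil .nil)) (.node [193,328,175,332,175,193] .nil (.node [727,843,899,844,899,727] .nil .nil))) (.node [232,189,255,113,255,232] (.node [] .nil (.node [735,721,512,724,512,735] .nil .nil)) (.node [499,351,271,466,271,499] .nil (.node [818,961,794,963,794,818] .nil .nil)))) (.node [146,113,37,115,37,146] (.node [] (.node [] (.node [] .nil (.node [1067,1090,1054,1125,1054,1067] .nil .nil)) (.node [677,536,726,533,726,677]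 .nil .nil)) (.node [452,393,467,284,467,452] .nil (.node [776,901,733,903,733,776] .nil .nil))) (.node [168,260,329,169,329,168] (.node [] .nil (.node [787,667,587,784,587,787] .nil .nil)) (.node [558,410,322,531,322,558] .nil (.node [1023,1018,875,936,875,1023] .nil .nil))))) (.node [33,76,110,78,110,33] (.node [] (.node [] (.node [] (.node [] .nil (.node [1100,1050,1010,1049,1010,1100] .nil .nil)) (.node [466,624,716,499,716,466] .nil .nil)) (.node [367,361,200,364,200,367] .nil (.node [911,767,677,876,677,911] .nil .nil))) (.node [121,222,106,225,106,121] (.node [] .nil (.node [581,633,826,631,826,581] .nil .nil)) (.node [351,499,315,502,315,351] .nil (.node [885,990,1039,901,1039,885] .nil .nil)))) (.node [184,151,210,87,210,184] (.node [] (.node [] (.node [] .nil (.node [1128,1145,1150,1133,1150,1128] .nil .nil)) (.node [521,568,771,567,771,521] .nil .nil)) (.node [301,433,262,434,262,301] .nil (.node [949,931,978,832,978,949]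 .nil .nil))) (.node [323,199,138,295,138,323] (.node [] .nil (.node [641,812,882,695,882,641] .nil .nil)) (.node [407,562,645,436,645,407] .nil (.node [1058,1046,906,1048,906,1058] .nil .nil))))))) (.node [6,23,40,24,40,6] (.node [] (.node [] (.node [] (.node [] (.node [] (.node [] .nil (.node [965,1003,1097,1001,1097,965] .nil .nil)) (.node [625,465,375,588,375,625] .nil .nil)) (.node [196,226,394,321,394,196] .nil (.node [847,722,635,839,635,847] .nil .nil))) (.node [90,179,74,182,74,90] (.node [] .nil (.node [747,713,513,589,513,747] .nil .nil)) (.node [513,454,532,337,532,513] .nil (.node [819,864,1001,958,1001,819] .nil .nil)))) (.node [49,104,152,52,152,49] (.node [] (.node [] (.node [] .nil (.node [1073,1084,1131,1118,1131,1073] .nil .nil)) (.node [688,650,445,653,445,688] .nil .nil)) (.node [234,282,473,280,473,234] .nil (.node [779,795,950,896,950,779] .nil .nil))) (.node [265,163,307,162,307,265] (.node [] .nil (.node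 [797,656,581,778,581,797] .nil .nil)) (.node [568,521,599,402,599,568] .nil (.node [1033,1009,857,1011,857,1033] .nil .nil))))) (.node [79,31,98,30,98,79] (.node [] (.node [] (.node [] (.node [] .nil (.node [1107,1042,998,1093,998,1107] .nil .nil)) (.node [468,497,709,495,709,468] .nil .nil)) (.node [373,353,184,354,184,373] .nil (.node [702,756,670,868,670,702] .nil .nil))) (.node [125,136,266,218,266,125] (.node [] .nil (.node [586,627,545,746,545,586] .nil .nil)) (.node [358,370,576,368,576,358] .nil (.node [889,898,1034,895,1034,889] .nil .nil)))) (.node [62,82,191,143,191,62] (.node [] (.node [] (.node [] .nil (.node [1112,1123,1100,1141,1100,1112] .nil .nil)) (.node [531,681,768,558,768,531] .nil .nil)) (.node [307,311,504,424,504,307] .nil (.node [950,830,745,928,745,950] .nil .nil))) (.node [327,194,147,289,147,327] (.node [] .nil (.node [647,804,886,690,886,647] .nil .nil)) (.node [413,553,371,556,371,413] .nil (.node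 [1066,966,1073,964,1073,1066] .nil .nil)))))) (.node [58,43,8,44,8,58] (.node [] (.node [] (.node [] (.node [] (.node [] .nil (.node [1019,1078,1106,1022,1106,1019] .nil .nil)) (.node [609,481,395,605,395,609] .nil .nil)) (.node [390,336,182,340,182,390] .nil (.node [717,742,904,850,904,717] .nil .nil))) (.node [224,198,256,119,256,224] (.node [] .nil (.node [602,611,792,732,792,602] .nil .nil)) (.node [493,473,282,476,282,493] .nil (.node [992,882,812,971,812,992] .nil .nil)))) (.node [138,69,167,67,167,138] (.node [] (.node [] (.node [] .nil (.node [1097,1104,1079,1130,1079,1097] .nil .nil)) (.node [672,664,475,541,475,672] .nil .nil)) (.node [435,300,478,297,478,435] .nil (.node [766,912,977,807,977,766] .nil .nil))) (.node [154,182,336,271,336,154] (.node [] .nil (.node [667,787,853,671,853,667] .nil .nil)) (.node [551,417,603,415,603,551] .nil (.node [934,1024,1062,946,1062,934] .nil .nil))))) (.node [112,42,125,41,125,112]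 (.node [] (.node [] (.node [] (.node [] .nil (.node [1043,1062,1024,1105,1024,1043] .nil .nil)) (.node [454,513,713,509,713,454] .nil .nil)) (.node [248,268,447,375,447,248] .nil (.node [907,878,682,881,682,907] .nil .nil))) (.node [281,149,303,147,303,281] (.node [] .nil (.node [812,641,831,637,831,812] .nil .nil)) (.node [344,506,589,385,589,344] .nil (.node [873,914,1036,998,1036,873] .nil .nil)))) (.node [173,97,61,163,61,173] (.node [] (.node [] (.node [] .nil (.node [1143,1147,1139,1151,1139,1143] .nil .nil)) (.node [753,579,770,701,770,753] .nil .nil)) (.node [296,439,514,324,514,296] .nil (.node [840,844,988,940,988,840] .nil .nil))) (.node [312,210,151,304,151,312] (.node [] .nil (.node [860,707,614,823,614,860] .nil .nil)) (.node [393,452,646,573,646,393] .nil (.node [979,987,1087,985,1087,979] .nil .nil))))))))) (.node [0,7,16,8,16,0] (.node [] (.node [] (.node [] (.node [] (.node [] (.node [] (.node [] (.node [] .nil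 (.node [974,991,940,1059,940,974] .nil .nil)) (.node [635,456,665,453,665,635] .nil .nil)) (.node [211,310,376,311,376,211] .nil (.node [856,711,629,828,629,856] .nil .nil))) (.node [169,167,69,168,69,169] (.node [] .nil (.node [759,700,769,577,769,759] .nil .nil)) (.node [292,443,520,329,520,292] .nil (.node [835,944,789,945,789,835] .nil .nil)))) (.node [103,50,30,93,30,103] (.node [] (.node [] (.node [] .nil (.node [1124,1068,1030,1111,1030,1124] .nil .nil)) (.node [698,637,712,516,712,698] .nil .nil)) (.node [245,272,212,380,212,245] .nil (.node [899,887,694,888,694,899] .nil .nil))) (.node [279,236,296,152,296,279] (.node [] .nil (.node [808,765,555,769,555,808] .nil .nil)) (.node [340,508,332,390,332,340] .nil (.node [871,1001,864,917,864,871] .nil .nil))))) (.node [21,52,80,54,80,21] (.node [] (.node [] (.node [] (.node [] .nil (.node [1014,1081,1110,1027,1110,1014] .nil .nil)) (.node [480,486,695,484,695,480] .nil .nil))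 (.node [386,343,421,238,421,386] .nil (.node [709,750,668,857,668,709] .nil .nil))) (.node [218,205,258,125,258,218] (.node [] .nil (.node [595,618,807,738,807,595] .nil .nil)) (.node [485,363,289,482,289,485] .nil (.node [990,885,1015,883,1015,990] .nil .nil)))) (.node [133,128,49,73,49,133] (.node [] (.node [] (.node [] .nil (.node [1094,1133,1080,1134,1080,1094] .nil .nil)) (.node [543,669,735,673,735,543] .nil .nil)) (.node [432,412,232,414,232,432] .nil (.node [762,814,980,810,980,762] .nil .nil))) (.node [151,184,353,183,353,151] (.node [] .nil (.node [659,796,870,676,870,659] .nil .nil)) (.node [550,539,348,421,348,550] .nil (.node [928,1031,1072,950,1072,928] .nil .nil)))))) (.node [36,12,4,31,4,36] (.node [] (.node [] (.node [] (.node [] (.node [] .nil (.node [1085,1011,958,1071,958,1085] .nil .nil)) (.node [621,592,662,469,662,621] .nil .nil)) (.node [191,229,176,330,176,191] .nil (.node [725,733,901,842,901,725] .nil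 .nil))) (.node [230,115,237,189,237,230] (.node [] .nil (.node [739,719,782,596,782,739] .nil .nil)) (.node [505,460,528,347,528,505] .nil (.node [825,956,806,863,806,825] .nil .nil)))) (.node [41,60,155,112,155,41] (.node [] (.node [] (.node [] .nil (.node [1069,1089,1057,1122,1057,1069] .nil .nil)) (.node [675,538,463,658,463,675] .nil .nil)) (.node [450,394,226,398,226,450] .nil (.node [774,802,729,902,729,774] .nil .nil))) (.node [259,257,124,258,124,259] (.node [] .nil (.node [794,780,598,660,598,794] .nil .nil)) (.node [566,523,341,406,341,566] .nil (.node [1021,937,884,935,884,1021] .nil .nil))))) (.node [74,71,18,72,18,74] (.node [] (.node [] (.node [] (.node [] .nil (.node [1103,1098,1007,1046,1007,1103] .nil .nil)) (.node [464,500,427,626,427,464] .nil .nil)) (.node [365,258,205,362,205,365] .nil (.node [909,769,700,874,700,909] .nil .nil))) (.node [119,141,101,224,101,119] (.node [] .nil (.node [584,748,566,630,566,584]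 .nil .nil)) (.node [349,377,586,374,586,349] .nil (.node [883,903,1029,990,1029,883] .nil .nil)))) (.node [187,147,194,85,194,187] (.node [] (.node [] (.node [] .nil (.node [1129,1132,1149,1131,1149,1129] .nil .nil)) (.node [527,685,488,689,488,527] .nil .nil)) (.node [305,428,493,431,493,305] .nil (.node [947,834,761,931,761,947] .nil .nil))) (.node [321,201,356,196,356,321] (.node [] .nil (.node [639,696,608,815,608,639] .nil .nil)) (.node [405,437,368,565,368,405] .nil (.node [1062,1043,913,973,913,1062] .nil .nil))))))) (.node [24,17,33,6,33,24] (.node [] (.node [] (.node [] (.node [] (.node [] (.node [] .nil (.node [968,1063,954,1000,954,968] .nil .nil)) (.node [623,467,393,587,393,623] .nil .nil)) (.node [203,318,172,320,172,203] .nil (.node [845,724,651,837,651,845] .nil .nil))) (.node [94,176,229,106,229,94] (.node [] .nil (.node [745,588,779,585,779,745] .nil .nil)) (.node [511,338,541,335,541,511] .nil (.node [829,951,790,954,790,829]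 .nil .nil)))) (.node [47,54,148,104,148,47] (.node [] (.node [] (.node [] .nil (.node [1119,1116,1044,1074,1044,1119] .nil .nil)) (.node [686,526,725,523,725,686] .nil .nil)) (.node [241,383,470,276,470,241] .nil (.node [785,789,944,894,944,785] .nil .nil))) (.node [267,249,111,251,111,267] (.node [] .nil (.node [801,775,841,650,841,801] .nil .nil)) (.node [571,517,590,400,590,571] .nil (.node [1031,928,1051,925,1051,1031] .nil .nil))))) (.node [81,29,14,64,14,81] (.node [] (.node [] (.node [] (.node [] .nil (.node [1109,1039,990,1092,990,1109] .nil .nil)) (.node [475,614,707,492,707,475] .nil .nil)) (.node [376,350,177,352,177,376] .nil (.node [700,759,918,866,918,700] .nil .nil))) (.node [129,215,284,132,284,129] (.node [] .nil (.node [594,740,550,742,550,594] .nil .nil)) (.node [356,372,563,490,563,356] .nil (.node [984,982,828,890,828,984] .nil .nil)))) (.node [65,80,52,142,52,65] (.node [] (.node [] (.node [] .nil (.node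 [1114,1121,1101,1139,1101,1114] .nil .nil)) (.node [529,560,754,681,754,529] .nil .nil)) (.node [425,419,240,422,240,425] .nil (.node [959,923,981,820,981,959] .nil .nil))) (.node [334,283,145,286,145,334] (.node [] .nil (.node [653,799,622,688,622,653] .nil .nil)) (.node [417,551,640,428,640,417] .nil (.node [920,1037,1076,961,1076,920] .nil .nil)))))) (.node [60,41,70,16,70,60] (.node [] (.node [] (.node [] (.node [] (.node [] .nil (.node [1078,1019,971,1018,971,1078] .nil .nil)) (.node [607,483,401,603,401,607] .nil .nil)) (.node [388,235,183,338,183,388] .nil (.node [724,845,908,735,908,724] .nil .nil))) (.node [222,121,83,200,83,222] (.node [] .nil (.node [733,725,526,604,526,733] .nil .nil)) (.node [497,468,544,353,544,497] .nil (.node [999,875,1018,872,1018,999] .nil .nil)))) (.node [142,118,166,65,166,142] (.node [] (.node [] (.node [] .nil (.node [1132,1129,1070,1095,1070,1132] .nil .nil)) (.node [670,542,477,539,477,670]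 .nil .nil)) (.node [441,402,218,403,218,441] .nil (.node [764,809,743,912,743,764] .nil .nil))) (.node [160,177,350,176,350,160] (.node [] .nil (.node [665,671,847,790,847,665] .nil .nil)) (.node [555,534,605,412,605,555] .nil (.node [937,1021,1065,944,1065,937] .nil .nil))))) (.node [26,40,23,84,23,26] (.node [] (.node [] (.node [] (.node [] .nil (.node [1047,1102,1023,1104,1023,1047] .nil .nil)) (.node [459,631,708,507,708,459] .nil .nil)) (.node [256,368,437,262,437,256] .nil (.node [905,772,935,770,935,905] .nil .nil))) (.node [115,230,286,146,286,115] (.node [] .nil (.node [810,642,567,762,567,810] .nil .nil)) (.node [342,387,580,506,580,342] .nil (.node [882,992,854,908,854,882] .nil .nil)))) (.node [176,94,62,160,62,176] (.node [] (.node [] (.node [] .nil (.node [1137,1149,1132,1142,1132,1137] .nil .nil)) (.node [515,575,781,572,781,515] .nil .nil)) (.node [294,324,263,442,263,294] .nil (.node [943,938,766,838,766,943]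 .nil .nil))) (.node [320,297,159,203,159,320] (.node [] .nil (.node [868,817,881,702,881,868] .nil .nil)) (.node [400,569,366,571,366,400] .nil (.node [1053,1051,928,980,928,1053] .nil .nil)))))))) (.node [1,3,26,15,26,1] (.node [] (.node [] (.node [] (.node [] (.node [] (.node [] (.node [] .nil (.node [971,995,1095,992,1095,971] .nil .nil)) (.node [633,581,656,457,656,633] .nil .nil)) (.node [206,216,379,316,379,206] .nil (.node [852,715,892,713,892,852] .nil .nil))) (.node [96,174,239,101,239,96] (.node [] .nil (.node [749,710,786,583,786,749] .nil .nil)) (.node [286,446,278,334,278,286] .nil (.node [834,947,997,853,997,834] .nil .nil)))) (.node [101,51,28,96,28,101] (.node [] (.node [] (.node [] .nil (.node [1120,1072,1031,1115,1031,1120] .nil .nil)) (.node [690,522,440,647,440,690] .nil .nil)) (.node [237,278,446,384,446,237] .nil (.node [898,889,718,781,718,898] .nil .nil))) (.node [272,245,105,247,105,272] (.node [] .nil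 (.node [805,771,568,773,568,805] .nil .nil)) (.node [574,396,602,392,602,574] .nil (.node [1034,924,850,1007,850,1034] .nil .nil))))) (.node [18,57,90,23,90,18] (.node [] (.node [] (.node [] (.node [] .nil (.node [1006,1035,993,1088,993,1006] .nil .nil)) (.node [477,491,702,489,702,477] .nil .nil)) (.node [380,346,414,245,414,380] .nil (.node [706,752,675,861,675,706] .nil .nil))) (.node [212,131,93,209,93,212] (.node [] .nil (.node [599,737,805,617,805,599] .nil .nil)) (.node [361,367,558,486,558,361] .nil (.node [985,888,827,979,827,985] .nil .nil)))) (.node [67,78,185,138,185,67] (.node [] (.node [] (.node [] .nil (.node [1140,1113,1088,1138,1088,1140] .nil .nil)) (.node [535,554,485,678,485,535] .nil .nil)) (.node [430,416,482,303,482,430] .nil (.node [963,918,759,818,759,963] .nil .nil))) (.node [148,186,134,282,134,148] (.node [] .nil (.node [649,689,859,800,859,649] .nil .nil)) (.node [421,546,617,550,617,421] .nil (.node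 [923,959,1074,956,1074,923] .nil .nil)))))) (.node [10,13,59,39,59,10] (.node [] (.node [] (.node [] (.node [] (.node [] .nil (.node [1083,1074,959,1076,959,1083] .nil .nil)) (.node [615,474,384,598,384,615] .nil .nil)) (.node [195,326,398,228,398,195] .nil (.node [720,736,910,846,910,720] .nil .nil))) (.node [227,117,253,116,253,227] (.node [] .nil (.node [729,606,524,726,524,729] .nil .nil)) (.node [501,463,538,350,538,501] .nil (.node [1002,870,796,966,796,1002] .nil .nil)))) (.node [144,63,38,117,38,144] (.node [] (.node [] (.node [] .nil (.node [1135,1092,1138,1091,1138,1135] .nil .nil)) (.node [679,657,461,537,461,679] .nil .nil)) (.node [444,291,479,287,479,444] .nil (.node [770,806,956,905,956,770] .nil .nil))) (.node [165,171,337,170,337,165] (.node [] .nil (.node [789,785,582,786,582,789] .nil .nil)) (.node [560,529,352,410,352,560] .nil (.node [938,943,1055,1020,1055,938] .nil .nil))))) (.node [30,37,113,79,113,30]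 (.node [] (.node [] (.node [] (.node [] .nil (.node [1049,1056,1117,1100,1117,1049] .nil .nil)) (.node [460,505,699,629,699,460] .nil .nil)) (.node [258,365,441,259,441,258] .nil (.node [913,874,934,765,934,913] .nil .nil))) (.node [116,145,283,227,283,116] (.node [] .nil (.node [576,636,547,757,547,576] .nil .nil)) (.node [345,381,572,503,572,345] .nil (.node [878,907,842,996,842,878] .nil .nil)))) (.node [179,90,57,157,57,179] (.node [] (.node [] (.node [] .nil (.node [1149,1137,1122,1148,1122,1149] .nil .nil)) (.node [517,571,764,693,764,517] .nil .nil)) (.node [298,319,525,317,525,298] .nil (.node [944,835,751,937,751,944] .nil .nil))) (.node [325,293,354,199,354,325] (.node [] .nil (.node [643,811,871,696,871,643] .nil .nil)) (.node [401,442,654,439,654,401] .nil (.node [1054,978,931,976,931,1054] .nil .nil))))))) (.node [5,25,46,7,46,5] (.node [] (.node [] (.node [] (.node [] (.node [] (.node [] .nil (.node [1090,1067,949,1068,949,1090]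 .nil .nil)) (.node [627,586,377,590,377,627] .nil .nil)) (.node [198,224,405,221,405,198] .nil (.node [849,836,652,722,652,849] .nil .nil))) (.node [86,111,249,109,249,86] (.node [] .nil (.node [741,593,784,591,784,741] .nil .nil)) (.node [506,344,533,342,533,506] .nil (.node [821,862,788,960,788,821] .nil .nil)))) (.node [45,56,156,55,156,45] (.node [] (.node [] (.node [] .nil (.node [1075,1118,1134,1082,1134,1075] .nil .nil)) (.node [680,532,454,655,454,680] .nil .nil)) (.node [446,286,230,395,230,446] .nil (.node [781,793,731,898,731,781] .nil .nil))) (.node [264,252,308,164,308,264] (.node [] .nil (.node [796,659,837,657,837,796] .nil .nil)) (.node [562,407,595,404,595,562] .nil (.node [1028,1012,876,932,876,1028] .nil .nil))))) (.node [75,34,95,68,95,75] (.node [] (.node [] (.node [] (.node [] .nil (.node [1105,1044,1116,1043,1116,1105] .nil .nil)) (.node [470,620,431,622,431,470] .nil .nil)) (.node [369,255,189,359,189,369]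 .nil (.node [704,866,930,755,930,704] .nil .nil))) (.node [127,217,277,136,277,127] (.node [] .nil (.node [588,745,830,625,830,588] .nil .nil)) (.node [360,489,559,371,559,360] .nil (.node [891,983,1025,897,1025,891] .nil .nil)))) (.node [64,143,203,81,203,64] (.node [] (.node [] (.node [] .nil (.node [1111,1125,1148,1124,1148,1111] .nil .nil)) (.node [523,566,748,686,748,523] .nil .nil)) (.node [309,423,496,426,496,309] .nil (.node [952,828,982,826,982,952] .nil .nil))) (.node [329,290,135,292,135,329] (.node [] .nil (.node [644,694,887,692,887,644] .nil .nil)) (.node [409,434,632,557,632,409] .nil (.node [1064,1041,1075,967,1075,1064] .nil .nil)))))) (.node [56,45,73,19,73,56] (.node [] (.node [] (.node [] (.node [] (.node [] .nil (.node [1016,1025,983,1080,983,1016] .nil .nil)) (.node [611,602,396,606,396,611] .nil .nil)) (.node [382,242,188,343,188,382] .nil (.node [713,747,680,852,680,713] .nil .nil))) (.node [226,196,251,120,251,226]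 (.node [] .nil (.node [604,731,793,733,793,604] .nil .nil)) (.node [489,360,288,477,288,489] .nil (.node [994,880,800,972,800,994] .nil .nil)))) (.node [134,72,47,126,47,134] (.node [] (.node [] (.node [] .nil (.node [1099,1130,1142,1102,1142,1099] .nil .nil)) (.node [539,550,740,670,740,539] .nil .nil)) (.node [437,405,224,408,224,437] .nil (.node [768,910,736,915,736,768] .nil .nil))) (.node [156,180,132,274,132,156] (.node [] .nil (.node [661,792,611,795,611,661] .nil .nil)) (.node [546,421,343,542,343,546] .nil (.node [932,1027,894,1028,894,932] .nil .nil))))) (.node [110,87,24,88,24,110] (.node [] (.node [] (.node [] (.node [] .nil (.node [1040,1065,1021,1108,1021,1040] .nil .nil)) (.node [456,635,722,510,722,456] .nil .nil)) (.node [250,375,465,266,465,250] .nil (.node [900,777,701,884,701,900] .nil .nil))) (.node [275,153,109,240,109,275] (.node [] .nil (.node [814,762,838,638,838,814] .nil .nil)) (.node [336,390,317,512,317,336]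 .nil (.node [875,999,1047,910,1047,875] .nil .nil)))) (.node [175,162,66,97,66,175] (.node [] (.node [] (.node [] .nil (.node [1148,1150,1145,1149,1145,1148] .nil .nil)) (.node [755,577,490,704,490,755] .nil .nil)) (.node [288,331,530,326,530,288] .nil (.node [836,849,994,941,994,836] .nil .nil))) (.node [314,303,149,306,149,314] (.node [] .nil (.node [862,821,616,824,616,862] .nil .nil)) (.node [395,449,660,446,660,395] .nil (.node [981,1052,1083,986,1083,981] .nil .nil)))))))))))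
noncomputable def par : Trie (ℕ × ℕ) := (.node (0,1) (.node (0,0) (.node (0,0) (.node (0,0) (.node (0,0) (.node (0,0) (.node (0,0) (.node (0,0) (.node (0,0) (.node (0,0) (.node (0,0) .nil (.node (943,2) .nil .nil)) (.node (397,0) .nil .nil)) (.node (160,2) .nil (.node (643,2) .nil .nil))) (.node (98,3) (.node (0,0) .nil (.node (576,3) .nil .nil)) (.node (260,2) .nil (.node (838,0) .nil .nil)))) (.node (25,2) (.node (0,0) (.node (0,0) (.node (0,0) .nil (.node (1028,2) .nil .nil)) (.node (430,2) .nil .nil)) (.node (243,0) .nil (.node (774,3) .nil .nil))) (.node (108,2) (.node (0,0) .nil (.node (640,3) .nil .nil)) (.node (338,0) .nil (.node (846,2) .nil .nil))))) (.node (11,2) (.node (0,0) (.node (0,0) (.node (0,0) (.node (0,0) .nil (.node (1012,0) .nil .nil)) (.node (478,0) .nil .nil)) (.node (237,3) .nil (.node (715,0) .nil .nil))) (.node (84,2) (.node (0,0) .nil (.node (606,0) .nil .nil)) (.node (357,3) .nil (.node (878,3) .nil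 .nil)))) (.node (42,2) (.node (0,0) (.node (0,0) (.node (0,0) .nil (.node (1084,2) .nil .nil)) (.node (541,0) .nil .nil)) (.node (227,2) .nil (.node (760,0) .nil .nil))) (.node (158,0) (.node (0,0) .nil (.node (657,0) .nil .nil)) (.node (338,2) .nil (.node (926,0) .nil .nil)))))) (.node (11,1) (.node (0,0) (.node (0,0) (.node (0,0) (.node (0,0) (.node (0,0) .nil (.node (1006,3) .nil .nil)) (.node (404,2) .nil .nil)) (.node (200,0) .nil (.node (644,2) .nil .nil))) (.node (88,0) (.node (0,0) .nil (.node (521,2) .nil .nil)) (.node (345,3) .nil (.node (823,0) .nil .nil)))) (.node (36,2) (.node (0,0) (.node (0,0) (.node (0,0) .nil (.node (1071,0) .nil .nil)) (.node (530,3) .nil .nil)) (.node (215,2) .nil (.node (783,0) .nil .nil))) (.node (129,2) (.node (0,0) .nil (.node (574,2) .nil .nil)) (.node (319,2) .nil (.node (861,2) .nil .nil))))) (.node (32,3) (.node (0,0) (.node (0,0) (.node (0,0) (.node (0,0) .nil (.node (1005,2) .nil .nil))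 (.node (462,0) .nil .nil)) (.node (190,2) .nil (.node (760,3) .nil .nil))) (.node (124,0) (.node (0,0) .nil (.node (590,0) .nil .nil)) (.node (312,2) .nil (.node (888,0) .nil .nil)))) (.node (55,2) (.node (0,0) (.node (0,0) (.node (0,0) .nil (.node (1108,2) .nil .nil)) (.node (484,2) .nil .nil)) (.node (303,0) .nil (.node (763,2) .nil .nil))) (.node (192,3) (.node (0,0) .nil (.node (637,0) .nil .nil)) (.node (411,0) .nil (.node (905,2) .nil .nil))))))) (.node (4,3) (.node (0,0) (.node (0,0) (.node (0,0) (.node (0,0) (.node (0,0) (.node (0,0) .nil (.node (945,2) .nil .nil)) (.node (460,3) .nil .nil)) (.node (205,0) .nil (.node (641,2) .nil .nil))) (.node (92,0) (.node (0,0) .nil (.node (517,2) .nil .nil)) (.node (341,1) .nil (.node (827,0) .nil .nil)))) (.node (31,2) (.node (0,0) (.node (0,0) (.node (0,0) .nil (.node (1037,2) .nil .nil)) (.node (460,2) .nil .nil)) (.node (213,2) .nil (.node (715,2) .nil .nil))) (.node (156,3) (.node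 (0,0) .nil (.node (573,2) .nil .nil)) (.node (316,2) .nil (.node (866,2) .nil .nil))))) (.node (27,1) (.node (0,0) (.node (0,0) (.node (0,0) (.node (0,0) .nil (.node (987,2) .nil .nil)) (.node (428,2) .nil .nil)) (.node (196,2) .nil (.node (689,2) .nil .nil))) (.node (131,0) (.node (0,0) .nil (.node (592,0) .nil .nil)) (.node (363,0) .nil (.node (833,2) .nil .nil)))) (.node (69,0) (.node (0,0) (.node (0,0) (.node (0,0) .nil (.node (1093,2) .nil .nil)) (.node (487,2) .nil .nil)) (.node (244,2) .nil (.node (760,2) .nil .nil))) (.node (150,0) (.node (0,0) .nil (.node (651,0) .nil .nil)) (.node (415,0) .nil (.node (909,2) .nil .nil)))))) (.node (9,0) (.node (0,0) (.node (0,0) (.node (0,0) (.node (0,0) (.node (0,0) .nil (.node (965,2) .nil .nil)) (.node (386,2) .nil .nil)) (.node (189,0) .nil (.node (671,2) .nil .nil))) (.node (82,2) (.node (0,0) .nil (.node (515,2) .nil .nil)) (.node (293,2) .nil (.node (816,2) .nil .nil)))) (.node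 (66,1) (.node (0,0) (.node (0,0) (.node (0,0) .nil (.node (1064,2) .nil .nil)) (.node (468,2) .nil .nil)) (.node (236,2) .nil (.node (772,0) .nil .nil))) (.node (162,0) (.node (0,0) .nil (.node (663,0) .nil .nil)) (.node (333,2) .nil (.node (935,0) .nil .nil))))) (.node (28,0) (.node (0,0) (.node (0,0) (.node (0,0) (.node (0,0) .nil (.node (1045,0) .nil .nil)) (.node (424,2) .nil .nil)) (.node (254,0) .nil (.node (698,2) .nil .nil))) (.node (103,2) (.node (0,0) .nil (.node (560,2) .nil .nil)) (.node (311,2) .nil (.node (849,2) .nil .nil)))) (.node (60,2) (.node (0,0) (.node (0,0) (.node (0,0) .nil (.node (1138,0) .nil .nil)) (.node (519,0) .nil .nil)) (.node (300,0) .nil (.node (778,2) .nil .nil))) (.node (143,2) (.node (0,0) .nil (.node (700,3) .nil .nil)) (.node (403,0) .nil (.node (920,2) .nil .nil)))))))) (.node (1,3) (.node (0,0) (.node (0,0) (.node (0,0) (.node (0,0) (.node (0,0) (.node (0,0) (.node (0,0) .nil (.node (947,2)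 .nil .nil)) (.node (459,1) .nil .nil)) (.node (209,0) .nil (.node (633,2) .nil .nil))) (.node (99,0) (.node (0,0) .nil (.node (501,2) .nil .nil)) (.node (261,2) .nil (.node (787,2) .nil .nil)))) (.node (48,3) (.node (0,0) (.node (0,0) (.node (0,0) .nil (.node (1069,3) .nil .nil)) (.node (517,3) .nil .nil)) (.node (247,0) .nil (.node (719,2) .nil .nil))) (.node (116,2) (.node (0,0) .nil (.node (557,2) .nil .nil)) (.node (326,2) .nil (.node (918,3) .nil .nil))))) (.node (20,0) (.node (0,0) (.node (0,0) (.node (0,0) (.node (0,0) .nil (.node (1010,0) .nil .nil)) (.node (482,0) .nil .nil)) (.node (247,1) .nil (.node (679,2) .nil .nil))) (.node (128,3) (.node (0,0) .nil (.node (597,0) .nil .nil)) (.node (291,2) .nil (.node (804,2) .nil .nil)))) (.node (71,0) (.node (0,0) (.node (0,0) (.node (0,0) .nil (.node (1092,0) .nil .nil)) (.node (533,0) .nil .nil)) (.node (234,2) .nil (.node (738,2) .nil .nil))) (.node (139,2) (.node (0,0) .nil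 (.node (655,0) .nil .nil)) (.node (419,0) .nil (.node (903,2) .nil .nil)))))) (.node (5,2) (.node (0,0) (.node (0,0) (.node (0,0) (.node (0,0) (.node (0,0) .nil (.node (970,2) .nil .nil)) (.node (399,2) .nil .nil)) (.node (175,2) .nil (.node (727,0) .nil .nil))) (.node (113,3) (.node (0,0) .nil (.node (512,2) .nil .nil)) (.node (271,2) .nil (.node (794,2) .nil .nil)))) (.node (37,2) (.node (0,0) (.node (0,0) (.node (0,0) .nil (.node (1054,2) .nil .nil)) (.node (533,3) .nil .nil)) (.node (284,3) .nil (.node (733,2) .nil .nil))) (.node (168,0) (.node (0,0) .nil (.node (587,2) .nil .nil)) (.node (322,2) .nil (.node (875,2) .nil .nil))))) (.node (33,0) (.node (0,0) (.node (0,0) (.node (0,0) (.node (0,0) .nil (.node (1010,2) .nil .nil)) (.node (466,0) .nil .nil)) (.node (200,2) .nil (.node (677,2) .nil .nil))) (.node (106,2) (.node (0,0) .nil (.node (581,0) .nil .nil)) (.node (315,2) .nil (.node (885,0) .nil .nil)))) (.node (87,3)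 (.node (0,0) (.node (0,0) (.node (0,0) .nil (.node (1128,0) .nil .nil)) (.node (521,0) .nil .nil)) (.node (262,2) .nil (.node (832,3) .nil .nil))) (.node (138,2) (.node (0,0) .nil (.node (641,0) .nil .nil)) (.node (407,0) .nil (.node (906,2) .nil .nil))))))) (.node (6,0) (.node (0,0) (.node (0,0) (.node (0,0) (.node (0,0) (.node (0,0) (.node (0,0) .nil (.node (965,0) .nil .nil)) (.node (375,2) .nil .nil)) (.node (196,0) .nil (.node (635,2) .nil .nil))) (.node (74,2) (.node (0,0) .nil (.node (513,2) .nil .nil)) (.node (337,3) .nil (.node (819,0) .nil .nil)))) (.node (49,0) (.node (0,0) (.node (0,0) (.node (0,0) .nil (.node (1073,0) .nil .nil)) (.node (445,2) .nil .nil)) (.node (234,0) .nil (.node (779,0) .nil .nil))) (.node (162,3) (.node (0,0) .nil (.node (581,2) .nil .nil)) (.node (402,3) .nil (.node (857,2) .nil .nil))))) (.node (30,3) (.node (0,0) (.node (0,0) (.node (0,0) (.node (0,0) .nil (.node (998,2) .nil .nil)) (.node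 (468,0) .nil .nil)) (.node (184,2) .nil (.node (670,2) .nil .nil))) (.node (125,0) (.node (0,0) .nil (.node (545,2) .nil .nil)) (.node (358,0) .nil (.node (889,0) .nil .nil)))) (.node (62,0) (.node (0,0) (.node (0,0) (.node (0,0) .nil (.node (1100,2) .nil .nil)) (.node (531,0) .nil .nil)) (.node (307,0) .nil (.node (745,2) .nil .nil))) (.node (147,2) (.node (0,0) .nil (.node (647,0) .nil .nil)) (.node (371,2) .nil (.node (964,3) .nil .nil)))))) (.node (8,2) (.node (0,0) (.node (0,0) (.node (0,0) (.node (0,0) (.node (0,0) .nil (.node (1019,0) .nil .nil)) (.node (395,2) .nil .nil)) (.node (182,2) .nil (.node (717,0) .nil .nil))) (.node (119,3) (.node (0,0) .nil (.node (602,0) .nil .nil)) (.node (282,2) .nil (.node (812,2) .nil .nil)))) (.node (67,3) (.node (0,0) (.node (0,0) (.node (0,0) .nil (.node (1079,2) .nil .nil)) (.node (475,2) .nil .nil)) (.node (297,3) .nil (.node (766,0) .nil .nil))) (.node (154,0) (.node (0,0) .nil (.node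 (667,0) .nil .nil)) (.node (415,3) .nil (.node (934,0) .nil .nil))))) (.node (41,3) (.node (0,0) (.node (0,0) (.node (0,0) (.node (0,0) .nil (.node (1024,2) .nil .nil)) (.node (454,0) .nil .nil)) (.node (248,0) .nil (.node (682,2) .nil .nil))) (.node (147,3) (.node (0,0) .nil (.node (637,3) .nil .nil)) (.node (344,0) .nil (.node (873,0) .nil .nil)))) (.node (61,2) (.node (0,0) (.node (0,0) (.node (0,0) .nil (.node (1139,2) .nil .nil)) (.node (579,1) .nil .nil)) (.node (296,0) .nil (.node (840,0) .nil .nil))) (.node (151,2) (.node (0,0) .nil (.node (614,2) .nil .nil)) (.node (393,0) .nil (.node (979,0) .nil .nil))))))))) (.node (0,0) (.node (0,0) (.node (0,0) (.node (0,0) (.node (0,0) (.node (0,0) (.node (0,0) (.node (0,0) (.node (0,0) .nil (.node (940,2) .nil .nil)) (.node (453,3) .nil .nil)) (.node (211,0) .nil (.node (629,2) .nil .nil))) (.node (69,2) (.node (0,0) .nil (.node (577,3) .nil .nil)) (.node (292,0) .nil (.node (789,2)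 .nil .nil)))) (.node (30,2) (.node (0,0) (.node (0,0) (.node (0,0) .nil (.node (1030,2) .nil .nil)) (.node (516,3) .nil .nil)) (.node (212,2) .nil (.node (694,2) .nil .nil))) (.node (152,3) (.node (0,0) .nil (.node (555,2) .nil .nil)) (.node (332,2) .nil (.node (864,2) .nil .nil))))) (.node (21,0) (.node (0,0) (.node (0,0) (.node (0,0) (.node (0,0) .nil (.node (1014,0) .nil .nil)) (.node (480,0) .nil .nil)) (.node (238,3) .nil (.node (668,2) .nil .nil))) (.node (125,3) (.node (0,0) .nil (.node (595,0) .nil .nil)) (.node (289,2) .nil (.node (883,3) .nil .nil)))) (.node (49,2) (.node (0,0) (.node (0,0) (.node (0,0) .nil (.node (1080,2) .nil .nil)) (.node (543,0) .nil .nil)) (.node (232,2) .nil (.node (762,0) .nil .nil))) (.node (151,0) (.node (0,0) .nil (.node (659,0) .nil .nil)) (.node (348,2) .nil (.node (928,0) .nil .nil)))))) (.node (4,2) (.node (0,0) (.node (0,0) (.node (0,0) (.node (0,0) (.node (0,0) .nil (.node (958,2) .nil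 .nil)) (.node (469,3) .nil .nil)) (.node (176,2) .nil (.node (725,0) .nil .nil))) (.node (115,1) (.node (0,0) .nil (.node (596,3) .nil .nil)) (.node (347,3) .nil (.node (806,2) .nil .nil)))) (.node (41,0) (.node (0,0) (.node (0,0) (.node (0,0) .nil (.node (1057,2) .nil .nil)) (.node (463,2) .nil .nil)) (.node (226,2) .nil (.node (729,2) .nil .nil))) (.node (124,2) (.node (0,0) .nil (.node (598,2) .nil .nil)) (.node (341,2) .nil (.node (884,2) .nil .nil))))) (.node (18,2) (.node (0,0) (.node (0,0) (.node (0,0) (.node (0,0) .nil (.node (1007,2) .nil .nil)) (.node (427,2) .nil .nil)) (.node (205,2) .nil (.node (700,2) .nil .nil))) (.node (101,2) (.node (0,0) .nil (.node (566,2) .nil .nil)) (.node (349,0) .nil (.node (883,0) .nil .nil)))) (.node (85,3) (.node (0,0) (.node (0,0) (.node (0,0) .nil (.node (1129,0) .nil .nil)) (.node (488,2) .nil .nil)) (.node (305,0) .nil (.node (761,2) .nil .nil))) (.node (196,3) (.node (0,0) .nil (.node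 (608,2) .nil .nil)) (.node (368,2) .nil (.node (913,2) .nil .nil))))))) (.node (6,3) (.node (0,0) (.node (0,0) (.node (0,0) (.node (0,0) (.node (0,0) (.node (0,0) .nil (.node (954,2) .nil .nil)) (.node (393,2) .nil .nil)) (.node (172,2) .nil (.node (651,2) .nil .nil))) (.node (94,0) (.node (0,0) .nil (.node (585,3) .nil .nil)) (.node (335,3) .nil (.node (790,2) .nil .nil)))) (.node (47,0) (.node (0,0) (.node (0,0) (.node (0,0) .nil (.node (1044,2) .nil .nil)) (.node (523,3) .nil .nil)) (.node (241,0) .nil (.node (785,0) .nil .nil))) (.node (111,2) (.node (0,0) .nil (.node (650,3) .nil .nil)) (.node (400,3) .nil (.node (925,3) .nil .nil))))) (.node (14,2) (.node (0,0) (.node (0,0) (.node (0,0) (.node (0,0) .nil (.node (990,2) .nil .nil)) (.node (475,0) .nil .nil)) (.node (177,2) .nil (.node (700,0) .nil .nil))) (.node (129,0) (.node (0,0) .nil (.node (550,2) .nil .nil)) (.node (356,0) .nil (.node (828,2) .nil .nil)))) (.node (52,2)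 (.node (0,0) (.node (0,0) (.node (0,0) .nil (.node (1101,2) .nil .nil)) (.node (529,0) .nil .nil)) (.node (240,2) .nil (.node (820,3) .nil .nil))) (.node (145,2) (.node (0,0) .nil (.node (622,2) .nil .nil)) (.node (417,0) .nil (.node (920,0) .nil .nil)))))) (.node (16,3) (.node (0,0) (.node (0,0) (.node (0,0) (.node (0,0) (.node (0,0) .nil (.node (971,2) .nil .nil)) (.node (401,2) .nil .nil)) (.node (183,2) .nil (.node (724,0) .nil .nil))) (.node (83,2) (.node (0,0) .nil (.node (526,2) .nil .nil)) (.node (353,3) .nil (.node (872,3) .nil .nil)))) (.node (65,3) (.node (0,0) (.node (0,0) (.node (0,0) .nil (.node (1070,2) .nil .nil)) (.node (477,2) .nil .nil)) (.node (218,2) .nil (.node (743,2) .nil .nil))) (.node (160,0) (.node (0,0) .nil (.node (665,0) .nil .nil)) (.node (412,3) .nil (.node (937,0) .nil .nil))))) (.node (23,2) (.node (0,0) (.node (0,0) (.node (0,0) (.node (0,0) .nil (.node (1023,2) .nil .nil)) (.node (459,0) .nil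 .nil)) (.node (256,0) .nil (.node (770,3) .nil .nil))) (.node (115,0) (.node (0,0) .nil (.node (567,2) .nil .nil)) (.node (342,0) .nil (.node (854,2) .nil .nil)))) (.node (62,2) (.node (0,0) (.node (0,0) (.node (0,0) .nil (.node (1132,2) .nil .nil)) (.node (515,0) .nil .nil)) (.node (263,2) .nil (.node (766,2) .nil .nil))) (.node (159,2) (.node (0,0) .nil (.node (702,3) .nil .nil)) (.node (366,2) .nil (.node (928,2) .nil .nil)))))))) (.node (1,0) (.node (0,0) (.node (0,0) (.node (0,0) (.node (0,0) (.node (0,0) (.node (0,0) (.node (0,0) .nil (.node (971,0) .nil .nil)) (.node (457,3) .nil .nil)) (.node (206,0) .nil (.node (713,3) .nil .nil))) (.node (96,0) (.node (0,0) .nil (.node (583,3) .nil .nil)) (.node (278,2) .nil (.node (834,0) .nil .nil)))) (.node (28,2) (.node (0,0) (.node (0,0) (.node (0,0) .nil (.node (1031,2) .nil .nil)) (.node (440,2) .nil .nil)) (.node (237,0) .nil (.node (718,2) .nil .nil))) (.node (105,2) (.node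 (0,0) .nil (.node (568,2) .nil .nil)) (.node (392,3) .nil (.node (850,2) .nil .nil))))) (.node (18,0) (.node (0,0) (.node (0,0) (.node (0,0) (.node (0,0) .nil (.node (993,2) .nil .nil)) (.node (477,0) .nil .nil)) (.node (245,3) .nil (.node (675,2) .nil .nil))) (.node (93,2) (.node (0,0) .nil (.node (599,0) .nil .nil)) (.node (361,0) .nil (.node (827,2) .nil .nil)))) (.node (67,0) (.node (0,0) (.node (0,0) (.node (0,0) .nil (.node (1088,2) .nil .nil)) (.node (485,2) .nil .nil)) (.node (303,3) .nil (.node (759,2) .nil .nil))) (.node (134,2) (.node (0,0) .nil (.node (649,0) .nil .nil)) (.node (421,0) .nil (.node (923,0) .nil .nil)))))) (.node (10,0) (.node (0,0) (.node (0,0) (.node (0,0) (.node (0,0) (.node (0,0) .nil (.node (959,2) .nil .nil)) (.node (384,2) .nil .nil)) (.node (195,0) .nil (.node (720,0) .nil .nil))) (.node (116,3) (.node (0,0) .nil (.node (524,2) .nil .nil)) (.node (350,3) .nil (.node (796,2) .nil .nil)))) (.node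 (38,2) (.node (0,0) (.node (0,0) (.node (0,0) .nil (.node (1091,3) .nil .nil)) (.node (461,2) .nil .nil)) (.node (287,3) .nil (.node (770,0) .nil .nil))) (.node (165,0) (.node (0,0) .nil (.node (582,2) .nil .nil)) (.node (352,2) .nil (.node (938,0) .nil .nil))))) (.node (30,0) (.node (0,0) (.node (0,0) (.node (0,0) (.node (0,0) .nil (.node (1049,0) .nil .nil)) (.node (460,0) .nil .nil)) (.node (258,0) .nil (.node (765,3) .nil .nil))) (.node (116,0) (.node (0,0) .nil (.node (547,2) .nil .nil)) (.node (345,0) .nil (.node (842,2) .nil .nil)))) (.node (57,2) (.node (0,0) (.node (0,0) (.node (0,0) .nil (.node (1122,2) .nil .nil)) (.node (517,0) .nil .nil)) (.node (298,0) .nil (.node (751,2) .nil .nil))) (.node (199,3) (.node (0,0) .nil (.node (643,0) .nil .nil)) (.node (401,0) .nil (.node (931,2) .nil .nil))))))) (.node (5,0) (.node (0,0) (.node (0,0) (.node (0,0) (.node (0,0) (.node (0,0) (.node (0,0) .nil (.node (949,2) .nil .nil))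 (.node (377,2) .nil .nil)) (.node (198,0) .nil (.node (652,2) .nil .nil))) (.node (86,0) (.node (0,0) .nil (.node (591,3) .nil .nil)) (.node (342,3) .nil (.node (788,2) .nil .nil)))) (.node (45,0) (.node (0,0) (.node (0,0) (.node (0,0) .nil (.node (1075,0) .nil .nil)) (.node (454,2) .nil .nil)) (.node (230,2) .nil (.node (731,2) .nil .nil))) (.node (164,3) (.node (0,0) .nil (.node (657,3) .nil .nil)) (.node (404,3) .nil (.node (876,2) .nil .nil))))) (.node (34,1) (.node (0,0) (.node (0,0) (.node (0,0) (.node (0,0) .nil (.node (1043,3) .nil .nil)) (.node (431,2) .nil .nil)) (.node (189,2) .nil (.node (704,0) .nil .nil))) (.node (127,0) (.node (0,0) .nil (.node (588,0) .nil .nil)) (.node (360,0) .nil (.node (891,0) .nil .nil)))) (.node (64,0) (.node (0,0) (.node (0,0) (.node (0,0) .nil (.node (1111,0) .nil .nil)) (.node (523,0) .nil .nil)) (.node (309,0) .nil (.node (826,3) .nil .nil))) (.node (135,2) (.node (0,0) .nil (.node (644,0)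 .nil .nil)) (.node (409,0) .nil (.node (967,3) .nil .nil)))))) (.node (19,3) (.node (0,0) (.node (0,0) (.node (0,0) (.node (0,0) (.node (0,0) .nil (.node (983,2) .nil .nil)) (.node (396,2) .nil .nil)) (.node (188,2) .nil (.node (680,2) .nil .nil))) (.node (120,3) (.node (0,0) .nil (.node (604,0) .nil .nil)) (.node (288,2) .nil (.node (800,2) .nil .nil)))) (.node (47,2) (.node (0,0) (.node (0,0) (.node (0,0) .nil (.node (1099,0) .nil .nil)) (.node (539,0) .nil .nil)) (.node (224,2) .nil (.node (736,2) .nil .nil))) (.node (132,2) (.node (0,0) .nil (.node (611,2) .nil .nil)) (.node (343,2) .nil (.node (894,2) .nil .nil))))) (.node (24,2) (.node (0,0) (.node (0,0) (.node (0,0) (.node (0,0) .nil (.node (1021,2) .nil .nil)) (.node (456,0) .nil .nil)) (.node (250,0) .nil (.node (701,2) .nil .nil))) (.node (109,2) (.node (0,0) .nil (.node (638,3) .nil .nil)) (.node (317,2) .nil (.node (875,0) .nil .nil)))) (.node (66,2) (.node (0,0) (.node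 (0,0) (.node (0,0) .nil (.node (1145,2) .nil .nil)) (.node (490,2) .nil .nil)) (.node (288,0) .nil (.node (836,0) .nil .nil))) (.node (149,2) (.node (0,0) .nil (.node (616,2) .nil .nil)) (.node (395,0) .nil (.node (981,0) .nil .nil)))))))))) (.node (0,3) (.node (0,0) (.node (0,0) (.node (0,0) (.node (0,0) (.node (0,0) (.node (0,0) (.node (0,0) (.node (0,0) (.node (0,0) .nil (.node (978,0) .nil .nil)) (.node (381,2) .nil .nil)) (.node (163,2) .nil (.node (637,2) .nil .nil))) (.node (64,2) (.node (0,0) .nil (.node (505,2) .nil .nil)) (.node (291,0) .nil (.node (839,0) .nil .nil)))) (.node (46,3) (.node (0,0) (.node (0,0) (.node (0,0) .nil (.node (1026,2) .nil .nil)) (.node (438,2) .nil .nil)) (.node (244,0) .nil (.node (704,2) .nil .nil))) (.node (115,2) (.node (0,0) .nil (.node (562,2) .nil .nil)) (.node (320,2) .nil (.node (848,2) .nil .nil))))) (.node (21,3) (.node (0,0) (.node (0,0) (.node (0,0) (.node (0,0) .nil (.node (984,2)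 .nil .nil)) (.node (479,0) .nil .nil)) (.node (174,2) .nil (.node (673,2) .nil .nil))) (.node (89,2) (.node (0,0) .nil (.node (548,2) .nil .nil)) (.node (298,2) .nil (.node (815,2) .nil .nil)))) (.node (45,2) (.node (0,0) (.node (0,0) (.node (0,0) .nil (.node (1093,0) .nil .nil)) (.node (542,0) .nil .nil)) (.node (247,2) .nil (.node (761,0) .nil .nil))) (.node (159,0) (.node (0,0) .nil (.node (658,0) .nil .nil)) (.node (359,2) .nil (.node (895,2) .nil .nil)))))) (.node (10,3) (.node (0,0) (.node (0,0) (.node (0,0) (.node (0,0) (.node (0,0) .nil (.node (960,2) .nil .nil)) (.node (383,2) .nil .nil)) (.node (201,0) .nil (.node (647,2) .nil .nil))) (.node (78,2) (.node (0,0) .nil (.node (595,3) .nil .nil)) (.node (265,2) .nil (.node (824,0) .nil .nil)))) (.node (44,0) (.node (0,0) (.node (0,0) (.node (0,0) .nil (.node (1053,2) .nil .nil)) (.node (442,2) .nil .nil)) (.node (283,3) .nil (.node (778,0) .nil .nil))) (.node (117,2) (.node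 (0,0) .nil (.node (575,2) .nil .nil)) (.node (405,3) .nil (.node (885,2) .nil .nil))))) (.node (20,2) (.node (0,0) (.node (0,0) (.node (0,0) (.node (0,0) .nil (.node (999,2) .nil .nil)) (.node (463,0) .nil .nil)) (.node (201,2) .nil (.node (678,2) .nil .nil))) (.node (118,0) (.node (0,0) .nil (.node (552,2) .nil .nil)) (.node (354,0) .nil (.node (844,2) .nil .nil)))) (.node (54,2) (.node (0,0) (.node (0,0) (.node (0,0) .nil (.node (1111,2) .nil .nil)) (.node (526,0) .nil .nil)) (.node (304,0) .nil (.node (757,2) .nil .nil))) (.node (150,2) (.node (0,0) .nil (.node (619,2) .nil .nil)) (.node (404,0) .nil (.node (969,3) .nil .nil))))))) (.node (1,2) (.node (0,0) (.node (0,0) (.node (0,0) (.node (0,0) (.node (0,0) (.node (0,0) .nil (.node (941,2) .nil .nil)) (.node (380,2) .nil .nil)) (.node (173,2) .nil (.node (717,3) .nil .nil))) (.node (93,0) (.node (0,0) .nil (.node (506,2) .nil .nil)) (.node (269,2) .nil (.node (828,0) .nil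 .nil)))) (.node (51,0) (.node (0,0) (.node (0,0) (.node (0,0) .nil (.node (1041,2) .nil .nil)) (.node (435,2) .nil .nil)) (.node (240,0) .nil (.node (784,0) .nil .nil))) (.node (112,2) (.node (0,0) .nil (.node (649,3) .nil .nil)) (.node (325,2) .nil (.node (926,3) .nil .nil))))) (.node (26,3) (.node (0,0) (.node (0,0) (.node (0,0) (.node (0,0) .nil (.node (1005,0) .nil .nil)) (.node (425,2) .nil .nil)) (.node (248,3) .nil (.node (684,2) .nil .nil))) (.node (128,0) (.node (0,0) .nil (.node (593,0) .nil .nil)) (.node (364,0) .nil (.node (822,2) .nil .nil)))) (.node (70,0) (.node (0,0) (.node (0,0) (.node (0,0) .nil (.node (1116,0) .nil .nil)) (.node (538,0) .nil .nil)) (.node (252,2) .nil (.node (819,3) .nil .nil))) (.node (188,3) (.node (0,0) .nil (.node (652,0) .nil .nil)) (.node (416,0) .nil (.node (896,2) .nil .nil)))))) (.node (7,2) (.node (0,0) (.node (0,0) (.node (0,0) (.node (0,0) (.node (0,0) .nil (.node (972,2) .nil .nil))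 (.node (407,2) .nil .nil)) (.node (190,0) .nil (.node (723,0) .nil .nil))) (.node (122,1) (.node (0,0) .nil (.node (536,2) .nil .nil)) (.node (273,2) .nil (.node (873,3) .nil .nil)))) (.node (39,2) (.node (0,0) (.node (0,0) (.node (0,0) .nil (.node (1066,2) .nil .nil)) (.node (455,2) .nil .nil)) (.node (293,3) .nil (.node (742,2) .nil .nil))) (.node (163,0) (.node (0,0) .nil (.node (664,0) .nil .nil)) (.node (330,2) .nil (.node (897,2) .nil .nil))))) (.node (22,2) (.node (0,0) (.node (0,0) (.node (0,0) (.node (0,0) .nil (.node (1020,2) .nil .nil)) (.node (434,2) .nil .nil)) (.node (255,0) .nil (.node (693,2) .nil .nil))) (.node (102,2) (.node (0,0) .nil (.node (579,0) .nil .nil)) (.node (348,0) .nil (.node (881,0) .nil .nil)))) (.node (90,3) (.node (0,0) (.node (0,0) (.node (0,0) .nil (.node (1130,2) .nil .nil)) (.node (502,2) .nil .nil)) (.node (293,0) .nil (.node (762,2) .nil .nil))) (.node (202,3) (.node (0,0) .nil (.node (699,3)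 .nil .nil)) (.node (399,0) .nil (.node (923,2) .nil .nil)))))))) (.node (0,2) (.node (0,0) (.node (0,0) (.node (0,0) (.node (0,0) (.node (0,0) (.node (0,0) (.node (0,0) .nil (.node (970,0) .nil .nil)) (.node (378,2) .nil .nil)) (.node (210,0) .nil (.node (624,2) .nil .nil))) (.node (95,0) (.node (0,0) .nil (.node (509,2) .nil .nil)) (.node (268,2) .nil (.node (833,0) .nil .nil)))) (.node (27,2) (.node (0,0) (.node (0,0) (.node (0,0) .nil (.node (1032,2) .nil .nil)) (.node (518,3) .nil .nil)) (.node (236,0) .nil (.node (703,2) .nil .nil))) (.node (154,3) (.node (0,0) .nil (.node (646,3) .nil .nil)) (.node (393,3) .nil (.node (919,3) .nil .nil))))) (.node (17,0) (.node (0,0) (.node (0,0) (.node (0,0) (.node (0,0) .nil (.node (989,2) .nil .nil)) (.node (483,0) .nil .nil)) (.node (178,2) .nil (.node (712,0) .nil .nil))) (.node (91,2) (.node (0,0) .nil (.node (598,0) .nil .nil)) (.node (300,2) .nil (.node (823,2) .nil .nil)))) (.node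 (72,0) (.node (0,0) (.node (0,0) (.node (0,0) .nil (.node (1086,2) .nil .nil)) (.node (534,0) .nil .nil)) (.node (302,3) .nil (.node (739,2) .nil .nil))) (.node (147,0) (.node (0,0) .nil (.node (656,0) .nil .nil)) (.node (420,0) .nil (.node (922,0) .nil .nil)))))) (.node (12,0) (.node (0,0) (.node (0,0) (.node (0,0) (.node (0,0) (.node (0,0) .nil (.node (952,2) .nil .nil)) (.node (472,3) .nil .nil)) (.node (194,0) .nil (.node (728,0) .nil .nil))) (.node (114,3) (.node (0,0) .nil (.node (531,2) .nil .nil)) (.node (274,2) .nil (.node (811,2) .nil .nil)))) (.node (62,3) (.node (0,0) (.node (0,0) (.node (0,0) .nil (.node (1059,2) .nil .nil)) (.node (535,3) .nil .nil)) (.node (292,1) .nil (.node (777,0) .nil .nil))) (.node (164,0) (.node (0,0) .nil (.node (597,2) .nil .nil)) (.node (331,2) .nil (.node (879,2) .nil .nil))))) (.node (34,0) (.node (0,0) (.node (0,0) (.node (0,0) (.node (0,0) .nil (.node (1051,0) .nil .nil)) (.node (467,0)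 .nil .nil)) (.node (257,0) .nil (.node (764,3) .nil .nil))) (.node (122,0) (.node (0,0) .nil (.node (582,0) .nil .nil)) (.node (352,0) .nil (.node (845,2) .nil .nil)))) (.node (89,3) (.node (0,0) (.node (0,0) (.node (0,0) .nil (.node (1119,2) .nil .nil)) (.node (494,2) .nil .nil)) (.node (297,0) .nil (.node (749,2) .nil .nil))) (.node (142,2) (.node (0,0) .nil (.node (628,2) .nil .nil)) (.node (408,0) .nil (.node (929,2) .nil .nil))))))) (.node (4,0) (.node (0,0) (.node (0,0) (.node (0,0) (.node (0,0) (.node (0,0) (.node (0,0) .nil (.node (966,0) .nil .nil)) (.node (464,3) .nil .nil)) (.node (197,0) .nil (.node (659,2) .nil .nil))) (.node (91,0) (.node (0,0) .nil (.node (503,2) .nil .nil)) (.node (279,2) .nil (.node (791,2) .nil .nil)))) (.node (50,0) (.node (0,0) (.node (0,0) (.node (0,0) .nil (.node (1052,2) .nil .nil)) (.node (459,2) .nil .nil)) (.node (225,2) .nil (.node (780,0) .nil .nil))) (.node (118,2) (.node (0,0) .nil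 (.node (654,3) .nil .nil)) (.node (342,2) .nil (.node (852,2) .nil .nil))))) (.node (15,2) (.node (0,0) (.node (0,0) (.node (0,0) (.node (0,0) .nil (.node (1040,3) .nil .nil)) (.node (423,2) .nil .nil)) (.node (198,2) .nil (.node (703,0) .nil .nil))) (.node (126,0) (.node (0,0) .nil (.node (587,0) .nil .nil)) (.node (359,0) .nil (.node (890,0) .nil .nil)))) (.node (53,2) (.node (0,0) (.node (0,0) (.node (0,0) .nil (.node (1103,2) .nil .nil)) (.node (532,0) .nil .nil)) (.node (308,0) .nil (.node (741,2) .nil .nil))) (.node (140,2) (.node (0,0) .nil (.node (612,2) .nil .nil)) (.node (414,0) .nil (.node (916,2) .nil .nil)))))) (.node (20,1) (.node (0,0) (.node (0,0) (.node (0,0) (.node (0,0) (.node (0,0) .nil (.node (1015,0) .nil .nil)) (.node (417,2) .nil .nil)) (.node (187,2) .nil (.node (718,0) .nil .nil))) (.node (88,2) (.node (0,0) .nil (.node (603,0) .nil .nil)) (.node (295,2) .nil (.node (817,2) .nil .nil)))) (.node (44,2)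 (.node (0,0) (.node (0,0) (.node (0,0) .nil (.node (1098,0) .nil .nil)) (.node (466,2) .nil .nil)) (.node (219,2) .nil (.node (732,2) .nil .nil))) (.node (137,2) (.node (0,0) .nil (.node (609,2) .nil .nil)) (.node (349,2) .nil (.node (931,0) .nil .nil))))) (.node (44,1) (.node (0,0) (.node (0,0) (.node (0,0) (.node (0,0) .nil (.node (1044,0) .nil .nil)) (.node (455,0) .nil .nil)) (.node (214,2) .nil (.node (687,2) .nil .nil))) (.node (148,3) (.node (0,0) .nil (.node (551,2) .nil .nil)) (.node (327,2) .nil (.node (874,0) .nil .nil)))) (.node (95,3) (.node (0,0) (.node (0,0) (.node (0,0) .nil (.node (1141,2) .nil .nil)) (.node (498,2) .nil .nil)) (.node (287,0) .nil (.node (841,0) .nil .nil))) (.node (165,2) (.node (0,0) .nil (.node (706,3) .nil .nil)) (.node (374,2) .nil (.node (942,2) .nil .nil))))))))) (.node (2,1) (.node (0,0) (.node (0,0) (.node (0,0) (.node (0,0) (.node (0,0) (.node (0,0) (.node (0,0) (.node (0,0) .nil (.node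 (975,0) .nil .nil)) (.node (370,2) .nil .nil)) (.node (208,0) .nil (.node (709,3) .nil .nil))) (.node (98,0) (.node (0,0) .nil (.node (580,3) .nil .nil)) (.node (270,2) .nil (.node (831,0) .nil .nil)))) (.node (47,3) (.node (0,0) (.node (0,0) (.node (0,0) .nil (.node (1067,3) .nil .nil)) (.node (443,2) .nil .nil)) (.node (216,2) .nil (.node (714,2) .nil .nil))) (.node (159,1) (.node (0,0) .nil (.node (571,2) .nil .nil)) (.node (341,0) .nil (.node (865,2) .nil .nil))))) (.node (19,0) (.node (0,0) (.node (0,0) (.node (0,0) (.node (0,0) .nil (.node (985,2) .nil .nil)) (.node (481,0) .nil .nil)) (.node (239,3) .nil (.node (710,0) .nil .nil))) (.node (86,2) (.node (0,0) .nil (.node (546,2) .nil .nil)) (.node (304,2) .nil (.node (801,2) .nil .nil)))) (.node (73,0) (.node (0,0) (.node (0,0) (.node (0,0) .nil (.node (1081,2) .nil .nil)) (.node (544,0) .nil .nil)) (.node (243,2) .nil (.node (763,0) .nil .nil))) (.node (133,2) (.node (0,0)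 .nil (.node (607,2) .nil .nil)) (.node (418,0) .nil (.node (929,0) .nil .nil)))))) (.node (12,3) (.node (0,0) (.node (0,0) (.node (0,0) (.node (0,0) (.node (0,0) .nil (.node (1009,3) .nil .nil)) (.node (397,2) .nil .nil)) (.node (170,2) .nil (.node (726,0) .nil .nil))) (.node (75,2) (.node (0,0) .nil (.node (511,2) .nil .nil)) (.node (352,1) .nil (.node (817,0) .nil .nil)))) (.node (42,0) (.node (0,0) (.node (0,0) (.node (0,0) .nil (.node (1070,0) .nil .nil)) (.node (444,2) .nil .nil)) (.node (233,2) .nil (.node (775,0) .nil .nil))) (.node (167,0) (.node (0,0) .nil (.node (588,2) .nil .nil)) (.node (409,3) .nil (.node (867,2) .nil .nil))))) (.node (32,0) (.node (0,0) (.node (0,0) (.node (0,0) (.node (0,0) .nil (.node (1003,2) .nil .nil)) (.node (426,2) .nil .nil)) (.node (207,2) .nil (.node (681,2) .nil .nil))) (.node (100,2) (.node (0,0) .nil (.node (561,2) .nil .nil)) (.node (310,2) .nil (.node (884,0) .nil .nil)))) (.node (88,1)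 (.node (0,0) (.node (0,0) (.node (0,0) .nil (.node (1118,2) .nil .nil)) (.node (528,0) .nil .nil)) (.node (306,0) .nil (.node (831,3) .nil .nil))) (.node (197,3) (.node (0,0) .nil (.node (610,2) .nil .nil)) (.node (372,2) .nil (.node (922,2) .nil .nil))))))) (.node (2,2) (.node (0,0) (.node (0,0) (.node (0,0) (.node (0,0) (.node (0,0) (.node (0,0) .nil (.node (957,2) .nil .nil)) (.node (462,3) .nil .nil)) (.node (204,0) .nil (.node (658,2) .nil .nil))) (.node (89,0) (.node (0,0) .nil (.node (586,3) .nil .nil)) (.node (336,3) .nil (.node (795,2) .nil .nil)))) (.node (48,0) (.node (0,0) (.node (0,0) (.node (0,0) .nil (.node (1077,0) .nil .nil)) (.node (525,3) .nil .nil)) (.node (242,0) .nil (.node (786,0) .nil .nil))) (.node (122,2) (.node (0,0) .nil (.node (565,2) .nil .nil)) (.node (403,1) .nil (.node (927,3) .nil .nil))))) (.node (29,3) (.node (0,0) (.node (0,0) (.node (0,0) (.node (0,0) .nil (.node (996,2) .nil .nil)) (.node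 (476,0) .nil .nil)) (.node (249,3) .nil (.node (701,0) .nil .nil))) (.node (130,0) (.node (0,0) .nil (.node (585,0) .nil .nil)) (.node (357,0) .nil (.node (892,0) .nil .nil)))) (.node (66,0) (.node (0,0) (.node (0,0) (.node (0,0) .nil (.node (1115,0) .nil .nil)) (.node (489,2) .nil .nil)) (.node (250,2) .nil (.node (821,3) .nil .nil))) (.node (195,1) (.node (0,0) .nil (.node (623,2) .nil .nil)) (.node (369,2) .nil (.node (914,2) .nil .nil)))))) (.node (17,3) (.node (0,0) (.node (0,0) (.node (0,0) (.node (0,0) (.node (0,0) .nil (.node (1018,0) .nil .nil)) (.node (416,2) .nil .nil)) (.node (171,2) .nil (.node (719,0) .nil .nil))) (.node (79,2) (.node (0,0) .nil (.node (601,0) .nil .nil)) (.node (281,2) .nil (.node (798,2) .nil .nil)))) (.node (41,2) (.node (0,0) (.node (0,0) (.node (0,0) .nil (.node (1071,2) .nil .nil)) (.node (456,2) .nil .nil)) (.node (294,3) .nil (.node (730,2) .nil .nil))) (.node (136,2) (.node (0,0) .nil (.node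 (666,0) .nil .nil)) (.node (344,2) .nil (.node (893,2) .nil .nil))))) (.node (27,0) (.node (0,0) (.node (0,0) (.node (0,0) (.node (0,0) .nil (.node (1048,0) .nil .nil)) (.node (439,2) .nil .nil)) (.node (252,0) .nil (.node (771,3) .nil .nil))) (.node (150,1) (.node (0,0) .nil (.node (643,1) .nil .nil)) (.node (343,0) .nil (.node (855,2) .nil .nil)))) (.node (92,3) (.node (0,0) (.node (0,0) (.node (0,0) .nil (.node (1135,2) .nil .nil)) (.node (486,2) .nil .nil)) (.node (295,0) .nil (.node (775,2) .nil .nil))) (.node (206,3) (.node (0,0) .nil (.node (631,2) .nil .nil)) (.node (382,2) .nil (.node (982,0) .nil .nil)))))))) (.node (2,0) (.node (0,0) (.node (0,0) (.node (0,0) (.node (0,0) (.node (0,0) (.node (0,0) (.node (0,0) .nil (.node (972,0) .nil .nil)) (.node (387,2) .nil .nil)) (.node (207,0) .nil (.node (626,2) .nil .nil))) (.node (97,0) (.node (0,0) .nil (.node (497,2) .nil .nil)) (.node (280,2) .nil (.node (797,2) .nil .nil))))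 (.node (34,2) (.node (0,0) (.node (0,0) (.node (0,0) .nil (.node (1038,2) .nil .nil)) (.node (452,2) .nil .nil)) (.node (217,2) .nil (.node (710,2) .nil .nil))) (.node (155,3) (.node (0,0) .nil (.node (579,2) .nil .nil)) (.node (394,3) .nil (.node (868,2) .nil .nil))))) (.node (13,2) (.node (0,0) (.node (0,0) (.node (0,0) (.node (0,0) .nil (.node (1007,0) .nil .nil)) (.node (472,0) .nil .nil)) (.node (195,2) .nil (.node (672,2) .nil .nil))) (.node (96,2) (.node (0,0) .nil (.node (591,0) .nil .nil)) (.node (362,0) .nil (.node (814,2) .nil .nil)))) (.node (68,0) (.node (0,0) (.node (0,0) (.node (0,0) .nil (.node (1092,2) .nil .nil)) (.node (536,0) .nil .nil)) (.node (241,2) .nil (.node (753,2) .nil .nil))) (.node (149,0) (.node (0,0) .nil (.node (613,2) .nil .nil)) (.node (422,0) .nil (.node (898,2) .nil .nil)))))) (.node (11,0) (.node (0,0) (.node (0,0) (.node (0,0) (.node (0,0) (.node (0,0) .nil (.node (966,2) .nil .nil)) (.node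 (473,3) .nil .nil)) (.node (188,0) .nil (.node (669,2) .nil .nil))) (.node (77,2) (.node (0,0) .nil (.node (534,2) .nil .nil)) (.node (292,2) .nil (.node (869,3) .nil .nil)))) (.node (63,3) (.node (0,0) (.node (0,0) (.node (0,0) .nil (.node (1061,2) .nil .nil)) (.node (449,2) .nil .nil)) (.node (290,3) .nil (.node (737,2) .nil .nil))) (.node (166,0) (.node (0,0) .nil (.node (593,2) .nil .nil)) (.node (346,2) .nil (.node (939,0) .nil .nil))))) (.node (31,0) (.node (0,0) (.node (0,0) (.node (0,0) (.node (0,0) .nil (.node (1050,0) .nil .nil)) (.node (461,0) .nil .nil)) (.node (253,0) .nil (.node (705,2) .nil .nil))) (.node (117,0) (.node (0,0) .nil (.node (549,2) .nil .nil)) (.node (346,0) .nil (.node (879,0) .nil .nil)))) (.node (56,2) (.node (0,0) (.node (0,0) (.node (0,0) .nil (.node (1125,2) .nil .nil)) (.node (495,2) .nil .nil)) (.node (259,2) .nil (.node (772,2) .nil .nil))) (.node (154,2) (.node (0,0) .nil (.node (705,1) .nil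 .nil)) (.node (365,2) .nil (.node (912,2) .nil .nil))))))) (.node (3,2) (.node (0,0) (.node (0,0) (.node (0,0) (.node (0,0) (.node (0,0) (.node (0,0) .nil (.node (948,2) .nil .nil)) (.node (403,2) .nil .nil)) (.node (169,2) .nil (.node (655,2) .nil .nil))) (.node (76,2) (.node (0,0) .nil (.node (519,2) .nil .nil)) (.node (264,2) .nil (.node (822,0) .nil .nil)))) (.node (35,2) (.node (0,0) (.node (0,0) (.node (0,0) .nil (.node (1056,2) .nil .nil)) (.node (529,3) .nil .nil)) (.node (221,2) .nil (.node (782,0) .nil .nil))) (.node (126,2) (.node (0,0) .nil (.node (592,2) .nil .nil)) (.node (321,2) .nil (.node (874,2) .nil .nil))))) (.node (17,2) (.node (0,0) (.node (0,0) (.node (0,0) (.node (0,0) .nil (.node (995,2) .nil .nil)) (.node (471,0) .nil .nil)) (.node (253,3) .nil (.node (705,0) .nil .nil))) (.node (123,0) (.node (0,0) .nil (.node (556,2) .nil .nil)) (.node (314,2) .nil (.node (843,2) .nil .nil)))) (.node (61,0) (.node (0,0)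 (.node (0,0) (.node (0,0) .nil (.node (1105,2) .nil .nil)) (.node (524,0) .nil .nil)) (.node (302,0) .nil (.node (746,2) .nil .nil))) (.node (191,3) (.node (0,0) .nil (.node (618,2) .nil .nil)) (.node (367,2) .nil (.node (902,2) .nil .nil)))))) (.node (9,2) (.node (0,0) (.node (0,0) (.node (0,0) (.node (0,0) (.node (0,0) .nil (.node (1017,0) .nil .nil)) (.node (411,2) .nil .nil)) (.node (236,3) .nil (.node (714,0) .nil .nil))) (.node (123,3) (.node (0,0) .nil (.node (605,0) .nil .nil)) (.node (356,3) .nil (.node (877,3) .nil .nil)))) (.node (71,3) (.node (0,0) (.node (0,0) (.node (0,0) .nil (.node (1078,2) .nil .nil)) (.node (540,0) .nil .nil)) (.node (299,3) .nil (.node (769,0) .nil .nil))) (.node (157,0) (.node (0,0) .nil (.node (662,0) .nil .nil)) (.node (358,2) .nil (.node (900,2) .nil .nil))))) (.node (43,3) (.node (0,0) (.node (0,0) (.node (0,0) (.node (0,0) .nil (.node (1041,0) .nil .nil)) (.node (429,2) .nil .nil)) (.node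 (251,0) .nil (.node (686,2) .nil .nil))) (.node (104,2) (.node (0,0) .nil (.node (639,3) .nil .nil)) (.node (313,2) .nil (.node (876,0) .nil .nil)))) (.node (68,2) (.node (0,0) (.node (0,0) .nil (.node (491,2) .nil .nil)) (.node (289,0) .nil (.node (837,0) .nil .nil))) (.node (157,2) (.node (0,0) .nil (.node (621,2) .nil .nil)) (.node (396,0) .nil (.node (976,0) .nil .nil)))))))))))
noncomputable def key : Trie ℕ := (.node 0 (.node 0 (.node 0 (.node 0 (.node 0 (.node 0 (.node 0 (.node 0 (.node 0 (.node 0 (.node 0 (.node 0 (.node 0 (.node 0 .nil (.node 0 (.node 0 .nil (.node 1002 .nil .nil)) .nil)) .nil) .nil) (.node 0 (.node 0 (.node 0 .nil (.node 109 .nil .nil)) .nil) .nil)) (.node 0 .nil (.node 0 (.node 0 (.node 0 (.node 0 (.node 0 .nil (.node 1045 .nil .nil)) .nil) .nil) .nil) .nil))) (.node 0 (.node 0 .nil (.node 0 (.node 0 .nil (.node 0 .nil (.node 410 .nil .nil))) (.node 840 .nil .nil))) (.node 0 (.node 0 .nil (.node 0 .nil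 (.node 0 .nil (.node 0 .nil (.node 883 .nil .nil))))) .nil))) (.node 0 (.node 0 .nil (.node 0 (.node 0 (.node 0 .nil (.node 0 .nil (.node 0 .nil (.node 810 .nil .nil)))) (.node 0 (.node 0 .nil (.node 736 .nil .nil)) .nil)) (.node 0 (.node 0 (.node 0 .nil (.node 0 .nil (.node 402 .nil .nil))) .nil) .nil))) (.node 0 .nil (.node 0 (.node 0 .nil (.node 0 .nil (.node 865 .nil .nil))) .nil)))) (.node 0 (.node 0 .nil (.node 0 (.node 0 .nil (.node 0 .nil (.node 0 (.node 0 .nil (.node 0 .nil (.node 881 .nil .nil))) .nil))) (.node 0 .nil (.node 0 .nil (.node 0 .nil (.node 0 (.node 0 (.node 0 .nil (.node 667 .nil .nil)) .nil) .nil)))))) (.node 0 (.node 0 (.node 0 (.node 0 (.node 0 (.node 0 (.node 0 .nil (.node 866 .nil .nil)) .nil) .nil) .nil) .nil) (.node 0 (.node 0 .nil (.node 0 (.node 0 (.node 0 .nil (.node 772 .nil .nil)) .nil) (.node 594 .nil .nil))) (.node 0 .nil (.node 0 (.node 0 (.node 0 .nil (.node 507 .nil .nil)) .nil) .nil))))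 (.node 0 (.node 0 (.node 0 (.node 0 .nil (.node 0 .nil (.node 0 .nil (.node 540 .nil .nil)))) .nil) .nil) .nil)))) (.node 0 (.node 0 (.node 0 (.node 0 (.node 0 (.node 0 .nil (.node 0 (.node 0 (.node 0 (.node 0 .nil (.node 831 .nil .nil)) .nil) .nil) .nil)) (.node 0 .nil (.node 0 (.node 0 .nil (.node 0 .nil (.node 213 .nil .nil))) (.node 0 .nil (.node 143 .nil .nil))))) .nil) (.node 0 .nil (.node 0 (.node 0 .nil (.node 0 (.node 0 (.node 0 (.node 0 .nil (.node 472 .nil .nil)) .nil) .nil) .nil)) .nil))) (.node 0 (.node 0 (.node 0 (.node 0 .nil (.node 0 (.node 0 .nil (.node 811 .nil .nil)) .nil)) (.node 0 (.node 0 (.node 0 .nil (.node 0 .nil (.node 603 .nil .nil))) .nil) .nil)) .nil) (.node 0 (.node 0 (.node 0 .nil (.node 0 .nil (.node 0 .nil (.node 198 .nil .nil)))) .nil) .nil))) (.node 0 (.node 0 (.node 0 (.node 0 (.node 0 .nil (.node 0 .nil (.node 929 .nil .nil))) (.node 0 (.node 0 .nil (.node 0 .nil (.node 539 .nil .nil))) (.node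 0 .nil (.node 0 .nil (.node 1051 .nil .nil))))) (.node 0 .nil (.node 0 .nil (.node 0 .nil (.node 0 (.node 0 .nil (.node 435 .nil .nil)) .nil))))) (.node 0 .nil (.node 0 (.node 0 .nil (.node 0 (.node 0 .nil (.node 563 .nil .nil)) .nil)) (.node 0 (.node 0 (.node 0 .nil (.node 808 .nil .nil)) (.node 0 (.node 0 .nil (.node 949 .nil .nil)) .nil)) .nil)))) (.node 0 (.node 0 (.node 0 (.node 0 (.node 0 .nil (.node 0 .nil (.node 1124 .nil .nil))) .nil) (.node 0 (.node 0 (.node 0 .nil (.node 829 .nil .nil)) .nil) .nil)) .nil) (.node 0 (.node 0 (.node 0 .nil (.node 0 (.node 0 .nil (.node 852 .nil .nil)) (.node 0 .nil (.node 71 .nil .nil)))) (.node 0 .nil (.node 0 (.node 0 (.node 0 .nil (.node 812 .nil .nil)) .nil) .nil))) (.node 0 .nil (.node 0 .nil (.node 0 (.node 0 .nil (.node 973 .nil .nil)) .nil)))))))) (.node 0 (.node 0 (.node 0 (.node 0 (.node 0 (.node 0 (.node 0 (.node 0 (.node 0 .nil (.node 0 .nil (.node 169 .nil .nil))) .nil) .nil)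 .nil) (.node 0 (.node 0 (.node 0 (.node 0 .nil (.node 374 .nil .nil)) .nil) .nil) .nil)) (.node 0 (.node 0 (.node 0 .nil (.node 0 .nil (.node 892 .nil .nil))) .nil) (.node 0 (.node 0 .nil (.node 0 .nil (.node 0 .nil (.node 0 .nil (.node 604 .nil .nil))))) (.node 0 (.node 0 .nil (.node 0 (.node 0 .nil (.node 656 .nil .nil)) .nil)) .nil)))) (.node 0 (.node 0 (.node 0 (.node 0 (.node 0 .nil (.node 0 .nil (.node 0 .nil (.node 902 .nil .nil)))) .nil) (.node 0 (.node 0 .nil (.node 0 .nil (.node 531 .nil .nil))) .nil)) .nil) (.node 0 (.node 0 .nil (.node 0 .nil (.node 0 (.node 0 (.node 0 .nil (.node 478 .nil .nil)) .nil) .nil))) (.node 0 (.node 0 (.node 0 (.node 0 .nil (.node 74 .nil .nil)) .nil) .nil) (.node 0 (.node 0 (.node 0 .nil (.node 916 .nil .nil)) .nil) .nil))))) (.node 0 (.node 0 (.node 0 (.node 0 (.node 0 (.node 0 .nil (.node 0 .nil (.node 1018 .nil .nil))) .nil) (.node 0 .nil (.node 0 .nil (.node 0 (.node 0 .nil (.node 394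 .nil .nil)) .nil)))) .nil) (.node 0 (.node 0 (.node 0 (.node 0 .nil (.node 795 .nil .nil)) .nil) (.node 0 (.node 0 .nil (.node 0 (.node 0 (.node 0 .nil (.node 541 .nil .nil)) .nil) .nil)) .nil)) .nil)) (.node 0 (.node 0 (.node 0 .nil (.node 0 .nil (.node 0 .nil (.node 0 (.node 0 (.node 0 .nil (.node 1142 .nil .nil)) .nil) .nil)))) .nil) (.node 0 (.node 0 (.node 0 (.node 0 (.node 0 (.node 0 .nil (.node 753 .nil .nil)) .nil) .nil) .nil) .nil) (.node 0 (.node 0 .nil (.node 0 .nil (.node 0 .nil (.node 0 .nil (.node 864 .nil .nil))))) .nil))))) (.node 0 (.node 0 (.node 0 (.node 0 .nil (.node 0 .nil (.node 0 (.node 0 .nil (.node 0 .nil (.node 0 .nil (.node 96 .nil .nil)))) .nil))) (.node 0 (.node 0 .nil (.node 0 (.node 0 (.node 0 (.node 0 (.node 0 .nil (.node 980 .nil .nil)) .nil) .nil) .nil) (.node 0 (.node 0 .nil (.node 0 .nil (.node 1135 .nil .nil))) .nil))) .nil)) (.node 0 (.node 0 .nil (.node 0 .nil (.node 0 .nil (.node 0 (.node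 0 (.node 0 (.node 0 .nil (.node 335 .nil .nil)) .nil) .nil) .nil)))) (.node 0 .nil (.node 0 (.node 0 .nil (.node 0 .nil (.node 0 .nil (.node 102 .nil .nil)))) .nil)))) (.node 0 (.node 0 .nil (.node 0 (.node 0 (.node 0 .nil (.node 0 (.node 0 (.node 0 (.node 0 .nil (.node 471 .nil .nil)) .nil) .nil) .nil)) (.node 0 (.node 0 .nil (.node 154 .nil .nil)) .nil)) .nil)) (.node 0 (.node 0 (.node 0 (.node 0 .nil (.node 0 .nil (.node 1103 .nil .nil))) .nil) .nil) (.node 0 (.node 0 (.node 0 (.node 0 (.node 0 .nil (.node 44 .nil .nil)) (.node 0 .nil (.node 0 .nil (.node 533 .nil .nil)))) (.node 0 .nil (.node 0 .nil (.node 0 .nil (.node 1012 .nil .nil))))) .nil) (.node 0 (.node 0 .nil (.node 0 .nil (.node 0 .nil (.node 1011 .nil .nil)))) .nil))))))) (.node 0 (.node 0 (.node 0 (.node 0 (.node 0 (.node 0 (.node 0 .nil (.node 0 .nil (.node 0 (.node 0 (.node 0 .nil (.node 237 .nil .nil)) .nil) .nil))) (.node 0 (.node 0 .nil (.node 0 .nil (.node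 0 (.node 0 (.node 0 .nil (.node 1026 .nil .nil)) .nil) .nil))) .nil)) (.node 0 (.node 0 .nil (.node 0 (.node 0 .nil (.node 779 .nil .nil)) .nil)) (.node 0 (.node 0 (.node 0 (.node 0 (.node 0 (.node 0 .nil (.node 758 .nil .nil)) .nil) .nil) .nil) .nil) .nil))) (.node 0 (.node 0 (.node 0 (.node 0 (.node 0 .nil (.node 1113 .nil .nil)) .nil) (.node 0 (.node 0 .nil (.node 0 (.node 0 (.node 0 .nil (.node 426 .nil .nil)) .nil) .nil)) .nil)) (.node 503 (.node 0 (.node 0 (.node 0 (.node 0 .nil (.node 890 .nil .nil)) .nil) (.node 0 .nil (.node 549 .nil .nil))) .nil) .nil)) (.node 0 (.node 0 (.node 0 (.node 0 (.node 0 .nil (.node 538 .nil .nil)) .nil) .nil) .nil) (.node 0 (.node 0 .nil (.node 0 .nil (.node 0 (.node 0 (.node 0 .nil (.node 958 .nil .nil)) .nil) .nil))) .nil)))) (.node 0 (.node 0 (.node 0 (.node 0 (.node 0 (.node 0 (.node 0 (.node 0 (.node 0 .nil (.node 876 .nil .nil)) .nil) .nil) .nil) .nil) .nil) (.node 0 (.node 0 .nil (.node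 0 .nil (.node 0 .nil (.node 780 .nil .nil)))) (.node 0 .nil (.node 129 .nil .nil)))) (.node 0 (.node 0 (.node 0 (.node 0 .nil (.node 0 .nil (.node 0 .nil (.node 116 .nil .nil)))) .nil) .nil) (.node 0 (.node 0 .nil (.node 0 (.node 0 .nil (.node 0 .nil (.node 909 .nil .nil))) .nil)) (.node 0 .nil (.node 0 (.node 0 (.node 0 (.node 0 .nil (.node 750 .nil .nil)) .nil) (.node 0 .nil (.node 425 .nil .nil))) .nil))))) (.node 0 (.node 0 (.node 0 .nil (.node 0 (.node 0 .nil (.node 765 .nil .nil)) .nil)) .nil) (.node 0 (.node 0 .nil (.node 1 .nil .nil)) .nil)))) (.node 0 (.node 0 (.node 0 (.node 0 (.node 0 .nil (.node 0 (.node 0 (.node 0 (.node 0 (.node 0 .nil (.node 357 .nil .nil)) .nil) .nil) .nil) .nil)) (.node 0 (.node 0 (.node 0 (.node 0 .nil (.node 0 .nil (.node 487 .nil .nil))) .nil) .nil) (.node 0 .nil (.node 0 .nil (.node 0 (.node 0 .nil (.node 957 .nil .nil)) .nil))))) (.node 0 (.node 0 (.node 0 .nil (.node 0 .nil (.node 0 .nil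 (.node 759 .nil .nil)))) (.node 0 (.node 0 (.node 0 .nil (.node 0 .nil (.node 172 .nil .nil))) .nil) (.node 448 (.node 0 .nil (.node 837 .nil .nil)) .nil))) (.node 0 (.node 0 (.node 0 (.node 0 .nil (.node 0 .nil (.node 99 .nil .nil))) .nil) .nil) .nil))) (.node 0 (.node 0 (.node 0 (.node 0 (.node 0 .nil (.node 0 .nil (.node 556 .nil .nil))) .nil) (.node 0 (.node 0 .nil (.node 0 .nil (.node 365 .nil .nil))) .nil)) (.node 0 (.node 0 .nil (.node 0 .nil (.node 0 (.node 0 .nil (.node 939 .nil .nil)) .nil))) .nil)) (.node 0 (.node 0 .nil (.node 0 (.node 0 (.node 0 (.node 0 .nil (.node 766 .nil .nil)) .nil) .nil) .nil)) (.node 0 (.node 0 .nil (.node 0 (.node 0 (.node 0 (.node 0 .nil (.node 1140 .nil .nil)) .nil) .nil) .nil)) (.node 821 .nil (.node 0 .nil (.node 0 .nil (.node 486 .nil (.node 924 .nil .nil))))))))) (.node 0 (.node 0 .nil (.node 0 .nil (.node 0 .nil (.node 0 (.node 0 (.node 0 (.node 0 (.node 0 .nil (.node 488 .nil .nil))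 .nil) .nil) .nil) (.node 423 .nil .nil))))) (.node 0 (.node 0 (.node 0 .nil (.node 0 .nil (.node 0 (.node 0 (.node 0 .nil (.node 47 .nil .nil)) .nil) .nil))) .nil) (.node 0 (.node 0 .nil (.node 0 .nil (.node 0 .nil (.node 5 .nil .nil)))) (.node 0 .nil (.node 836 .nil .nil))))))) (.node 0 (.node 0 (.node 0 (.node 0 .nil (.node 0 .nil (.node 0 (.node 0 .nil (.node 0 (.node 0 (.node 0 (.node 0 .nil (.node 59 .nil .nil)) .nil) .nil) .nil)) (.node 0 (.node 0 .nil (.node 0 (.node 0 .nil (.node 73 .nil .nil)) .nil)) .nil)))) (.node 0 (.node 0 .nil (.node 0 .nil (.node 0 (.node 0 .nil (.node 0 .nil (.node 0 .nil (.node 527 .nil .nil)))) .nil))) (.node 0 (.node 0 (.node 0 .nil (.node 0 .nil (.node 432 .nil .nil))) (.node 0 (.node 0 (.node 0 (.node 0 .nil (.node 988 .nil .nil)) .nil) .nil) .nil)) (.node 321 (.node 0 .nil (.node 0 .nil (.node 123 .nil .nil))) .nil)))) (.node 0 (.node 0 (.node 0 (.node 0 (.node 0 .nil (.node 599 .nil .nil))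 .nil) (.node 0 (.node 0 (.node 0 (.node 0 (.node 0 (.node 0 .nil (.node 998 .nil .nil)) .nil) (.node 526 .nil .nil)) (.node 0 (.node 0 .nil (.node 698 .nil .nil)) .nil)) .nil) .nil)) .nil) (.node 0 .nil (.node 0 (.node 0 (.node 0 (.node 0 .nil (.node 0 (.node 0 (.node 0 .nil (.node 513 .nil .nil)) .nil) .nil)) (.node 0 (.node 0 (.node 0 .nil (.node 494 .nil .nil)) .nil) .nil)) .nil) .nil)))) (.node 0 (.node 0 (.node 0 (.node 0 (.node 0 .nil (.node 0 .nil (.node 732 .nil .nil))) (.node 0 .nil (.node 0 .nil (.node 0 (.node 0 (.node 0 (.node 0 .nil (.node 908 .nil .nil)) .nil) (.node 720 .nil (.node 550 .nil .nil))) .nil)))) (.node 0 (.node 0 (.node 0 (.node 0 .nil (.node 0 .nil (.node 0 .nil (.node 216 .nil .nil)))) .nil) .nil) .nil)) (.node 0 (.node 0 (.node 0 (.node 0 (.node 0 (.node 0 (.node 0 (.node 0 .nil (.node 767 .nil .nil)) (.node 424 .nil .nil)) .nil) .nil) .nil) .nil) .nil) (.node 0 .nil (.node 0 (.node 0 (.node 0 (.node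 0 (.node 0 (.node 0 .nil (.node 465 .nil .nil)) .nil) .nil) .nil) .nil) (.node 0 (.node 0 (.node 0 (.node 0 (.node 0 .nil (.node 238 .nil .nil)) .nil) .nil) .nil) .nil))))) (.node 0 (.node 0 (.node 0 (.node 0 (.node 0 .nil (.node 0 (.node 0 (.node 0 (.node 0 .nil (.node 367 .nil .nil)) .nil) .nil) .nil)) (.node 1094 .nil (.node 493 .nil .nil))) .nil) (.node 0 (.node 0 (.node 0 .nil (.node 0 .nil (.node 0 (.node 0 (.node 0 .nil (.node 823 .nil .nil)) .nil) .nil))) .nil) .nil)) (.node 0 (.node 0 (.node 0 (.node 0 .nil (.node 0 .nil (.node 0 (.node 0 .nil (.node 68 .nil .nil)) .nil))) (.node 0 .nil (.node 0 (.node 0 .nil (.node 0 .nil (.node 740 .nil .nil))) .nil))) (.node 0 .nil (.node 0 (.node 0 .nil (.node 0 .nil (.node 0 .nil (.node 697 .nil .nil)))) .nil))) (.node 0 .nil (.node 0 (.node 0 (.node 0 (.node 0 .nil (.node 0 .nil (.node 160 .nil .nil))) (.node 889 .nil .nil)) (.node 0 (.node 0 .nil (.node 0 .nil (.node 582 .nil .nil)))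 .nil)) .nil)))))))) (.node 0 (.node 0 (.node 0 (.node 0 (.node 0 (.node 0 (.node 0 .nil (.node 0 (.node 0 (.node 0 (.node 0 .nil (.node 0 .nil (.node 141 .nil .nil))) .nil) .nil) (.node 0 .nil (.node 0 (.node 0 .nil (.node 0 .nil (.node 368 .nil .nil))) .nil)))) (.node 0 .nil (.node 0 (.node 0 (.node 0 .nil (.node 0 .nil (.node 0 .nil (.node 662 .nil .nil)))) .nil) .nil))) (.node 0 (.node 0 (.node 0 (.node 0 (.node 0 (.node 0 (.node 0 (.node 0 .nil (.node 459 .nil .nil)) .nil) .nil) .nil) .nil) (.node 0 .nil (.node 0 (.node 0 (.node 0 (.node 0 .nil (.node 861 .nil .nil)) .nil) .nil) .nil))) (.node 1141 .nil (.node 0 .nil (.node 0 (.node 0 (.node 0 .nil (.node 911 .nil .nil)) .nil) (.node 826 .nil .nil))))) (.node 0 (.node 0 .nil (.node 0 (.node 0 (.node 0 (.node 0 .nil (.node 304 .nil .nil)) .nil) (.node 0 (.node 0 .nil (.node 224 .nil .nil)) .nil)) (.node 0 .nil (.node 661 .nil .nil)))) (.node 0 .nil (.node 0 .nil (.node 0 .nil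 (.node 0 .nil (.node 1071 .nil .nil)))))))) (.node 0 (.node 0 (.node 0 .nil (.node 0 (.node 0 .nil (.node 0 .nil (.node 1129 .nil .nil))) (.node 0 (.node 0 .nil (.node 0 (.node 0 (.node 0 .nil (.node 1005 .nil .nil)) .nil) .nil)) .nil))) (.node 0 (.node 0 .nil (.node 0 .nil (.node 0 .nil (.node 0 (.node 0 (.node 0 .nil (.node 226 .nil .nil)) .nil) .nil)))) .nil)) (.node 0 (.node 0 .nil (.node 0 (.node 0 .nil (.node 0 (.node 0 (.node 0 .nil (.node 1017 .nil .nil)) .nil) .nil)) .nil)) (.node 0 .nil (.node 0 (.node 0 (.node 0 (.node 0 .nil (.node 443 .nil .nil)) .nil) .nil) (.node 0 (.node 0 (.node 0 .nil (.node 1108 .nil .nil)) .nil) .nil)))))) (.node 0 (.node 0 (.node 0 (.node 0 .nil (.node 0 (.node 0 (.node 0 .nil (.node 984 .nil .nil)) .nil) (.node 858 .nil (.node 0 (.node 0 .nil (.node 632 .nil .nil)) .nil)))) (.node 0 (.node 0 (.node 0 (.node 0 (.node 0 (.node 0 .nil (.node 1101 .nil .nil)) .nil) .nil) (.node 514 .nil .nil))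 .nil) .nil)) (.node 0 (.node 0 .nil (.node 0 (.node 0 .nil (.node 0 (.node 0 .nil (.node 600 .nil .nil)) .nil)) (.node 0 .nil (.node 0 .nil (.node 0 .nil (.node 173 .nil .nil)))))) (.node 0 .nil (.node 0 (.node 0 .nil (.node 0 .nil (.node 0 (.node 0 .nil (.node 860 .nil .nil)) (.node 428 .nil .nil)))) .nil)))) (.node 0 (.node 0 (.node 0 (.node 0 (.node 0 (.node 0 (.node 0 .nil (.node 0 .nil (.node 94 .nil .nil))) (.node 0 (.node 0 (.node 0 .nil (.node 345 .nil .nil)) .nil) .nil)) (.node 0 (.node 0 (.node 0 .nil (.node 274 .nil .nil)) .nil) (.node 0 .nil (.node 359 .nil .nil)))) .nil) .nil) (.node 0 .nil (.node 0 (.node 0 (.node 0 (.node 0 .nil (.node 334 .nil .nil)) .nil) .nil) (.node 0 (.node 0 (.node 0 .nil (.node 36 .nil .nil)) (.node 0 (.node 0 .nil (.node 1134 .nil .nil)) .nil)) .nil)))) (.node 0 (.node 0 .nil (.node 0 (.node 0 (.node 0 .nil (.node 0 (.node 0 (.node 0 .nil (.node 327 .nil .nil)) .nil) .nil)) .nil) .nil))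 (.node 0 (.node 0 .nil (.node 0 (.node 0 .nil (.node 203 .nil .nil)) .nil)) (.node 0 (.node 0 .nil (.node 0 (.node 0 .nil (.node 408 .nil .nil)) (.node 0 .nil (.node 506 .nil .nil)))) (.node 400 .nil (.node 0 (.node 0 (.node 0 (.node 0 .nil (.node 623 .nil .nil)) .nil) .nil) .nil)))))))) (.node 0 (.node 0 (.node 0 (.node 0 (.node 0 (.node 0 (.node 0 (.node 0 .nil (.node 0 (.node 0 (.node 0 .nil (.node 491 .nil .nil)) .nil) .nil)) .nil) .nil) (.node 0 (.node 0 .nil (.node 0 .nil (.node 60 .nil .nil))) .nil)) (.node 0 .nil (.node 0 (.node 0 (.node 0 .nil (.node 0 (.node 0 (.node 0 .nil (.node 218 .nil .nil)) .nil) .nil)) (.node 0 (.node 0 (.node 0 (.node 0 .nil (.node 879 .nil .nil)) .nil) .nil) .nil)) (.node 0 (.node 0 (.node 0 .nil (.node 0 .nil (.node 918 .nil .nil))) .nil) (.node 0 (.node 0 .nil (.node 161 .nil .nil)) .nil))))) (.node 0 (.node 0 (.node 0 .nil (.node 0 (.node 0 .nil (.node 0 (.node 0 (.node 0 .nil (.node 1067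 .nil .nil)) .nil) .nil)) .nil)) (.node 0 .nil (.node 0 (.node 0 (.node 0 .nil (.node 977 .nil .nil)) .nil) .nil))) (.node 0 .nil (.node 0 .nil (.node 0 .nil (.node 0 .nil (.node 0 (.node 0 (.node 0 .nil (.node 1143 .nil .nil)) .nil) .nil))))))) (.node 0 (.node 0 (.node 0 (.node 0 .nil (.node 0 (.node 0 .nil (.node 0 (.node 0 .nil (.node 70 .nil .nil)) .nil)) .nil)) (.node 0 (.node 0 (.node 0 (.node 0 .nil (.node 451 .nil .nil)) .nil) .nil) .nil)) (.node 0 .nil (.node 0 (.node 0 .nil (.node 0 (.node 0 (.node 0 .nil (.node 1123 .nil .nil)) .nil) .nil)) (.node 0 .nil (.node 0 .nil (.node 0 (.node 0 .nil (.node 204 .nil .nil)) .nil)))))) (.node 0 (.node 0 (.node 0 (.node 0 .nil (.node 0 (.node 0 (.node 0 .nil (.node 180 .nil .nil)) .nil) .nil)) (.node 0 (.node 0 (.node 0 (.node 0 .nil (.node 646 .nil .nil)) .nil) .nil) .nil)) .nil) (.node 0 (.node 0 (.node 0 .nil (.node 0 .nil (.node 0 (.node 0 .nil (.node 724 .nil .nil)) .nil)))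 .nil) (.node 0 .nil (.node 807 .nil .nil)))))) (.node 0 (.node 0 (.node 0 (.node 0 .nil (.node 0 (.node 0 (.node 0 .nil (.node 0 (.node 0 .nil (.node 251 .nil .nil)) .nil)) (.node 390 .nil .nil)) .nil)) (.node 0 (.node 0 .nil (.node 0 (.node 0 .nil (.node 0 .nil (.node 0 .nil (.node 793 .nil .nil)))) (.node 0 (.node 0 (.node 0 .nil (.node 1118 .nil .nil)) .nil) .nil))) .nil)) (.node 0 (.node 0 (.node 0 .nil (.node 0 (.node 0 (.node 0 .nil (.node 49 .nil .nil)) .nil) .nil)) (.node 0 (.node 0 (.node 0 .nil (.node 467 .nil .nil)) .nil) .nil)) (.node 0 .nil (.node 0 (.node 0 (.node 0 (.node 0 .nil (.node 0 .nil (.node 56 .nil .nil))) .nil) (.node 0 (.node 0 .nil (.node 0 .nil (.node 497 .nil .nil))) .nil)) .nil)))) (.node 0 (.node 0 (.node 0 .nil (.node 0 (.node 0 (.node 0 (.node 0 (.node 0 (.node 0 .nil (.node 353 .nil .nil)) .nil) .nil) .nil) .nil) .nil)) (.node 0 .nil (.node 0 .nil (.node 0 .nil (.node 0 (.node 0 (.node 0 (.node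 0 .nil (.node 734 .nil .nil)) .nil) (.node 391 .nil .nil)) .nil))))) (.node 0 (.node 0 (.node 0 .nil (.node 0 (.node 0 .nil (.node 568 .nil (.node 769 .nil .nil))) .nil)) .nil) (.node 0 (.node 0 (.node 0 .nil (.node 0 .nil (.node 0 (.node 0 .nil (.node 964 .nil .nil)) .nil))) .nil) .nil)))))) (.node 0 (.node 0 (.node 0 (.node 0 (.node 0 (.node 0 (.node 0 .nil (.node 0 .nil (.node 0 .nil (.node 0 .nil (.node 0 .nil (.node 581 .nil .nil)))))) .nil) (.node 0 (.node 0 .nil (.node 0 (.node 0 (.node 0 (.node 0 .nil (.node 41 .nil .nil)) .nil) .nil) .nil)) (.node 0 (.node 0 .nil (.node 0 (.node 0 .nil (.node 65 .nil .nil)) .nil)) (.node 0 (.node 0 (.node 0 (.node 0 (.node 0 .nil (.node 695 .nil .nil)) .nil) .nil) .nil) (.node 0 (.node 0 .nil (.node 0 .nil (.node 843 .nil .nil))) .nil))))) (.node 0 (.node 0 (.node 0 .nil (.node 127 .nil (.node 0 (.node 0 (.node 0 (.node 0 .nil (.node 281 .nil .nil)) .nil) .nil) .nil))) .nil) (.node 0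 .nil (.node 0 (.node 0 (.node 0 .nil (.node 0 .nil (.node 211 .nil .nil))) .nil) .nil)))) (.node 596 (.node 0 (.node 0 (.node 0 .nil (.node 0 (.node 0 .nil (.node 0 .nil (.node 387 .nil .nil))) (.node 0 .nil (.node 0 .nil (.node 994 .nil .nil))))) .nil) (.node 0 (.node 0 (.node 0 (.node 0 (.node 0 .nil (.node 937 .nil .nil)) .nil) .nil) (.node 0 .nil (.node 0 .nil (.node 0 .nil (.node 0 .nil (.node 437 .nil .nil)))))) (.node 0 (.node 0 .nil (.node 0 .nil (.node 0 .nil (.node 818 .nil .nil)))) (.node 0 (.node 0 .nil (.node 873 .nil .nil)) .nil)))) (.node 0 (.node 0 (.node 0 (.node 0 (.node 0 (.node 0 (.node 0 .nil (.node 396 .nil .nil)) .nil) (.node 0 .nil (.node 0 .nil (.node 501 .nil .nil)))) (.node 0 (.node 0 .nil (.node 0 .nil (.node 82 .nil .nil))) .nil)) (.node 0 (.node 0 (.node 0 (.node 0 .nil (.node 1127 .nil .nil)) .nil) .nil) (.node 0 (.node 0 .nil (.node 0 .nil (.node 756 .nil .nil))) .nil))) (.node 0 .nil (.node 184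 .nil (.node 0 (.node 0 .nil (.node 763 .nil .nil)) .nil)))) (.node 0 (.node 0 (.node 0 (.node 0 .nil (.node 508 .nil .nil)) .nil) (.node 0 .nil (.node 0 .nil (.node 0 .nil (.node 814 .nil .nil))))) (.node 0 .nil (.node 0 .nil (.node 0 (.node 0 .nil (.node 1061 .nil .nil)) .nil))))))) (.node 899 (.node 0 (.node 0 (.node 0 (.node 0 (.node 0 (.node 0 .nil (.node 0 .nil (.node 0 .nil (.node 500 .nil .nil)))) .nil) .nil) (.node 523 (.node 0 (.node 0 .nil (.node 0 .nil (.node 0 .nil (.node 164 .nil .nil)))) .nil) .nil)) (.node 0 (.node 0 .nil (.node 0 (.node 0 .nil (.node 103 .nil .nil)) .nil)) (.node 0 (.node 0 (.node 0 .nil (.node 0 (.node 0 (.node 0 .nil (.node 475 .nil .nil)) .nil) .nil)) (.node 0 .nil (.node 0 .nil (.node 0 .nil (.node 747 .nil .nil))))) (.node 0 (.node 0 (.node 0 (.node 0 (.node 0 .nil (.node 894 .nil .nil)) .nil) .nil) .nil) .nil)))) (.node 0 (.node 0 (.node 0 .nil (.node 0 (.node 0 .nil (.node 0 (.node 0 .nil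 (.node 874 .nil .nil)) (.node 615 .nil .nil))) .nil)) .nil) (.node 0 .nil (.node 0 (.node 0 .nil (.node 0 (.node 0 (.node 0 (.node 0 .nil (.node 378 .nil .nil)) .nil) .nil) .nil)) .nil)))) (.node 0 (.node 0 (.node 0 (.node 0 .nil (.node 0 (.node 0 (.node 0 .nil (.node 819 .nil .nil)) .nil) .nil)) (.node 0 (.node 0 .nil (.node 0 (.node 0 .nil (.node 0 .nil (.node 1132 .nil .nil))) .nil)) (.node 0 (.node 0 .nil (.node 0 (.node 0 (.node 0 .nil (.node 546 .nil .nil)) .nil) .nil)) .nil))) (.node 0 (.node 0 (.node 0 (.node 0 .nil (.node 200 .nil .nil)) (.node 0 (.node 0 (.node 0 .nil (.node 950 .nil .nil)) .nil) .nil)) (.node 0 (.node 0 (.node 0 (.node 0 .nil (.node 138 .nil .nil)) .nil) .nil) (.node 0 (.node 0 (.node 0 (.node 0 .nil (.node 1076 .nil .nil)) .nil) .nil) .nil))) (.node 0 .nil (.node 0 (.node 0 .nil (.node 0 (.node 0 (.node 0 .nil (.node 128 .nil .nil)) .nil) .nil)) (.node 0 (.node 0 (.node 0 .nil (.node 113 .nil .nil))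 .nil) .nil))))) (.node 0 (.node 0 (.node 0 .nil (.node 0 .nil (.node 0 .nil (.node 0 .nil (.node 0 .nil (.node 284 .nil .nil)))))) .nil) (.node 0 (.node 0 .nil (.node 0 .nil (.node 0 (.node 0 (.node 0 .nil (.node 338 .nil .nil)) .nil) .nil))) .nil))))) (.node 0 (.node 0 (.node 0 (.node 0 (.node 0 (.node 0 (.node 0 .nil (.node 0 .nil (.node 0 (.node 0 .nil (.node 295 .nil .nil)) .nil))) .nil) (.node 0 .nil (.node 0 (.node 0 .nil (.node 0 .nil (.node 0 .nil (.node 52 .nil .nil)))) (.node 0 (.node 0 .nil (.node 1120 .nil .nil)) .nil)))) (.node 0 (.node 0 (.node 0 (.node 0 .nil (.node 0 (.node 0 .nil (.node 61 .nil .nil)) .nil)) .nil) .nil) (.node 0 .nil (.node 0 .nil (.node 0 (.node 0 .nil (.node 0 .nil (.node 688 .nil .nil))) .nil))))) (.node 0 (.node 0 (.node 0 .nil (.node 0 (.node 0 (.node 0 .nil (.node 0 .nil (.node 246 .nil .nil))) .nil) .nil)) (.node 0 .nil (.node 0 (.node 0 (.node 0 .nil (.node 412 .nil .nil)) (.node 0 (.node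 0 .nil (.node 587 .nil .nil)) .nil)) .nil))) (.node 0 .nil (.node 0 .nil (.node 0 (.node 0 .nil (.node 0 .nil (.node 0 .nil (.node 871 .nil .nil)))) (.node 0 .nil (.node 0 .nil (.node 258 .nil .nil)))))))) (.node 0 (.node 0 (.node 0 (.node 0 .nil (.node 0 (.node 0 (.node 0 (.node 0 .nil (.node 177 .nil .nil)) .nil) .nil) .nil)) (.node 0 .nil (.node 0 (.node 0 .nil (.node 0 .nil (.node 0 .nil (.node 932 .nil .nil)))) (.node 0 .nil (.node 0 .nil (.node 0 .nil (.node 574 .nil .nil))))))) (.node 0 (.node 0 (.node 0 (.node 0 (.node 0 (.node 0 (.node 0 .nil (.node 1047 .nil .nil)) .nil) .nil) .nil) .nil) (.node 0 (.node 0 .nil (.node 0 (.node 0 .nil (.node 584 .nil .nil)) .nil)) .nil)) (.node 0 (.node 0 .nil (.node 0 .nil (.node 462 .nil .nil))) .nil))) (.node 0 (.node 0 (.node 0 .nil (.node 0 .nil (.node 0 (.node 0 .nil (.node 0 .nil (.node 659 .nil .nil))) (.node 0 .nil (.node 0 .nil (.node 690 .nil .nil)))))) .nil) (.node 0 .nil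 (.node 0 .nil (.node 0 .nil (.node 565 .nil .nil))))))) (.node 0 (.node 0 (.node 0 (.node 0 (.node 0 (.node 0 (.node 0 .nil (.node 0 (.node 0 .nil (.node 230 .nil .nil)) .nil)) (.node 0 .nil (.node 544 .nil .nil))) .nil) (.node 0 .nil (.node 0 (.node 0 .nil (.node 0 .nil (.node 148 .nil .nil))) .nil))) (.node 0 (.node 0 (.node 0 (.node 0 .nil (.node 0 .nil (.node 0 .nil (.node 635 .nil .nil)))) .nil) (.node 0 .nil (.node 0 .nil (.node 0 .nil (.node 522 .nil .nil))))) .nil)) (.node 0 .nil (.node 0 .nil (.node 0 (.node 0 (.node 0 (.node 0 .nil (.node 0 .nil (.node 524 .nil .nil))) .nil) .nil) (.node 0 (.node 0 .nil (.node 0 (.node 0 (.node 0 .nil (.node 440 .nil .nil)) .nil) .nil)) .nil))))) (.node 0 (.node 0 (.node 0 (.node 0 .nil (.node 0 .nil (.node 0 (.node 0 .nil (.node 58 .nil .nil)) (.node 0 .nil (.node 945 .nil .nil))))) .nil) (.node 0 .nil (.node 0 (.node 0 .nil (.node 0 .nil (.node 0 .nil (.node 922 .nil .nil)))) (.node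 0 .nil (.node 0 .nil (.node 0 .nil (.node 0 .nil (.node 91 .nil .nil)))))))) (.node 0 (.node 0 (.node 0 (.node 0 .nil (.node 0 (.node 0 (.node 0 .nil (.node 1031 .nil .nil)) (.node 0 .nil (.node 1138 .nil .nil))) .nil)) (.node 0 .nil (.node 0 .nil (.node 0 (.node 0 (.node 0 .nil (.node 1079 .nil .nil)) .nil) .nil)))) (.node 0 .nil (.node 0 (.node 0 .nil (.node 0 (.node 0 (.node 0 .nil (.node 121 .nil .nil)) .nil) .nil)) .nil))) (.node 0 .nil (.node 0 .nil (.node 0 (.node 0 (.node 0 (.node 0 .nil (.node 704 .nil .nil)) .nil) .nil) (.node 0 (.node 0 .nil (.node 0 .nil (.node 517 .nil .nil))) .nil))))))))))) (.node 0 (.node 0 (.node 0 (.node 0 (.node 0 (.node 0 (.node 0 (.node 0 .nil (.node 0 (.node 0 (.node 0 .nil (.node 0 (.node 0 .nil (.node 373 .nil .nil)) .nil)) (.node 490 .nil .nil)) .nil)) (.node 0 (.node 0 (.node 0 .nil (.node 325 .nil .nil)) (.node 0 (.node 0 (.node 0 .nil (.node 10 .nil .nil)) (.node 0 (.node 0 .nil (.node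 1096 .nil .nil)) .nil)) .nil)) (.node 0 (.node 0 .nil (.node 0 .nil (.node 0 (.node 0 .nil (.node 306 .nil .nil)) .nil))) (.node 0 (.node 0 (.node 0 (.node 0 .nil (.node 444 .nil .nil)) .nil) .nil) .nil)))) (.node 0 (.node 0 (.node 0 (.node 0 (.node 0 .nil (.node 0 (.node 0 (.node 0 .nil (.node 197 .nil .nil)) .nil) .nil)) .nil) .nil) (.node 0 (.node 0 .nil (.node 0 (.node 0 (.node 0 (.node 0 .nil (.node 1001 .nil .nil)) .nil) .nil) .nil)) .nil)) (.node 0 (.node 0 .nil (.node 0 .nil (.node 0 (.node 0 .nil (.node 209 .nil .nil)) .nil))) .nil))) (.node 0 (.node 0 (.node 0 .nil (.node 0 (.node 0 (.node 0 .nil (.node 0 .nil (.node 1065 .nil .nil))) .nil) (.node 0 (.node 0 (.node 0 (.node 0 (.node 0 .nil (.node 260 .nil .nil)) .nil) .nil) .nil) .nil))) (.node 0 (.node 0 .nil (.node 0 (.node 0 .nil (.node 0 (.node 0 .nil (.node 18 .nil .nil)) .nil)) (.node 22 (.node 0 .nil (.node 152 .nil .nil)) .nil))) (.node 0 .nil (.node 0 (.node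 0 .nil (.node 0 (.node 0 (.node 0 .nil (.node 647 .nil .nil)) .nil) .nil)) .nil)))) (.node 0 .nil (.node 0 (.node 0 (.node 0 .nil (.node 0 (.node 0 (.node 0 .nil (.node 1111 .nil .nil)) .nil) .nil)) (.node 0 (.node 0 .nil (.node 0 .nil (.node 305 .nil .nil))) .nil)) (.node 708 .nil (.node 0 (.node 0 .nil (.node 0 (.node 0 .nil (.node 928 .nil .nil)) (.node 559 .nil .nil))) .nil)))))) (.node 1115 (.node 0 (.node 0 (.node 0 (.node 0 (.node 0 .nil (.node 0 (.node 0 .nil (.node 0 .nil (.node 256 .nil .nil))) .nil)) (.node 817 (.node 0 .nil (.node 0 (.node 0 (.node 0 .nil (.node 785 .nil .nil)) .nil) .nil)) (.node 0 (.node 0 .nil (.node 0 .nil (.node 95 .nil .nil))) .nil))) (.node 0 .nil (.node 0 (.node 0 (.node 0 (.node 0 .nil (.node 562 .nil .nil)) .nil) .nil) .nil))) (.node 0 .nil (.node 0 .nil (.node 0 .nil (.node 0 .nil (.node 0 .nil (.node 1119 .nil .nil))))))) (.node 0 .nil (.node 0 (.node 0 (.node 0 (.node 0 .nil (.node 948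 .nil .nil)) .nil) .nil) (.node 0 .nil (.node 0 .nil (.node 0 .nil (.node 751 (.node 0 .nil (.node 63 .nil .nil)) .nil))))))) (.node 0 (.node 0 (.node 0 (.node 0 (.node 0 (.node 0 .nil (.node 0 .nil (.node 108 .nil .nil))) .nil) .nil) (.node 0 (.node 0 .nil (.node 0 (.node 0 (.node 0 .nil (.node 1089 .nil .nil)) (.node 898 .nil .nil)) .nil)) (.node 0 .nil (.node 0 .nil (.node 637 .nil .nil))))) (.node 0 (.node 0 (.node 0 (.node 0 (.node 0 .nil (.node 293 .nil .nil)) .nil) (.node 0 .nil (.node 0 .nil (.node 0 .nil (.node 1126 .nil .nil))))) (.node 0 (.node 0 .nil (.node 167 .nil .nil)) (.node 0 .nil (.node 0 .nil (.node 0 .nil (.node 1036 .nil .nil)))))) .nil)) (.node 0 (.node 0 (.node 0 (.node 0 (.node 0 .nil (.node 0 .nil (.node 0 .nil (.node 1027 .nil .nil)))) .nil) (.node 0 .nil (.node 0 .nil (.node 0 .nil (.node 1072 .nil .nil))))) (.node 0 (.node 0 (.node 0 (.node 0 (.node 0 .nil (.node 255 .nil .nil)) .nil) .nil) (.node 0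 (.node 0 (.node 0 (.node 0 .nil (.node 985 .nil .nil)) .nil) .nil) .nil)) .nil)) .nil)))) (.node 0 (.node 0 (.node 0 (.node 0 (.node 0 (.node 0 (.node 0 (.node 0 (.node 0 .nil (.node 0 (.node 0 .nil (.node 1084 .nil .nil)) .nil)) .nil) .nil) (.node 0 .nil (.node 0 .nil (.node 0 (.node 0 .nil (.node 210 .nil .nil)) .nil)))) (.node 0 (.node 0 .nil (.node 0 .nil (.node 0 .nil (.node 498 .nil .nil)))) .nil)) (.node 0 (.node 0 .nil (.node 0 (.node 0 (.node 0 (.node 0 .nil (.node 745 .nil .nil)) .nil) .nil) .nil)) (.node 0 .nil (.node 0 .nil (.node 0 (.node 0 (.node 0 .nil (.node 699 .nil .nil)) .nil) .nil))))) (.node 0 (.node 0 (.node 0 .nil (.node 0 .nil (.node 0 .nil (.node 0 .nil (.node 0 .nil (.node 919 .nil .nil)))))) (.node 0 (.node 0 (.node 0 .nil (.node 583 .nil .nil)) .nil) (.node 0 .nil (.node 0 .nil (.node 0 .nil (.node 972 .nil .nil)))))) (.node 0 (.node 0 .nil (.node 0 .nil (.node 0 .nil (.node 0 (.node 0 (.node 0 .nil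 (.node 136 .nil .nil)) .nil) .nil)))) (.node 0 (.node 0 (.node 0 (.node 0 (.node 0 .nil (.node 848 .nil .nil)) .nil) .nil) .nil) .nil)))) (.node 0 (.node 0 (.node 0 (.node 0 (.node 0 (.node 0 .nil (.node 0 (.node 0 (.node 0 .nil (.node 126 .nil .nil)) .nil) .nil)) .nil) .nil) (.node 0 (.node 0 (.node 0 .nil (.node 0 (.node 0 (.node 0 .nil (.node 313 .nil .nil)) .nil) .nil)) .nil) (.node 0 .nil (.node 0 (.node 0 (.node 0 (.node 0 .nil (.node 434 .nil .nil)) .nil) .nil) .nil)))) (.node 0 (.node 0 .nil (.node 0 .nil (.node 0 .nil (.node 761 .nil .nil)))) .nil)) (.node 0 (.node 0 (.node 0 .nil (.node 0 (.node 0 .nil (.node 684 .nil .nil)) .nil)) (.node 1102 .nil .nil)) (.node 0 (.node 0 (.node 0 (.node 0 (.node 0 (.node 0 .nil (.node 360 .nil .nil)) .nil) .nil) .nil) .nil) (.node 0 .nil (.node 0 .nil (.node 0 (.node 0 .nil (.node 0 .nil (.node 1058 .nil .nil))) .nil))))))) (.node 0 (.node 0 (.node 0 (.node 0 (.node 0 .nil (.node 0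 (.node 0 .nil (.node 0 (.node 0 .nil (.node 64 .nil .nil)) .nil)) .nil)) .nil) (.node 0 (.node 0 .nil (.node 700 .nil .nil)) .nil)) (.node 0 .nil (.node 0 (.node 0 (.node 0 (.node 0 (.node 0 (.node 0 (.node 0 .nil (.node 195 .nil .nil)) .nil) .nil) .nil) (.node 0 (.node 0 (.node 0 (.node 0 .nil (.node 869 .nil .nil)) .nil) .nil) .nil)) .nil) (.node 0 .nil (.node 0 .nil (.node 0 .nil (.node 344 .nil .nil))))))) (.node 0 (.node 0 (.node 0 (.node 0 .nil (.node 0 (.node 0 (.node 0 (.node 0 .nil (.node 744 .nil .nil)) .nil) (.node 0 .nil (.node 718 .nil .nil))) .nil)) (.node 0 (.node 0 .nil (.node 0 (.node 0 .nil (.node 701 .nil .nil)) .nil)) .nil)) (.node 0 (.node 0 (.node 0 (.node 0 .nil (.node 0 .nil (.node 37 .nil .nil))) .nil) (.node 0 (.node 0 (.node 0 (.node 0 (.node 0 .nil (.node 1137 .nil .nil)) .nil) .nil) .nil) (.node 1091 (.node 0 .nil (.node 346 .nil .nil)) .nil))) .nil)) (.node 174 (.node 0 .nil (.node 0 .nil (.node 0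 (.node 0 .nil (.node 0 (.node 0 (.node 0 .nil (.node 1021 .nil .nil)) .nil) .nil)) .nil))) (.node 0 .nil (.node 0 (.node 0 .nil (.node 0 .nil (.node 0 (.node 0 (.node 0 .nil (.node 88 .nil .nil)) (.node 622 .nil .nil)) .nil))) (.node 0 (.node 0 .nil (.node 0 .nil (.node 800 .nil .nil))) .nil)))))))) (.node 0 (.node 0 (.node 0 (.node 0 (.node 0 (.node 0 (.node 0 (.node 0 .nil (.node 0 (.node 0 (.node 0 .nil (.node 906 .nil .nil)) (.node 0 .nil (.node 53 .nil .nil))) .nil)) .nil) .nil) (.node 0 .nil (.node 0 (.node 0 .nil (.node 0 .nil (.node 0 (.node 0 (.node 0 .nil (.node 963 .nil .nil)) .nil) .nil))) .nil))) (.node 0 (.node 0 (.node 0 .nil (.node 0 (.node 0 .nil (.node 0 .nil (.node 0 .nil (.node 112 .nil .nil)))) .nil)) .nil) (.node 0 (.node 0 .nil (.node 0 (.node 0 (.node 0 (.node 0 (.node 0 .nil (.node 355 .nil .nil)) .nil) .nil) .nil) .nil)) (.node 0 (.node 0 (.node 0 .nil (.node 0 (.node 0 .nil (.node 578 .nil .nil)) .nil))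 .nil) (.node 0 .nil (.node 0 .nil (.node 0 .nil (.node 670 .nil .nil)))))))) (.node 0 (.node 0 .nil (.node 0 (.node 0 .nil (.node 0 .nil (.node 0 (.node 0 (.node 0 (.node 0 .nil (.node 1007 .nil .nil)) .nil) .nil) .nil))) (.node 0 .nil (.node 0 .nil (.node 607 .nil .nil))))) (.node 0 .nil (.node 0 .nil (.node 0 .nil (.node 0 .nil (.node 0 .nil (.node 0 (.node 0 .nil (.node 822 .nil .nil)) .nil)))))))) (.node 0 (.node 0 (.node 0 (.node 0 (.node 0 .nil (.node 0 .nil (.node 689 .nil .nil))) (.node 0 (.node 0 .nil (.node 0 .nil (.node 0 (.node 0 (.node 0 .nil (.node 1033 .nil .nil)) .nil) (.node 0 .nil (.node 733 .nil .nil))))) .nil)) (.node 0 (.node 0 (.node 0 (.node 0 .nil (.node 0 .nil (.node 0 .nil (.node 236 .nil .nil)))) .nil) (.node 0 (.node 0 .nil (.node 0 (.node 0 (.node 0 .nil (.node 114 .nil .nil)) .nil) .nil)) .nil)) (.node 0 .nil (.node 0 .nil (.node 0 (.node 0 (.node 0 (.node 0 .nil (.node 907 .nil .nil)) .nil) .nil)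 .nil))))) (.node 0 (.node 0 (.node 0 .nil (.node 0 (.node 0 .nil (.node 0 .nil (.node 248 .nil .nil))) (.node 0 (.node 0 (.node 0 .nil (.node 608 .nil .nil)) .nil) .nil))) (.node 0 (.node 0 (.node 0 (.node 0 (.node 0 (.node 0 .nil (.node 996 .nil .nil)) .nil) .nil) .nil) .nil) (.node 0 (.node 0 (.node 0 (.node 0 (.node 0 .nil (.node 850 .nil .nil)) .nil) .nil) .nil) .nil))) (.node 0 (.node 0 (.node 0 .nil (.node 0 .nil (.node 0 (.node 0 .nil (.node 231 .nil .nil)) .nil))) .nil) (.node 0 .nil (.node 0 (.node 0 (.node 0 .nil (.node 0 .nil (.node 26 .nil .nil))) (.node 586 .nil .nil)) (.node 0 (.node 0 (.node 0 .nil (.node 215 .nil .nil)) .nil) .nil)))))) (.node 0 (.node 0 (.node 0 (.node 0 (.node 0 .nil (.node 0 .nil (.node 0 .nil (.node 0 .nil (.node 413 .nil .nil))))) .nil) (.node 0 .nil (.node 0 .nil (.node 0 (.node 0 .nil (.node 0 .nil (.node 397 .nil .nil))) .nil)))) (.node 0 .nil (.node 0 (.node 0 .nil (.node 0 (.node 0 .nil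 (.node 0 .nil (.node 815 .nil .nil))) .nil)) .nil))) (.node 739 (.node 0 .nil (.node 0 .nil (.node 0 .nil (.node 0 (.node 0 .nil (.node 579 .nil .nil)) .nil)))) .nil)))) (.node 0 (.node 0 (.node 0 (.node 0 (.node 0 (.node 0 (.node 0 (.node 0 (.node 0 (.node 0 .nil (.node 122 .nil .nil)) .nil) .nil) .nil) (.node 0 (.node 0 .nil (.node 0 .nil (.node 0 .nil (.node 78 .nil .nil)))) .nil)) (.node 0 .nil (.node 0 (.node 0 .nil (.node 951 .nil .nil)) .nil))) (.node 0 .nil (.node 332 (.node 0 .nil (.node 0 .nil (.node 0 .nil (.node 1054 .nil .nil)))) .nil))) (.node 0 (.node 0 (.node 0 .nil (.node 0 .nil (.node 0 .nil (.node 0 (.node 0 (.node 0 .nil (.node 476 .nil .nil)) .nil) .nil)))) (.node 0 .nil (.node 0 .nil (.node 0 (.node 0 (.node 0 .nil (.node 264 .nil .nil)) .nil) .nil)))) (.node 0 .nil (.node 0 .nil (.node 0 (.node 0 .nil (.node 0 .nil (.node 1014 .nil .nil))) (.node 0 .nil (.node 0 (.node 0 .nil (.node 642 .nil .nil)) .nil)))))))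 (.node 0 (.node 0 (.node 0 (.node 0 (.node 0 (.node 0 .nil (.node 0 .nil (.node 803 .nil .nil))) .nil) (.node 0 .nil (.node 0 .nil (.node 0 (.node 0 (.node 0 .nil (.node 652 .nil .nil)) .nil) .nil)))) (.node 0 (.node 0 (.node 0 .nil (.node 1048 .nil .nil)) (.node 0 (.node 0 (.node 0 .nil (.node 797 .nil .nil)) .nil) .nil)) .nil)) (.node 0 (.node 0 (.node 0 (.node 0 .nil (.node 0 .nil (.node 0 .nil (.node 449 .nil .nil)))) (.node 0 (.node 0 .nil (.node 0 .nil (.node 776 .nil .nil))) .nil)) (.node 0 (.node 0 (.node 0 .nil (.node 628 .nil .nil)) .nil) .nil)) (.node 0 .nil (.node 0 (.node 0 (.node 0 .nil (.node 252 .nil .nil)) .nil) (.node 0 (.node 0 .nil (.node 715 .nil .nil)) .nil))))) (.node 0 (.node 0 .nil (.node 0 (.node 0 (.node 0 .nil (.node 0 .nil (.node 0 .nil (.node 185 .nil .nil)))) .nil) .nil)) .nil))) (.node 0 (.node 0 (.node 0 (.node 0 (.node 0 (.node 0 (.node 0 .nil (.node 278 .nil (.node 0 .nil (.node 609 .nil .nil))))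 .nil) (.node 0 (.node 0 (.node 0 .nil (.node 0 .nil (.node 512 .nil .nil))) .nil) .nil)) (.node 0 (.node 0 (.node 0 .nil (.node 0 (.node 0 .nil (.node 868 .nil .nil)) .nil)) .nil) (.node 214 .nil .nil))) (.node 0 .nil (.node 0 .nil (.node 0 (.node 0 (.node 0 .nil (.node 555 .nil .nil)) .nil) .nil)))) (.node 0 (.node 0 (.node 0 (.node 0 (.node 0 (.node 0 .nil (.node 967 .nil .nil)) .nil) .nil) (.node 0 .nil (.node 0 .nil (.node 0 .nil (.node 0 .nil (.node 619 .nil .nil)))))) (.node 0 .nil (.node 0 .nil (.node 0 .nil (.node 0 (.node 0 .nil (.node 917 .nil .nil)) .nil))))) (.node 0 (.node 0 .nil (.node 0 (.node 0 .nil (.node 643 .nil .nil)) .nil)) (.node 0 .nil (.node 0 .nil (.node 0 .nil (.node 0 .nil (.node 0 .nil (.node 221 .nil .nil))))))))) (.node 0 (.node 0 (.node 0 (.node 0 (.node 0 .nil (.node 0 (.node 0 .nil (.node 545 .nil (.node 83 .nil .nil))) .nil)) .nil) .nil) (.node 0 .nil (.node 0 (.node 0 .nil (.node 0 (.node 0 .nil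 (.node 170 .nil .nil)) .nil)) .nil))) (.node 0 (.node 0 (.node 0 (.node 0 (.node 0 .nil (.node 0 .nil (.node 0 .nil (.node 298 .nil .nil)))) (.node 0 .nil (.node 0 (.node 0 (.node 0 .nil (.node 0 .nil .nil)) .nil) .nil))) .nil) (.node 0 (.node 0 (.node 0 (.node 0 .nil (.node 1024 .nil .nil)) (.node 0 .nil (.node 159 .nil .nil))) (.node 0 .nil (.node 0 .nil (.node 820 .nil .nil)))) .nil)) (.node 0 (.node 0 .nil (.node 0 (.node 0 .nil (.node 0 (.node 0 .nil (.node 671 .nil .nil)) .nil)) (.node 0 .nil (.node 0 .nil (.node 405 .nil .nil))))) .nil))))))) (.node 0 (.node 0 (.node 0 (.node 0 (.node 0 (.node 0 (.node 0 (.node 0 .nil (.node 0 .nil (.node 286 .nil .nil))) .nil) (.node 0 (.node 0 .nil (.node 0 .nil (.node 0 .nil (.node 0 .nil (.node 0 .nil (.node 1050 .nil .nil)))))) .nil)) (.node 0 (.node 0 .nil (.node 0 (.node 0 (.node 0 .nil (.node 0 (.node 0 .nil (.node 416 .nil .nil)) .nil)) (.node 0 (.node 0 .nil (.node 781 .nil .nil))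 (.node 311 .nil .nil))) .nil)) (.node 0 (.node 0 (.node 0 (.node 0 (.node 0 .nil (.node 0 .nil (.node 192 .nil .nil))) .nil) .nil) .nil) (.node 1042 .nil .nil)))) (.node 0 (.node 0 (.node 0 .nil (.node 0 .nil (.node 0 .nil (.node 0 .nil (.node 0 .nil (.node 0 .nil (.node 1009 .nil .nil))))))) (.node 0 (.node 0 (.node 0 .nil (.node 0 .nil (.node 0 (.node 0 (.node 0 .nil (.node 943 .nil .nil)) .nil) .nil))) .nil) .nil)) (.node 0 (.node 0 (.node 0 .nil (.node 0 .nil (.node 557 .nil .nil))) (.node 0 .nil (.node 0 (.node 0 (.node 0 .nil (.node 0 .nil (.node 970 .nil .nil))) .nil) .nil))) (.node 0 (.node 0 (.node 0 .nil (.node 0 (.node 0 (.node 0 .nil (.node 323 .nil .nil)) .nil) .nil)) .nil) (.node 0 .nil (.node 0 (.node 0 (.node 0 .nil (.node 0 .nil (.node 989 .nil .nil))) .nil) (.node 0 .nil (.node 0 .nil (.node 0 .nil (.node 768 .nil .nil)))))))))) (.node 343 (.node 0 (.node 0 (.node 0 (.node 0 .nil (.node 0 .nil (.node 0 .nil (.node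 0 (.node 0 (.node 0 .nil (.node 468 .nil .nil)) .nil) .nil)))) .nil) (.node 0 (.node 0 (.node 0 .nil (.node 0 .nil (.node 0 (.node 0 (.node 0 .nil (.node 827 .nil .nil)) .nil) .nil))) .nil) (.node 0 .nil (.node 0 .nil (.node 222 .nil .nil))))) (.node 0 (.node 0 .nil (.node 322 .nil .nil)) (.node 0 .nil (.node 0 .nil (.node 0 (.node 0 .nil (.node 0 .nil (.node 721 .nil .nil))) .nil))))) (.node 0 (.node 0 .nil (.node 0 (.node 0 .nil (.node 0 (.node 0 (.node 0 (.node 0 .nil (.node 477 .nil .nil)) .nil) .nil) .nil)) .nil)) (.node 0 (.node 0 (.node 0 (.node 0 (.node 0 .nil (.node 0 .nil (.node 0 .nil (.node 217 .nil .nil)))) .nil) .nil) (.node 0 (.node 0 (.node 0 .nil (.node 0 .nil (.node 0 .nil (.node 839 .nil .nil)))) (.node 0 (.node 0 (.node 0 .nil (.node 69 .nil .nil)) .nil) .nil)) .nil)) (.node 0 (.node 0 (.node 0 (.node 0 (.node 0 (.node 0 (.node 0 .nil (.node 655 .nil .nil)) (.node 1122 .nil .nil)) .nil) .nil) .nil) .nil) (.node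 0 (.node 0 (.node 0 .nil (.node 0 (.node 0 (.node 0 .nil (.node 87 .nil .nil)) .nil) .nil)) .nil) .nil)))))) (.node 0 (.node 0 (.node 0 (.node 0 (.node 0 (.node 0 .nil (.node 0 .nil (.node 0 (.node 0 (.node 0 (.node 0 .nil (.node 782 .nil .nil)) .nil) .nil) .nil))) (.node 0 (.node 0 (.node 0 .nil (.node 997 .nil .nil)) (.node 0 .nil (.node 0 .nil (.node 859 .nil .nil)))) .nil)) (.node 0 (.node 0 .nil (.node 0 .nil (.node 0 (.node 0 .nil (.node 0 .nil (.node 558 .nil .nil))) .nil))) .nil)) (.node 0 (.node 0 .nil (.node 0 (.node 0 (.node 0 (.node 0 (.node 0 .nil (.node 926 .nil .nil)) .nil) .nil) .nil) (.node 0 .nil (.node 48 .nil .nil)))) (.node 0 (.node 0 .nil (.node 1107 .nil .nil)) (.node 0 (.node 0 .nil (.node 0 (.node 0 .nil (.node 0 .nil (.node 682 .nil .nil))) (.node 0 .nil (.node 0 .nil (.node 21 .nil .nil))))) (.node 0 (.node 0 (.node 0 .nil (.node 0 .nil (.node 1034 .nil .nil))) .nil) (.node 0 (.node 0 .nil (.node 300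 .nil .nil)) .nil)))))) (.node 0 (.node 0 (.node 0 .nil (.node 0 (.node 0 (.node 0 (.node 0 (.node 0 (.node 0 .nil (.node 530 .nil .nil)) .nil) .nil) .nil) .nil) .nil)) (.node 0 (.node 0 (.node 0 (.node 0 (.node 0 (.node 0 .nil (.node 15 .nil .nil)) .nil) .nil) .nil) (.node 0 (.node 0 .nil (.node 0 (.node 0 (.node 0 .nil (.node 107 .nil .nil)) .nil) .nil)) .nil)) .nil)) (.node 0 (.node 0 (.node 0 .nil (.node 0 .nil (.node 0 .nil (.node 0 (.node 0 .nil (.node 770 .nil .nil)) .nil)))) .nil) (.node 0 (.node 0 (.node 0 (.node 0 (.node 0 (.node 0 (.node 0 .nil (.node 910 .nil .nil)) .nil) .nil) .nil) .nil) .nil) (.node 0 .nil (.node 0 .nil (.node 0 .nil (.node 0 (.node 0 .nil (.node 409 .nil .nil)) .nil)))))))) (.node 0 (.node 0 (.node 0 (.node 0 .nil (.node 0 (.node 0 .nil (.node 0 (.node 0 .nil (.node 0 .nil (.node 352 .nil .nil))) .nil)) (.node 0 (.node 0 .nil (.node 356 .nil .nil)) .nil))) (.node 0 (.node 0 (.node 0 .nil (.node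 0 (.node 0 .nil (.node 7 .nil .nil)) .nil)) (.node 0 .nil (.node 0 (.node 0 (.node 0 (.node 0 .nil (.node 897 .nil .nil)) .nil) .nil) .nil))) .nil)) (.node 0 (.node 0 (.node 0 (.node 0 (.node 0 (.node 0 (.node 0 .nil (.node 1016 .nil .nil)) .nil) .nil) .nil) (.node 0 .nil (.node 0 .nil (.node 0 .nil (.node 250 .nil .nil))))) .nil) (.node 0 .nil (.node 0 (.node 0 .nil (.node 0 .nil (.node 0 .nil (.node 0 .nil (.node 273 .nil .nil))))) .nil)))) (.node 0 (.node 0 (.node 0 .nil (.node 0 .nil (.node 0 .nil (.node 259 .nil .nil)))) (.node 0 (.node 0 (.node 0 (.node 0 (.node 0 .nil (.node 0 .nil (.node 442 .nil .nil))) .nil) .nil) (.node 777 .nil (.node 0 (.node 0 .nil (.node 591 .nil .nil)) .nil))) (.node 0 (.node 0 .nil (.node 0 (.node 0 .nil (.node 946 .nil .nil)) .nil)) .nil))) (.node 0 .nil (.node 0 .nil (.node 1077 .nil .nil))))))) (.node 0 (.node 0 (.node 0 (.node 0 (.node 0 .nil (.node 0 .nil (.node 0 (.node 0 (.node 0 (.node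 0 .nil (.node 57 .nil .nil)) .nil) (.node 0 .nil (.node 658 (.node 0 (.node 0 .nil (.node 111 .nil .nil)) .nil) .nil))) .nil))) (.node 0 (.node 0 (.node 0 .nil (.node 0 (.node 0 (.node 0 (.node 0 (.node 0 .nil (.node 1139 .nil .nil)) .nil) .nil) .nil) .nil)) (.node 0 .nil (.node 0 (.node 0 (.node 0 .nil (.node 0 .nil (.node 445 .nil .nil))) .nil) .nil))) (.node 0 .nil (.node 0 (.node 0 (.node 0 .nil (.node 262 .nil .nil)) .nil) .nil)))) (.node 0 (.node 0 (.node 0 (.node 0 .nil (.node 0 .nil (.node 0 .nil (.node 0 (.node 0 (.node 0 .nil (.node 76 .nil .nil)) .nil) .nil)))) .nil) (.node 0 (.node 0 (.node 0 (.node 0 .nil (.node 0 .nil (.node 666 .nil .nil))) .nil) .nil) (.node 0 (.node 0 (.node 0 .nil (.node 0 (.node 0 (.node 0 .nil (.node 483 .nil .nil)) .nil) .nil)) (.node 0 .nil (.node 419 .nil .nil))) .nil))) (.node 0 (.node 0 (.node 0 (.node 0 .nil (.node 0 (.node 0 (.node 0 (.node 0 .nil (.node 904 .nil .nil)) .nil) .nil) .nil))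 (.node 0 .nil (.node 0 (.node 0 .nil (.node 147 .nil .nil)) .nil))) .nil) (.node 0 (.node 0 .nil (.node 0 (.node 0 (.node 0 .nil (.node 0 .nil (.node 362 .nil .nil))) .nil) (.node 0 (.node 0 (.node 0 .nil (.node 515 .nil .nil)) .nil) .nil))) .nil)))) (.node 0 (.node 0 (.node 0 .nil (.node 0 (.node 0 .nil (.node 625 .nil .nil)) (.node 0 (.node 0 (.node 0 .nil (.node 0 (.node 0 (.node 0 .nil (.node 854 .nil .nil)) .nil) .nil)) .nil) (.node 0 .nil (.node 0 .nil (.node 552 .nil .nil)))))) (.node 0 (.node 0 (.node 0 .nil (.node 0 (.node 0 (.node 0 (.node 0 .nil (.node 318 .nil .nil)) .nil) .nil) .nil)) (.node 0 (.node 0 (.node 0 .nil (.node 0 .nil (.node 0 .nil (.node 199 .nil .nil)))) .nil) .nil)) .nil)) (.node 0 (.node 0 .nil (.node 0 (.node 0 (.node 0 (.node 0 (.node 0 .nil (.node 0 .nil (.node 1085 .nil .nil))) .nil) .nil) .nil) (.node 0 .nil (.node 0 .nil (.node 0 (.node 0 (.node 0 (.node 0 .nil (.node 1046 .nil .nil)) .nil) .nil)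 .nil))))) (.node 0 (.node 0 .nil (.node 0 (.node 0 .nil (.node 0 .nil (.node 0 (.node 0 .nil (.node 455 .nil .nil)) .nil))) .nil)) (.node 0 (.node 0 .nil (.node 0 .nil (.node 719 .nil .nil))) (.node 0 (.node 0 (.node 0 (.node 0 .nil (.node 830 .nil .nil)) .nil) (.node 1028 .nil .nil)) .nil)))))) (.node 0 (.node 0 (.node 0 (.node 0 (.node 0 (.node 0 (.node 0 (.node 0 .nil (.node 0 .nil (.node 0 .nil (.node 713 .nil .nil)))) (.node 0 (.node 0 (.node 0 .nil (.node 882 .nil .nil)) .nil) (.node 728 .nil .nil))) (.node 0 (.node 0 .nil (.node 0 .nil (.node 0 .nil (.node 228 .nil .nil)))) (.node 0 (.node 0 .nil (.node 0 .nil (.node 835 .nil .nil))) (.node 0 (.node 0 (.node 0 .nil (.node 39 .nil .nil)) .nil) .nil)))) .nil) (.node 0 (.node 0 (.node 0 .nil (.node 0 (.node 0 .nil (.node 0 .nil (.node 189 .nil .nil))) .nil)) .nil) .nil)) (.node 0 (.node 0 .nil (.node 0 (.node 0 .nil (.node 0 (.node 0 (.node 0 .nil (.node 809 .nil .nil)) .nil)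 .nil)) (.node 0 (.node 0 (.node 0 (.node 0 .nil (.node 81 .nil .nil)) .nil) .nil) .nil))) (.node 0 (.node 0 (.node 0 .nil (.node 1146 .nil .nil)) (.node 0 .nil (.node 0 .nil (.node 0 (.node 0 (.node 0 .nil (.node 832 .nil .nil)) .nil) .nil)))) (.node 0 (.node 0 (.node 0 (.node 0 .nil (.node 0 .nil (.node 576 .nil .nil))) .nil) .nil) (.node 0 (.node 0 .nil (.node 0 (.node 0 .nil (.node 482 .nil .nil)) .nil)) (.node 0 .nil (.node 315 .nil .nil))))))) (.node 0 (.node 0 (.node 0 (.node 0 (.node 0 (.node 0 (.node 0 .nil (.node 0 .nil (.node 1131 .nil .nil))) .nil) .nil) (.node 0 (.node 0 .nil (.node 0 (.node 0 (.node 0 .nil (.node 363 .nil .nil)) .nil) .nil)) (.node 0 (.node 0 (.node 0 .nil (.node 347 .nil .nil)) .nil) .nil))) (.node 0 (.node 0 .nil (.node 0 .nil (.node 703 .nil .nil))) (.node 0 .nil (.node 0 (.node 0 (.node 0 .nil (.node 677 .nil .nil)) .nil) .nil)))) (.node 0 (.node 0 (.node 0 .nil (.node 0 (.node 0 (.node 0 .nil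 (.node 640 .nil .nil)) .nil) .nil)) (.node 0 .nil (.node 0 (.node 0 .nil (.node 0 .nil (.node 712 .nil .nil))) .nil))) (.node 0 (.node 0 .nil (.node 0 (.node 0 (.node 0 (.node 0 .nil (.node 376 .nil .nil)) .nil) .nil) .nil)) .nil))) (.node 0 (.node 0 .nil (.node 0 (.node 0 .nil (.node 0 .nil (.node 0 (.node 0 .nil (.node 553 .nil .nil)) .nil))) (.node 0 (.node 0 .nil (.node 0 (.node 0 .nil (.node 802 .nil .nil)) .nil)) .nil))) (.node 0 (.node 0 (.node 0 .nil (.node 0 (.node 0 (.node 0 (.node 0 .nil (.node 687 .nil .nil)) .nil) .nil) .nil)) (.node 0 .nil (.node 0 .nil (.node 0 (.node 0 .nil (.node 266 .nil .nil)) .nil)))) (.node 0 (.node 0 .nil (.node 0 (.node 0 .nil (.node 0 .nil (.node 23 .nil .nil))) .nil)) (.node 0 .nil (.node 0 .nil (.node 330 .nil .nil)))))))) (.node 0 (.node 0 (.node 0 (.node 0 (.node 0 (.node 0 (.node 0 (.node 0 (.node 0 .nil (.node 633 .nil .nil)) .nil) .nil) .nil) .nil) .nil) (.node 0 (.node 0 (.node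 0 .nil (.node 0 .nil (.node 1022 .nil .nil))) (.node 0 (.node 0 (.node 0 (.node 0 (.node 0 .nil (.node 1006 .nil .nil)) .nil) .nil) .nil) .nil)) (.node 0 .nil (.node 0 (.node 0 (.node 0 (.node 0 (.node 0 .nil (.node 421 .nil .nil)) .nil) .nil) .nil) .nil)))) (.node 0 (.node 0 (.node 0 .nil (.node 0 (.node 0 (.node 0 .nil (.node 0 .nil (.node 420 .nil .nil))) .nil) .nil)) (.node 0 (.node 0 (.node 0 .nil (.node 386 .nil .nil)) .nil) (.node 0 .nil (.node 0 .nil (.node 0 (.node 0 .nil (.node 1116 .nil .nil)) .nil))))) (.node 0 (.node 0 (.node 0 (.node 0 (.node 0 .nil (.node 1150 .nil .nil)) .nil) (.node 0 .nil (.node 0 (.node 0 .nil (.node 307 .nil .nil)) .nil))) .nil) (.node 0 .nil (.node 0 .nil (.node 0 .nil (.node 0 .nil (.node 0 .nil (.node 510 .nil .nil))))))))) (.node 0 (.node 0 (.node 0 (.node 0 .nil (.node 0 (.node 0 .nil (.node 0 .nil (.node 361 .nil .nil))) .nil)) (.node 0 (.node 0 (.node 0 .nil (.node 372 .nil (.node 752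 .nil .nil))) .nil) (.node 0 .nil (.node 0 (.node 0 .nil (.node 1097 .nil .nil)) .nil)))) (.node 0 (.node 0 (.node 0 .nil (.node 0 (.node 0 (.node 0 .nil (.node 1053 .nil .nil)) .nil) .nil)) .nil) (.node 0 (.node 0 .nil (.node 0 .nil (.node 0 (.node 0 .nil (.node 614 .nil .nil)) .nil))) (.node 0 .nil (.node 0 .nil (.node 0 (.node 0 (.node 0 .nil (.node 872 .nil .nil)) .nil) .nil)))))) (.node 0 (.node 0 (.node 0 .nil (.node 0 (.node 0 (.node 0 .nil (.node 648 .nil .nil)) .nil) .nil)) (.node 0 .nil (.node 0 (.node 0 .nil (.node 38 .nil .nil)) .nil))) (.node 0 (.node 0 .nil (.node 613 .nil .nil)) .nil))))))))) (.node 0 (.node 0 (.node 0 (.node 0 (.node 0 (.node 0 (.node 0 .nil (.node 0 (.node 0 (.node 0 (.node 0 .nil (.node 0 .nil (.node 0 (.node 0 .nil (.node 726 .nil .nil)) (.node 401 .nil .nil)))) (.node 0 .nil (.node 0 .nil (.node 0 (.node 0 .nil (.node 242 .nil .nil)) .nil)))) (.node 0 .nil (.node 0 (.node 0 .nil (.node 0 (.node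 0 .nil (.node 1035 .nil .nil)) .nil)) .nil))) (.node 0 (.node 0 .nil (.node 0 .nil (.node 0 (.node 0 (.node 0 (.node 0 .nil (.node 371 .nil .nil)) .nil) .nil) .nil))) (.node 0 .nil (.node 0 (.node 0 (.node 0 (.node 0 .nil (.node 275 .nil .nil)) .nil) .nil) .nil))))) (.node 0 (.node 0 (.node 0 (.node 0 .nil (.node 0 .nil (.node 0 (.node 0 .nil (.node 193 .nil .nil)) .nil))) (.node 0 .nil (.node 0 (.node 0 (.node 0 .nil (.node 1000 .nil .nil)) .nil) .nil))) (.node 0 (.node 0 (.node 0 (.node 0 .nil (.node 849 .nil .nil)) .nil) (.node 0 (.node 0 (.node 0 (.node 0 (.node 0 .nil (.node 261 .nil .nil)) .nil) .nil) (.node 0 (.node 0 (.node 0 .nil (.node 602 .nil .nil)) .nil) .nil)) .nil)) (.node 0 (.node 0 (.node 0 .nil (.node 0 .nil (.node 725 .nil .nil))) .nil) .nil))) (.node 0 (.node 0 (.node 0 .nil (.node 0 (.node 0 (.node 0 (.node 0 .nil (.node 393 .nil .nil)) .nil) .nil) .nil)) .nil) (.node 0 (.node 0 .nil (.node 0 .nil (.node 0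 (.node 0 .nil (.node 125 .nil .nil)) .nil))) (.node 0 (.node 0 .nil (.node 0 .nil (.node 0 .nil (.node 0 .nil (.node 914 .nil .nil))))) .nil))))) (.node 0 (.node 0 (.node 0 (.node 0 (.node 0 (.node 0 .nil (.node 0 (.node 0 (.node 0 (.node 0 .nil (.node 665 .nil .nil)) (.node 227 .nil .nil)) .nil) .nil)) (.node 0 .nil (.node 0 .nil (.node 0 .nil (.node 11 .nil .nil))))) (.node 0 (.node 0 (.node 0 (.node 0 (.node 0 (.node 0 .nil (.node 385 .nil .nil)) .nil) .nil) .nil) (.node 182 .nil .nil)) .nil)) (.node 0 (.node 0 (.node 0 (.node 0 .nil (.node 710 .nil .nil)) .nil) (.node 0 .nil (.node 0 (.node 0 .nil (.node 0 .nil (.node 212 .nil .nil))) .nil))) (.node 0 (.node 0 (.node 0 .nil (.node 0 (.node 0 (.node 0 .nil (.node 786 .nil .nil)) .nil) .nil)) .nil) (.node 0 (.node 0 .nil (.node 0 (.node 0 (.node 0 .nil (.node 595 .nil .nil)) .nil) .nil)) .nil)))) (.node 0 (.node 0 (.node 0 .nil (.node 0 (.node 0 (.node 0 .nil (.node 0 .nil (.node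 1052 .nil .nil))) .nil) .nil)) (.node 0 (.node 0 (.node 0 (.node 0 .nil (.node 0 .nil (.node 979 .nil .nil))) .nil) (.node 0 .nil (.node 0 (.node 0 (.node 0 .nil (.node 314 .nil .nil)) .nil) .nil))) (.node 0 .nil (.node 0 (.node 0 (.node 0 (.node 0 .nil (.node 392 .nil .nil)) .nil) .nil) .nil)))) (.node 0 (.node 0 (.node 0 .nil (.node 0 (.node 0 .nil (.node 0 .nil (.node 194 .nil .nil))) .nil)) (.node 0 (.node 0 (.node 0 .nil (.node 0 .nil (.node 664 .nil .nil))) .nil) .nil)) (.node 0 (.node 0 (.node 0 (.node 0 (.node 0 .nil (.node 794 .nil .nil)) .nil) .nil) .nil) .nil)))) (.node 0 (.node 0 (.node 0 (.node 0 (.node 0 (.node 0 (.node 0 (.node 0 .nil (.node 663 .nil .nil)) .nil) .nil) .nil) (.node 0 (.node 0 .nil (.node 168 .nil .nil)) .nil)) .nil) (.node 0 (.node 0 .nil (.node 0 (.node 0 .nil (.node 196 .nil .nil)) .nil)) (.node 0 (.node 0 .nil (.node 1148 .nil .nil)) .nil))) (.node 0 (.node 0 (.node 0 .nil (.node 458 .nil .nil))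 (.node 0 (.node 0 .nil (.node 0 .nil (.node 0 .nil (.node 0 .nil (.node 1104 .nil .nil))))) (.node 0 (.node 0 (.node 0 .nil (.node 960 .nil .nil)) .nil) .nil))) (.node 0 .nil (.node 0 .nil (.node 0 (.node 0 .nil (.node 183 .nil .nil)) .nil))))))) (.node 0 (.node 0 (.node 0 (.node 0 (.node 0 (.node 0 (.node 0 (.node 0 (.node 0 (.node 0 .nil (.node 913 .nil .nil)) .nil) .nil) .nil) (.node 0 (.node 0 (.node 0 (.node 0 .nil (.node 686 .nil .nil)) .nil) .nil) .nil)) (.node 0 (.node 0 .nil (.node 429 .nil .nil)) .nil)) (.node 0 .nil (.node 0 .nil (.node 0 (.node 0 (.node 0 (.node 0 (.node 0 .nil (.node 727 .nil .nil)) (.node 384 .nil .nil)) .nil) .nil) .nil)))) (.node 0 (.node 0 .nil (.node 0 (.node 0 (.node 0 .nil (.node 694 .nil .nil)) .nil) (.node 0 (.node 0 .nil (.node 0 (.node 0 .nil (.node 935 .nil .nil)) .nil)) .nil))) (.node 0 (.node 0 (.node 0 .nil (.node 0 .nil (.node 0 (.node 0 (.node 0 .nil (.node 431 .nil .nil)) (.node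 601 .nil .nil)) (.node 243 .nil .nil)))) .nil) .nil))) (.node 0 (.node 0 (.node 0 (.node 0 (.node 0 .nil (.node 131 .nil .nil)) .nil) (.node 0 .nil (.node 0 .nil (.node 0 (.node 0 .nil (.node 328 .nil .nil)) .nil)))) (.node 0 .nil (.node 0 .nil (.node 0 (.node 0 (.node 0 .nil (.node 862 .nil .nil)) .nil) (.node 0 .nil (.node 0 .nil (.node 784 .nil .nil))))))) (.node 0 (.node 0 (.node 0 (.node 0 (.node 0 .nil (.node 0 (.node 0 .nil (.node 454 .nil .nil)) .nil)) (.node 561 .nil .nil)) .nil) (.node 0 (.node 0 .nil (.node 0 .nil (.node 0 (.node 0 .nil (.node 411 .nil .nil)) .nil))) (.node 0 .nil (.node 0 (.node 0 .nil (.node 0 .nil (.node 1083 .nil .nil))) .nil)))) (.node 0 .nil (.node 0 (.node 0 (.node 0 (.node 0 .nil (.node 0 .nil (.node 991 .nil .nil))) .nil) (.node 0 .nil (.node 0 (.node 0 .nil (.node 569 .nil .nil)) .nil))) .nil))))) (.node 0 (.node 0 (.node 0 (.node 0 .nil (.node 0 (.node 0 (.node 0 (.node 0 (.node 0 (.node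 0 .nil (.node 163 .nil .nil)) .nil) .nil) .nil) .nil) .nil)) (.node 0 (.node 0 (.node 0 (.node 0 .nil (.node 0 (.node 0 .nil (.node 624 .nil .nil)) .nil)) .nil) .nil) (.node 0 .nil (.node 0 .nil (.node 965 .nil .nil))))) (.node 0 (.node 0 (.node 0 (.node 0 (.node 0 .nil (.node 0 .nil (.node 0 .nil (.node 1078 .nil .nil)))) .nil) (.node 0 .nil (.node 0 .nil (.node 0 .nil (.node 1092 .nil .nil))))) .nil) .nil)) (.node 0 (.node 0 .nil (.node 0 (.node 0 .nil (.node 0 (.node 0 (.node 0 (.node 0 .nil (.node 153 .nil .nil)) .nil) (.node 0 .nil (.node 0 .nil (.node 453 .nil .nil)))) .nil)) .nil)) (.node 0 (.node 0 (.node 0 (.node 0 (.node 0 .nil (.node 520 .nil .nil)) .nil) .nil) .nil) (.node 0 (.node 0 .nil (.node 0 (.node 0 .nil (.node 0 .nil (.node 638 .nil .nil))) (.node 0 .nil (.node 0 .nil (.node 0 .nil (.node 657 .nil .nil)))))) (.node 0 .nil (.node 0 (.node 0 .nil (.node 6 .nil .nil)) .nil)))))))) (.node 0 (.node 0 (.node 0 (.node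 0 (.node 0 (.node 0 .nil (.node 0 .nil (.node 0 (.node 0 .nil (.node 0 (.node 0 .nil (.node 611 .nil .nil)) .nil)) .nil))) (.node 0 (.node 0 (.node 0 .nil (.node 0 .nil (.node 0 .nil (.node 0 .nil (.node 644 .nil .nil))))) (.node 0 .nil (.node 0 .nil (.node 0 .nil (.node 0 .nil (.node 379 .nil .nil)))))) (.node 0 .nil (.node 0 (.node 0 (.node 0 (.node 0 (.node 0 .nil (.node 285 .nil .nil)) .nil) .nil) .nil) (.node 0 .nil (.node 1121 .nil .nil)))))) (.node 0 (.node 0 (.node 0 (.node 0 .nil (.node 0 (.node 0 .nil (.node 484 .nil .nil)) .nil)) (.node 0 .nil (.node 0 .nil (.node 220 .nil .nil)))) (.node 0 (.node 0 .nil (.node 0 .nil (.node 0 (.node 0 .nil (.node 270 .nil .nil)) .nil))) .nil)) .nil)) (.node 0 (.node 0 (.node 0 .nil (.node 0 (.node 0 .nil (.node 0 .nil (.node 207 .nil .nil))) .nil)) (.node 0 (.node 0 (.node 0 (.node 0 (.node 0 .nil (.node 0 .nil (.node 749 .nil .nil))) .nil) .nil) (.node 0 (.node 0 .nil (.node 0 (.node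 0 .nil (.node 341 .nil .nil)) .nil)) (.node 0 .nil (.node 0 (.node 0 (.node 0 .nil (.node 415 .nil .nil)) .nil) .nil)))) .nil)) (.node 0 (.node 0 (.node 0 .nil (.node 0 .nil (.node 0 (.node 0 (.node 0 .nil (.node 268 .nil .nil)) .nil) .nil))) (.node 0 (.node 0 (.node 0 .nil (.node 0 (.node 0 (.node 0 .nil (.node 741 .nil .nil)) .nil) .nil)) .nil) .nil)) (.node 0 (.node 0 (.node 0 (.node 0 (.node 0 (.node 0 .nil (.node 106 .nil .nil)) (.node 995 .nil .nil)) .nil) .nil) .nil) (.node 0 .nil (.node 0 (.node 0 (.node 0 .nil (.node 149 .nil .nil)) .nil) .nil)))))) (.node 566 (.node 0 (.node 0 (.node 0 .nil (.node 0 (.node 0 (.node 0 .nil (.node 77 .nil .nil)) .nil) (.node 0 .nil (.node 0 (.node 0 (.node 0 (.node 0 .nil (.node 953 .nil .nil)) .nil) .nil) .nil)))) (.node 0 .nil (.node 0 (.node 0 (.node 0 (.node 0 .nil (.node 0 .nil (.node 548 .nil .nil))) .nil) .nil) (.node 0 .nil (.node 0 .nil (.node 0 (.node 0 (.node 0 .nil (.node 340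 .nil .nil)) .nil) .nil)))))) (.node 296 (.node 0 (.node 0 .nil (.node 0 .nil (.node 0 .nil (.node 0 .nil (.node 679 .nil .nil))))) (.node 0 (.node 0 .nil (.node 0 .nil (.node 190 .nil .nil))) .nil)) (.node 0 .nil (.node 0 (.node 0 .nil (.node 0 (.node 0 (.node 0 (.node 0 .nil (.node 1008 .nil .nil)) .nil) .nil) (.node 0 (.node 0 .nil (.node 938 .nil .nil)) .nil))) (.node 0 .nil (.node 0 .nil (.node 0 .nil (.node 320 .nil .nil)))))))) (.node 580 (.node 0 (.node 0 (.node 0 (.node 0 (.node 0 .nil (.node 0 .nil (.node 0 .nil (.node 202 .nil .nil)))) .nil) (.node 0 .nil (.node 0 .nil (.node 0 (.node 0 (.node 0 .nil (.node 588 .nil .nil)) .nil) .nil)))) .nil) (.node 0 (.node 0 (.node 0 .nil (.node 0 (.node 0 .nil (.node 0 .nil (.node 716 .nil .nil))) .nil)) .nil) (.node 0 (.node 0 (.node 0 .nil (.node 0 (.node 0 (.node 0 .nil (.node 612 .nil .nil)) .nil) .nil)) (.node 0 (.node 0 (.node 0 (.node 0 .nil (.node 100 .nil .nil)) .nil) .nil)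 .nil)) .nil))) (.node 0 (.node 0 .nil (.node 0 (.node 0 .nil (.node 0 .nil (.node 158 .nil .nil))) (.node 1106 (.node 0 .nil (.node 0 (.node 0 (.node 0 .nil (.node 27 .nil .nil)) .nil) .nil)) (.node 0 .nil (.node 4 .nil .nil))))) (.node 0 (.node 0 (.node 0 .nil (.node 0 .nil (.node 0 .nil (.node 0 .nil (.node 339 .nil .nil))))) (.node 0 .nil (.node 0 (.node 0 (.node 0 (.node 0 .nil (.node 1080 .nil .nil)) .nil) .nil) (.node 0 (.node 0 (.node 0 .nil (.node 299 .nil .nil)) .nil) .nil)))) (.node 0 .nil (.node 0 (.node 0 .nil (.node 0 (.node 0 (.node 0 .nil (.node 178 .nil .nil)) .nil) .nil)) .nil))))))) (.node 0 (.node 0 (.node 0 (.node 0 (.node 0 (.node 0 .nil (.node 0 .nil (.node 0 (.node 0 (.node 0 (.node 0 .nil (.node 1049 .nil .nil)) .nil) .nil) .nil))) .nil) (.node 0 (.node 0 (.node 0 .nil (.node 0 .nil (.node 0 .nil (.node 816 .nil .nil)))) .nil) .nil)) (.node 0 (.node 0 (.node 0 (.node 0 .nil (.node 1032 .nil .nil)) .nil)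 (.node 0 (.node 0 (.node 0 (.node 0 (.node 0 .nil (.node 171 .nil .nil)) .nil) .nil) (.node 0 .nil (.node 0 (.node 0 .nil (.node 16 .nil .nil)) .nil))) .nil)) (.node 0 (.node 0 (.node 0 (.node 0 .nil (.node 0 (.node 0 .nil (.node 1055 .nil .nil)) .nil)) .nil) .nil) .nil))) (.node 617 (.node 0 (.node 0 .nil (.node 0 (.node 0 (.node 0 .nil (.node 132 .nil .nil)) .nil) (.node 0 .nil (.node 0 .nil (.node 0 .nil (.node 680 .nil .nil)))))) (.node 0 (.node 0 (.node 0 .nil (.node 0 .nil (.node 502 .nil .nil))) .nil) (.node 267 (.node 0 .nil (.node 0 .nil (.node 165 .nil .nil))) .nil))) (.node 0 (.node 0 (.node 0 .nil (.node 0 (.node 0 .nil (.node 1100 .nil .nil)) .nil)) .nil) (.node 0 (.node 0 .nil (.node 0 (.node 0 .nil (.node 0 (.node 0 .nil (.node 618 .nil .nil)) .nil)) (.node 0 (.node 0 (.node 0 .nil (.node 139 .nil .nil)) .nil) .nil))) (.node 0 (.node 0 .nil (.node 0 (.node 0 (.node 0 (.node 0 .nil (.node 140 .nil .nil)) .nil) .nil)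 .nil)) .nil))))) (.node 0 (.node 0 (.node 0 (.node 0 (.node 0 (.node 0 (.node 0 (.node 0 .nil (.node 0 (.node 0 .nil (.node 235 .nil .nil)) .nil)) .nil) .nil) .nil) (.node 0 (.node 0 .nil (.node 0 .nil (.node 0 .nil (.node 0 .nil (.node 673 .nil .nil))))) .nil)) (.node 0 .nil (.node 0 (.node 0 (.node 0 .nil (.node 0 (.node 0 (.node 0 .nil (.node 620 .nil .nil)) .nil) .nil)) .nil) (.node 0 (.node 0 .nil (.node 0 (.node 0 .nil (.node 249 .nil .nil)) .nil)) .nil)))) (.node 0 (.node 0 (.node 0 (.node 0 (.node 0 .nil (.node 0 .nil (.node 0 .nil (.node 495 .nil .nil)))) .nil) (.node 0 .nil (.node 0 (.node 0 (.node 0 .nil (.node 547 .nil .nil)) .nil) .nil))) .nil) (.node 0 .nil (.node 0 .nil (.node 0 (.node 0 (.node 0 .nil (.node 0 .nil (.node 982 .nil .nil))) (.node 525 .nil .nil)) .nil))))) (.node 0 (.node 0 (.node 0 .nil (.node 0 (.node 0 (.node 0 .nil (.node 0 .nil (.node 610 .nil .nil))) .nil) (.node 0 .nil (.node 0 .nil (.node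 975 .nil .nil))))) (.node 0 (.node 0 .nil (.node 0 .nil (.node 554 .nil .nil))) (.node 0 (.node 0 .nil (.node 0 (.node 0 .nil (.node 0 .nil (.node 757 .nil .nil))) .nil)) (.node 0 (.node 0 .nil (.node 0 (.node 0 (.node 0 .nil (.node 133 .nil .nil)) .nil) .nil)) .nil)))) (.node 678 (.node 0 .nil (.node 0 (.node 0 .nil (.node 0 (.node 0 .nil (.node 9 .nil .nil)) .nil)) .nil)) (.node 0 (.node 0 .nil (.node 0 (.node 0 (.node 0 (.node 0 (.node 0 .nil (.node 398 .nil .nil)) .nil) .nil) .nil) .nil)) (.node 0 (.node 0 .nil (.node 0 (.node 0 (.node 0 .nil (.node 287 .nil .nil)) .nil) .nil)) .nil)))))))) (.node 0 (.node 0 (.node 0 (.node 0 (.node 0 (.node 0 (.node 0 (.node 0 (.node 0 (.node 0 (.node 0 .nil (.node 0 (.node 0 .nil (.node 43 .nil .nil)) .nil)) .nil) .nil) .nil) .nil) (.node 0 (.node 0 .nil (.node 0 .nil (.node 0 .nil (.node 0 .nil (.node 0 .nil (.node 134 .nil .nil)))))) .nil)) (.node 0 (.node 0 .nil (.node 0 (.node 0 .nil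 (.node 0 (.node 0 .nil (.node 925 .nil .nil)) .nil)) .nil)) (.node 0 (.node 0 (.node 0 (.node 0 .nil (.node 0 .nil (.node 146 .nil .nil))) .nil) .nil) .nil))) (.node 0 (.node 0 (.node 0 (.node 0 (.node 0 .nil (.node 0 (.node 0 (.node 0 (.node 0 .nil (.node 80 .nil .nil)) .nil) .nil) .nil)) .nil) (.node 0 (.node 0 (.node 0 (.node 0 (.node 0 (.node 0 .nil (.node 847 .nil .nil)) .nil) .nil) (.node 0 .nil (.node 0 .nil (.node 927 .nil .nil)))) .nil) (.node 0 (.node 0 .nil (.node 302 .nil .nil)) .nil))) (.node 151 (.node 0 (.node 0 .nil (.node 0 .nil (.node 0 .nil (.node 0 .nil (.node 240 .nil .nil))))) .nil) (.node 0 (.node 0 .nil (.node 0 .nil (.node 0 .nil (.node 290 .nil .nil)))) (.node 0 (.node 0 (.node 0 (.node 0 .nil (.node 692 .nil .nil)) .nil) .nil) .nil)))) (.node 0 (.node 0 (.node 0 .nil (.node 0 (.node 0 .nil (.node 0 (.node 0 .nil (.node 489 .nil .nil)) .nil)) .nil)) .nil) (.node 0 (.node 0 (.node 0 .nil (.node 0 .nil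 (.node 0 (.node 0 .nil (.node 783 .nil .nil)) .nil))) (.node 0 (.node 0 (.node 0 .nil (.node 0 .nil (.node 1010 .nil .nil))) .nil) .nil)) .nil)))) (.node 0 (.node 0 (.node 0 (.node 0 (.node 0 .nil (.node 0 .nil (.node 0 (.node 0 (.node 0 (.node 0 .nil (.node 723 .nil .nil)) .nil) (.node 0 .nil (.node 291 .nil .nil))) (.node 3 .nil .nil)))) (.node 0 (.node 0 (.node 0 .nil (.node 955 .nil .nil)) .nil) .nil)) (.node 0 (.node 0 (.node 0 .nil (.node 0 (.node 0 (.node 0 (.node 0 .nil (.node 978 .nil .nil)) .nil) .nil) .nil)) (.node 0 .nil (.node 0 .nil (.node 0 (.node 0 (.node 0 .nil (.node 551 .nil .nil)) .nil) .nil)))) (.node 0 (.node 0 (.node 0 .nil (.node 983 .nil .nil)) .nil) .nil))) (.node 191 (.node 0 .nil (.node 0 (.node 0 (.node 0 (.node 0 .nil (.node 693 .nil .nil)) .nil) .nil) (.node 0 (.node 0 (.node 0 (.node 0 (.node 0 .nil (.node 50 .nil .nil)) .nil) .nil) .nil) .nil))) (.node 0 (.node 0 (.node 0 .nil (.node 0 .nil (.node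 0 (.node 0 (.node 0 .nil (.node 519 .nil .nil)) .nil) .nil))) .nil) (.node 0 .nil (.node 0 .nil (.node 968 .nil .nil)))))) (.node 0 (.node 0 (.node 0 (.node 0 (.node 0 (.node 0 .nil (.node 0 .nil (.node 0 .nil (.node 17 .nil .nil)))) .nil) .nil) (.node 0 .nil (.node 0 (.node 0 .nil (.node 441 .nil .nil)) .nil))) (.node 0 (.node 0 .nil (.node 0 .nil (.node 0 .nil (.node 969 .nil .nil)))) (.node 0 .nil (.node 0 (.node 0 (.node 0 .nil (.node 0 .nil (.node 1057 .nil .nil))) (.node 0 .nil (.node 806 .nil .nil))) (.node 0 (.node 0 (.node 0 (.node 0 .nil (.node 792 .nil .nil)) .nil) .nil) (.node 0 .nil (.node 0 .nil (.node 877 .nil .nil)))))))) (.node 0 (.node 0 (.node 0 .nil (.node 0 (.node 0 .nil (.node 0 .nil (.node 824 .nil .nil))) .nil)) .nil) (.node 0 .nil (.node 0 (.node 0 .nil (.node 0 (.node 0 (.node 0 (.node 0 .nil (.node 645 .nil .nil)) .nil) .nil) (.node 0 (.node 0 (.node 0 .nil (.node 743 .nil .nil)) .nil) .nil))) (.node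 0 (.node 0 .nil (.node 0 .nil (.node 528 .nil .nil))) .nil))))))) (.node 0 (.node 0 (.node 0 (.node 0 (.node 0 (.node 0 .nil (.node 0 (.node 0 (.node 0 .nil (.node 0 .nil (.node 1095 .nil .nil))) .nil) (.node 0 .nil (.node 0 (.node 0 .nil (.node 654 .nil .nil)) .nil)))) .nil) .nil) (.node 0 (.node 0 .nil (.node 0 (.node 0 (.node 0 .nil (.node 0 (.node 0 .nil (.node 358 .nil .nil)) .nil)) (.node 0 .nil (.node 0 .nil (.node 0 .nil (.node 33 .nil .nil))))) (.node 0 (.node 0 .nil (.node 631 .nil .nil)) .nil))) (.node 0 (.node 0 .nil (.node 0 (.node 0 .nil (.node 0 .nil (.node 0 .nil (.node 900 .nil .nil)))) .nil)) (.node 0 .nil (.node 0 .nil (.node 1145 .nil .nil)))))) (.node 0 (.node 0 (.node 0 (.node 0 (.node 0 .nil (.node 0 .nil (.node 186 (.node 0 (.node 0 .nil (.node 760 .nil .nil)) .nil) (.node 417 .nil .nil)))) .nil) .nil) (.node 0 (.node 0 .nil (.node 0 (.node 0 (.node 0 (.node 0 .nil (.node 798 .nil .nil)) .nil) .nil) .nil))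 .nil)) (.node 0 (.node 0 .nil (.node 0 (.node 0 (.node 0 .nil (.node 0 (.node 0 (.node 0 .nil (.node 382 .nil .nil)) .nil) .nil)) .nil) .nil)) (.node 0 (.node 0 .nil (.node 0 .nil (.node 0 (.node 0 .nil (.node 0 .nil (.node 187 .nil .nil))) .nil))) .nil)))) (.node 289 (.node 0 (.node 0 (.node 0 (.node 0 (.node 0 .nil (.node 0 (.node 0 .nil (.node 8 .nil .nil)) .nil)) .nil) .nil) (.node 0 .nil (.node 0 (.node 0 (.node 0 .nil (.node 0 .nil (.node 84 .nil .nil))) .nil) (.node 0 .nil (.node 0 .nil (.node 1020 .nil .nil)))))) (.node 0 (.node 0 (.node 0 (.node 0 (.node 0 (.node 0 .nil (.node 0 .nil (.node 233 .nil .nil))) .nil) (.node 0 .nil (.node 0 (.node 0 (.node 0 .nil (.node 990 .nil .nil)) .nil) .nil))) (.node 0 (.node 0 .nil (.node 0 .nil (.node 933 .nil .nil))) (.node 0 .nil (.node 0 .nil (.node 272 .nil .nil))))) (.node 0 .nil (.node 0 .nil (.node 0 .nil (.node 590 .nil .nil))))) (.node 0 .nil (.node 0 .nil (.node 0 (.node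 0 .nil (.node 0 .nil (.node 660 .nil .nil))) .nil))))) (.node 0 (.node 0 (.node 0 (.node 0 (.node 0 .nil (.node 0 (.node 0 .nil (.node 0 .nil (.node 947 .nil .nil))) .nil)) (.node 0 .nil (.node 0 .nil (.node 0 .nil (.node 0 .nil (.node 28 .nil .nil)))))) .nil) (.node 0 (.node 0 .nil (.node 0 .nil (.node 0 .nil (.node 722 .nil .nil)))) (.node 0 (.node 0 (.node 0 .nil (.node 0 .nil (.node 0 .nil (.node 1081 .nil .nil)))) .nil) .nil))) (.node 0 (.node 0 (.node 0 .nil (.node 0 (.node 0 .nil (.node 457 .nil .nil)) .nil)) (.node 0 (.node 0 (.node 0 (.node 0 (.node 0 (.node 0 .nil (.node 505 .nil .nil)) .nil) .nil) .nil) .nil) (.node 0 .nil (.node 0 .nil (.node 0 .nil (.node 0 .nil (.node 971 .nil .nil))))))) (.node 0 (.node 0 .nil (.node 0 .nil (.node 0 (.node 0 .nil (.node 0 .nil (.node 427 .nil .nil))) .nil))) .nil)))))) (.node 0 (.node 0 (.node 0 (.node 0 (.node 0 (.node 0 (.node 0 (.node 0 (.node 0 .nil (.node 0 .nil (.node 711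 .nil .nil))) .nil) (.node 0 (.node 0 (.node 0 .nil (.node 0 .nil (.node 627 .nil .nil))) .nil) .nil)) (.node 0 (.node 0 .nil (.node 0 .nil (.node 597 .nil .nil))) .nil)) (.node 0 (.node 0 (.node 0 .nil (.node 176 .nil .nil)) .nil) .nil)) (.node 0 (.node 0 .nil (.node 0 (.node 0 .nil (.node 0 (.node 0 (.node 0 (.node 0 .nil (.node 629 .nil .nil)) .nil) .nil) .nil)) (.node 0 (.node 0 (.node 0 .nil (.node 473 .nil .nil)) (.node 0 (.node 0 .nil (.node 516 .nil .nil)) .nil)) .nil))) (.node 0 (.node 0 (.node 0 (.node 0 .nil (.node 0 (.node 0 (.node 0 .nil (.node 1003 .nil .nil)) .nil) .nil)) .nil) .nil) (.node 0 .nil (.node 0 (.node 0 .nil (.node 0 .nil (.node 0 .nil (.node 921 .nil .nil)))) .nil))))) (.node 0 (.node 0 (.node 0 (.node 0 (.node 0 .nil (.node 0 (.node 0 (.node 0 .nil (.node 1060 .nil .nil)) .nil) .nil)) (.node 0 .nil (.node 0 (.node 0 (.node 0 (.node 0 .nil (.node 229 .nil .nil)) .nil) .nil) .nil))) .nil) (.node 0 .nil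 (.node 0 (.node 0 .nil (.node 0 (.node 0 (.node 0 (.node 0 .nil (.node 206 .nil .nil)) .nil) .nil) (.node 0 (.node 0 (.node 0 .nil (.node 1093 .nil .nil)) .nil) .nil))) .nil))) (.node 0 (.node 0 (.node 0 (.node 0 (.node 0 .nil (.node 0 .nil (.node 1030 .nil .nil))) .nil) .nil) (.node 0 (.node 0 .nil (.node 0 (.node 0 .nil (.node 72 .nil .nil)) .nil)) (.node 0 .nil (.node 0 .nil (.node 0 (.node 0 .nil (.node 13 .nil .nil)) (.node 0 .nil (.node 120 .nil .nil))))))) (.node 0 .nil (.node 0 .nil (.node 0 (.node 0 .nil (.node 0 (.node 0 .nil (.node 634 .nil .nil)) .nil)) (.node 626 .nil (.node 0 .nil (.node 0 .nil (.node 447 .nil .nil)))))))))) (.node 0 (.node 0 (.node 0 (.node 0 (.node 0 (.node 0 (.node 0 .nil (.node 0 (.node 0 .nil (.node 280 .nil .nil)) .nil)) (.node 0 (.node 0 (.node 0 (.node 0 .nil (.node 893 .nil .nil)) .nil) .nil) .nil)) (.node 0 (.node 0 (.node 0 .nil (.node 884 .nil .nil)) .nil) (.node 986 .nil .nil))) (.node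 0 .nil (.node 0 .nil (.node 649 .nil .nil)))) (.node 0 (.node 0 (.node 0 (.node 0 .nil (.node 0 .nil (.node 0 .nil (.node 564 .nil .nil)))) .nil) (.node 0 (.node 0 .nil (.node 1019 .nil .nil)) .nil)) (.node 0 (.node 0 (.node 0 (.node 0 .nil (.node 0 .nil (.node 905 .nil .nil))) .nil) .nil) (.node 0 (.node 0 (.node 0 .nil (.node 534 .nil .nil)) .nil) .nil)))) (.node 0 (.node 0 (.node 0 (.node 0 .nil (.node 0 .nil (.node 0 (.node 0 .nil (.node 463 .nil .nil)) .nil))) .nil) (.node 0 (.node 0 (.node 0 .nil (.node 51 .nil .nil)) .nil) (.node 0 (.node 0 .nil (.node 0 .nil (.node 0 .nil (.node 1090 .nil .nil)))) .nil))) (.node 0 (.node 0 (.node 0 (.node 0 .nil (.node 0 (.node 0 .nil (.node 1099 .nil .nil)) .nil)) (.node 0 .nil (.node 0 (.node 0 (.node 0 .nil (.node 31 .nil .nil)) .nil) .nil))) .nil) (.node 0 .nil (.node 0 .nil (.node 0 (.node 0 .nil (.node 0 .nil (.node 856 .nil .nil))) .nil)))))) (.node 0 (.node 0 (.node 0 .nil (.node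 0 (.node 0 (.node 0 .nil (.node 0 .nil (.node 0 .nil (.node 567 .nil .nil)))) .nil) (.node 0 (.node 0 (.node 0 (.node 0 .nil (.node 104 .nil .nil)) .nil) .nil) .nil))) (.node 0 (.node 0 (.node 0 (.node 0 .nil (.node 0 (.node 0 .nil (.node 219 .nil .nil)) .nil)) (.node 0 (.node 0 (.node 0 .nil (.node 577 .nil .nil)) .nil) .nil)) .nil) (.node 0 (.node 0 (.node 0 (.node 0 (.node 0 (.node 0 .nil (.node 974 .nil .nil)) .nil) .nil) .nil) .nil) .nil))) (.node 0 (.node 0 .nil (.node 0 (.node 0 .nil (.node 0 (.node 0 (.node 0 .nil (.node 461 .nil .nil)) .nil) (.node 0 (.node 0 .nil (.node 492 .nil .nil)) .nil))) (.node 0 .nil (.node 0 .nil (.node 119 .nil .nil))))) .nil)))) (.node 0 (.node 0 (.node 0 (.node 0 (.node 0 (.node 0 .nil (.node 0 .nil (.node 0 .nil (.node 0 .nil (.node 773 .nil .nil))))) .nil) (.node 0 .nil (.node 0 (.node 0 (.node 0 .nil (.node 0 (.node 0 (.node 0 .nil (.node 536 .nil .nil)) .nil) (.node 0 .nil (.node 277 .nil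 .nil)))) .nil) (.node 0 (.node 0 (.node 0 .nil (.node 571 .nil .nil)) .nil) .nil)))) (.node 0 (.node 0 (.node 0 (.node 0 (.node 0 (.node 0 (.node 0 .nil (.node 257 .nil .nil)) (.node 45 .nil .nil)) .nil) (.node 1147 .nil .nil)) (.node 0 (.node 0 .nil (.node 0 .nil (.node 676 .nil .nil))) (.node 993 (.node 0 (.node 0 .nil (.node 404 .nil .nil)) .nil) .nil))) .nil) (.node 0 (.node 0 .nil (.node 0 (.node 0 .nil (.node 0 (.node 0 .nil (.node 987 .nil .nil)) .nil)) .nil)) (.node 0 .nil (.node 0 (.node 0 .nil (.node 0 (.node 0 .nil (.node 651 .nil .nil)) .nil)) .nil))))) (.node 0 (.node 0 (.node 0 (.node 0 (.node 0 (.node 0 .nil (.node 0 .nil (.node 1023 .nil .nil))) (.node 0 .nil (.node 0 .nil (.node 0 .nil (.node 1038 .nil .nil))))) .nil) (.node 0 (.node 0 (.node 0 (.node 0 (.node 0 (.node 0 .nil (.node 1013 .nil .nil)) .nil) .nil) .nil) (.node 0 .nil (.node 0 .nil (.node 75 .nil .nil)))) (.node 0 .nil (.node 0 .nil (.node 0 .nil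 (.node 0 .nil (.node 201 .nil .nil))))))) (.node 0 (.node 0 (.node 0 (.node 0 .nil (.node 0 .nil (.node 605 .nil .nil))) .nil) (.node 0 (.node 0 .nil (.node 1074 .nil .nil)) (.node 0 .nil (.node 0 (.node 0 .nil (.node 19 .nil .nil)) .nil)))) (.node 0 .nil (.node 0 (.node 0 (.node 0 .nil (.node 585 .nil .nil)) .nil) .nil)))) (.node 0 (.node 0 (.node 0 .nil (.node 0 .nil (.node 961 .nil .nil))) (.node 0 (.node 0 .nil (.node 0 (.node 0 (.node 0 .nil (.node 867 .nil .nil)) .nil) .nil)) (.node 0 (.node 0 (.node 0 .nil (.node 855 .nil .nil)) .nil) .nil))) (.node 0 (.node 0 (.node 0 .nil (.node 0 .nil (.node 0 .nil (.node 0 .nil (.node 813 .nil .nil))))) .nil) .nil)))) (.node 0 (.node 0 (.node 0 (.node 0 (.node 0 .nil (.node 0 (.node 0 .nil (.node 0 (.node 0 (.node 0 .nil (.node 940 .nil .nil)) .nil) .nil)) .nil)) .nil) (.node 0 (.node 0 .nil (.node 0 .nil (.node 944 .nil .nil))) (.node 0 (.node 0 .nil (.node 0 .nil (.node 0 .nil (.node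 870 .nil .nil)))) .nil))) (.node 0 (.node 0 (.node 0 (.node 0 (.node 0 (.node 0 (.node 0 .nil (.node 456 .nil .nil)) .nil) .nil) (.node 0 .nil (.node 0 (.node 0 .nil (.node 308 .nil .nil)) .nil))) (.node 0 .nil (.node 0 .nil (.node 0 (.node 0 (.node 0 .nil (.node 1086 .nil .nil)) .nil) .nil)))) (.node 0 (.node 0 (.node 0 (.node 0 (.node 0 (.node 0 .nil (.node 1110 .nil .nil)) .nil) .nil) .nil) .nil) .nil)) (.node 0 (.node 0 .nil (.node 156 .nil .nil)) (.node 0 (.node 0 .nil (.node 0 (.node 0 (.node 0 .nil (.node 570 .nil .nil)) .nil) .nil)) .nil)))) (.node 0 (.node 0 (.node 0 (.node 0 (.node 0 .nil (.node 30 .nil .nil)) (.node 0 .nil (.node 0 (.node 0 (.node 0 (.node 0 .nil (.node 333 .nil .nil)) .nil) .nil) .nil))) (.node 0 (.node 0 .nil (.node 0 (.node 0 (.node 0 .nil (.node 714 .nil .nil)) .nil) .nil)) .nil)) (.node 0 .nil (.node 0 (.node 0 (.node 0 .nil (.node 0 (.node 0 (.node 0 .nil (.node 764 .nil .nil)) .nil) .nil)) (.node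 0 (.node 0 (.node 0 (.node 0 .nil (.node 157 .nil .nil)) .nil) .nil) .nil)) .nil))) (.node 0 (.node 0 (.node 0 (.node 0 .nil (.node 0 .nil (.node 0 (.node 0 (.node 0 .nil (.node 388 .nil .nil)) .nil) .nil))) .nil) (.node 0 (.node 0 (.node 0 (.node 0 (.node 0 (.node 0 .nil (.node 24 .nil .nil)) .nil) .nil) .nil) (.node 931 .nil (.node 0 (.node 0 .nil (.node 395 .nil .nil)) .nil))) (.node 0 (.node 0 (.node 0 (.node 0 (.node 0 .nil (.node 755 .nil .nil)) .nil) .nil) (.node 0 (.node 0 .nil (.node 650 .nil .nil)) .nil)) (.node 0 .nil (.node 0 (.node 0 .nil (.node 1069 .nil .nil)) .nil))))) (.node 0 (.node 0 (.node 0 .nil (.node 0 (.node 0 (.node 0 (.node 0 .nil (.node 337 .nil .nil)) .nil) .nil) .nil)) .nil) (.node 0 .nil (.node 0 (.node 0 .nil (.node 0 (.node 0 (.node 0 .nil (.node 90 .nil .nil)) .nil) .nil)) .nil)))))))))) (.node 0 (.node 0 (.node 0 (.node 0 (.node 0 (.node 0 (.node 0 (.node 0 (.node 0 (.node 0 (.node 0 (.node 0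 .nil (.node 0 .nil (.node 162 .nil .nil))) .nil) (.node 0 (.node 0 (.node 0 .nil (.node 383 .nil .nil)) .nil) .nil)) .nil) (.node 0 .nil (.node 0 .nil (.node 0 .nil (.node 0 .nil (.node 0 .nil (.node 828 .nil .nil))))))) (.node 0 (.node 0 (.node 0 (.node 0 (.node 0 .nil (.node 0 .nil (.node 181 .nil .nil))) .nil) .nil) .nil) .nil)) (.node 0 (.node 0 .nil (.node 0 .nil (.node 0 .nil (.node 0 (.node 0 .nil (.node 208 .nil .nil)) .nil)))) (.node 0 (.node 0 (.node 0 .nil (.node 0 (.node 0 (.node 0 .nil (.node 142 .nil .nil)) .nil) .nil)) .nil) .nil))) (.node 0 (.node 0 (.node 0 (.node 0 (.node 0 (.node 0 (.node 0 .nil (.node 521 .nil .nil)) .nil) .nil) .nil) (.node 0 .nil (.node 0 (.node 0 (.node 0 .nil (.node 0 .nil (.node 959 .nil .nil))) .nil) .nil))) (.node 0 (.node 0 .nil (.node 0 (.node 0 .nil (.node 0 .nil (.node 0 .nil (.node 735 .nil .nil)))) (.node 0 .nil (.node 0 (.node 0 (.node 0 .nil (.node 370 .nil .nil)) .nil) .nil))))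 (.node 0 .nil (.node 630 .nil .nil)))) (.node 0 (.node 0 .nil (.node 0 (.node 0 .nil (.node 0 (.node 0 (.node 0 .nil (.node 101 .nil .nil)) .nil) .nil)) .nil)) (.node 0 .nil (.node 0 .nil (.node 0 (.node 0 .nil (.node 326 .nil .nil)) (.node 825 .nil .nil))))))) (.node 0 (.node 0 (.node 0 (.node 0 (.node 0 (.node 0 (.node 0 .nil (.node 0 (.node 0 (.node 0 .nil (.node 430 .nil .nil)) .nil) .nil)) (.node 460 .nil .nil)) .nil) (.node 0 (.node 0 (.node 0 (.node 0 .nil (.node 380 .nil .nil)) .nil) .nil) .nil)) (.node 0 (.node 0 (.node 0 (.node 0 (.node 0 .nil (.node 239 .nil .nil)) .nil) .nil) .nil) .nil)) (.node 0 (.node 0 .nil (.node 0 .nil (.node 0 .nil (.node 0 (.node 0 .nil (.node 324 .nil .nil)) .nil)))) (.node 0 .nil (.node 0 (.node 0 .nil (.node 0 (.node 0 .nil (.node 683 .nil .nil)) .nil)) .nil)))) (.node 0 (.node 0 (.node 0 .nil (.node 0 (.node 0 (.node 0 (.node 0 (.node 0 (.node 0 .nil (.node 674 .nil .nil)) .nil) .nil) .nil)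 .nil) (.node 912 .nil .nil))) (.node 0 (.node 0 .nil (.node 771 .nil .nil)) (.node 0 .nil (.node 0 .nil (.node 0 .nil (.node 691 .nil .nil)))))) (.node 0 (.node 0 (.node 0 .nil (.node 0 (.node 0 .nil (.node 0 (.node 0 .nil (.node 312 .nil .nil)) .nil)) (.node 0 .nil (.node 0 .nil (.node 0 .nil (.node 1082 .nil .nil)))))) (.node 0 .nil (.node 0 (.node 0 .nil (.node 0 (.node 0 .nil (.node 934 .nil .nil)) .nil)) .nil))) (.node 0 (.node 0 .nil (.node 0 (.node 0 (.node 0 (.node 0 (.node 0 .nil (.node 29 .nil .nil)) (.node 496 .nil .nil)) .nil) .nil) .nil)) (.node 0 (.node 0 (.node 0 .nil (.node 0 .nil (.node 1064 .nil .nil))) .nil) .nil)))))) (.node 0 (.node 0 (.node 0 (.node 0 (.node 0 (.node 0 .nil (.node 0 .nil (.node 0 (.node 0 (.node 0 .nil (.node 878 .nil .nil)) .nil) .nil))) .nil) (.node 0 .nil (.node 0 (.node 0 .nil (.node 0 (.node 0 (.node 0 (.node 0 .nil (.node 901 .nil .nil)) .nil) .nil) .nil)) (.node 0 (.node 0 (.node 0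 (.node 0 (.node 0 .nil (.node 135 .nil .nil)) .nil) .nil) .nil) .nil)))) (.node 0 (.node 0 .nil (.node 0 (.node 0 .nil (.node 0 .nil (.node 886 .nil (.node 254 .nil .nil)))) (.node 0 .nil (.node 0 .nil (.node 0 (.node 0 (.node 0 .nil (.node 1144 .nil .nil)) .nil) .nil))))) (.node 0 (.node 0 .nil (.node 0 .nil (.node 0 .nil (.node 0 (.node 0 .nil (.node 799 .nil .nil)) .nil)))) (.node 0 (.node 0 .nil (.node 34 .nil .nil)) .nil)))) (.node 0 (.node 0 (.node 0 (.node 0 .nil (.node 0 .nil (.node 0 .nil (.node 0 (.node 0 (.node 0 .nil (.node 205 .nil .nil)) .nil) .nil)))) (.node 0 (.node 0 .nil (.node 0 .nil (.node 0 (.node 0 (.node 0 .nil (.node 560 .nil .nil)) .nil) .nil))) (.node 0 (.node 0 (.node 0 .nil (.node 0 .nil (.node 709 .nil .nil))) .nil) .nil))) .nil) .nil)) (.node 0 (.node 0 (.node 0 (.node 0 (.node 0 (.node 0 (.node 0 (.node 0 .nil (.node 0 .nil (.node 117 .nil .nil))) .nil) (.node 0 .nil (.node 0 (.node 0 (.node 0 .nil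 (.node 851 .nil .nil)) .nil) .nil))) (.node 0 .nil (.node 0 (.node 0 (.node 0 .nil (.node 1130 .nil .nil)) .nil) (.node 0 (.node 0 .nil (.node 469 .nil .nil)) .nil)))) .nil) (.node 0 (.node 0 .nil (.node 0 (.node 0 (.node 0 (.node 0 (.node 0 .nil (.node 225 .nil .nil)) .nil) .nil) .nil) .nil)) .nil)) (.node 0 (.node 0 .nil (.node 0 (.node 0 .nil (.node 0 .nil (.node 0 (.node 0 .nil (.node 593 .nil .nil)) .nil))) .nil)) (.node 0 (.node 0 .nil (.node 0 .nil (.node 0 (.node 0 (.node 0 (.node 0 .nil (.node 292 .nil .nil)) .nil) .nil) .nil))) (.node 0 (.node 0 .nil (.node 0 .nil (.node 0 .nil (.node 369 .nil .nil)))) .nil)))) (.node 0 (.node 0 (.node 0 .nil (.node 0 (.node 0 (.node 0 .nil (.node 0 .nil (.node 1044 .nil .nil))) .nil) (.node 0 (.node 0 (.node 0 (.node 0 (.node 0 .nil (.node 1136 .nil .nil)) .nil) .nil) .nil) .nil))) (.node 0 (.node 0 .nil (.node 0 (.node 0 (.node 0 (.node 0 .nil (.node 621 .nil .nil)) .nil) .nil) .nil))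 .nil)) (.node 0 (.node 0 (.node 0 .nil (.node 0 .nil (.node 265 .nil .nil))) (.node 0 (.node 0 .nil (.node 0 (.node 0 .nil (.node 0 .nil (.node 381 .nil .nil))) .nil)) .nil)) (.node 0 (.node 0 .nil (.node 0 (.node 0 (.node 0 (.node 0 .nil (.node 241 .nil .nil)) .nil) .nil) .nil)) (.node 0 (.node 0 .nil (.node 0 .nil (.node 1117 .nil .nil))) (.node 0 (.node 0 (.node 0 .nil (.node 0 .nil (.node 742 .nil .nil))) .nil) .nil)))))))) (.node 0 (.node 0 (.node 0 (.node 0 (.node 0 (.node 0 (.node 0 (.node 0 .nil (.node 0 (.node 0 (.node 0 .nil (.node 641 .nil .nil)) .nil) .nil)) .nil) (.node 0 .nil (.node 0 .nil (.node 0 (.node 0 .nil (.node 0 .nil (.node 844 .nil .nil))) .nil)))) (.node 0 (.node 0 (.node 0 .nil (.node 0 (.node 0 .nil (.node 0 .nil (.node 35 .nil .nil))) .nil)) (.node 0 .nil (.node 0 .nil (.node 377 .nil .nil)))) (.node 0 (.node 0 (.node 0 (.node 0 .nil (.node 0 .nil (.node 731 .nil .nil))) .nil) .nil) .nil))) (.node 0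 (.node 0 (.node 0 (.node 0 (.node 0 (.node 0 (.node 0 .nil (.node 730 .nil .nil)) .nil) .nil) .nil) .nil) (.node 0 (.node 0 (.node 0 (.node 0 (.node 0 .nil (.node 145 .nil .nil)) .nil) .nil) .nil) .nil)) (.node 0 (.node 0 (.node 0 .nil (.node 1105 .nil .nil)) .nil) (.node 0 .nil (.node 0 (.node 0 (.node 0 (.node 0 (.node 0 .nil (.node 518 .nil .nil)) .nil) .nil) .nil) .nil))))) (.node 0 (.node 0 (.node 0 (.node 0 (.node 0 .nil (.node 0 (.node 0 .nil (.node 279 .nil .nil)) .nil)) (.node 0 .nil (.node 0 (.node 0 .nil (.node 0 .nil (.node 537 .nil .nil))) .nil))) (.node 0 .nil (.node 0 .nil (.node 0 .nil (.node 0 .nil (.node 0 .nil (.node 98 .nil .nil))))))) (.node 0 (.node 0 (.node 0 (.node 0 (.node 0 .nil (.node 1041 .nil .nil)) .nil) (.node 0 .nil (.node 0 (.node 0 (.node 0 .nil (.node 54 .nil .nil)) .nil) .nil))) (.node 0 (.node 0 .nil (.node 0 (.node 0 (.node 0 .nil (.node 399 .nil .nil)) .nil) .nil)) (.node 309 .nil .nil)))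 (.node 0 (.node 0 (.node 0 .nil (.node 0 (.node 0 (.node 0 .nil (.node 790 .nil .nil)) .nil) .nil)) (.node 0 .nil (.node 729 .nil .nil))) .nil))) .nil)) (.node 0 (.node 0 (.node 0 (.node 0 (.node 0 (.node 0 (.node 0 .nil (.node 0 .nil (.node 0 .nil (.node 669 .nil .nil)))) (.node 888 .nil .nil)) (.node 0 (.node 0 (.node 0 .nil (.node 0 .nil (.node 575 .nil .nil))) .nil) .nil)) (.node 0 (.node 0 .nil (.node 0 (.node 0 .nil (.node 319 .nil .nil)) .nil)) (.node 0 .nil (.node 787 .nil .nil)))) (.node 0 (.node 0 (.node 0 (.node 0 (.node 0 (.node 0 (.node 0 .nil (.node 1070 .nil .nil)) .nil) .nil) .nil) .nil) (.node 0 .nil (.node 0 .nil (.node 0 .nil (.node 0 .nil (.node 342 .nil .nil)))))) (.node 0 .nil (.node 0 (.node 0 (.node 0 .nil (.node 616 .nil .nil)) .nil) .nil)))) (.node 0 (.node 0 (.node 0 (.node 0 .nil (.node 0 .nil (.node 403 .nil .nil))) .nil) (.node 0 .nil (.node 0 .nil (.node 0 .nil (.node 0 (.node 0 .nil (.node 962 .nil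 .nil)) .nil))))) (.node 0 (.node 0 .nil (.node 0 (.node 0 .nil (.node 705 .nil .nil)) .nil)) (.node 0 (.node 0 (.node 0 .nil (.node 0 (.node 0 .nil (.node 923 .nil .nil)) .nil)) (.node 0 (.node 0 .nil (.node 1112 .nil .nil)) (.node 0 (.node 0 .nil (.node 316 .nil .nil)) .nil))) (.node 0 (.node 0 .nil (.node 0 (.node 0 .nil (.node 438 .nil .nil)) .nil)) (.node 0 .nil (.node 0 .nil (.node 0 .nil (.node 269 .nil .nil))))))))) (.node 0 (.node 0 (.node 0 (.node 0 .nil (.node 0 .nil (.node 0 .nil (.node 0 .nil (.node 775 .nil .nil))))) (.node 0 (.node 0 .nil (.node 0 .nil (.node 0 (.node 0 .nil (.node 439 .nil .nil)) .nil))) (.node 0 .nil (.node 0 .nil (.node 0 .nil (.node 0 .nil (.node 511 .nil .nil))))))) (.node 0 (.node 0 (.node 0 .nil (.node 0 .nil (.node 0 .nil (.node 0 .nil (.node 474 .nil .nil))))) .nil) (.node 0 (.node 0 (.node 0 .nil (.node 0 .nil (.node 788 .nil .nil))) (.node 0 .nil (.node 0 .nil (.node 0 .nil (.node 804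 .nil .nil))))) (.node 0 (.node 0 (.node 0 .nil (.node 0 .nil (.node 20 .nil .nil))) .nil) .nil)))) (.node 0 (.node 0 (.node 0 (.node 0 (.node 0 .nil (.node 0 .nil (.node 0 .nil (.node 349 .nil .nil)))) .nil) (.node 0 .nil (.node 0 (.node 0 .nil (.node 0 .nil (.node 598 .nil .nil))) .nil))) .nil) (.node 0 (.node 0 (.node 0 .nil (.node 0 (.node 0 .nil (.node 0 .nil (.node 885 .nil .nil))) .nil)) (.node 0 .nil (.node 0 .nil (.node 0 .nil (.node 464 .nil .nil))))) (.node 0 (.node 0 .nil (.node 0 .nil (.node 0 (.node 0 .nil (.node 1128 .nil .nil)) .nil))) .nil)))))) (.node 0 (.node 0 (.node 0 (.node 0 .nil (.node 0 (.node 0 .nil (.node 0 (.node 0 .nil (.node 0 (.node 0 .nil (.node 952 .nil .nil)) .nil)) .nil)) (.node 0 (.node 0 (.node 0 (.node 0 (.node 0 (.node 0 .nil (.node 833 .nil .nil)) .nil) .nil) .nil) .nil) .nil))) (.node 0 (.node 0 (.node 0 .nil (.node 0 (.node 0 .nil (.node 0 .nil (.node 297 .nil .nil))) .nil)) .nil) .nil))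 (.node 535 (.node 0 (.node 0 (.node 0 (.node 0 .nil (.node 0 .nil (.node 0 .nil (.node 105 .nil .nil)))) .nil) (.node 0 .nil (.node 0 (.node 0 (.node 0 .nil (.node 0 .nil (.node 66 .nil .nil))) .nil) .nil))) (.node 0 (.node 0 (.node 0 .nil (.node 0 .nil (.node 364 .nil .nil))) .nil) (.node 0 .nil (.node 0 .nil (.node 0 .nil (.node 263 .nil .nil)))))) (.node 0 (.node 0 (.node 0 .nil (.node 0 .nil (.node 0 (.node 0 .nil (.node 0 .nil (.node 696 .nil .nil))) .nil))) (.node 0 .nil (.node 0 .nil (.node 748 .nil .nil)))) (.node 0 (.node 0 (.node 0 (.node 0 .nil (.node 446 .nil .nil)) .nil) .nil) .nil)))) (.node 0 (.node 0 (.node 0 (.node 0 (.node 0 .nil (.node 0 .nil (.node 422 .nil .nil))) (.node 0 (.node 0 .nil (.node 0 .nil (.node 842 .nil .nil))) (.node 110 .nil .nil))) (.node 0 (.node 0 (.node 0 (.node 0 (.node 0 .nil (.node 0 .nil (.node 706 .nil .nil))) .nil) .nil) .nil) (.node 0 (.node 0 (.node 0 (.node 0 (.node 0 .nil (.node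 12 .nil .nil)) .nil) .nil) .nil) .nil))) (.node 0 (.node 0 (.node 0 .nil (.node 0 .nil (.node 0 (.node 0 .nil (.node 1040 .nil .nil)) .nil))) .nil) .nil)) (.node 0 (.node 0 (.node 0 (.node 0 .nil (.node 0 (.node 0 .nil (.node 0 .nil (.node 668 .nil .nil))) .nil)) (.node 0 (.node 0 .nil (.node 774 .nil .nil)) (.node 0 (.node 0 .nil (.node 0 (.node 0 (.node 0 .nil (.node 485 .nil .nil)) .nil) .nil)) .nil))) (.node 0 .nil (.node 0 (.node 0 .nil (.node 0 (.node 0 .nil (.node 1075 .nil .nil)) .nil)) .nil))) (.node 0 (.node 0 .nil (.node 0 (.node 0 .nil (.node 0 .nil (.node 0 (.node 0 (.node 0 .nil (.node 1004 .nil .nil)) .nil) .nil))) (.node 0 .nil (.node 0 .nil (.node 0 .nil (.node 247 .nil .nil)))))) (.node 0 (.node 0 (.node 0 (.node 0 (.node 0 .nil (.node 0 .nil (.node 789 .nil .nil))) .nil) (.node 0 .nil (.node 0 .nil (.node 0 .nil (.node 636 .nil .nil))))) (.node 0 .nil (.node 0 .nil (.node 46 .nil .nil)))) .nil))))))) (.node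 0 (.node 0 (.node 0 (.node 0 (.node 0 (.node 0 (.node 0 (.node 0 (.node 0 (.node 0 .nil (.node 0 (.node 0 (.node 0 .nil (.node 592 .nil .nil)) .nil) (.node 0 .nil (.node 223 .nil .nil)))) .nil) .nil) (.node 0 (.node 0 (.node 0 .nil (.node 0 (.node 0 (.node 0 .nil (.node 846 .nil .nil)) .nil) .nil)) .nil) (.node 0 .nil (.node 0 .nil (.node 0 .nil (.node 0 .nil (.node 40 .nil .nil))))))) .nil) (.node 0 (.node 0 (.node 0 (.node 0 (.node 0 .nil (.node 0 .nil (.node 504 .nil .nil))) .nil) .nil) (.node 0 (.node 0 (.node 0 .nil (.node 0 .nil (.node 0 .nil (.node 1133 .nil .nil)))) (.node 0 .nil (.node 0 (.node 0 (.node 0 .nil (.node 999 .nil .nil)) .nil) .nil))) .nil)) (.node 0 (.node 0 (.node 0 (.node 0 (.node 0 (.node 0 .nil (.node 891 .nil .nil)) .nil) .nil) .nil) (.node 0 (.node 0 .nil (.node 414 (.node 0 (.node 0 .nil (.node 86 .nil .nil)) .nil) .nil)) .nil)) (.node 0 (.node 0 .nil (.node 0 .nil (.node 310 .nil .nil))) .nil))))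 (.node 0 (.node 0 (.node 0 (.node 0 .nil (.node 0 .nil (.node 672 .nil .nil))) (.node 0 (.node 0 .nil (.node 0 .nil (.node 0 (.node 0 (.node 0 .nil (.node 942 .nil .nil)) .nil) .nil))) .nil)) (.node 0 (.node 0 .nil (.node 0 .nil (.node 0 .nil (.node 0 .nil (.node 150 .nil .nil))))) (.node 0 .nil (.node 0 (.node 0 .nil (.node 0 .nil (.node 954 .nil .nil))) .nil)))) (.node 0 (.node 0 (.node 0 (.node 0 (.node 0 (.node 0 (.node 0 (.node 0 .nil (.node 707 .nil .nil)) .nil) .nil) .nil) .nil) (.node 2 (.node 0 .nil (.node 857 .nil .nil)) (.node 0 (.node 0 .nil (.node 0 .nil (.node 845 .nil .nil))) .nil))) (.node 0 (.node 0 (.node 0 .nil (.node 0 .nil (.node 0 .nil (.node 55 .nil .nil)))) .nil) .nil)) (.node 0 (.node 0 .nil (.node 0 (.node 0 .nil (.node 0 .nil (.node 0 .nil (.node 778 .nil .nil)))) .nil)) (.node 0 .nil (.node 0 .nil (.node 42 .nil .nil))))))) (.node 0 (.node 0 (.node 0 (.node 0 (.node 0 (.node 0 .nil (.node 0 (.node 0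 .nil (.node 0 .nil (.node 1088 .nil .nil))) .nil)) .nil) .nil) (.node 288 .nil .nil)) (.node 681 (.node 0 (.node 0 (.node 0 .nil (.node 0 (.node 0 (.node 0 (.node 0 .nil (.node 32 .nil .nil)) .nil) .nil) .nil)) .nil) .nil) (.node 0 (.node 0 (.node 0 (.node 0 (.node 0 (.node 0 (.node 0 .nil (.node 589 .nil .nil)) .nil) .nil) .nil) .nil) .nil) (.node 271 (.node 0 (.node 0 .nil (.node 0 .nil (.node 366 .nil .nil))) (.node 0 .nil (.node 0 (.node 0 .nil (.node 1056 .nil .nil)) .nil))) (.node 0 .nil (.node 0 .nil (.node 0 (.node 0 .nil (.node 895 .nil .nil)) .nil))))))) (.node 0 (.node 0 (.node 0 .nil (.node 0 (.node 0 (.node 0 (.node 0 .nil (.node 466 .nil .nil)) .nil) (.node 0 (.node 0 (.node 0 .nil (.node 115 .nil .nil)) .nil) .nil)) (.node 0 .nil (.node 0 (.node 0 (.node 0 .nil (.node 25 .nil .nil)) .nil) .nil)))) (.node 0 (.node 0 .nil (.node 834 .nil (.node 0 .nil (.node 0 (.node 0 (.node 0 .nil (.node 253 .nil .nil)) .nil) (.node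 0 .nil (.node 62 .nil .nil)))))) (.node 0 .nil (.node 0 (.node 0 .nil (.node 0 (.node 0 (.node 0 .nil (.node 1043 .nil .nil)) .nil) .nil)) (.node 0 .nil (.node 875 .nil .nil)))))) (.node 0 (.node 0 (.node 0 .nil (.node 0 (.node 0 (.node 0 (.node 0 (.node 0 .nil (.node 896 .nil .nil)) .nil) .nil) .nil) (.node 0 .nil (.node 0 .nil (.node 166 .nil .nil))))) (.node 0 (.node 0 .nil (.node 0 (.node 0 (.node 0 (.node 0 .nil (.node 79 .nil .nil)) .nil) .nil) .nil)) (.node 0 (.node 0 .nil (.node 0 (.node 0 .nil (.node 124 .nil .nil)) .nil)) .nil))) .nil)))) (.node 389 (.node 0 (.node 0 (.node 0 (.node 0 .nil (.node 0 (.node 0 (.node 0 .nil (.node 976 .nil .nil)) .nil) (.node 0 (.node 0 (.node 0 (.node 0 .nil (.node 956 .nil .nil)) .nil) .nil) (.node 85 .nil (.node 0 .nil (.node 282 .nil .nil)))))) .nil) (.node 0 .nil (.node 0 .nil (.node 0 (.node 0 (.node 0 .nil (.node 0 .nil (.node 0 .nil (.node 1087 .nil .nil)))) .nil) .nil)))) (.node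 0 (.node 0 (.node 0 .nil (.node 0 (.node 0 (.node 0 (.node 0 (.node 0 .nil (.node 14 .nil .nil)) .nil) .nil) (.node 0 .nil (.node 0 (.node 0 (.node 0 .nil (.node 805 .nil .nil)) .nil) .nil))) (.node 0 (.node 0 .nil (.node 0 (.node 0 (.node 0 .nil (.node 1114 .nil .nil)) .nil) .nil)) .nil))) (.node 0 (.node 0 .nil (.node 0 .nil (.node 0 .nil (.node 0 (.node 0 (.node 0 .nil (.node 450 .nil .nil)) .nil) .nil)))) (.node 0 (.node 0 (.node 0 (.node 0 (.node 0 (.node 0 .nil (.node 407 .nil .nil)) .nil) .nil) (.node 0 (.node 0 (.node 0 .nil (.node 433 .nil .nil)) .nil) .nil)) .nil) .nil))) (.node 0 (.node 0 (.node 0 (.node 0 (.node 0 .nil (.node 0 .nil (.node 130 .nil .nil))) .nil) .nil) .nil) (.node 0 .nil (.node 0 (.node 0 .nil (.node 0 (.node 0 .nil (.node 1063 .nil (.node 529 .nil .nil))) .nil)) (.node 0 .nil (.node 0 (.node 0 (.node 0 (.node 0 .nil (.node 351 .nil .nil)) .nil) .nil) .nil))))))) (.node 0 (.node 0 (.node 0 (.node 0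 (.node 0 .nil (.node 0 (.node 0 (.node 0 (.node 0 (.node 0 .nil (.node 303 .nil .nil)) .nil) .nil) .nil) .nil)) (.node 0 (.node 0 .nil (.node 0 (.node 0 .nil (.node 1015 .nil .nil)) .nil)) .nil)) (.node 0 (.node 0 (.node 0 .nil (.node 0 (.node 0 (.node 0 (.node 0 .nil (.node 179 .nil .nil)) .nil) .nil) .nil)) .nil) (.node 0 (.node 0 .nil (.node 0 (.node 0 (.node 0 .nil (.node 232 .nil .nil)) .nil) .nil)) .nil))) (.node 0 (.node 0 (.node 0 (.node 0 .nil (.node 0 .nil (.node 0 .nil (.node 0 .nil (.node 452 .nil .nil))))) .nil) (.node 0 (.node 0 (.node 0 (.node 0 (.node 0 (.node 0 .nil (.node 406 .nil .nil)) .nil) .nil) .nil) (.node 350 .nil .nil)) .nil)) (.node 0 (.node 0 .nil (.node 0 .nil (.node 0 (.node 0 (.node 0 (.node 0 .nil (.node 653 .nil .nil)) .nil) .nil) .nil))) (.node 0 (.node 0 .nil (.node 0 (.node 0 .nil (.node 0 .nil (.node 941 .nil .nil))) .nil)) (.node 0 (.node 0 (.node 0 .nil (.node 67 .nil .nil)) .nil) .nil)))))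 (.node 0 (.node 0 (.node 0 .nil (.node 92 .nil .nil)) (.node 0 (.node 0 (.node 0 .nil (.node 0 .nil (.node 0 .nil (.node 717 .nil .nil)))) (.node 0 (.node 0 .nil (.node 0 .nil (.node 838 .nil .nil))) .nil)) (.node 0 .nil (.node 0 (.node 0 .nil (.node 0 .nil (.node 1025 .nil .nil))) .nil)))) (.node 0 .nil (.node 0 (.node 0 .nil (.node 1062 (.node 0 (.node 0 (.node 0 (.node 0 .nil (.node 791 .nil .nil)) .nil) .nil) .nil) .nil)) (.node 0 .nil (.node 0 (.node 0 .nil (.node 0 (.node 0 .nil (.node 93 .nil .nil)) .nil)) .nil)))))))) (.node 0 (.node 0 (.node 0 (.node 0 (.node 0 (.node 0 (.node 0 (.node 0 .nil (.node 0 (.node 0 (.node 0 .nil (.node 930 .nil .nil)) .nil) .nil)) .nil) .nil) (.node 0 (.node 0 (.node 0 .nil (.node 0 (.node 0 .nil (.node 0 .nil (.node 234 .nil .nil))) .nil)) (.node 0 (.node 0 (.node 0 .nil (.node 1059 .nil .nil)) .nil) .nil)) (.node 0 (.node 0 .nil (.node 0 (.node 0 (.node 0 .nil (.node 532 .nil .nil)) .nil)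 .nil)) .nil))) (.node 0 .nil (.node 0 (.node 0 (.node 0 (.node 0 (.node 0 .nil (.node 89 .nil .nil)) .nil) .nil) (.node 0 (.node 0 .nil (.node 0 .nil (.node 0 .nil (.node 283 .nil .nil)))) .nil)) (.node 0 (.node 0 (.node 0 (.node 0 .nil (.node 0 .nil (.node 639 .nil .nil))) .nil) .nil) (.node 0 (.node 0 .nil (.node 0 (.node 0 .nil (.node 542 .nil .nil)) .nil)) .nil))))) (.node 0 (.node 0 (.node 0 (.node 0 .nil (.node 0 .nil (.node 0 .nil (.node 0 (.node 0 (.node 0 .nil (.node 981 .nil .nil)) .nil) .nil)))) .nil) (.node 0 .nil (.node 0 .nil (.node 0 .nil (.node 0 .nil (.node 0 (.node 0 (.node 0 .nil (.node 606 .nil .nil)) (.node 1068 .nil .nil)) .nil)))))) (.node 0 (.node 0 (.node 0 .nil (.node 0 (.node 0 .nil (.node 0 (.node 0 (.node 0 .nil (.node 992 .nil .nil)) .nil) .nil)) (.node 0 (.node 0 (.node 0 (.node 0 .nil (.node 331 .nil .nil)) .nil) .nil) (.node 801 .nil .nil)))) (.node 0 .nil (.node 0 (.node 0 .nil (.node 0 (.node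 0 .nil (.node 853 .nil .nil)) .nil)) (.node 0 (.node 0 .nil (.node 1151 .nil .nil)) .nil)))) (.node 0 (.node 0 (.node 0 (.node 0 .nil (.node 0 .nil (.node 0 .nil (.node 480 .nil .nil)))) (.node 0 (.node 0 (.node 0 (.node 0 .nil (.node 746 .nil .nil)) .nil) .nil) .nil)) .nil) .nil)))) (.node 0 (.node 0 (.node 0 (.node 0 (.node 0 (.node 0 (.node 0 .nil (.node 0 (.node 0 (.node 0 .nil (.node 137 .nil .nil)) .nil) .nil)) (.node 0 (.node 0 .nil (.node 0 .nil (.node 509 .nil .nil))) .nil)) .nil) .nil) (.node 0 (.node 0 (.node 0 .nil (.node 0 .nil (.node 0 .nil (.node 0 .nil (.node 887 .nil .nil))))) .nil) (.node 0 (.node 0 .nil (.node 0 (.node 0 .nil (.node 675 .nil .nil)) .nil)) .nil))) (.node 0 (.node 0 (.node 0 .nil (.node 0 .nil (.node 0 (.node 0 (.node 0 (.node 0 .nil (.node 97 .nil .nil)) .nil) .nil) .nil))) .nil) (.node 0 .nil (.node 0 (.node 0 (.node 0 .nil (.node 0 (.node 0 .nil (.node 1073 .nil .nil)) .nil)) .nil) (.node 0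 (.node 0 (.node 0 (.node 0 (.node 0 .nil (.node 1029 .nil .nil)) .nil) .nil) .nil) .nil))))) (.node 0 (.node 0 (.node 0 (.node 0 (.node 0 .nil (.node 0 .nil (.node 0 (.node 0 (.node 0 .nil (.node 436 .nil .nil)) .nil) .nil))) .nil) (.node 0 .nil (.node 0 (.node 0 .nil (.node 0 (.node 0 .nil (.node 702 .nil .nil)) .nil)) (.node 0 .nil (.node 0 (.node 0 .nil (.node 375 .nil .nil)) .nil))))) (.node 0 (.node 0 (.node 0 .nil (.node 0 .nil (.node 1066 .nil .nil))) (.node 0 (.node 0 .nil (.node 175 .nil .nil)) (.node 0 .nil (.node 0 .nil (.node 0 .nil (.node 354 .nil .nil)))))) (.node 0 (.node 0 .nil (.node 0 (.node 0 .nil (.node 499 .nil .nil)) .nil)) (.node 0 (.node 0 (.node 0 .nil (.node 762 .nil .nil)) (.node 0 (.node 0 (.node 0 .nil (.node 348 .nil .nil)) .nil) .nil)) .nil)))) (.node 0 (.node 0 (.node 0 .nil (.node 0 (.node 0 .nil (.node 0 (.node 0 .nil (.node 966 .nil .nil)) .nil)) .nil)) .nil) .nil)))) (.node 0 (.node 0 (.node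 0 (.node 0 (.node 0 (.node 0 (.node 0 (.node 0 (.node 0 .nil (.node 0 .nil (.node 1125 .nil .nil))) .nil) (.node 276 .nil (.node 0 .nil (.node 0 .nil (.node 936 .nil .nil))))) .nil) (.node 0 (.node 0 (.node 0 (.node 0 .nil (.node 317 .nil .nil)) .nil) .nil) (.node 0 .nil (.node 0 (.node 0 .nil (.node 0 .nil (.node 920 .nil .nil))) .nil)))) (.node 0 (.node 0 (.node 0 (.node 0 (.node 0 (.node 0 .nil (.node 301 .nil .nil)) .nil) .nil) .nil) (.node 685 (.node 0 (.node 0 (.node 0 .nil (.node 155 .nil .nil)) .nil) .nil) .nil)) (.node 0 (.node 0 (.node 0 .nil (.node 0 (.node 0 (.node 0 .nil (.node 903 .nil .nil)) .nil) .nil)) (.node 0 .nil (.node 0 .nil (.node 0 .nil (.node 543 .nil .nil))))) .nil))) (.node 0 (.node 0 (.node 0 (.node 0 .nil (.node 0 .nil (.node 0 .nil (.node 244 .nil .nil)))) .nil) (.node 0 (.node 0 (.node 0 .nil (.node 0 .nil (.node 1037 .nil .nil))) .nil) (.node 0 (.node 0 .nil (.node 0 (.node 0 .nil (.node 915 .nil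 .nil)) .nil)) .nil))) (.node 0 (.node 0 .nil (.node 0 .nil (.node 0 (.node 0 (.node 0 .nil (.node 418 .nil .nil)) (.node 118 .nil .nil)) .nil))) .nil))) (.node 0 (.node 0 (.node 0 (.node 0 .nil (.node 0 .nil (.node 0 .nil (.node 0 (.node 0 .nil (.node 336 .nil .nil)) .nil)))) (.node 0 .nil (.node 0 (.node 0 (.node 0 .nil (.node 863 .nil .nil)) .nil) .nil))) (.node 0 (.node 0 (.node 0 .nil (.node 0 .nil (.node 0 (.node 0 .nil (.node 754 .nil .nil)) .nil))) .nil) (.node 0 .nil (.node 0 .nil (.node 0 (.node 0 (.node 0 .nil (.node 738 .nil .nil)) .nil) .nil))))) (.node 0 (.node 0 (.node 0 (.node 0 .nil (.node 0 .nil (.node 0 (.node 0 (.node 0 .nil (.node 572 .nil .nil)) .nil) .nil))) .nil) (.node 0 .nil (.node 0 (.node 0 (.node 0 .nil (.node 470 .nil .nil)) .nil) .nil))) (.node 0 .nil (.node 0 (.node 0 (.node 0 (.node 0 .nil (.node 880 .nil .nil)) .nil) .nil) .nil))))) (.node 0 (.node 0 (.node 0 (.node 0 (.node 0 (.node 0 .nil (.node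 0 (.node 0 (.node 0 (.node 0 .nil (.node 481 .nil .nil)) .nil) .nil) .nil)) (.node 0 (.node 0 .nil (.node 0 .nil (.node 0 .nil (.node 573 .nil .nil)))) .nil)) (.node 0 (.node 0 (.node 0 (.node 0 (.node 0 .nil (.node 796 .nil .nil)) .nil) .nil) .nil) .nil)) (.node 0 .nil (.node 0 (.node 0 (.node 0 .nil (.node 0 (.node 0 .nil (.node 1039 .nil .nil)) .nil)) (.node 0 .nil (.node 479 .nil .nil))) .nil))) (.node 0 (.node 0 (.node 0 .nil (.node 0 .nil (.node 0 (.node 0 .nil (.node 188 .nil .nil)) .nil))) (.node 0 (.node 0 (.node 0 (.node 0 .nil (.node 1149 .nil .nil)) (.node 294 .nil .nil)) .nil) .nil)) (.node 0 .nil (.node 0 .nil (.node 0 (.node 0 .nil (.node 1109 .nil .nil)) (.node 0 .nil (.node 0 (.node 0 .nil (.node 1098 .nil .nil)) (.node 0 .nil (.node 245 .nil .nil))))))))) (.node 0 (.node 0 (.node 0 .nil (.node 0 (.node 0 .nil (.node 0 .nil (.node 0 .nil (.node 144 .nil .nil)))) .nil)) .nil) (.node 0 .nil (.node 0 (.node 0 (.node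 0 (.node 0 .nil (.node 737 .nil .nil)) .nil) .nil) (.node 0 (.node 0 .nil (.node 841 .nil .nil)) (.node 0 (.node 0 (.node 0 .nil (.node 0 .nil (.node 329 .nil .nil))) .nil) .nil))))))))))))
noncomputable def W : W1Tab := ⟨1152, om, nxt, par, key, [(0,1),(1,2),(2,4),(3,6),(4,9),(5,13),(6,17),(7,22),(8,26),(9,32),(10,37),(11,43),(12,47),(13,51),(14,55),(15,58),(16,61),(17,61),(18,62),(19,61),(20,61),(21,58),(22,55),(23,51),(24,47),(25,43),(26,37),(27,32),(28,26),(29,22),(30,17),(31,13),(32,9),(33,6),(34,4),(35,2),(36,1)], 15, 41027⟩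

theorem gen_lt : ∀ i < chevE6.rank, ∀ j ∈ gen i, j < chevE6.rank := by decide +kernel
theorem gen_inv : ∀ i < chevE6.rank, ∀ r < chevE6.nroots, wAct TabE6.X (gen i) (wAct TabE6.X (gen i) r) = r := by decide +kernel
theorem gm_ok : checkGm RootE6T.R TabE6.X chevE6 gen gm = true := by decide +kernel
theorem w_ok : w1OK RootE6T.R chevE6.rank gm W = true := by decide +kernel

end Cfsg.Agent.Lib.Chev.TwWE6
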