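import Cfsg.Agent.Lib.Chev.TwW1
import Cfsg.Agent.Lib.Chev.TabF4
import Cfsg.Agent.Lib.Chev.RootF4T

namespace Cfsg.Agent.Lib.Chev.TwWF4
open Cfsg.Agent.Lib.Chev Cfsg.Lie

def gen : ℕ → List ℕ
  | 0 => [0, 3]
  | 1 => [1, 2, 1, 2]
  | 2 => [1, 2, 1, 2]
  | 3 => [0, 3]
  | _ => []
noncomputable def gm : List (List (List ℤ)) := [[[(.negSucc 0),(.ofNat 0),(.ofNat 0),(.ofNat 0)],[(.ofNat 1),(.ofNat 1),(.ofNat 0),(.ofNat 0)],[(.ofNat 0),(.ofNat 0),(.ofNat 1),(.ofNat 1)],[(.ofNat 0),(.ofNat 0),(.ofNat 0),(.negSucc 0)]],[[(.ofNat 1),(.ofNat 2),(.ofNat 1),(.ofNat 0)],[(.ofNat 0),(.negSucc 0),(.ofNat 0),(.ofNat 0)],[(.ofNat 0),(.ofNat 0),(.negSucc 0),(.ofNat 0)],[(.ofNat 0),(.ofNat 2),(.ofNat 2),(.ofNat 1)]],[[(.ofNat 1),(.ofNat 2),(.ofNat 1),(.ofNat 0)],[(.ofNat 0),(.negSucc 0),(.ofNat 0),(.ofNat 0)],[(.ofNat 0),(.ofNat 0),(.negSucc 0),(.ofNat 0)],[(.ofNat 0),(.ofNat 2),(.ofNat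 2),(.ofNat 1)]],[[(.negSucc 0),(.ofNat 0),(.ofNat 0),(.ofNat 0)],[(.ofNat 1),(.ofNat 1),(.ofNat 0),(.ofNat 0)],[(.ofNat 0),(.ofNat 0),(.ofNat 1),(.ofNat 1)],[(.ofNat 0),(.ofNat 0),(.ofNat 0),(.negSucc 0)]]]
noncomputable def om : Trie (List ℤ) := (.node [(.ofNat 1),(.ofNat 1),(.ofNat 1),(.ofNat 1)] (.node [] (.node [] (.node [] .nil (.node [(.ofNat 6),(.negSucc 2),(.negSucc 4),(.ofNat 9)] .nil .nil)) (.node [(.ofNat 5),(.negSucc 1),(.negSucc 1),(.ofNat 7)] .nil (.node [(.ofNat 4),(.negSucc 2),(.negSucc 3),(.ofNat 5)] .nil .nil))) (.node [(.ofNat 4),(.negSucc 0),(.negSucc 0),(.ofNat 5)] (.node [] .nil (.node [(.ofNat 5),(.negSucc 2),(.negSucc 4),(.ofNat 7)] .nil .nil)) (.node [(.ofNat 6),(.negSucc 2),(.negSucc 3),(.ofNat 9)] .nil (.node [(.ofNat 1),(.negSucc 1),(.negSucc 1),(.ofNat 1)] .nil .nil)))) (.node [(.negSucc 0),(.ofNat 2),(.ofNat 2),(.negSucc 0)] (.node [] (.node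 [] .nil (.node [(.negSucc 5),(.ofNat 3),(.ofNat 4),(.negSucc 8)] .nil .nil)) (.node [(.negSucc 4),(.ofNat 3),(.ofNat 5),(.negSucc 6)] .nil (.node [(.negSucc 3),(.ofNat 1),(.ofNat 1),(.negSucc 4)] .nil .nil))) (.node [(.negSucc 3),(.ofNat 3),(.ofNat 4),(.negSucc 4)] (.node [] .nil (.node [(.negSucc 4),(.ofNat 2),(.ofNat 2),(.negSucc 6)] .nil .nil)) (.node [(.negSucc 5),(.ofNat 3),(.ofNat 5),(.negSucc 8)] .nil (.node [(.negSucc 0),(.negSucc 0),(.negSucc 0),(.negSucc 0)] .nil .nil)))))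
noncomputable def nxt : Trie (List ℕ) := (.node [1,2,2,1] (.node [] (.node [] (.node [] .nil (.node [9,5,5,9] .nil .nil)) (.node [5,1,1,5] .nil (.node [13,9,9,13] .nil .nil))) (.node [3,0,0,3] (.node [] .nil (.node [11,7,7,11] .nil .nil)) (.node [7,3,3,7] .nil (.node [15,11,11,15] .nil .nil)))) (.node [0,4,4,0] (.node [] (.node [] .nil (.node [8,12,12,8] .nil .nil)) (.node [4,8,8,4] .nil (.node [12,15,15,12] .nil .nil))) (.node [2,6,6,2] (.node [] .nil (.node [10,14,14,10] .nil .nil)) (.node [6,10,10,6] .nil (.node [14,13,13,14] .nil .nil)))))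
noncomputable def par : Trie (ℕ × ℕ) := (.node (0,0) (.node (0,0) (.node (0,0) (.node (0,0) .nil (.node (8,0) .nil .nil)) (.node (4,0) .nil (.node (12,0) .nil .nil))) (.node (2,0) (.node (0,0) .nil (.node (10,0) .nil .nil)) (.node (6,0) .nil (.node (13,1) .nil .nil)))) (.node (0,1) (.node (0,0) (.node (0,0) .nil (.node (7,1) .nil .nil)) (.node (3,1) .nil (.node (11,1) .nil .nil))) (.node (1,1) (.node (0,0) .nil (.node (9,1) .nil .nil)) (.node (5,1) .nil .nil))))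
noncomputable def key : Trie ℕ := (.node 0 (.node 0 (.node 0 (.node 0 .nil (.node 7 .nil .nil)) (.node 13 .nil (.node 6 .nil .nil))) (.node 0 (.node 0 .nil (.node 8 .nil .nil)) (.node 9 (.node 0 .nil (.node 3 .nil .nil)) (.node 2 .nil (.node 12 .nil .nil))))) (.node 0 (.node 0 (.node 0 (.node 0 (.node 0 .nil (.node 5 .nil .nil)) .nil) .nil) (.node 15 (.node 0 .nil (.node 11 .nil .nil)) (.node 0 .nil (.node 1 .nil .nil)))) (.node 0 (.node 0 (.node 0 .nil (.node 10 .nil .nil)) .nil) (.node 0 (.node 0 .nil (.node 14 .nil .nil)) (.node 0 .nil (.node 4 .nil .nil))))))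
noncomputable def W : W1Tab := ⟨16, om, nxt, par, key, [(0,1),(2,1),(4,1),(6,2),(8,1),(10,1),(12,2),(14,1),(16,1),(18,2),(20,1),(22,1),(24,1)], 6, 34⟩

theorem gen_lt : ∀ i < chevF4.rank, ∀ j ∈ gen i, j < chevF4.rank := by decide +kernel
theorem gen_inv : ∀ i < chevF4.rank, ∀ r < chevF4.nroots, wAct TabF4.X (gen i) (wAct TabF4.X (gen i) r) = r := by decide +kernel
theorem gm_ok : checkGm RootF4T.R TabF4.X chevF4 gen gm = true := by decide +kernel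
theorem w_ok : w1OK RootF4T.R chevF4.rank gm W = true := by decide +kernel

end Cfsg.Agent.Lib.Chev.TwWF4
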