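import Cfsg.Agent.Lib.Chev.TwF4P
import Cfsg.Agent.Lib.Chev.IndexTwo
import Cfsg.Agent.Lib.BNPair2

/-!
# The Tits group: reduction to the index of the derived subgroup
-/

namespace Cfsg.Agent.Lib.Chev.TwF4T

open Cfsg.Agent.Lib.Chev Cfsg.Lie Equiv
open Cfsg.Agent.Lib.Chev.TwF4
open Cfsg.Agent.Lib.Chev.TwWF4 (gen)
open Cfsg.Agent.Lib.BNPair2 Cfsg.Agent.Lib.BNPair

section Gen

variable {G : Type*} [Group G]

/-- A normal subgroup of a group with an irreducible (B,N)-pair supplements the Borel subgroup. -/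
theorem sup_B_top (P : Cfsg.BNPair G) (hirr : P.Irreducible) (hcore : P.B.normalCore = ⊥)
    (M : Subgroup G) [hM : M.Normal] (hne : M ≠ ⊥) : P.B ⊔ M = ⊤ := by
  set L := P.B ⊔ M with hL
  have hBL : P.B ≤ L := le_sup_left
  set J := {s | s ∈ P.S ∧ s ∈ L} with hJdef
  have hLJ : L = P.parabolic J := eq_parabolic hBL
  have hJS : J ⊆ P.S := fun s hs => hs.1
  by_cases h1 : J.Nonempty
  · by_cases h2 : (P.S \ J).Nonempty
    · exfalso
      obtain ⟨s, hs, s', hs', hne⟩ := hirr J hJS h1 h2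
      apply hne
      apply commutator_mem_of_normal (M := M) hs.1 hs'.1 hs.2
      intro h
      exact hs'.2 ⟨hs'.1, h⟩
    · have h2 : P.S ⊆ J := by
        intro x hx
        by_contra hxJ
        exact h2 ⟨x, hx, hxJ⟩
      rw [eq_top_iff, ← parabolic_S (P := P), hLJ]
      exact parabolic_mono h2
  · exfalso
    rw [Set.not_nonempty_iff_eq_empty] at h1
    have hLB : L ≤ P.B := by
      rw [hLJ, h1]
      simp [Cfsg.BNPair.parabolic]
    have hMB : M ≤ P.B := (le_sup_right : M ≤ L).trans hLB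
    have : M ≤ P.B.normalCore := Subgroup.normal_le_normalCore.2 hMB
    rw [hcore] at this
    exact hne (le_bot_iff.1 this)

/-- If `G = BM` with `B` a `p`-group, `G / M` is a `p`-group. -/
theorem isPGroup_quot {p : ℕ} (B M : Subgroup G) [M.Normal] (hsup : B ⊔ M = ⊤) (hB : IsPGroup p ↥B) : IsPGroup p (G ⧸ M) := by
  have hsurj : Function.Surjective ((QuotientGroup.mk' M).comp B.subtype) := by
    intro x
    induction x using QuotientGroup.induction_on with
    | H g =>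
      have hg : g ∈ B ⊔ M := by rw [hsup]; trivial
      obtain ⟨b, hb, m, hm, rfl⟩ := Subgroup.mem_sup_of_normal_right.1 hg
      refine ⟨⟨b, hb⟩, ?_⟩
      simp only [MonoidHom.comp_apply, Subgroup.coe_subtype, QuotientGroup.mk'_apply]
      rw [QuotientGroup.eq]
      simpa using hm
  exact hB.of_surjective _ hsurj

/-- An abelian derived subgroup contradicts the quotient property, when the order has two odd primes. -/
theorem not_comm_of_two_primes [Finite G] {p q : ℕ} (hp : p.Prime) (hq : q.Prime) (hp2 : p ≠ 2) (hq2 : q ≠ 2) (hpq : p ≠ q)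
    (T : Subgroup G) [T.Normal] (hpT : p ∣ Nat.card T) (hqT : q ∣ Nat.card T)
    (h2 : ∀ (N : Subgroup G) [N.Normal], N ≠ ⊥ → IsPGroup 2 (G ⧸ N)) : ¬ IsMulCommutative ↥T := by
  intro hc
  have hcomm : ∀ a ∈ T, ∀ b ∈ T, a * b = b * a := fun a ha b hb =>
    congrArg Subtype.val (hc.is_comm.comm (⟨a, ha⟩ : ↥T) ⟨b, hb⟩)
  let N : Subgroup G :=
    { carrier := {g | g ∈ T ∧ g ^ p = 1}
      mul_mem' := by
        rintro a b ⟨ha, ha'⟩ ⟨hb, hb'⟩
        refine ⟨T.mul_mem ha hb, ?_⟩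
        have hcm : Commute a b := hcomm a ha b hb
        rw [hcm.mul_pow, ha', hb', one_mul]
      one_mem' := ⟨T.one_mem, one_pow _⟩
      inv_mem' := by
        rintro a ⟨ha, ha'⟩
        exact ⟨T.inv_mem ha, by rw [inv_pow, ha', inv_one]⟩ }
  have hNn : N.Normal := by
    refine ⟨fun n hn g => ⟨‹T.Normal›.conj_mem _ hn.1 g, ?_⟩⟩
    rw [conj_pow, hn.2, mul_one, mul_inv_cancel]
  have hNp : IsPGroup p ↥N := by
    intro x
    exact ⟨1, by
      rw [pow_one]
      exact Subtype.ext x.2.2⟩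
  haveI : Fact p.Prime := ⟨hp⟩
  haveI : Fact q.Prime := ⟨hq⟩
  obtain ⟨x, hx⟩ := exists_prime_orderOf_dvd_card' (G := ↥T) p hpT
  have hxN : (x : G) ∈ N := by
    refine ⟨x.2, ?_⟩
    have := pow_orderOf_eq_one x
    rw [hx] at this
    exact congrArg Subtype.val this
  have hNne : N ≠ ⊥ := by
    intro h
    rw [h, Subgroup.mem_bot] at hxN
    have hx1 : x = 1 := Subtype.ext hxN
    rw [hx1, orderOf_one] at hx
    exact hp.one_lt.ne hx
  have hQ := h2 N hNne
  haveI : Fact (Nat.Prime 2) := ⟨Nat.prime_two⟩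
  obtain ⟨k, hk⟩ := IsPGroup.iff_card.1 hQ
  obtain ⟨j, hj⟩ := IsPGroup.iff_card.1 hNp
  have hG := Subgroup.card_eq_card_quotient_mul_card_subgroup N
  have hqG : q ∣ Nat.card G := hqT.trans (Subgroup.card_subgroup_dvd_card T)
  rw [hG, hk, hj] at hqG
  rcases (Nat.Prime.dvd_mul hq).1 hqG with h | h
  · exact hq2 ((Nat.prime_dvd_prime_iff_eq hq Nat.prime_two).1 (hq.dvd_of_dvd_pow h))
  · exact hpq ((Nat.prime_dvd_prime_iff_eq hq hp).1 (hq.dvd_of_dvd_pow h)).symm

end Gen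

variable {K : Type*} [Field K] [Fintype K] {e : ℕ} (d : Dat K e)

theorem hconn : ∀ Q : ℕ → Prop, (∀ i j, i < chevF4.rank → j < chevF4.rank → (d.twG).nC i = (d.twG).nC j → (Q i ↔ Q j)) →
      (∀ i j, i < chevF4.rank → j < chevF4.rank → hF.rhoN K ((d.twG).nC i) * hF.rhoN K ((d.twG).nC j) ≠ hF.rhoN K ((d.twG).nC j) * hF.rhoN K ((d.twG).nC i) → (Q i ↔ Q j)) →
      ∀ i < chevF4.rank, (Q i ↔ Q 0) := by
  intro Q h1 h2 i hi
  have hne : hF.rhoN K ((d.twG).nC 1) * hF.rhoN K ((d.twG).nC 0) ≠ hF.rhoN K ((d.twG).nC 0) * hF.rhoN K ((d.twG).nC 1) := by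
    intro e1
    have hrho : ∀ i (hi : i < chevF4.rank) (r : Fin chevF4.nroots), ((hF.rhoN K ((d.twG).nC i) r : Fin chevF4.nroots) : ℕ) = wAct TabF4.X (gen i) r := by
      intro i hi r
      show ((hF.rhoN K (((gen i).map (hF.nNt K)).prod) r : Fin chevF4.nroots) : ℕ) = _
      rw [hF.rhoN_prod_nNt, hF.prod_wPt_apply (by rcases genL_cases hi with h | h <;> rw [h] <;> decide)]
    have h3 := congrArg (fun p : Perm (Fin chevF4.nroots) => ((p ⟨33, by decide⟩ : Fin chevF4.nroots) : ℕ)) e1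
    simp only [Perm.mul_apply] at h3
    rw [hrho 1 (by decide), hrho 0 (by decide), hrho 0 (by decide), hrho 1 (by decide)] at h3
    exact noncomm_r h3
  have e01 : Q 1 ↔ Q 0 := h2 1 0 (by decide) (by decide) hne
  have hi' : i < 4 := hi
  interval_cases i
  · exact Iff.rfl
  · exact e01
  · exact (h1 2 1 (by decide) (by decide) rfl).trans e01
  · exact h1 3 0 (by decide) (by decide) rfl

theorem sup_top (M : Subgroup ↥(twistedF4 K e)) [M.Normal] (hne : M ≠ ⊥) :
    (d.bn).B ⊔ M = ⊤ :=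
  sup_B_top (d.bn) ((d.twG).irreducible_bn d.hcls d.hne (hconn d)) ((d.twG).normalCore_B1 d.hcent) M hne

/-- The Borel subgroup of `²F₄(2)` is a `2`-group. -/
theorem isPGroup_B (d : Dat (ZMod 2) 1) : IsPGroup 2 ↥(d.bn).B := by
  have h1 : Nat.card ↥(d.bn).B = 2 ^ 12 := by
    have h2 : Nat.card ↥(d.bn).B = Nat.card ↥(chevF4.borelSubgroup (ZMod 2) ⊓ twistedF4 (ZMod 2) 1) := by
      show Nat.card ↥((chevF4.borelSubgroup (ZMod 2) ⊓ twistedF4 (ZMod 2) 1).subgroupOf (twistedF4 (ZMod 2) 1)) = _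
      exact Nat.card_congr (Subgroup.subgroupOfEquivOfLe inf_le_right).toEquiv
    have hB : Nat.card ↥(chevF4.borelSubgroup (ZMod 2) ⊓ twistedF4 (ZMod 2) 1) = _ := (d.twG).card_B1
    rw [h2, hB]
    have h3 := d.card_U1
    have h4 := d.card_H1
    have h5 : Fintype.card (ZMod 2) = 2 := ZMod.card 2
    rw [h5] at h3 h4
    have h6 : Nat.card ↥(chevF4.posUnipotent (ZMod 2) ⊓ (d.twG).G1) = 2 ^ 12 := h3
    have h7 : Nat.card ↥(chevF4.diagonalSubgroup (ZMod 2) ⊓ (d.twG).G1) = 1 := by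
      have : Nat.card ↥(chevF4.diagonalSubgroup (ZMod 2) ⊓ (d.twG).G1) = (2 - 1) ^ 2 := h4
      rw [this]
      norm_num
    rw [h6, h7, mul_one]
  haveI : Fact (Nat.Prime 2) := ⟨Nat.prime_two⟩
  exact IsPGroup.of_card h1

theorem two_quot (d : Dat (ZMod 2) 1) (N : Subgroup ↥(twistedF4 (ZMod 2) 1)) [N.Normal] (hne : N ≠ ⊥) :
    IsPGroup 2 (↥(twistedF4 (ZMod 2) 1) ⧸ N) :=
  isPGroup_quot (d.bn).B N (sup_top d N hne) (isPGroup_B d)

theorem exists_dat2 : Nonempty (Dat (ZMod 2) 1) := by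
  have h := exists_dat (K := ZMod 2) (m := 0) (by simp [ZMod.card])
  simpa using h

/-- The order of `²F₄(2)`. -/
theorem card_G : Nat.card ↥(twistedF4 (ZMod 2) 1) = 35942400 := by
  obtain ⟨d⟩ := exists_dat2
  have h := d.card_G1
  rw [show Fintype.card (ZMod 2) = 2 from ZMod.card 2] at h
  rw [h]
  norm_num

/-- The Tits group from the index of the derived subgroup. -/
theorem main (hidx : (commutator ↥(twistedF4 (ZMod 2) 1)).index = 2) :
    (commutator ↥(twistedF4 (ZMod 2) 1)).index = 2 ∧ IsSimpleGroup TitsGroup ∧ ¬ IsMulCommutative TitsGroup ∧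
    Nat.card TitsGroup = 2 ^ 11 * 3 ^ 3 * 5 ^ 2 * 13 := by
  obtain ⟨d⟩ := exists_dat2
  have hcard : Nat.card TitsGroup = 2 ^ 11 * 3 ^ 3 * 5 ^ 2 * 13 := by
    have h1 := Subgroup.card_mul_index (commutator ↥(twistedF4 (ZMod 2) 1))
    rw [hidx, card_G] at h1
    show Nat.card ↥(commutator ↥(twistedF4 (ZMod 2) 1)) = _
    omega
  have hnon : ¬ IsMulCommutative TitsGroup := by
    refine not_comm_of_two_primes (p := 3) (q := 5) (by norm_num) (by norm_num) (by norm_num) (by norm_num) (by norm_num)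
      (commutator ↥(twistedF4 (ZMod 2) 1)) ?_ ?_ (fun N _ hN => two_quot d N hN)
    · show 3 ∣ Nat.card TitsGroup
      rw [hcard]
      norm_num
    · show 5 ∣ Nat.card TitsGroup
      rw [hcard]
      norm_num
  have hsq : ¬ IsSquare (Nat.card TitsGroup) := by
    rw [hcard]
    rintro ⟨r, hr⟩
    have h1 : r < 4240 := by nlinarith
    have h2 : 4239 < r := by nlinarith
    omega
  obtain ⟨-, hs⟩ := IndexTwo.main hidx (fun N _ hN => two_quot d N hN) hnon hsq
  exact ⟨hidx, hs, hnon, hcard⟩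

end Cfsg.Agent.Lib.Chev.TwF4T
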