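import Cfsg.Agent.Lib.Chev.TwG2Z

set_option linter.style.haveILetI false
set_option linter.unusedSectionVars false

/-!
# The Ree groups `²G₂`: centralisers of elements of order dividing `q² - q + 1`
-/

namespace Cfsg.Agent.Lib.Chev.TwG2

open Cfsg.Agent.Lib.Chev Cfsg.Lie Equiv Module
open Cfsg.Agent.Lib
open Cfsg.Agent.Lib.Chev.ReeGen

variable {K : Type*} [Field K] [Fintype K] {m : ℕ}

/-- Elements of prime order dividing `q² - q + 1`. -/
structure T3 (x : Gm K m) (p : ℕ) : Prop where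
  hp : p.Prime
  hx : orderOf x = p
  hP : p ∣ Fintype.card K ^ 2 - Fintype.card K + 1

namespace Ree

variable (R : Ree K m)

include R

theorem two_dvd : 2 ∣ Fintype.card K - 1 := by
  obtain ⟨k, hk⟩ := R.h8
  rw [hk]
  exact ⟨4 * k + 1, by omega⟩

theorem card_eq_M : ∀ (d : Dat K (3 ^ m)), Nat.card (Gm K m) = (Fintype.card K ^ 3 * (Fintype.card K - 1) * (Fintype.card K + 1)) * (Fintype.card K ^ 2 - Fintype.card K + 1) := by
  intro d
  rw [show Nat.card (Gm K m) = _ from d.card_G1 R.hs, q3_factor _ Fintype.card_pos]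
  ring

/-- Primes dividing the group order. -/
theorem prime_cases {l : ℕ} (hl : l.Prime) (d : Dat K (3 ^ m)) (h : l ∣ Nat.card (Gm K m)) (h1 : ¬ l ∣ Fintype.card K) (h2 : ¬ l ∣ Fintype.card K - 1) :
    l ∣ Fintype.card K + 1 ∨ l ∣ Fintype.card K ^ 2 - Fintype.card K + 1 := by
  rw [R.card_eq_M d, hl.dvd_mul, hl.dvd_mul, hl.dvd_mul] at h
  rcases h with ((h | h) | h) | h
  · exact absurd (hl.dvd_of_dvd_pow h) h1
  · exact absurd h h2
  · exact Or.inl h
  · exact Or.inr h

/-- The primes dividing `q² - q + 1` are at least seven. -/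
theorem prime_ge_P {l : ℕ} (hl : l.Prime) (h : l ∣ Fintype.card K ^ 2 - Fintype.card K + 1) : 7 ≤ l := by
  obtain ⟨h2, h3, -, -, -⟩ := P_arith hl Fintype.card_pos R.three_dvd h
  have h5 : l ≠ 5 := by
    rintro rfl
    have hq := R.q_ge
    obtain ⟨c, hc⟩ : ∃ c, Fintype.card K = c + 1 := ⟨Fintype.card K - 1, by omega⟩
    have e1 : (c + 1) ^ 2 - (c + 1) + 1 = (c + 1) * c + 1 := by
      have : (c + 1) ^ 2 = (c + 1) * c + (c + 1) := by ring
      omega
    rw [hc, e1] at h
    have h6 := R.q_mod5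
    rw [hc] at h6
    have h7 : ((c + 1) * c + 1) % 5 = 0 := Nat.mod_eq_zero_of_dvd h
    have h8 : c % 5 = 1 ∨ c % 5 = 2 := by omega
    rcases h8 with h8 | h8 <;> simp [Nat.add_mod, Nat.mul_mod, h8] at h7
  have h4 : l ≠ 4 := by
    rintro rfl
    norm_num at hl
  have h6 : l ≠ 6 := by
    rintro rfl
    norm_num at hl
  have := hl.two_le
  omega

end Ree

/-- The non-identity elements of a subgroup. -/
def t3S (T : Subgroup (Gm K m)) : Set (Gm K m) := {t | t ∈ T ∧ t ≠ 1}

namespace Dat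

variable (R : Ree K m) (d : Dat K (3 ^ m))

local notation "G" => Gm K m
local notation "Ω" => Gm K m ⧸ B1 K (3 ^ m)

variable {T A : Subgroup (Gm K m)} {w : ℕ} (hP : PlusT T A w) {x : Gm K m} {p : ℕ} (h : T3 x p)

include R d h

theorem t3_arith : p ≠ 2 ∧ p ≠ 3 ∧ ¬ p ∣ Fintype.card K ∧ ¬ p ∣ Fintype.card K - 1 ∧ ¬ p ∣ Fintype.card K + 1 :=
  P_arith h.hp Fintype.card_pos R.three_dvd h.hP

theorem t3_ne_one : x ≠ 1 := by
  rintro rfl
  have := h.hx
  rw [orderOf_one] at this
  exact h.hp.one_lt.ne this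

theorem t3_free {y : G} (hy : y ∈ Subgroup.centralizer ({x} : Set G)) (hy1 : y ≠ 1) (β : Ω) : y • β ≠ β := by
  obtain ⟨hp2, -, h1, h2, h3⟩ := d.t3_arith R h
  exact d.comm_free R h.hp hp2 h.hx h3 h1 h2 (Subgroup.mem_centralizer_singleton_iff.1 hy) hy1 β

theorem t3_cyc : IsCyclic (Subgroup.centralizer ({x} : Set G)) := d.cyc_C R h.hp h.hx h.hP

include hP

/-- Elements of prime order in the centraliser. -/
theorem t3_prime {y : G} (hy : y ∈ Subgroup.centralizer ({x} : Set G)) {l : ℕ} (hl : l.Prime) (hyl : orderOf y = l) :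
    l ∣ Fintype.card K ^ 2 - Fintype.card K + 1 ∧ Subgroup.centralizer ({y} : Set G) = Subgroup.centralizer ({x} : Set G) := by
  haveI := d.finite_G1
  have hy1 : y ≠ 1 := by
    rintro rfl
    rw [orderOf_one] at hyl
    exact hl.one_lt.ne hyl
  have hfree := d.t3_free R h hy hy1
  have h1 : ¬ l ∣ Fintype.card K := by
    intro hd
    obtain ⟨β, hβ⟩ := d.prime_fix R hl hyl (Or.inl hd)
    exact hfree β hβ
  have h2 : ¬ l ∣ Fintype.card K - 1 := by
    intro hd
    obtain ⟨β, hβ⟩ := d.prime_fix R hl hyl (Or.inr hd)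
    exact hfree β hβ
  have h3 : l ≠ 2 := by
    rintro rfl
    exact h2 R.two_dvd
  have hl3 : l ≠ 3 := by
    rintro rfl
    exact h1 R.three_dvd
  obtain ⟨-, -, -, -, hp4⟩ := d.t3_arith R h
  have h4 : ¬ l ∣ Fintype.card K + 1 := by
    intro hd
    obtain ⟨g, hg⟩ := d.plus_cover R hP hl h3 hl3 hd hyl
    have hc := Subgroup.mem_centralizer_singleton_iff.1 hy
    have hx' : x ∈ Subgroup.centralizer ({y} : Set G) := Subgroup.mem_centralizer_singleton_iff.2 hc.symm
    have h5 := (hg x).1 hx'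
    apply hp4
    rw [← hP.card_T, ← h.hx]
    have h6 := Subgroup.orderOf_dvd_natCard _ h5
    have h7 := (MulAut.conj g).orderOf_eq x
    rw [MulAut.conj_apply] at h7
    rwa [h7] at h6
  have h5 : l ∣ Fintype.card K ^ 2 - Fintype.card K + 1 := by
    have h6 : l ∣ Nat.card G := by
      rw [← hyl]
      exact orderOf_dvd_natCard y
    rcases R.prime_cases hl d h6 h1 h2 with h7 | h7
    · exact absurd h7 h4
    · exact h7
  refine ⟨h5, ?_⟩
  haveI := d.t3_cyc R h
  haveI := d.cyc_C R hl hyl h5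
  have hxy : x ∈ Subgroup.centralizer ({y} : Set G) := Subgroup.mem_centralizer_singleton_iff.2 (Subgroup.mem_centralizer_singleton_iff.1 hy).symm
  apply le_antisymm
  · intro u hu
    rw [Subgroup.mem_centralizer_singleton_iff]
    have h6 : (⟨u, hu⟩ : Subgroup.centralizer ({y} : Set G)) * ⟨x, hxy⟩ = ⟨x, hxy⟩ * ⟨u, hu⟩ := mul_comm' _ _
    exact congrArg Subtype.val h6
  · intro u hu
    rw [Subgroup.mem_centralizer_singleton_iff]
    have h6 : (⟨u, hu⟩ : Subgroup.centralizer ({x} : Set G)) * ⟨y, hy⟩ = ⟨y, hy⟩ * ⟨u, hu⟩ := mul_comm' _ _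
    exact congrArg Subtype.val h6

/-- All non-trivial elements of the centraliser have the same centraliser. -/
theorem t3_cent {t : G} (ht : t ∈ Subgroup.centralizer ({x} : Set G)) (ht1 : t ≠ 1) : Subgroup.centralizer ({t} : Set G) = Subgroup.centralizer ({x} : Set G) := by
  haveI := d.finite_G1
  haveI := d.t3_cyc R h
  have ho : orderOf t ≠ 1 := fun e => ht1 (orderOf_eq_one_iff.1 e)
  obtain ⟨l, hl, hlt⟩ := Nat.exists_prime_and_dvd ho
  set y := t ^ (orderOf t / l) with hy
  have hyl : orderOf y = l := orderOf_pow_orderOf_div (orderOf_pos t).ne' hlt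
  have hyC : y ∈ Subgroup.centralizer ({x} : Set G) := Subgroup.pow_mem _ ht _
  obtain ⟨-, h2⟩ := d.t3_prime R hP h hyC hl hyl
  apply le_antisymm
  · rw [← h2]
    intro u hu
    rw [Subgroup.mem_centralizer_singleton_iff] at hu ⊢
    have : Commute u t := hu
    exact this.pow_right _
  · intro u hu
    rw [Subgroup.mem_centralizer_singleton_iff]
    have h6 : (⟨u, hu⟩ : Subgroup.centralizer ({x} : Set G)) * ⟨t, ht⟩ = ⟨t, ht⟩ * ⟨u, hu⟩ := mul_comm' _ _
    exact congrArg Subtype.val h6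

/-- Primes dividing the order of the centraliser. -/
theorem t3_exists_elt {l : ℕ} (hl : l.Prime) (hlτ : l ∣ Nat.card (Subgroup.centralizer ({x} : Set G))) :
    ∃ y ∈ Subgroup.centralizer ({x} : Set G), orderOf y = l := by
  haveI := d.finite_G1
  haveI : Fact l.Prime := ⟨hl⟩
  have h0 : ∃ y : Subgroup.centralizer ({x} : Set G), orderOf y = l := exists_prime_orderOf_dvd_card' l hlτ
  obtain ⟨y, hy⟩ := h0
  exact ⟨y.1, y.2, (Subgroup.orderOf_coe y).trans hy⟩

/-- The order of the centraliser divides `q² - q + 1`. -/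
theorem t3_dvd : Nat.card (Subgroup.centralizer ({x} : Set G)) ∣ Fintype.card K ^ 2 - Fintype.card K + 1 := by
  haveI := d.finite_G1
  have h1 : Nat.card (Subgroup.centralizer ({x} : Set G)) ∣ Nat.card G := Subgroup.card_subgroup_dvd_card _
  rw [R.card_eq_M d] at h1
  refine (Nat.Coprime.dvd_of_dvd_mul_left ?_ h1)
  apply Nat.coprime_of_dvd
  intro k hk hkτ
  obtain ⟨y, hy, hyk⟩ := d.t3_exists_elt R hP h hk hkτ
  obtain ⟨h5, -⟩ := d.t3_prime R hP h hy hk hyk
  obtain ⟨-, -, h6, h7, h8⟩ := P_arith hk Fintype.card_pos R.three_dvd h5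
  rw [hk.dvd_mul, hk.dvd_mul]
  rintro ((h9 | h9) | h9)
  · exact h6 (hk.dvd_of_dvd_pow h9)
  · exact h7 h9
  · exact h8 h9

/-- The order of the centraliser is a Hall divisor of `q² - q + 1`. -/
theorem t3_coprime : Nat.Coprime (Nat.card (Subgroup.centralizer ({x} : Set G))) ((Fintype.card K ^ 2 - Fintype.card K + 1) / Nat.card (Subgroup.centralizer ({x} : Set G))) := by
  haveI := d.finite_G1
  apply Nat.coprime_of_dvd
  intro l hl hlτ hls
  haveI : Fact l.Prime := ⟨hl⟩
  obtain ⟨y, hy, hyl⟩ := d.t3_exists_elt R hP h hl hlτ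
  obtain ⟨h5, h6⟩ := d.t3_prime R hP h hy hl hyl
  have h7 := R.prime_ge_P hl h5
  obtain ⟨Q, hQ⟩ := (isP_zpowers_of_order hl hyl).exists_le_sylow
  haveI := d.sylow_cyc R (by omega : 3 < l) Q
  have hyQ : y ∈ (Q : Subgroup G) := hQ (Subgroup.mem_zpowers y)
  have hQC : (Q : Subgroup G) ≤ Subgroup.centralizer ({x} : Set G) := by
    rw [← h6]
    intro t ht
    rw [Subgroup.mem_centralizer_singleton_iff]
    have h1 : (⟨t, ht⟩ : (Q : Subgroup G)) * ⟨y, hyQ⟩ = ⟨y, hyQ⟩ * ⟨t, ht⟩ := mul_comm' _ _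
    exact congrArg Subtype.val h1
  have h8 := Subgroup.card_dvd_of_le hQC
  rw [Q.card_eq_multiplicity] at h8
  have h9 := d.t3_dvd R hP h
  have hG : Nat.card G ≠ 0 := Nat.card_pos.ne'
  apply Nat.pow_succ_factorization_not_dvd hG hl
  rw [pow_succ]
  have h10 : Nat.card (Subgroup.centralizer ({x} : Set G)) * ((Fintype.card K ^ 2 - Fintype.card K + 1) / Nat.card (Subgroup.centralizer ({x} : Set G))) = Fintype.card K ^ 2 - Fintype.card K + 1 :=
    Nat.mul_div_cancel' h9
  have h11 : (Fintype.card K ^ 2 - Fintype.card K + 1) ∣ Nat.card G := by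
    rw [R.card_eq_M d]
    exact Dvd.intro_left _ rfl
  refine Dvd.dvd.trans ?_ h11
  rw [← h10]
  exact Nat.mul_dvd_mul h8 hls

/-- Elements of prime order dividing the order of the centraliser are conjugate into it. -/
theorem t3_conj {z : G} {l : ℕ} (hl : l.Prime) (hlτ : l ∣ Nat.card (Subgroup.centralizer ({x} : Set G))) (hz : orderOf z = l) :
    ∃ g : G, ∀ u : G, u ∈ Subgroup.centralizer ({z} : Set G) ↔ g * u * g⁻¹ ∈ Subgroup.centralizer ({x} : Set G) := by
  obtain ⟨y, hy, hyl⟩ := d.t3_exists_elt R hP h hl hlτ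
  obtain ⟨h5, h6⟩ := d.t3_prime R hP h hy hl hyl
  have h7 := R.prime_ge_P hl h5
  obtain ⟨g, hg⟩ := d.conj_of_prime R hl (by omega) hz hyl
  refine ⟨g, fun u => ?_⟩
  rw [← h6, ← cent_eq_of_zpowers_eq hg, mem_cent_conj]
  have e : g⁻¹ * (g * u * g⁻¹) * g = u := by group
  rw [e]

/-- The lower bound on the order of the centraliser. -/
theorem t3_ge7 : 7 ≤ Nat.card (Subgroup.centralizer ({x} : Set G)) := by
  haveI := d.finite_G1
  have h1 := R.prime_ge_P h.hp h.hP
  have h2 : p ∣ Nat.card (Subgroup.centralizer ({x} : Set G)) := by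
    rw [← h.hx]
    exact Subgroup.orderOf_dvd_natCard _ (Subgroup.mem_centralizer_singleton_iff.2 rfl)
  have h3 := Nat.le_of_dvd Nat.card_pos h2
  omega

/-- The normaliser of the centraliser. -/
theorem t3_norm_eq : Subgroup.normalizer ((Subgroup.centralizer ({x} : Set G) : Subgroup G) : Set G) = Subgroup.normalizer ((Subgroup.zpowers x : Subgroup G) : Set G) := by
  haveI := d.finite_G1
  haveI := d.t3_cyc R h
  apply le_antisymm
  · apply normalizer_le_of_cyclic
    rw [Subgroup.zpowers_le]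
    exact Subgroup.mem_centralizer_singleton_iff.2 rfl
  · exact norm_zpowers_le_norm_cent x

/-- The order of the normaliser of the centraliser. -/
theorem t3_card_norm : ∃ n : ℕ, n ∣ 6 ∧ Nat.card (Subgroup.normalizer ((Subgroup.centralizer ({x} : Set G) : Subgroup G) : Set G)) = Nat.card (Subgroup.centralizer ({x} : Set G)) * n := by
  classical
  haveI := d.finite_G1
  have hp := h.hp
  haveI : Fact p.Prime := ⟨hp⟩
  obtain ⟨R₀, hR₀, hr⟩ := norm_card x hp h.hx
  refine ⟨Nat.card R₀, ?_, ?_⟩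
  · obtain ⟨hp2, hp3, hpq, -, -⟩ := d.t3_arith R h
    have h6 : LinIrr.Ord6 (Fintype.card K) p := ord6_of hp2 hp3 h.hP
    have hq0 : ((Fintype.card K : ℕ) : ZMod p) ≠ 0 := by
      intro h0
      exact hpq ((ZMod.natCast_eq_zero_iff _ _).1 h0)
    set qb : (ZMod p)ˣ := Units.mk0 _ hq0 with hqb
    have hle : R₀ ≤ Subgroup.zpowers qb := by
      intro r hrR
      obtain ⟨g, k, hk, hgk⟩ := hr r hrR
      have hs := R.simple d
      have hc3 := charP3 R.hK
      have hpK : (p : K) ≠ 0 := by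
        intro h0
        have h1 := (CharP.cast_eq_zero_iff K 3 p).1 h0
        exact hp3 ((Nat.prime_dvd_prime_iff_eq Nat.prime_three hp).1 h1).symm
      have hX : d.rho x ^ p = 1 := by
        rw [← map_pow, ← h.hx, pow_orderOf_eq_one, map_one]
      have hX1 : d.rho x ≠ 1 := fun e => d.t3_ne_one R h (d.rho_inj hs x e)
      have hinj : Function.Injective (d.rho g) := by
        have e1 : d.rho g⁻¹ * d.rho g = 1 := by
          rw [← map_mul, inv_mul_cancel, map_one]
        intro a b hab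
        have e2 := congrArg (d.rho g⁻¹) hab
        have e3 : ∀ c, d.rho g⁻¹ (d.rho g c) = c := fun c => by
          have : (d.rho g⁻¹ * d.rho g) c = c := by rw [e1]; rfl
          exact this
        rwa [e3, e3] at e2
      have hgX : d.rho g * d.rho x = d.rho x ^ k * d.rho g := by
        rw [← map_mul, ← map_pow, ← map_mul, ← hgk]
        congr 1
        group
      obtain ⟨i, -, hi⟩ := LinIrr.galois_V (d.rho x) hX hpK h6 finrank_V7 hX1 hinj hgX
      refine Subgroup.mem_zpowers_iff.2 ⟨i, ?_⟩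
      apply Units.ext
      rw [zpow_natCast, Units.val_pow_eq_pow_val, hk]
      have := (ZMod.natCast_eq_natCast_iff _ _ _).2 hi
      rw [this]
      push_cast
      rfl
    have h1 := Subgroup.card_dvd_of_le hle
    rw [Nat.card_zpowers] at h1
    refine h1.trans (orderOf_dvd_of_pow_eq_one ?_)
    apply Units.ext
    rw [Units.val_pow_eq_pow_val]
    have := (ZMod.natCast_eq_natCast_iff _ _ _).2 h6.hsix
    push_cast at this
    simpa [hqb] using this
  · rw [d.t3_norm_eq R hP h]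
    exact hR₀

/-- The conjugation condition. -/
theorem t3_ti (a : G) {t : G} (ht : t ∈ t3S (Subgroup.centralizer ({x} : Set G))) :
    a * t * a⁻¹ ∈ t3S (Subgroup.centralizer ({x} : Set G)) ↔ a ∈ Subgroup.normalizer ((Subgroup.centralizer ({x} : Set G) : Subgroup G) : Set G) := by
  haveI := d.finite_G1
  constructor
  · rintro ⟨h1, h2⟩
    have h3 := d.t3_cent R hP h ht.1 ht.2
    have h4 := d.t3_cent R hP h h1 h2
    apply mem_norm_of_conj_le
    intro u hu
    rw [← h4, mem_cent_conj, h3]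
    have e : a⁻¹ * (a * u * a⁻¹) * a = u := by group
    rwa [e]
  · intro ha
    refine ⟨(Subgroup.mem_set_normalizer_iff.1 ha t).1 ht.1, ?_⟩
    intro h1
    apply ht.2
    have e2 : t = a⁻¹ * (a * t * a⁻¹) * a := by group
    rw [e2, h1]
    group

omit R d hP h in
theorem t3S_card [Finite G] (T : Subgroup G) : (t3S T).ncard + 1 = Nat.card T := by
  have h2 : Nat.card T = (T : Set G).ncard := Nat.card_coe_set_eq (T : Set G)
  have h1 : (T : Set G) = t3S T ∪ {1} := by
    ext t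
    constructor
    · intro ht
      by_cases h : t = 1
      · exact Or.inr h
      · exact Or.inl ⟨ht, h⟩
    · rintro (h | h)
      · exact h.1
      · rw [h]
        exact T.one_mem
  rw [h2, h1, Set.ncard_union_eq, Set.ncard_singleton]
  rw [Set.disjoint_left]
  rintro t ⟨-, h⟩ h'
  exact h h'

/-- The count of the conjugates. -/
theorem t3_count : ∃ n : ℕ, n ∣ 6 ∧ Nat.card (Subgroup.normalizer ((Subgroup.centralizer ({x} : Set G) : Subgroup G) : Set G)) = Nat.card (Subgroup.centralizer ({x} : Set G)) * n ∧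
    (Yc (t3S (Subgroup.centralizer ({x} : Set G)))).ncard * (Nat.card (Subgroup.centralizer ({x} : Set G)) * n) = Nat.card G * (Nat.card (Subgroup.centralizer ({x} : Set G)) - 1) := by
  haveI := d.finite_G1
  obtain ⟨n, hn, hN⟩ := d.t3_card_norm R hP h
  refine ⟨n, hn, hN, ?_⟩
  have h1 := ti_count (t3S (Subgroup.centralizer ({x} : Set G))) (Subgroup.normalizer ((Subgroup.centralizer ({x} : Set G) : Subgroup G) : Set G)) (fun a t ht => d.t3_ti R hP h a ht)
  rw [hN] at h1
  rw [h1]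
  have h2 := t3S_card (Subgroup.centralizer ({x} : Set G))
  congr 1
  omega

/-- The conjugates have no fixed points. -/
theorem t3_Yc_fpf {g : G} (hg : g ∈ Yc (t3S (Subgroup.centralizer ({x} : Set G)))) : g ∈ Fpf K m := by
  obtain ⟨a, t, ht, rfl⟩ := hg
  intro β hβ
  have h1 : t • (a⁻¹ • β) = a⁻¹ • β := (conj_fix a⁻¹ t β).1 (by rw [inv_inv]; exact hβ)
  exact d.t3_free R h ht.1 ht.2 _ h1

omit R d hP h in
/-- The order of a conjugate. -/
theorem Yc_order [Finite G] {T : Subgroup G} {g : G} (hg : g ∈ Yc (t3S T)) : orderOf g ∣ Nat.card T := by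
  obtain ⟨a, t, ht, rfl⟩ := hg
  have h1 := (MulAut.conj a).orderOf_eq t
  rw [MulAut.conj_apply] at h1
  rw [h1]
  exact Subgroup.orderOf_dvd_natCard _ ht.1

omit R d hP h in
theorem Yc_ne [Finite G] {T : Subgroup G} {g : G} (hg : g ∈ Yc (t3S T)) : g ≠ 1 := by
  obtain ⟨a, t, ht, rfl⟩ := hg
  intro h1
  apply ht.2
  have e : t = a⁻¹ * (a * t * a⁻¹) * a := by group
  rw [e, h1]
  group

omit R d hP h in
/-- Conjugates of subgroups of coprime orders are disjoint. -/
theorem Yc_disj [Finite G] {T₁ T₂ : Subgroup G} (hc : Nat.Coprime (Nat.card T₁) (Nat.card T₂)) : Disjoint (Yc (t3S T₁)) (Yc (t3S T₂)) := by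
  rw [Set.disjoint_left]
  intro g h1 h2
  have h3 := Nat.dvd_gcd (Yc_order h1) (Yc_order h2)
  rw [hc] at h3
  exact Yc_ne h1 (orderOf_eq_one_iff.1 (Nat.dvd_one.1 h3))

/-- The conjugates of the two kinds of subgroups are disjoint. -/
theorem plus_disj : Disjoint (Yc (plusS T)) (Yc (t3S (Subgroup.centralizer ({x} : Set G)))) := by
  haveI := d.finite_G1
  rw [Set.disjoint_left]
  rintro g ⟨a, t, ht, rfl⟩ h2
  have h3 := Yc_order h2
  have h4 := (MulAut.conj a).orderOf_eq t
  rw [MulAut.conj_apply] at h4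
  rw [h4] at h3
  obtain ⟨k, l, hl, hlw, hkl⟩ := d.plusS_prime R hP ht
  have h5 : l ∣ orderOf t := by
    rw [← hkl]
    exact orderOf_pow_dvd k
  have h6 : l ∣ Fintype.card K ^ 2 - Fintype.card K + 1 := (h5.trans h3).trans (d.t3_dvd R hP h)
  obtain ⟨-, -, -, -, h7⟩ := P_arith hl Fintype.card_pos R.three_dvd h6
  apply h7
  rw [hP.hw]
  exact Dvd.dvd.mul_left hlw 4

omit h in
/-- Fixed point free elements: the first alternative. -/
theorem fpf_cover {g : G} (hg : g ∈ Fpf K m) : g ∈ Yc (plusS T) ∨ ∃ l : ℕ, l.Prime ∧ l ∣ Fintype.card K ^ 2 - Fintype.card K + 1 ∧ l ∣ orderOf g := by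
  haveI := d.finite_G1
  obtain ⟨l, hl, hlo, h1, h2⟩ := d.fpf_prime R hg
  have h3 : l ∣ Nat.card G := hlo.trans (orderOf_dvd_natCard g)
  rcases R.prime_cases hl d h3 h1 h2 with h4 | h4
  · left
    have hl2 : l ≠ 2 := by
      rintro rfl
      exact h2 R.two_dvd
    have hl3 : l ≠ 3 := by
      rintro rfl
      exact h1 R.three_dvd
    set z := g ^ (orderOf g / l) with hz
    have hzl : orderOf z = l := orderOf_pow_orderOf_div (orderOf_pos g).ne' hlo
    obtain ⟨c, hc⟩ := d.plus_cover R hP hl hl2 hl3 h4 hzl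
    have h5 : g ∈ Subgroup.centralizer ({z} : Set G) := by
      rw [Subgroup.mem_centralizer_singleton_iff, hz]
      exact (Commute.refl g).pow_right _
    have h6 := (hc g).1 h5
    refine ⟨c⁻¹, c * g * c⁻¹, ⟨h6, ?_⟩, by group⟩
    intro h7
    have h8 : g * g = 1 := by
      have e : g * g = c⁻¹ * (c * g * c⁻¹ * (c * g * c⁻¹)) * c := by group
      rw [e, h7]
      group
    by_cases h9 : g = 1
    · subst h9
      exact hg ((1 : G) : Ω) (one_smul _ _)
    · obtain ⟨β, hβ⟩ := d.inv_fix R h8 h9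
      exact hg β hβ
  · exact Or.inr ⟨l, hl, h4, hlo⟩

/-- Fixed point free elements: the second alternative. -/
theorem t3_cover {g : G} (hg1 : g ≠ 1) {l : ℕ} (hl : l.Prime) (hlτ : l ∣ Nat.card (Subgroup.centralizer ({x} : Set G))) (hlo : l ∣ orderOf g) :
    g ∈ Yc (t3S (Subgroup.centralizer ({x} : Set G))) := by
  haveI := d.finite_G1
  set z := g ^ (orderOf g / l) with hz
  have hzl : orderOf z = l := orderOf_pow_orderOf_div (orderOf_pos g).ne' hlo
  obtain ⟨c, hc⟩ := d.t3_conj R hP h hl hlτ hzl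
  have h5 : g ∈ Subgroup.centralizer ({z} : Set G) := by
    rw [Subgroup.mem_centralizer_singleton_iff, hz]
    exact (Commute.refl g).pow_right _
  have h6 := (hc g).1 h5
  refine ⟨c⁻¹, c * g * c⁻¹, ⟨h6, ?_⟩, by group⟩
  intro h7
  apply hg1
  have e : g = c⁻¹ * (c * g * c⁻¹) * c := by group
  rw [e, h7]
  group

omit hP h in
/-- The elements exist. -/
theorem exists_t3 {l : ℕ} (hl : l.Prime) (hlP : l ∣ Fintype.card K ^ 2 - Fintype.card K + 1) : ∃ x : G, T3 x l := by
  haveI := d.finite_G1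
  haveI : Fact l.Prime := ⟨hl⟩
  have h1 : l ∣ Nat.card G := by
    rw [R.card_eq_M d]
    exact Dvd.dvd.mul_left hlP _
  have h0 : ∃ y : G, orderOf y = l := exists_prime_orderOf_dvd_card' l h1
  obtain ⟨y, hy⟩ := h0
  exact ⟨y, hl, hy, hlP⟩

/-- Orders of different centralisers are coprime. -/
theorem t3_coprime2 {x' : G} {p' : ℕ} (h' : T3 x' p') (hn : ¬ p' ∣ Nat.card (Subgroup.centralizer ({x} : Set G))) :
    Nat.Coprime (Nat.card (Subgroup.centralizer ({x} : Set G))) (Nat.card (Subgroup.centralizer ({x'} : Set G))) := by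
  haveI := d.finite_G1
  apply Nat.coprime_of_dvd
  intro l hl h1 h2
  obtain ⟨y, hy, hyl⟩ := d.t3_exists_elt R hP h' hl h2
  obtain ⟨-, h6⟩ := d.t3_prime R hP h' hy hl hyl
  obtain ⟨g, hg⟩ := d.t3_conj R hP h hl h1 hyl
  rw [h6] at hg
  have h3 : Nat.card (Subgroup.centralizer ({x'} : Set G)) = Nat.card (Subgroup.centralizer ({x} : Set G)) := by
    refine Nat.card_congr ((MulAut.conj g).toEquiv.subtypeEquiv (fun u => ?_))
    have e : (MulAut.conj g).toEquiv u = g * u * g⁻¹ := by simp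
    rw [e]
    exact hg u
  apply hn
  rw [← h3, ← h'.hx]
  exact Subgroup.orderOf_dvd_natCard _ (Subgroup.mem_centralizer_singleton_iff.2 rfl)

/-- A Hall divisor containing all primes. -/
theorem t3_eq_P (hall : ∀ l : ℕ, l.Prime → l ∣ Fintype.card K ^ 2 - Fintype.card K + 1 → l ∣ Nat.card (Subgroup.centralizer ({x} : Set G))) :
    Nat.card (Subgroup.centralizer ({x} : Set G)) = Fintype.card K ^ 2 - Fintype.card K + 1 := by
  have h1 := d.t3_dvd R hP h
  have h2 := d.t3_coprime R hP h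
  obtain ⟨s, hs⟩ := h1
  have hτ : 0 < Nat.card (Subgroup.centralizer ({x} : Set G)) := by
    haveI := d.finite_G1
    exact Nat.card_pos
  have h3 : (Fintype.card K ^ 2 - Fintype.card K + 1) / Nat.card (Subgroup.centralizer ({x} : Set G)) = s := by
    rw [hs]
    exact Nat.mul_div_cancel_left _ hτ
  rw [h3] at h2
  by_cases h4 : s = 1
  · rw [hs, h4, mul_one]
  · exfalso
    obtain ⟨l, hl, hls⟩ := Nat.exists_prime_and_dvd h4
    have h5 := hall l hl (by rw [hs]; exact Dvd.dvd.mul_left hls _)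
    exact hl.one_lt.ne' (Nat.dvd_one.1 (h2 ▸ Nat.dvd_gcd h5 hls))

/-- The product of two Hall divisors containing all primes. -/
theorem t3_mul_eq_P {x' : G} {p' : ℕ} (h' : T3 x' p') (hc : Nat.Coprime (Nat.card (Subgroup.centralizer ({x} : Set G))) (Nat.card (Subgroup.centralizer ({x'} : Set G))))
    (hall : ∀ l : ℕ, l.Prime → l ∣ Fintype.card K ^ 2 - Fintype.card K + 1 → l ∣ Nat.card (Subgroup.centralizer ({x} : Set G)) ∨ l ∣ Nat.card (Subgroup.centralizer ({x'} : Set G))) :
    Nat.card (Subgroup.centralizer ({x} : Set G)) * Nat.card (Subgroup.centralizer ({x'} : Set G)) = Fintype.card K ^ 2 - Fintype.card K + 1 := by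
  haveI := d.finite_G1
  obtain ⟨s, hs⟩ := hc.mul_dvd_of_dvd_of_dvd (d.t3_dvd R hP h) (d.t3_dvd R hP h')
  have hτ : 0 < Nat.card (Subgroup.centralizer ({x} : Set G)) := Nat.card_pos
  have hτ' : 0 < Nat.card (Subgroup.centralizer ({x'} : Set G)) := Nat.card_pos
  have h1 := d.t3_coprime R hP h
  have h2 := d.t3_coprime R hP h'
  have e1 : (Fintype.card K ^ 2 - Fintype.card K + 1) / Nat.card (Subgroup.centralizer ({x} : Set G)) = Nat.card (Subgroup.centralizer ({x'} : Set G)) * s := by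
    rw [hs, mul_assoc]
    exact Nat.mul_div_cancel_left _ hτ
  have e2 : (Fintype.card K ^ 2 - Fintype.card K + 1) / Nat.card (Subgroup.centralizer ({x'} : Set G)) = Nat.card (Subgroup.centralizer ({x} : Set G)) * s := by
    rw [hs, mul_comm (Nat.card (Subgroup.centralizer ({x} : Set G))), mul_assoc]
    exact Nat.mul_div_cancel_left _ hτ'
  rw [e1] at h1
  rw [e2] at h2
  by_cases h4 : s = 1
  · rw [hs, h4, mul_one]
  · exfalso
    obtain ⟨l, hl, hls⟩ := Nat.exists_prime_and_dvd h4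
    rcases hall l hl (by rw [hs]; exact Dvd.dvd.mul_left hls _) with h5 | h5
    · exact hl.one_lt.ne' (Nat.dvd_one.1 (h1 ▸ Nat.dvd_gcd h5 (Dvd.dvd.mul_left hls _)))
    · exact hl.one_lt.ne' (Nat.dvd_one.1 (h2 ▸ Nat.dvd_gcd h5 (Dvd.dvd.mul_left hls _)))

end Dat

end Cfsg.Agent.Lib.Chev.TwG2
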