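import Cfsg.Agent.Lib.Chev.TwG2S
import Cfsg.Agent.Lib.Chev.RankOne
import Cfsg.Agent.Lib.ClassicalSmall

/-!
# The Ree groups `²G₂`: the map from `SL₂`
-/

namespace Cfsg.Agent.Lib.Chev.TwG2

open Cfsg.Agent.Lib.Chev Cfsg.Lie Equiv
open Cfsg.Agent.Lib.Chev.SL2 (x0 y0 D0 n0 ext4 mem_closure_elementary)
open Matrix (SpecialLinearGroup)

section Gen

variable {F : Type*} [Field F] {H : Type*} [Group H]

theorem comm_of_gens (φ : SpecialLinearGroup (Fin 2) F →* H) (x : H) (h1 : ∀ t, Commute (φ (x0 t)) x)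
    (h2 : ∀ t, Commute (φ (y0 t)) x) (g : SpecialLinearGroup (Fin 2) F) : Commute (φ g) x := by
  induction (mem_closure_elementary g) using Subgroup.closure_induction with
  | mem y hy =>
    rcases hy with ⟨t, rfl⟩ | ⟨t, rfl⟩
    · exact h1 t
    · exact h2 t
  | one => rw [map_one]; exact Commute.one_left x
  | mul a b _ _ ha hb => rw [map_mul]; exact ha.mul_left hb
  | inv a _ ha => rw [map_inv]; exact ha.inv_left

theorem mem_of_gens (φ : SpecialLinearGroup (Fin 2) F →* H) (S : Subgroup H) (h1 : ∀ t, φ (x0 t) ∈ S)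
    (h2 : ∀ t, φ (y0 t) ∈ S) (g : SpecialLinearGroup (Fin 2) F) : φ g ∈ S := by
  induction (mem_closure_elementary g) using Subgroup.closure_induction with
  | mem y hy =>
    rcases hy with ⟨t, rfl⟩ | ⟨t, rfl⟩
    · exact h1 t
    · exact h2 t
  | one => rw [map_one]; exact S.one_mem
  | mul a b _ _ ha hb => rw [map_mul]; exact S.mul_mem ha hb
  | inv a _ ha => rw [map_inv]; exact S.inv_mem ha

@[simp] theorem n0_a : (n0 : SpecialLinearGroup (Fin 2) F).1 0 0 = 0 := rfl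
@[simp] theorem n0_b : (n0 : SpecialLinearGroup (Fin 2) F).1 0 1 = 1 := rfl
@[simp] theorem n0_c : (n0 : SpecialLinearGroup (Fin 2) F).1 1 0 = -1 := rfl
@[simp] theorem n0_d : (n0 : SpecialLinearGroup (Fin 2) F).1 1 1 = 0 := rfl

theorem D0_n0 (c : Fˣ) : (D0 c : SpecialLinearGroup (Fin 2) F) * n0 = x0 (c : F) * y0 (-(c : F)⁻¹) * x0 (c : F) := by
  have hc : (c : F) ≠ 0 := c.ne_zero
  apply ext4 <;> simp [SL2.mul_a, SL2.mul_b, SL2.mul_c, SL2.mul_d, Units.val_inv_eq_inv_val, hc]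

theorem n0_eq : (n0 : SpecialLinearGroup (Fin 2) F) = x0 1 * y0 (-1) * x0 1 := by
  have h := D0_n0 (F := F) 1
  have h1 : (D0 (1 : Fˣ) : SpecialLinearGroup (Fin 2) F) = 1 := by
    apply ext4 <;> simp
  rw [h1, one_mul] at h
  simpa using h

theorem n0_x0 (t : F) : (n0 : SpecialLinearGroup (Fin 2) F) * x0 t * n0⁻¹ = y0 (-t) := by
  rw [mul_inv_eq_iff_eq_mul]
  apply ext4 <;> simp [SL2.mul_a, SL2.mul_b, SL2.mul_c, SL2.mul_d]

theorem map_x0 (f : F →+* F) (t : F) : SpecialLinearGroup.map f (x0 t) = x0 (f t) := by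
  apply ext4 <;> simp [SpecialLinearGroup.map_apply_coe, RingHom.mapMatrix_apply, Matrix.map_apply]

theorem map_y0 (f : F →+* F) (t : F) : SpecialLinearGroup.map f (y0 t) = y0 (f t) := by
  apply ext4 <;> simp [SpecialLinearGroup.map_apply_coe, RingHom.mapMatrix_apply, Matrix.map_apply]

theorem map_D0 (f : F →+* F) (c : Fˣ) : SpecialLinearGroup.map f (D0 c) = D0 (Units.map (f : F →* F) c) := by
  apply ext4 <;> simp [SpecialLinearGroup.map_apply_coe, RingHom.mapMatrix_apply, Matrix.map_apply, Units.val_inv_eq_inv_val]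

end Gen

variable {K : Type*} [Field K] {e : ℕ} (d : Dat K e)

theorem ct3 : chevG2.commTerms 3 10 = [] ∧ chevG2.commTerms 8 1 = [] ∧ chevG2.commTerms 8 10 = [] ∧ chevG2.commTerms 3 1 = [] := by
  decide +kernel

/-- The root elements of the roots `8`, `10` and their negatives commute. -/
theorem comm_810 (s t : K) : Commute (hF.c.xG 10 s) (hF.c.xG 8 t) ∧ Commute (hF.c.xG 1 s) (hF.c.xG 3 t) ∧
    Commute (hF.c.xG 10 s) (hF.c.xG 3 t) ∧ Commute (hF.c.xG 1 s) (hF.c.xG 8 t) := by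
  obtain ⟨h1, h2, h3, h4⟩ := ct3
  refine ⟨?_, ?_, ?_, ?_⟩
  · refine hF.xG_commute_of_zero (by decide) (by decide) (by decide) (by decide) ?_ t s
    rw [h3]
    simp
  · refine hF.xG_commute_of_zero (by decide) (by decide) (by decide) (by decide) ?_ t s
    rw [h4]
    simp
  · refine hF.xG_commute_of_zero (by decide) (by decide) (by decide) (by decide) ?_ t s
    rw [h1]
    simp
  · refine hF.xG_commute_of_zero (by decide) (by decide) (by decide) (by decide) ?_ t s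
    rw [h2]
    simp

theorem coroot_vals : (chevG2.coroot.getD 10 #[]).getD 0 0 = 1 ∧ (chevG2.coroot.getD 10 #[]).getD 1 0 = 1 ∧
    (chevG2.coroot.getD 8 #[]).getD 0 0 = 1 ∧ (chevG2.coroot.getD 8 #[]).getD 1 0 = 3 := by
  decide +kernel

/-- The torus element of `h₁₀(c) h₈(c')` -/
theorem hG_hG (c c' : Kˣ) : hF.c.hG 10 (c : K) * hF.c.hG 8 (c' : K) =
    tor RootG2T.R chevG2 (fun j => if (j : ℕ) = 0 then c * c' else c * c' ^ 3) := by
  rw [hF.hG_eq_tor (by decide), hF.hG_eq_tor (by decide), tor_mul]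
  congr 1
  funext j
  obtain ⟨a1, a2, a3, a4⟩ := coroot_vals
  refine fin_cases' (P := fun j => ((fun i : Fin chevG2.rank => c ^ (chevG2.coroot.getD 10 #[]).getD (i : ℕ) 0) *
    (fun i : Fin chevG2.rank => c' ^ (chevG2.coroot.getD 8 #[]).getD (i : ℕ) 0)) j = if (j : ℕ) = 0 then c * c' else c * c' ^ 3) ?_ ?_ j
  · show c ^ (chevG2.coroot.getD 10 #[]).getD 0 0 * c' ^ (chevG2.coroot.getD 8 #[]).getD 0 0 = _
    rw [a1, a3]
    simp [i0]
  · show c ^ (chevG2.coroot.getD 10 #[]).getD 1 0 * c' ^ (chevG2.coroot.getD 8 #[]).getD 1 0 = _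
    rw [a2, a4]
    simp [i1]

namespace Dat

include d

theorem exists_psi : ∃ ψ : SpecialLinearGroup (Fin 2) K →* GL chevG2.Idx K,
    (∀ t, ψ (x0 t) = hF.c.xG 10 t * hF.c.xG 8 (d.f t)) ∧ (∀ t, ψ (y0 t) = hF.c.xG 1 t * hF.c.xG 3 (d.f t)) ∧
    ∀ c : Kˣ, ψ (D0 c) = hF.c.hG 10 (c : K) * hF.c.hG 8 (d.f c) := by
  obtain ⟨φ₁, -, h₁⟩ := hF.exists_sl2_hom (F := K) (r := 10) (by decide)
  obtain ⟨φ₂, -, h₂⟩ := hF.exists_sl2_hom (F := K) (r := 8) (by decide)
  have n : chevG2.neg 10 = 1 ∧ chevG2.neg 8 = 3 := by decide +kernel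
  have x1 : ∀ t, φ₁ (x0 t) = hF.c.xG 10 t := fun t => Units.ext (by rw [(h₁ (x0 t) t).1 rfl, Checks.coe_xG])
  have x2 : ∀ t, φ₂ (x0 t) = hF.c.xG 8 t := fun t => Units.ext (by rw [(h₂ (x0 t) t).1 rfl, Checks.coe_xG])
  have y1 : ∀ t, φ₁ (y0 t) = hF.c.xG 1 t := fun t => Units.ext (by rw [(h₁ (y0 t) t).2 rfl, Checks.coe_xG, n.1])
  have y2 : ∀ t, φ₂ (y0 t) = hF.c.xG 3 t := fun t => Units.ext (by rw [(h₂ (y0 t) t).2 rfl, Checks.coe_xG, n.2])
  have hcomm : ∀ g g', Commute (φ₁ g) (φ₂ g') := by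
    intro g g'
    refine comm_of_gens φ₁ _ (fun t => ?_) (fun t => ?_) g
    · rw [x1]
      refine (comm_of_gens φ₂ _ (fun s => ?_) (fun s => ?_) g').symm
      · rw [x2]
        exact (comm_810 t s).1.symm
      · rw [y2]
        exact (comm_810 t s).2.2.1.symm
    · rw [y1]
      refine (comm_of_gens φ₂ _ (fun s => ?_) (fun s => ?_) g').symm
      · rw [x2]
        exact (comm_810 t s).2.2.2.symm
      · rw [y2]
        exact (comm_810 t s).2.1.symm
  have hH : ∀ (φ : SpecialLinearGroup (Fin 2) K →* GL chevG2.Idx K) (r : ℕ), (∀ t, φ (x0 t) = hF.c.xG r t) →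
      (∀ t, φ (y0 t) = hF.c.xG (chevG2.neg r) t) → ∀ c : Kˣ, φ (D0 c) = hF.c.hG r (c : K) := by
    intro φ r hx hy c
    have h1 : φ (D0 c * n0) = hF.c.nG r (c : K) := by
      rw [D0_n0, map_mul, map_mul, hx, hy]
      rfl
    have h2 : φ n0 = hF.c.nG r (1 : K) := by
      rw [n0_eq, map_mul, map_mul, hx, hy]
      simp [Checks.nG]
    rw [map_mul, h2] at h1
    unfold Checks.hG
    rw [hF.c.nG_neg, ← h1, mul_inv_cancel_right]
  let f' : K →+* K := d.f
  refine ⟨{ toFun := fun g => φ₁ g * φ₂ (SpecialLinearGroup.map f' g)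
            map_one' := by simp
            map_mul' := fun g g' => by
              rw [map_mul, map_mul, map_mul]
              have := (hcomm g' (SpecialLinearGroup.map f' g)).eq
              calc φ₁ g * φ₁ g' * (φ₂ (SpecialLinearGroup.map f' g) * φ₂ (SpecialLinearGroup.map f' g'))
                  = φ₁ g * (φ₁ g' * φ₂ (SpecialLinearGroup.map f' g)) * φ₂ (SpecialLinearGroup.map f' g') := by group
                _ = _ := by rw [this]; group }, ?_, ?_, ?_⟩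
  · intro t
    show φ₁ (x0 t) * φ₂ (SpecialLinearGroup.map f' (x0 t)) = _
    rw [map_x0, x1, x2]
    rfl
  · intro t
    show φ₁ (y0 t) * φ₂ (SpecialLinearGroup.map f' (y0 t)) = _
    rw [map_y0, y1, y2]
    rfl
  · intro c
    show φ₁ (D0 c) * φ₂ (SpecialLinearGroup.map f' (D0 c)) = _
    rw [map_D0, hH φ₁ 10 x1 (by rw [n.1]; exact y1), hH φ₂ 8 x2 (by rw [n.2]; exact y2)]
    rfl

/-- The words -/
theorem W_0u0 (t : K) : W e 0 t 0 = hF.c.xG 10 t * hF.c.xG 8 (d.f t) := by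
  show hF.c.wordG (reeWordU e 0 t 0) = _
  rw [d.wU_eq]
  simp only [map_zero, Checks.xG_zero, Zp, mul_zero, add_zero, one_mul, zero_add, mul_one, ne_eq, OfNat.ofNat_ne_zero,
    not_false_eq_true, zero_pow]
  exact (comm_810 t (d.f t)).1.eq.symm

/-- The words -/
theorem V_0u0 (t : K) : hF.c.wordG (reeWordV e 0 (-t) 0) = hF.c.xG 1 t * hF.c.xG 3 (d.f t) := by
  rw [d.wV_eq]
  simp only [map_zero, Checks.xG_zero, Zn, mul_zero, add_zero, one_mul, zero_add, mul_one, ne_eq, OfNat.ofNat_ne_zero,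
    not_false_eq_true, zero_pow, neg_zero, map_neg, neg_neg]
  exact (comm_810 t (d.f t)).2.1.eq.symm

omit d in
/-- A homomorphism from the group of order two. -/
noncomputable def zhom {H : Type*} [Group H] (x : H) (hx : x * x = 1) : Multiplicative (ZMod 2) →* H where
  toFun a := if Multiplicative.toAdd a = 0 then 1 else x
  map_one' := by simp
  map_mul' := by
    have h : ∀ a : ZMod 2, a = 0 ∨ a = 1 := by decide
    have h11 : (1 : ZMod 2) + 1 = 0 := by decide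
    intro a b
    rcases h (Multiplicative.toAdd a) with h1 | h1 <;> rcases h (Multiplicative.toAdd b) with h2 | h2 <;>
      simp [h1, h2, toAdd_mul, hx, h11]

variable [Fintype K]

/-- The map from `SL₂` to `GL`. -/
noncomputable def psi0 : SpecialLinearGroup (Fin 2) K →* GL chevG2.Idx K := Classical.choose d.exists_psi

theorem psi0_x (t : K) : d.psi0 (x0 t) = hF.c.xG 10 t * hF.c.xG 8 (d.f t) := (Classical.choose_spec d.exists_psi).1 t
theorem psi0_y (t : K) : d.psi0 (y0 t) = hF.c.xG 1 t * hF.c.xG 3 (d.f t) := (Classical.choose_spec d.exists_psi).2.1 t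
theorem psi0_D (c : Kˣ) : d.psi0 (D0 c) = hF.c.hG 10 (c : K) * hF.c.hG 8 (d.f c) := (Classical.choose_spec d.exists_psi).2.2 c

theorem psi0_mem (g : SpecialLinearGroup (Fin 2) K) : d.psi0 g ∈ twistedG2 K e :=
  mem_of_gens _ _ (fun t => by rw [d.psi0_x, ← d.W_0u0]; exact d.W_mem _ _ _)
    (fun t => by rw [d.psi0_y, ← d.V_0u0]; exact d.wV_mem _ _ _) g

/-- The map from `SL₂` to `G₁`. -/
noncomputable def psi : SpecialLinearGroup (Fin 2) K →* ↥(twistedG2 K e) := (d.psi0).codRestrict _ d.psi0_mem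

theorem psi_x (t : K) : (d.psi (x0 t)).1 = W e 0 t 0 := by
  rw [d.W_0u0]
  exact d.psi0_x t

theorem psi_y (t : K) : (d.psi (y0 t)).1 = hF.c.wordG (reeWordV e 0 (-t) 0) := by
  rw [d.V_0u0]
  exact d.psi0_y t

/-- The torus parameter of a diagonal matrix. -/
noncomputable def nu (c : Kˣ) : Kˣ := c * (Units.map (d.f : K →* K) c) ^ 3

theorem psi_D (c : Kˣ) : (d.psi (D0 c)).1 = tor RootG2T.R chevG2 (d.cOf (d.nu c)) := by
  have h1 : (d.psi (D0 c)).1 = hF.c.hG 10 (c : K) * hF.c.hG 8 ((Units.map (d.f : K →* K) c : Kˣ) : K) := d.psi0_D c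
  rw [h1, hG_hG]
  congr 1
  funext j
  refine fin_cases' (P := fun j => (if (j : ℕ) = 0 then c * Units.map (d.f : K →* K) c else c * Units.map (d.f : K →* K) c ^ 3) = d.cOf (d.nu c) j) ?_ ?_ j
  · rw [cOf_i0, nu, map_mul, map_pow, d.map_map_cube]
    simp [i0, mul_comm]
  · rw [cOf_i1]
    simp [i1, nu]

theorem nu_mul (a b : Kˣ) : d.nu (a * b) = d.nu a * d.nu b := by
  simp only [nu, map_mul, mul_pow]
  ac_rfl

theorem nu_neg_one : d.nu (-1) = 1 := by
  apply Units.ext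
  have : d.f (-1 : K) = -1 := by simp
  simp [nu, this]
  ring

/-- The inverse of `nu` on squares. -/
noncomputable def mu (z : Kˣ) : Kˣ := (Units.map (d.f : K →* K) z) ^ 3 * z⁻¹

theorem nu_mu (z : Kˣ) : d.nu (d.mu z) = z * z := by
  simp only [nu, mu, map_mul, map_pow, d.map_map_cube, map_inv, mul_pow, inv_pow]
  have h : Units.map (d.f : K →* K) z ^ 3 * z⁻¹ * (z ^ 3 * (Units.map (d.f : K →* K) z ^ 3)⁻¹) = z⁻¹ * z ^ 3 := by
    generalize Units.map (d.f : K →* K) z ^ 3 = w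
    calc w * z⁻¹ * (z ^ 3 * w⁻¹) = (w * w⁻¹) * (z⁻¹ * z ^ 3) := by ac_rfl
      _ = _ := by simp
  rw [h, ← sq]
  group

theorem nu_eq_one {c : Kˣ} (h : d.nu c = 1) : c * c = 1 := by
  have h1 : Units.map (d.f : K →* K) c * c = 1 := by
    have := congrArg (Units.map (d.f : K →* K)) h
    rw [nu, map_mul, map_pow, d.map_map_cube, map_one] at this
    exact this
  have h2 : Units.map (d.f : K →* K) c = c⁻¹ := eq_inv_of_mul_eq_one_left h1
  rw [nu, h2] at h
  have h3 : (c * c)⁻¹ = c * c⁻¹ ^ 3 := by group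
  rw [h] at h3
  exact inv_eq_one.1 h3

theorem nu_sq (c : Kˣ) (hsq : ∀ y : Kˣ, IsSquare y ∨ IsSquare (-y)) : IsSquare (d.nu c) := by
  rcases hsq c with ⟨z, rfl⟩ | ⟨z, hz⟩
  · exact ⟨d.nu z, d.nu_mul z z⟩
  · have : c = -1 * (z * z) := by
      rw [← hz]
      simp
    rw [this, d.nu_mul, d.nu_neg_one, one_mul]
    exact ⟨d.nu z, d.nu_mul z z⟩

/-- The action of `a₀`. -/
theorem a₀_W (t u v : K) : d.a₀.1 * W e t u v * d.a₀.1⁻¹ = W e (-t) u (-v) := by
  show tor RootG2T.R chevG2 (d.cOf (-1)) * W e t u v * (tor RootG2T.R chevG2 (d.cOf (-1)))⁻¹ = _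
  rw [d.tor_W]
  have hn1 : d.f ((-1 : Kˣ) : K) = -1 := by simp
  rw [hn1]
  have h1 : ((-1 : Kˣ) : K) = -1 := by simp
  rw [h1]
  congr 1 <;> norm_num

theorem a₀_sq : d.a₀ * d.a₀ = 1 := by
  apply Subtype.ext
  show tor RootG2T.R chevG2 (d.cOf (-1)) * tor RootG2T.R chevG2 (d.cOf (-1)) = 1
  rw [tor_mul, ← cOf_mul]
  simp [d.cOf_one, tor_one]

theorem a₀_inv : d.a₀⁻¹ = d.a₀ := inv_eq_of_mul_eq_one_left d.a₀_sq

omit d [Fintype K] in
theorem cartan_neg : chevG2.cartan i0 3 = 1 ∧ chevG2.cartan i1 3 = -1 ∧ chevG2.cartan i0 1 = -3 ∧ chevG2.cartan i1 1 = 1 := by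
  decide +kernel

/-- `a₀` commutes with the image of `ψ`. -/
theorem a₀_comm_psi (g : SpecialLinearGroup (Fin 2) K) : d.psi g * d.a₀ = d.a₀ * d.psi g := by
  have h1 : ∀ t, Commute (d.psi (x0 t)) d.a₀ := by
    intro t
    apply Subtype.ext
    show (d.psi (x0 t)).1 * d.a₀.1 = d.a₀.1 * (d.psi (x0 t)).1
    rw [d.psi_x]
    have h2 := d.a₀_W 0 t 0
    rw [neg_zero, mul_inv_eq_iff_eq_mul] at h2
    exact h2.symm
  have h2 : ∀ t, Commute (d.psi (y0 t)) d.a₀ := by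
    intro t
    apply Subtype.ext
    show (d.psi (y0 t)).1 * d.a₀.1 = d.a₀.1 * (d.psi (y0 t)).1
    have e1 : (d.psi (y0 t)).1 = hF.c.xG 1 t * hF.c.xG 3 (d.f t) := d.psi0_y t
    have hn : d.cOf (-1) = fun _ => -1 := by
      funext j
      refine fin_cases' (P := fun j => d.cOf (-1 : Kˣ) j = -1) ?_ rfl j
      rw [cOf_i0]
      apply Units.ext
      simp
    obtain ⟨a1, a2, a3, a4⟩ := cartan_neg
    have c1 : ∀ s, chevG2.cartan i0 s % 2 = chevG2.cartan i1 s % 2 → chiT chevG2 (d.cOf (-1)) s = 1 := by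
      intro s hs
      rw [chiT_eq, hn]
      obtain ⟨k, hk⟩ : ∃ k, chevG2.cartan i1 s = chevG2.cartan i0 s + 2 * k := ⟨(chevG2.cartan i1 s - chevG2.cartan i0 s) / 2, by omega⟩
      rw [hk, zpow_add, zpow_mul]
      have : ((-1 : Kˣ) ^ (2 : ℤ)) = 1 := by simp
      rw [this, one_zpow, mul_one, ← zpow_add, ← two_mul, zpow_mul, this, one_zpow]
    have c3 : ((chiT chevG2 (d.cOf (-1)) 3 : Kˣ) : K) = 1 := by
      rw [c1 3 (by rw [a1, a2]; decide)]
      rfl
    have c4 : ((chiT chevG2 (d.cOf (-1)) 1 : Kˣ) : K) = 1 := by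
      rw [c1 1 (by rw [a3, a4]; decide)]
      rfl
    have e3 := hF.tor_conj_xG (d.cOf (-1)) (show 3 < chevG2.nroots by decide) (d.f t)
    have e4 := hF.tor_conj_xG (d.cOf (-1)) (show 1 < chevG2.nroots by decide) t
    rw [c3, one_mul, mul_inv_eq_iff_eq_mul] at e3
    rw [c4, one_mul, mul_inv_eq_iff_eq_mul] at e4
    rw [e1]
    show hF.c.xG 1 t * hF.c.xG 3 (d.f t) * tor RootG2T.R chevG2 (d.cOf (-1)) = tor RootG2T.R chevG2 (d.cOf (-1)) * (hF.c.xG 1 t * hF.c.xG 3 (d.f t))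
    rw [mul_assoc, ← e3, ← mul_assoc, ← e4, mul_assoc]
  exact (comm_of_gens d.psi d.a₀ h1 h2 g).eq

end Dat

end Cfsg.Agent.Lib.Chev.TwG2
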