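import Cfsg.Agent.Lib.Chev.TwG2C

/-!
# The Ree groups `²G₂`: the centraliser of the involution of `H¹`
-/

namespace Cfsg.Agent.Lib.Chev.TwG2

open Cfsg.Agent.Lib.Chev Cfsg.Lie Equiv
open Cfsg.Agent.Lib.Chev.SL2 (x0 y0 D0 n0 ext4 mem_closure_elementary uu uu_coe normal_zero normal_ne)
open Matrix (SpecialLinearGroup)

variable {K : Type*} [Field K] [Fintype K] {e : ℕ} (d : Dat K e)

namespace Dat

include d

/-- The only involution of `H¹`. -/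
theorem inv_eq_a₀ {h : GL chevG2.Idx K} (hh : h ∈ chevG2.diagonalSubgroup K ⊓ twistedG2 K e) (h1 : h ≠ 1) (h2 : h * h = 1) :
    h = d.a₀.1 := by
  obtain ⟨y, rfl⟩ := d.mem_H1 hh
  have hy : y * y = 1 := by
    rw [tor_mul, ← cOf_mul] at h2
    have h3 : tor RootG2T.R chevG2 (d.cOf (y * y)) = tor RootG2T.R chevG2 (d.cOf 1) := by
      rw [d.cOf_one, tor_one]
      exact h2
    exact d.cOf_inj (d.tor_inj' h3)
  have hy' : (y : K) * y = 1 := by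
    have := congrArg Units.val hy
    simpa using this
  rcases mul_self_eq_one_iff.1 hy' with h4 | h4
  · exfalso
    apply h1
    have h5 : y = 1 := Units.ext h4
    rw [h5, d.cOf_one, tor_one]
  · have h5 : y = -1 := Units.ext (by simpa using h4)
    rw [h5]
    rfl

theorem a₀_comm_n : d.n1 * d.a₀ = d.a₀ * d.n1 := by
  have h1 : d.n1.1 * d.a₀.1 * d.n1.1⁻¹ ∈ chevG2.diagonalSubgroup K ⊓ twistedG2 K e := by
    refine ⟨(Subgroup.mem_set_normalizer_iff.1 (hF.monomial_le_normalizer (n₀ (K := K)).2) _).1 (hF.tor_mem_diagonal (d.cOf (-1))), ?_⟩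
    exact (d.n1 * d.a₀ * d.n1⁻¹).2
  have h2 : d.a₀ * d.a₀ = 1 := d.a₀_sq
  have h3 := d.inv_eq_a₀ h1 (by
    intro h
    apply d.a₀_ne
    apply Subtype.ext
    have : d.a₀.1 = d.n1.1⁻¹ * (d.n1.1 * d.a₀.1 * d.n1.1⁻¹) * d.n1.1 := by group
    rw [this, h]
    simp) (by
    have e1 : d.n1.1 * d.a₀.1 * d.n1.1⁻¹ * (d.n1.1 * d.a₀.1 * d.n1.1⁻¹) = d.n1.1 * (d.a₀.1 * d.a₀.1) * d.n1.1⁻¹ := by group
    rw [e1]
    have : d.a₀.1 * d.a₀.1 = 1 := congrArg Subtype.val h2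
    rw [this]
    simp)
  apply Subtype.ext
  show d.n1.1 * d.a₀.1 = d.a₀.1 * d.n1.1
  rw [mul_inv_eq_iff_eq_mul] at h3
  exact h3

theorem W_fixed {t u v : K} (h : W e (-t) u (-v) = W e t u v) : t = 0 ∧ v = 0 := by
  obtain ⟨h1, -, h3⟩ := d.W_inj h
  exact ⟨by linear_combination h1 + t * d.h3, by linear_combination h3 + v * d.h3⟩

theorem tor_comm (y z : Kˣ) : tor RootG2T.R chevG2 (d.cOf y) * tor RootG2T.R chevG2 (d.cOf z) =
    tor RootG2T.R chevG2 (d.cOf z) * tor RootG2T.R chevG2 (d.cOf y) := by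
  rw [tor_mul, tor_mul, mul_comm]

/-- The elements of `B¹` commuting with `a₀`. -/
theorem cent_B {g : ↥(twistedG2 K e)} (hg : g ∈ B1 K e) (hc : g * d.a₀ = d.a₀ * g) :
    ∃ (u : K) (y : Kˣ), g.1 = W e 0 u 0 * tor RootG2T.R chevG2 (d.cOf y) := by
  obtain ⟨hb, hG⟩ := Subgroup.mem_subgroupOf.1 hg
  obtain ⟨x, hx, h, hh, e1⟩ := (d.twG).borel_split hb hG
  obtain ⟨t, u, v, rfl⟩ := (d.mem_U1_iff x).1 hx
  obtain ⟨y, rfl⟩ := d.mem_H1 hh
  have e2 := congrArg Subtype.val hc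
  have e3 : g.1 * d.a₀.1 = d.a₀.1 * g.1 := e2
  rw [e1] at e3
  have e4 : W e t u v = d.a₀.1 * W e t u v * d.a₀.1⁻¹ := by
    have e5 : hF.c.wordG (reeWordU e t u v) * tor RootG2T.R chevG2 (d.cOf y) * d.a₀.1 =
        (d.a₀.1 * hF.c.wordG (reeWordU e t u v) * d.a₀.1⁻¹) * d.a₀.1 * tor RootG2T.R chevG2 (d.cOf y) := by
      rw [e3]
      group
    have e6 : tor RootG2T.R chevG2 (d.cOf y) * d.a₀.1 = d.a₀.1 * tor RootG2T.R chevG2 (d.cOf y) := d.tor_comm y (-1)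
    rw [mul_assoc, e6, ← mul_assoc, mul_assoc _ d.a₀.1, mul_assoc (d.a₀.1 * hF.c.wordG (reeWordU e t u v) * d.a₀.1⁻¹) d.a₀.1] at e5
    exact mul_right_cancel e5
  rw [d.a₀_W] at e4
  obtain ⟨rfl, rfl⟩ := d.W_fixed e4.symm
  exact ⟨u, y, e1⟩

/-- The elements outside `B¹` commuting with `a₀`. -/
theorem cent_nB {g : ↥(twistedG2 K e)} (hg : g ∉ B1 K e) (hc : g * d.a₀ = d.a₀ * g) :
    ∃ (u : K) (hu : W e 0 u 0 ∈ twistedG2 K e) (b : ↥(twistedG2 K e)), b ∈ B1 K e ∧ b * d.a₀ = d.a₀ * b ∧ g = ⟨W e 0 u 0, hu⟩ * d.n1 * b := by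
  have hbr := d.bru
  obtain ⟨w, hw, b, hb, e1⟩ := hbr.hbr g hg
  have ha : d.a₀ ∈ B1 K e := d.a₀_mem
  have hcn := d.a₀_comm_n
  set w' := w⁻¹ * (d.a₀ * w * d.a₀⁻¹) with hw'
  have e2 : g = d.a₀ * g * d.a₀⁻¹ := by rw [← hc]; simp
  have e3 : w * d.n1 * b = (d.a₀ * w * d.a₀⁻¹) * d.n1 * (d.a₀ * b * d.a₀⁻¹) := by
    rw [← e1]
    nth_rw 1 [e2]
    rw [e1]
    have : d.a₀⁻¹ * d.n1 * d.a₀ = d.n1 := by
      rw [mul_assoc, hcn, ← mul_assoc, inv_mul_cancel, one_mul]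
    calc d.a₀ * (w * d.n1 * b) * d.a₀⁻¹ = d.a₀ * w * d.n1 * b * d.a₀⁻¹ := by group
      _ = d.a₀ * w * (d.a₀⁻¹ * d.n1 * d.a₀) * b * d.a₀⁻¹ := by rw [this]
      _ = _ := by group
  have hw'U : w' ∈ U1 K e := Subgroup.mul_mem _ (Subgroup.inv_mem _ hw) (hbr.hnorm _ ha _ hw)
  have hw'1 : w' = 1 := by
    apply hbr.hopp _ hw'U
    have e4 : d.n1⁻¹ * w' * d.n1 = b * (d.a₀ * b * d.a₀⁻¹)⁻¹ := by
      have : d.n1⁻¹ * w' * d.n1 = d.n1⁻¹ * w⁻¹ * ((d.a₀ * w * d.a₀⁻¹) * d.n1) := by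
        rw [hw']
        group
      rw [this]
      have e5 : (d.a₀ * w * d.a₀⁻¹) * d.n1 = w * d.n1 * b * (d.a₀ * b * d.a₀⁻¹)⁻¹ := by
        rw [e3]
        group
      rw [e5]
      group
    rw [e4]
    exact Subgroup.mul_mem _ hb (Subgroup.inv_mem _ (Subgroup.mul_mem _ (Subgroup.mul_mem _ ha hb) (Subgroup.inv_mem _ ha)))
  have e6 : d.a₀ * w * d.a₀⁻¹ = w := by
    rw [hw', inv_mul_eq_one] at hw'1
    exact hw'1.symm
  obtain ⟨t, u, v, ew⟩ := (d.mem_U1_iff w.1).1 (Subgroup.mem_subgroupOf.1 hw)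
  have e7 : W e (-t) u (-v) = W e t u v := by
    rw [← d.a₀_W]
    have := congrArg Subtype.val e6
    have e8 : w.1 = W e t u v := ew
    have e9 : (d.a₀ * w * d.a₀⁻¹).1 = d.a₀.1 * w.1 * d.a₀.1⁻¹ := rfl
    rw [e9, e8] at this
    exact this
  obtain ⟨rfl, rfl⟩ := d.W_fixed e7
  refine ⟨u, d.W_mem _ _ _, b, hb, ?_, ?_⟩
  · rw [e6] at e3
    have := mul_left_cancel e3
    calc b * d.a₀ = (d.a₀ * b * d.a₀⁻¹) * d.a₀ := by rw [← this]
      _ = d.a₀ * b := by group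
  · rw [e1]
    congr 2
    exact Subtype.ext ew

/-- The elements in the centraliser. -/
def IsP (g : ↥(twistedG2 K e)) : Prop := ∃ A, g = d.psi A ∨ g = d.a₀ * d.psi A

theorem isP_psi (A : SpecialLinearGroup (Fin 2) K) : d.IsP (d.psi A) := ⟨A, Or.inl rfl⟩

theorem isP_mul {g h : ↥(twistedG2 K e)} (hg : d.IsP g) (hh : d.IsP h) : d.IsP (g * h) := by
  obtain ⟨A, rfl | rfl⟩ := hg <;> obtain ⟨B, rfl | rfl⟩ := hh
  · exact ⟨A * B, Or.inl (map_mul _ _ _).symm⟩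
  · refine ⟨A * B, Or.inr ?_⟩
    rw [map_mul, ← mul_assoc, ← mul_assoc, d.a₀_comm_psi]
  · refine ⟨A * B, Or.inr ?_⟩
    rw [map_mul, mul_assoc]
  · refine ⟨A * B, Or.inl ?_⟩
    rw [map_mul]
    calc d.a₀ * d.psi A * (d.a₀ * d.psi B) = d.a₀ * (d.psi A * d.a₀) * d.psi B := by group
      _ = d.a₀ * (d.a₀ * d.psi A) * d.psi B := by rw [d.a₀_comm_psi]
      _ = (d.a₀ * d.a₀) * (d.psi A * d.psi B) := by group
      _ = _ := by rw [d.a₀_sq, one_mul]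

theorem isP_inv {g : ↥(twistedG2 K e)} (hg : d.IsP g) : d.IsP g⁻¹ := by
  obtain ⟨A, rfl | rfl⟩ := hg
  · exact ⟨A⁻¹, Or.inl (map_inv _ _).symm⟩
  · refine ⟨A⁻¹, Or.inr ?_⟩
    rw [map_inv, _root_.mul_inv_rev, d.a₀_inv]
    have := d.a₀_comm_psi A⁻¹
    rw [map_inv] at this
    exact this

theorem isP_W0 {g : ↥(twistedG2 K e)} {u : K} (h : g.1 = W e 0 u 0) : d.IsP g :=
  ⟨x0 u, Or.inl (Subtype.ext (by rw [h, d.psi_x]))⟩

theorem isP_tor (hsq : ∀ y : Kˣ, IsSquare y ∨ IsSquare (-y)) {g : ↥(twistedG2 K e)} {y : Kˣ}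
    (h : g.1 = tor RootG2T.R chevG2 (d.cOf y)) : d.IsP g := by
  rcases hsq y with ⟨z, rfl⟩ | ⟨z, hz⟩
  · refine ⟨D0 (d.mu z), Or.inl (Subtype.ext ?_)⟩
    rw [h, d.psi_D, d.nu_mu]
  · refine ⟨D0 (d.mu z), Or.inr (Subtype.ext ?_)⟩
    have e1 : y = -1 * (z * z) := by
      rw [← hz]
      simp
    rw [h, e1, cOf_mul, ← tor_mul]
    show _ = tor RootG2T.R chevG2 (d.cOf (-1)) * (d.psi (D0 (d.mu z))).1
    rw [d.psi_D, d.nu_mu]

theorem psi_x_mem (t : K) : d.psi (x0 t) ∈ B1 K e := by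
  refine Subgroup.mem_subgroupOf.2 ⟨?_, (d.psi (x0 t)).2⟩
  rw [d.psi_x]
  exact hF.c.posUnipotent_le_borel (d.W_mem_U _ _ _)

theorem psi_D_mem (c : Kˣ) : d.psi (D0 c) ∈ B1 K e := by
  refine Subgroup.mem_subgroupOf.2 ⟨?_, (d.psi (D0 c)).2⟩
  rw [d.psi_D]
  exact hF.c.diagonal_le_borel (hF.tor_mem_diagonal _)

theorem psi_y_not_B {s : K} (hs : s ≠ 0) : d.psi (y0 s) ∉ B1 K e := by
  intro h
  obtain ⟨h1, -⟩ := Subgroup.mem_subgroupOf.1 h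
  have h2 : (d.psi (y0 s)).1 ∈ chevG2.borelSubgroup K ⊓ chevG2.negUnipotent K := by
    refine ⟨h1, ?_⟩
    rw [d.psi_y]
    exact d.wV_mem_V _ _ _
  rw [hF.B_inf_V, Subgroup.mem_bot] at h2
  have h3 : d.psi (y0 s) = 1 := Subtype.ext h2
  have h4 : y0 s = n0 * x0 (-s) * n0⁻¹ := by
    rw [n0_x0, neg_neg]
  rw [h4, map_mul, map_mul, map_inv, mul_inv_eq_one] at h3
  have h5 : d.psi (x0 (-s)) = 1 := by
    exact mul_left_cancel (a := d.psi n0) (by rw [h3, mul_one])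
  have h6 := congrArg Subtype.val h5
  rw [d.psi_x] at h6
  have h7 : W e (0 : K) (-s) 0 = W e 0 0 0 := by
    rw [h6, d.W_zero]
    rfl
  exact hs (neg_eq_zero.1 (d.W_inj h7).2.1)

theorem psi_n0_not_B : d.psi n0 ∉ B1 K e := by
  intro h
  apply d.psi_y_not_B (s := -1) (by simp)
  have h1 : d.psi (y0 (-1)) = (d.psi (x0 1))⁻¹ * d.psi n0 * (d.psi (x0 1))⁻¹ := by
    rw [n0_eq, map_mul, map_mul]
    group
  rw [h1]
  exact Subgroup.mul_mem _ (Subgroup.mul_mem _ (Subgroup.inv_mem _ (d.psi_x_mem 1)) h) (Subgroup.inv_mem _ (d.psi_x_mem 1))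

theorem psi_ne_not_B {A : SpecialLinearGroup (Fin 2) K} (hc : A.1 1 0 ≠ 0) : d.psi A ∉ B1 K e := by
  intro h
  apply d.psi_n0_not_B
  have e1 := normal_ne A hc
  rw [e1, map_mul, map_mul, map_mul] at h
  have h2 := Subgroup.mul_mem _ (Subgroup.mul_mem _ (Subgroup.inv_mem _ (d.psi_D_mem (uu (-1 / A.1 1 0))))
    (Subgroup.mul_mem _ (Subgroup.inv_mem _ (d.psi_x_mem (A.1 0 0 / A.1 1 0))) h)) (Subgroup.inv_mem _ (d.psi_x_mem (A.1 1 1 / A.1 1 0)))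
  convert h2 using 1
  group

theorem psi_zero {A : SpecialLinearGroup (Fin 2) K} (hc : A.1 1 0 = 0) :
    (d.psi A).1 = W e 0 (A.1 0 1 * A.1 0 0) 0 * tor RootG2T.R chevG2 (d.cOf (d.nu (uu (A.1 0 0)))) := by
  have e1 := normal_zero A hc
  nth_rw 1 [e1]
  rw [map_mul]
  show (d.psi (x0 _)).1 * (d.psi (D0 _)).1 = _
  rw [d.psi_x, d.psi_D]

/-- Everything in the centraliser is of the right form. -/
theorem isP_of_comm (hsq : ∀ y : Kˣ, IsSquare y ∨ IsSquare (-y)) {g : ↥(twistedG2 K e)} (hc : g * d.a₀ = d.a₀ * g) : d.IsP g := by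
  have hB : ∀ {b : ↥(twistedG2 K e)}, b ∈ B1 K e → b * d.a₀ = d.a₀ * b → d.IsP b := by
    intro b hb hcb
    obtain ⟨u, y, e1⟩ := d.cent_B hb hcb
    have e2 : b = ⟨W e 0 u 0, d.W_mem _ _ _⟩ * ⟨tor RootG2T.R chevG2 (d.cOf y), d.tor_mem hsq y⟩ := Subtype.ext e1
    rw [e2]
    exact d.isP_mul (d.isP_W0 rfl) (d.isP_tor hsq rfl)
  have hn : d.IsP d.n1 := by
    obtain ⟨u, hu, b, hb, hcb, e1⟩ := d.cent_nB (d.psi_y_not_B (s := 1) one_ne_zero) (d.a₀_comm_psi _)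
    have e2 : d.n1 = (⟨W e 0 u 0, hu⟩ : ↥(twistedG2 K e))⁻¹ * d.psi (y0 1) * b⁻¹ := by
      rw [e1]
      group
    rw [e2]
    exact d.isP_mul (d.isP_mul (d.isP_inv (d.isP_W0 rfl)) (d.isP_psi _)) (d.isP_inv (hB hb hcb))
  by_cases hg : g ∈ B1 K e
  · exact hB hg hc
  · obtain ⟨u, hu, b, hb, hcb, e1⟩ := d.cent_nB hg hc
    rw [e1]
    exact d.isP_mul (d.isP_mul (d.isP_W0 rfl) hn) (hB hb hcb)

/-- The kernel of `ψ`. -/
theorem psi_eq_one {A : SpecialLinearGroup (Fin 2) K} (h : d.psi A = 1) : A = 1 ∨ A = D0 (-1) := by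
  by_cases hc : A.1 1 0 = 0
  · have h1 := d.psi_zero hc
    rw [h] at h1
    have h2 : A.1 0 0 ≠ 0 := SL2.a_ne_of_c A hc
    have h3 : W e 0 (A.1 0 1 * A.1 0 0) 0 ∈ chevG2.posUnipotent K ⊓ chevG2.diagonalSubgroup K := by
      refine ⟨d.W_mem_U _ _ _, ?_⟩
      have h4 : W e 0 (A.1 0 1 * A.1 0 0) 0 = (tor RootG2T.R chevG2 (d.cOf (d.nu (uu (A.1 0 0)))))⁻¹ := by
        apply eq_inv_of_mul_eq_one_left
        exact h1.symm
      rw [h4]
      exact Subgroup.inv_mem _ (hF.tor_mem_diagonal _)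
    rw [hF.U_inf_H, Subgroup.mem_bot] at h3
    have h5 : W e (0 : K) (A.1 0 1 * A.1 0 0) 0 = W e 0 0 0 := by
      rw [h3, d.W_zero]
    have h6 : A.1 0 1 = 0 := by
      have := (d.W_inj h5).2.1
      exact (mul_eq_zero.1 this).resolve_right h2
    rw [h3, one_mul] at h1
    have h7 : tor RootG2T.R chevG2 (d.cOf (d.nu (uu (A.1 0 0)))) = tor RootG2T.R chevG2 (d.cOf 1) := by
      rw [d.cOf_one, tor_one]
      exact h1.symm
    have h8 := d.nu_eq_one (d.cOf_inj (d.tor_inj' h7))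
    have h9 : A.1 0 0 * A.1 0 0 = 1 := by
      have := congrArg Units.val h8
      rw [Units.val_mul, uu_coe h2] at this
      exact this
    have hdet := SL2.det_eq A
    rw [hc, h6, mul_zero, sub_zero] at hdet
    have h10 : A.1 1 1 = A.1 0 0 := by
      have : A.1 0 0 * A.1 1 1 = A.1 0 0 * A.1 0 0 := by rw [hdet, h9]
      exact mul_left_cancel₀ h2 this
    rcases mul_self_eq_one_iff.1 h9 with h11 | h11
    · left
      apply ext4
      · simpa using h11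
      · simpa using h6
      · simpa using hc
      · simpa [h10] using h11
    · right
      apply ext4
      · simpa using h11
      · simpa using h6
      · simpa using hc
      · simpa [h10] using h11
  · exact absurd (h ▸ Subgroup.one_mem _) (d.psi_ne_not_B hc)

theorem psi_D_neg_one : d.psi (D0 (-1)) = 1 := by
  apply Subtype.ext
  rw [d.psi_D, d.nu_neg_one, d.cOf_one, tor_one]
  rfl

/-- The involution is not in the image. -/
theorem a₀_not_psi (hsq : ∀ y : Kˣ, IsSquare y ∨ IsSquare (-y)) (hnm : ¬ IsSquare (-1 : K)) (A : SpecialLinearGroup (Fin 2) K) : d.psi A ≠ d.a₀ := by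
  intro h
  by_cases hc : A.1 1 0 = 0
  · have h1 := d.psi_zero hc
    rw [h] at h1
    have h3 : W e 0 (A.1 0 1 * A.1 0 0) 0 ∈ chevG2.posUnipotent K ⊓ chevG2.diagonalSubgroup K := by
      refine ⟨d.W_mem_U _ _ _, ?_⟩
      have h4 : W e 0 (A.1 0 1 * A.1 0 0) 0 = d.a₀.1 * (tor RootG2T.R chevG2 (d.cOf (d.nu (uu (A.1 0 0)))))⁻¹ := by
        rw [h1]
        simp
      rw [h4]
      exact Subgroup.mul_mem _ (hF.tor_mem_diagonal _) (Subgroup.inv_mem _ (hF.tor_mem_diagonal _))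
    rw [hF.U_inf_H, Subgroup.mem_bot] at h3
    rw [h3, one_mul] at h1
    have h5 : tor RootG2T.R chevG2 (d.cOf (d.nu (uu (A.1 0 0)))) = tor RootG2T.R chevG2 (d.cOf (-1)) := h1.symm
    have h6 := d.cOf_inj (d.tor_inj' h5)
    obtain ⟨z, hz⟩ := d.nu_sq (uu (A.1 0 0)) hsq
    rw [h6] at hz
    apply hnm
    refine ⟨(z : K), ?_⟩
    have := congrArg Units.val hz
    simpa using this
  · exact d.psi_ne_not_B hc (h ▸ d.a₀_mem)

end Dat

end Cfsg.Agent.Lib.Chev.TwG2
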