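import Cfsg.Agent.Lib.Chev.TwG2D

/-!
# The Ree groups `²G₂`: `C(a) ≅ Z₂ × PSL₂(q)`, the Sylow 2-subgroups
-/

namespace Cfsg.Agent.Lib.Chev.TwG2

open Cfsg.Agent.Lib.Chev Cfsg.Lie Equiv
open Cfsg.Agent.Lib.Chev.SL2 (x0 y0 D0 n0 ext4 mem_closure_elementary uu uu_coe normal_zero normal_ne)
open Matrix (SpecialLinearGroup ProjectiveSpecialLinearGroup)

section SL

variable {K : Type*} [Field K]

theorem mem_center_SL (A : SpecialLinearGroup (Fin 2) K) : A ∈ Subgroup.center (SpecialLinearGroup (Fin 2) K) ↔ A = 1 ∨ A = D0 (-1) := by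
  rw [Matrix.SpecialLinearGroup.mem_center_iff]
  constructor
  · rintro ⟨r, hr, hA⟩
    rw [Fintype.card_fin, sq] at hr
    have e00 : A.1 0 0 = r := by rw [← hA]; simp
    have e01 : A.1 0 1 = 0 := by rw [← hA]; simp
    have e10 : A.1 1 0 = 0 := by rw [← hA]; simp
    have e11 : A.1 1 1 = r := by rw [← hA]; simp
    rcases mul_self_eq_one_iff.1 hr with h | h
    · left
      apply ext4 <;> simp [e00, e01, e10, e11, h]
    · right
      apply ext4 <;> simp [e00, e01, e10, e11, h]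
  · rintro (rfl | rfl)
    · refine ⟨1, one_pow _, ?_⟩
      simp
    · refine ⟨-1, ?_, ?_⟩
      · simp
      · ext i j
        fin_cases i <;> fin_cases j <;> simp [D0]

theorem sl2_four (h3 : (3 : K) = 0) (hnm : ¬ IsSquare (-1 : K)) (A : SpecialLinearGroup (Fin 2) K)
    (h : A ^ 4 ∈ Subgroup.center (SpecialLinearGroup (Fin 2) K)) : A ^ 2 ∈ Subgroup.center (SpecialLinearGroup (Fin 2) K) := by
  have hdet := SL2.det_eq A
  set a := A.1 0 0 with ha
  set b := A.1 0 1 with hb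
  set c := A.1 1 0 with hc
  set e := A.1 1 1 with he
  have hs2 : (a + e) ^ 2 - 2 ≠ 0 := by
    intro h0
    apply hnm
    refine ⟨a + e, ?_⟩
    linear_combination -h0 - h3
  have e2 : A ^ 2 = A * A := sq A
  have e4 : A ^ 4 = A * A * (A * A) := by
    rw [show (4 : ℕ) = 2 + 2 from rfl, pow_add, e2]
  have ent : (A ^ 4).1 0 1 = b * (a + e) * ((a + e) ^ 2 - 2) ∧ (A ^ 4).1 1 0 = c * (a + e) * ((a + e) ^ 2 - 2) ∧
      (A ^ 4).1 0 0 - (A ^ 4).1 1 1 = (a - e) * (a + e) * ((a + e) ^ 2 - 2) := by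
    rw [e4]
    simp only [SL2.mul_a, SL2.mul_b, SL2.mul_c, SL2.mul_d]
    refine ⟨?_, ?_, ?_⟩
    · simp only [← ha, ← hb, ← hc, ← he]
      linear_combination (-2 * b * (a + e)) * hdet
    · simp only [← ha, ← hb, ← hc, ← he]
      linear_combination (-2 * c * (a + e)) * hdet
    · simp only [← ha, ← hb, ← hc, ← he]
      linear_combination (-2 * (a - e) * (a + e)) * hdet
  obtain ⟨e1, e3, e5⟩ := ent
  have hcen : (A ^ 4).1 0 1 = 0 ∧ (A ^ 4).1 1 0 = 0 ∧ (A ^ 4).1 0 0 - (A ^ 4).1 1 1 = 0 := by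
    rcases (mem_center_SL _).1 h with h' | h'
    · rw [h']
      simp
    · rw [h']
      simp [Units.val_inv_eq_inv_val]
  obtain ⟨h01, h10, hd⟩ := hcen
  rw [mem_center_SL, e2]
  by_cases hs : a + e = 0
  · right
    apply ext4
    · simp only [SL2.mul_a, ← ha, ← hb, ← hc, ← he]
      simp
      linear_combination -hdet + a * hs
    · simp only [SL2.mul_b, ← ha, ← hb, ← hc, ← he]
      simp
      linear_combination b * hs
    · simp only [SL2.mul_c, ← ha, ← hb, ← hc, ← he]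
      simp
      linear_combination c * hs
    · simp only [SL2.mul_d, ← ha, ← hb, ← hc, ← he]
      simp [Units.val_inv_eq_inv_val]
      linear_combination -hdet + e * hs
  · have hn : (a + e) * ((a + e) ^ 2 - 2) ≠ 0 := mul_ne_zero hs hs2
    have hb0 : b = 0 := by
      rw [h01] at e1
      have : b * ((a + e) * ((a + e) ^ 2 - 2)) = 0 := by linear_combination -e1
      exact (mul_eq_zero.1 this).resolve_right hn
    have hc0 : c = 0 := by
      rw [h10] at e3
      have : c * ((a + e) * ((a + e) ^ 2 - 2)) = 0 := by linear_combination -e3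
      exact (mul_eq_zero.1 this).resolve_right hn
    have hae : a = e := by
      rw [hd] at e5
      have : (a - e) * ((a + e) * ((a + e) ^ 2 - 2)) = 0 := by linear_combination -e5
      exact sub_eq_zero.1 ((mul_eq_zero.1 this).resolve_right hn)
    left
    apply ext4
    · simp only [SL2.mul_a, ← ha, ← hb, ← hc, ← he]
      simp
      linear_combination hdet + a * hae + 2 * c * hb0
    · simp only [SL2.mul_b, ← ha, ← hb, ← hc, ← he]
      simp [hb0]
    · simp only [SL2.mul_c, ← ha, ← hb, ← hc, ← he]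
      simp [hc0]
    · simp only [SL2.mul_d, ← ha, ← hb, ← hc, ← he]
      simp
      linear_combination hdet - e * hae + 2 * c * hb0

/-- Elements of two-power order in `PSL₂` are involutions. -/
theorem psl_two (h3 : (3 : K) = 0) (hnm : ¬ IsSquare (-1 : K)) (k : ℕ) (y : ProjectiveSpecialLinearGroup (Fin 2) K)
    (hy : y ^ (2 ^ k) = 1) : y * y = 1 := by
  have base : ∀ y : ProjectiveSpecialLinearGroup (Fin 2) K, y ^ 4 = 1 → y * y = 1 := by
    intro y hy
    induction y using QuotientGroup.induction_on with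
    | H A =>
      rw [← sq, ← QuotientGroup.mk_pow, QuotientGroup.eq_one_iff]
      rw [← QuotientGroup.mk_pow, QuotientGroup.eq_one_iff] at hy
      exact sl2_four h3 hnm A hy
  induction k generalizing y with
  | zero =>
    rw [pow_zero, pow_one] at hy
    rw [hy, one_mul]
  | succ k ih =>
    apply base
    have h1 : (y * y) * (y * y) = 1 := by
      apply ih
      rw [← hy, ← sq, ← pow_mul]
      congr 1
      ring
    rw [show (4 : ℕ) = 2 + 2 from rfl, pow_add, sq, h1]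

end SL

variable {K : Type*} [Field K] [Fintype K] {e : ℕ} (d : Dat K e)

theorem zhom_zero {H : Type*} [Group H] {x : H} (hx : x * x = 1) {b : Multiplicative (ZMod 2)} (h : Multiplicative.toAdd b = 0) :
    Dat.zhom x hx b = 1 := if_pos h

theorem zhom_one {H : Type*} [Group H] {x : H} (hx : x * x = 1) {b : Multiplicative (ZMod 2)} (h : Multiplicative.toAdd b = 1) :
    Dat.zhom x hx b = x := if_neg (by rw [h]; decide)

namespace Dat

include d

theorem center_le_ker : Subgroup.center (SpecialLinearGroup (Fin 2) K) ≤ d.psi.ker := by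
  intro A hA
  rw [MonoidHom.mem_ker]
  rcases (mem_center_SL A).1 hA with rfl | rfl
  · exact map_one _
  · exact d.psi_D_neg_one

/-- The map from `PSL₂(K)`. -/
noncomputable def psiBar : ProjectiveSpecialLinearGroup (Fin 2) K →* ↥(twistedG2 K e) :=
  QuotientGroup.lift _ d.psi d.center_le_ker

theorem psiBar_mk (A : SpecialLinearGroup (Fin 2) K) : d.psiBar (A : ProjectiveSpecialLinearGroup (Fin 2) K) = d.psi A := rfl

theorem psiBar_inj : Function.Injective d.psiBar := by
  rw [injective_iff_map_eq_one]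
  intro y hy
  induction y using QuotientGroup.induction_on with
  | H A =>
    rw [QuotientGroup.eq_one_iff, mem_center_SL]
    exact d.psi_eq_one hy

theorem comm_bar (y : ProjectiveSpecialLinearGroup (Fin 2) K) : d.psiBar y * d.a₀ = d.a₀ * d.psiBar y := by
  induction y using QuotientGroup.induction_on with
  | H A => exact d.a₀_comm_psi A

/-- The homomorphism onto the centraliser. -/
noncomputable def Theta0 : Multiplicative (ZMod 2) × ProjectiveSpecialLinearGroup (Fin 2) K →* ↥(twistedG2 K e) where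
  toFun x := zhom d.a₀ d.a₀_sq x.1 * d.psiBar x.2
  map_one' := by simp
  map_mul' x y := by
    have h : ∀ (b : Multiplicative (ZMod 2)) (w : ProjectiveSpecialLinearGroup (Fin 2) K),
        d.psiBar w * zhom d.a₀ d.a₀_sq b = zhom d.a₀ d.a₀_sq b * d.psiBar w := by
      intro b w
      have h1 : ∀ a : ZMod 2, a = 0 ∨ a = 1 := by decide
      rcases h1 (Multiplicative.toAdd b) with h2 | h2
      · rw [zhom_zero _ h2, one_mul, mul_one]
      · rw [zhom_one _ h2, d.comm_bar]
    simp only [Prod.fst_mul, Prod.snd_mul, map_mul]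
    calc zhom d.a₀ d.a₀_sq x.1 * zhom d.a₀ d.a₀_sq y.1 * (d.psiBar x.2 * d.psiBar y.2)
        = zhom d.a₀ d.a₀_sq x.1 * (zhom d.a₀ d.a₀_sq y.1 * d.psiBar x.2) * d.psiBar y.2 := by group
      _ = zhom d.a₀ d.a₀_sq x.1 * (d.psiBar x.2 * zhom d.a₀ d.a₀_sq y.1) * d.psiBar y.2 := by rw [h]
      _ = _ := by group

theorem zhom_cases (x : Multiplicative (ZMod 2)) : zhom d.a₀ d.a₀_sq x = 1 ∨ zhom d.a₀ d.a₀_sq x = d.a₀ := by
  have h1 : ∀ a : ZMod 2, a = 0 ∨ a = 1 := by decide
  rcases h1 (Multiplicative.toAdd x) with h2 | h2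
  · exact Or.inl (zhom_zero _ h2)
  · exact Or.inr (zhom_one _ h2)

theorem Theta0_mem (x : Multiplicative (ZMod 2) × ProjectiveSpecialLinearGroup (Fin 2) K) :
    d.Theta0 x ∈ Subgroup.centralizer ({d.a₀} : Set ↥(twistedG2 K e)) := by
  rw [Subgroup.mem_centralizer_singleton_iff]
  show zhom d.a₀ d.a₀_sq x.1 * d.psiBar x.2 * d.a₀ = d.a₀ * (zhom d.a₀ d.a₀_sq x.1 * d.psiBar x.2)
  rw [mul_assoc, d.comm_bar, ← mul_assoc, ← mul_assoc]
  rcases d.zhom_cases x.1 with h | h <;> rw [h]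
  · simp

/-- The centraliser of `a₀`. -/
theorem cent_equiv (hsq : ∀ y : Kˣ, IsSquare y ∨ IsSquare (-y)) (hnm : ¬ IsSquare (-1 : K)) :
    Nonempty (↥(Subgroup.centralizer ({d.a₀} : Set ↥(twistedG2 K e))) ≃* Multiplicative (ZMod 2) × ProjectiveSpecialLinearGroup (Fin 2) K) := by
  let Θ := (d.Theta0).codRestrict _ d.Theta0_mem
  have hb : Function.Bijective Θ := by
    constructor
    · rw [injective_iff_map_eq_one]
      rintro ⟨x, y⟩ h
      have h1 : zhom d.a₀ d.a₀_sq x * d.psiBar y = 1 := congrArg Subtype.val h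
      have h2 : ∀ a : ZMod 2, a = 0 ∨ a = 1 := by decide
      rcases h2 (Multiplicative.toAdd x) with h3 | h3
      · have h4 : zhom d.a₀ d.a₀_sq x = 1 := zhom_zero _ h3
        rw [h4, one_mul, ← map_one d.psiBar] at h1
        have h5 := d.psiBar_inj h1
        rw [h5]
        have : x = 1 := h3
        rw [this]
        rfl
      · exfalso
        have h4 : zhom d.a₀ d.a₀_sq x = d.a₀ := zhom_one _ h3
        rw [h4] at h1
        induction y using QuotientGroup.induction_on with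
        | H A =>
          apply d.a₀_not_psi hsq hnm A
          have h5 : d.psi A = d.a₀⁻¹ := eq_inv_of_mul_eq_one_right h1
          rw [h5, d.a₀_inv]
    · rintro ⟨g, hg⟩
      rw [Subgroup.mem_centralizer_singleton_iff] at hg
      obtain ⟨A, rfl | rfl⟩ := d.isP_of_comm hsq hg
      · refine ⟨(1, (A : ProjectiveSpecialLinearGroup (Fin 2) K)), Subtype.ext ?_⟩
        show zhom d.a₀ d.a₀_sq 1 * d.psiBar (A : ProjectiveSpecialLinearGroup (Fin 2) K) = _
        rw [map_one, one_mul]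
        rfl
      · refine ⟨(Multiplicative.ofAdd 1, (A : ProjectiveSpecialLinearGroup (Fin 2) K)), Subtype.ext ?_⟩
        show zhom d.a₀ d.a₀_sq (Multiplicative.ofAdd 1) * d.psiBar (A : ProjectiveSpecialLinearGroup (Fin 2) K) = _
        have h4 : zhom d.a₀ d.a₀_sq (Multiplicative.ofAdd 1) = d.a₀ := zhom_one _ rfl
        rw [h4]
        rfl
  exact ⟨(MulEquiv.ofBijective Θ hb).symm⟩

omit d in
theorem add_self_z2 : ∀ a : ZMod 2, a + a = 0 := by decide

omit d in
theorem fact8 {n : ℕ} (hn : Odd n) : (8 * n).factorization 2 = 3 := by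
  have hn0 : n ≠ 0 := hn.pos.ne'
  rw [show (8 : ℕ) = 2 ^ 3 from rfl, Nat.factorization_mul (by norm_num) hn0, Finsupp.add_apply,
    Nat.Prime.factorization_pow Nat.prime_two, Finsupp.single_eq_same,
    Nat.factorization_eq_zero_of_not_dvd (by
      rw [← even_iff_two_dvd, Nat.not_even_iff_odd]
      exact hn)]

theorem two_part (hsq : ∀ y : Kˣ, IsSquare y ∨ IsSquare (-y)) {k : ℕ} (hk : Fintype.card K = 8 * k + 3) :
    ∃ n, Odd n ∧ Nat.card ↥(twistedG2 K e) = 8 * n := by
  rw [d.card_G1 hsq, hk]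
  have e1 : 8 * k + 3 - 1 = 2 * (4 * k + 1) := by omega
  have e2 : (8 * k + 3) ^ 3 + 1 = 4 * ((2 * k + 1) * ((8 * k + 3) * (8 * k + 2) + 1)) := by ring
  rw [e1, e2]
  have o1 : Odd (8 * k + 3) := ⟨4 * k + 1, by ring⟩
  have o2 : Odd (4 * k + 1) := ⟨2 * k, by ring⟩
  have o3 : Odd (2 * k + 1) := ⟨k, by ring⟩
  have o4 : Odd ((8 * k + 3) * (8 * k + 2) + 1) := by
    refine Even.add_one ?_
    exact Even.mul_left ⟨4 * k + 1, by ring⟩ _
  refine ⟨(8 * k + 3) ^ 3 * (4 * k + 1) * ((2 * k + 1) * ((8 * k + 3) * (8 * k + 2) + 1)), ((o1.pow).mul o2).mul (o3.mul o4), ?_⟩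
  ring

theorem sylow_main (hsq : ∀ y : Kˣ, IsSquare y ∨ IsSquare (-y)) (hnm : ¬ IsSquare (-1 : K)) {k : ℕ} (hk : Fintype.card K = 8 * k + 3)
    (S : Sylow 2 ↥(twistedG2 K e)) : Nat.card S = 8 ∧ ∀ x ∈ S, x * x = 1 := by
  haveI : Fact (Nat.Prime 2) := ⟨Nat.prime_two⟩
  haveI := d.finite_G1
  obtain ⟨n, hn, hG⟩ := d.two_part hsq hk
  have hS8 : ∀ S : Sylow 2 ↥(twistedG2 K e), Nat.card S = 8 := by
    intro S
    rw [S.card_eq_multiplicity, hG, fact8 hn]
    norm_num
  refine ⟨hS8 S, ?_⟩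
  -- a Sylow subgroup of the centraliser
  obtain ⟨φ⟩ := d.cent_equiv hsq hnm
  set C := Subgroup.centralizer ({d.a₀} : Set ↥(twistedG2 K e)) with hC
  obtain ⟨n', hn', hC8⟩ : ∃ n', Odd n' ∧ Nat.card C = 8 * n' := by
    have h1 : Nat.card C = 2 * Nat.card (ProjectiveSpecialLinearGroup (Fin 2) K) := by
      rw [Nat.card_congr φ.toEquiv, Nat.card_prod]
      congr 1
      exact Nat.card_zmod 2
    have h2 := Cfsg.Agent.Lib.ClassicalSmall.card_PSL2 (F := K)
    have h3 : Nat.gcd 2 (Fintype.card K - 1) = 2 := by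
      rw [hk]
      apply Nat.gcd_eq_left
      exact ⟨4 * k + 1, by omega⟩
    rw [h3, ← h1, hk] at h2
    have e1 : 8 * k + 3 - 1 = 2 * (4 * k + 1) := by omega
    rw [e1] at h2
    refine ⟨(2 * k + 1) * (8 * k + 3) * (4 * k + 1), ?_, ?_⟩
    · have o1 : Odd (2 * k + 1) := ⟨k, by ring⟩
      have o2 : Odd (8 * k + 3) := ⟨4 * k + 1, by ring⟩
      have o3 : Odd (4 * k + 1) := ⟨2 * k, by ring⟩
      exact (o1.mul o2).mul o3
    · rw [h2]
      ring
  haveI : Finite C := inferInstance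
  obtain ⟨Q⟩ : Nonempty (Sylow 2 C) := inferInstance
  have hQ8 : Nat.card Q = 8 := by
    rw [Q.card_eq_multiplicity, hC8, fact8 hn']
    norm_num
  have hE8 : Nat.card ((Q : Subgroup C).map C.subtype) = 8 := by
    rw [Subgroup.card_map_of_injective C.subtype_injective]
    exact hQ8
  have hEx : ∀ x ∈ (Q : Subgroup C).map C.subtype, x * x = 1 := by
    rintro _ ⟨y, hy, rfl⟩
    obtain ⟨j, hj⟩ := Q.isPGroup' ⟨y, hy⟩
    have hj' : y ^ (2 ^ j) = 1 := by
      have := congrArg Subtype.val hj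
      simpa using this
    have h1 : φ y ^ (2 ^ j) = 1 := by rw [← map_pow, hj', map_one]
    have h2 : (φ y).2 * (φ y).2 = 1 := by
      have h3 : (φ y).2 ^ (2 ^ j) = 1 := congrArg Prod.snd h1
      exact psl_two d.h3 hnm j _ h3
    have h4 : (φ y).1 * (φ y).1 = 1 := add_self_z2 _
    have h6 : y * y = 1 := by
      apply φ.injective
      rw [map_mul, map_one]
      exact Prod.ext h4 h2
    show (y : ↥(twistedG2 K e)) * y = 1
    exact congrArg Subtype.val h6
  -- conjugacy of the Sylow subgroups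
  have hcard : Nat.card ((Q : Subgroup C).map C.subtype) = 2 ^ (Nat.card ↥(twistedG2 K e)).factorization 2 := by
    rw [hE8, hG, fact8 hn]
    norm_num
  let S₀ : Sylow 2 ↥(twistedG2 K e) := Sylow.ofCard _ hcard
  obtain ⟨g, rfl⟩ := MulAction.exists_smul_eq ↥(twistedG2 K e) S₀ S
  intro x hx
  have hx' : x ∈ ((g • S₀ : Sylow 2 ↥(twistedG2 K e)) : Subgroup ↥(twistedG2 K e)) := hx
  rw [Sylow.coe_subgroup_smul, Subgroup.mem_smul_pointwise_iff_exists] at hx'
  obtain ⟨s, hs, rfl⟩ := hx'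
  have hs' : s * s = 1 := hEx s hs
  rw [MulAut.smul_def, MulAut.conj_apply]
  calc g * s * g⁻¹ * (g * s * g⁻¹) = g * (s * s) * g⁻¹ := by group
    _ = 1 := by rw [hs']; group

end Dat

theorem main_S1152 {m : ℕ} (hK : Fintype.card K = 3 ^ (2 * m + 1))
    (a : ↥(twistedG2 K (3 ^ m))) (haH : (a : GL chevG2.Idx K) ∈ chevG2.diagonalSubgroup K) (ha1 : a ≠ 1) (ha2 : a * a = 1) :
    Nonempty (↥(Subgroup.centralizer {a}) ≃* Multiplicative (ZMod 2) × ProjectiveSpecialLinearGroup (Fin 2) K) ∧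
      ∀ S : Sylow 2 ↥(twistedG2 K (3 ^ m)), Nat.card S = 8 ∧ ∀ x ∈ S, x * x = 1 := by
  obtain ⟨d⟩ := exists_dat hK
  have hs := hsq hK
  have hnm : ¬ IsSquare (-1 : K) := by
    rw [FiniteField.isSquare_neg_one_iff, hK, card_mod']
    simp
  have h8 : ∃ k, Fintype.card K = 8 * k + 3 := by
    rw [hK]
    have : 3 ^ (2 * m + 1) % 8 = 3 := by
      rw [pow_succ, pow_mul]
      norm_num [Nat.mul_mod, Nat.pow_mod]
    exact ⟨3 ^ (2 * m + 1) / 8, by omega⟩
  obtain ⟨k, hk⟩ := h8
  have ha : a = d.a₀ := Subtype.ext (d.inv_eq_a₀ ⟨haH, a.2⟩ (fun h => ha1 (Subtype.ext h)) (congrArg Subtype.val ha2))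
  subst ha
  exact ⟨d.cent_equiv hs hnm, d.sylow_main hs hnm hk⟩

end Cfsg.Agent.Lib.Chev.TwG2
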