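import Cfsg.Agent.Lib.Chev.TwG2V
import Cfsg.Agent.Lib.ClassicalSmall

set_option linter.style.haveILetI false
set_option linter.unusedSectionVars false

/-!
# The Ree groups `²G₂`: fixed points on the cosets of the Borel subgroup
-/

namespace Cfsg.Agent.Lib.Chev.TwG2

open Cfsg.Agent.Lib.Chev Cfsg.Lie Equiv Module
open Cfsg.Agent.Lib

/-- The numerical hypotheses. -/
structure Ree (K : Type*) [Field K] [Fintype K] (m : ℕ) : Prop where
  hm : 1 ≤ m
  hK : Fintype.card K = 3 ^ (2 * m + 1)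

namespace Ree

variable {K : Type*} [Field K] [Fintype K] {m : ℕ} (R : Ree K m)

include R

theorem hs : ∀ y : Kˣ, IsSquare y ∨ IsSquare (-y) := hsq R.hK

theorem hnm : ¬ IsSquare (-1 : K) := by
  rw [FiniteField.isSquare_neg_one_iff, R.hK, card_mod']
  simp

theorem h8 : ∃ k, Fintype.card K = 8 * k + 3 := by
  rw [R.hK]
  have : 3 ^ (2 * m + 1) % 8 = 3 := by
    rw [pow_succ, pow_mul]
    norm_num [Nat.mul_mod, Nat.pow_mod]
  exact ⟨3 ^ (2 * m + 1) / 8, by omega⟩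

theorem q_ge : 27 ≤ Fintype.card K := by
  rw [R.hK]
  calc 27 = 3 ^ 3 := by norm_num
    _ ≤ _ := Nat.pow_le_pow_right (by norm_num) (by have := R.hm; omega)

theorem simple (d : Dat K (3 ^ m)) : IsSimpleGroup ↥(twistedG2 K (3 ^ m)) :=
  (d.isSimple R.hs (exists_y R.hm R.hK d)).1

end Ree

variable {K : Type*} [Field K] [Fintype K]

section E

variable {e : ℕ} (d : Dat K e)

namespace Dat

include d

/-- The elements of the Borel subgroup. -/
theorem B_form {b : ↥(twistedG2 K e)} (hb : b ∈ B1 K e) :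
    ∃ (t u v : K) (y : Kˣ), b.1 = W e t u v * tor RootG2T.R chevG2 (d.cOf y) := by
  obtain ⟨hb, hG⟩ := Subgroup.mem_subgroupOf.1 hb
  obtain ⟨x, hx, h, hh, e1⟩ := (d.twG).borel_split hb hG
  obtain ⟨t, u, v, rfl⟩ := (d.mem_U1_iff x).1 hx
  obtain ⟨y, rfl⟩ := d.mem_H1 hh
  exact ⟨t, u, v, y, e1⟩

/-- The order of the Borel subgroup. -/
theorem card_B (hsq : ∀ y : Kˣ, IsSquare y ∨ IsSquare (-y)) :
    Nat.card ↥(B1 K e) = Fintype.card K ^ 3 * (Fintype.card K - 1) := by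
  have h1 : Nat.card ↥(B1 K e) = Nat.card ↥(chevG2.borelSubgroup K ⊓ twistedG2 K e) :=
    Nat.card_congr (Subgroup.subgroupOfEquivOfLe inf_le_right).toEquiv
  have h4 : Nat.card ↥(chevG2.borelSubgroup K ⊓ twistedG2 K e) = Nat.card ↥(chevG2.posUnipotent K ⊓ (d.twG).G1) * Nat.card ↥(chevG2.diagonalSubgroup K ⊓ (d.twG).G1) := (d.twG).card_B1
  rw [h1, h4]
  have h2 : Nat.card ↥(chevG2.posUnipotent K ⊓ (d.twG).G1) = Fintype.card K ^ 3 := d.card_U1
  have h3 : Nat.card ↥(chevG2.diagonalSubgroup K ⊓ (d.twG).G1) = Fintype.card K - 1 := d.card_H1 hsq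
  rw [h2, h3]

/-- The number of points. -/
theorem card_Om (hsq : ∀ y : Kˣ, IsSquare y ∨ IsSquare (-y)) :
    Nat.card (↥(twistedG2 K e) ⧸ B1 K e) = Fintype.card K ^ 3 + 1 := by
  have h1 := Subgroup.card_eq_card_quotient_mul_card_subgroup (B1 K e)
  rw [d.card_G1 hsq, d.card_B hsq] at h1
  have hq : 2 ≤ Fintype.card K := Fintype.one_lt_card
  have h2 : 0 < Fintype.card K ^ 3 * (Fintype.card K - 1) := by
    apply Nat.mul_pos (by positivity)
    omega
  apply Nat.eq_of_mul_eq_mul_right h2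
  rw [← h1]
  ring

/-- Fixed points. -/
theorem fix_mk (a t : ↥(twistedG2 K e)) :
    t • ((a : ↥(twistedG2 K e) ⧸ B1 K e)) = (a : ↥(twistedG2 K e) ⧸ B1 K e) ↔ a⁻¹ * t * a ∈ B1 K e := by
  rw [← Bru.mem_stab_mk, MulAction.mem_stabilizer_iff]

/-- Three distinct fixed points. -/
theorem fix_three {t : ↥(twistedG2 K e)} {x y z : ↥(twistedG2 K e) ⧸ B1 K e} (hx : t • x = x) (hy : t • y = y) (hz : t • z = z)
    (hxy : x ≠ y) (hxz : x ≠ z) (hyz : y ≠ z) : t = 1 ∨ ∃ g, t = g * d.a₀ * g⁻¹ := by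
  obtain ⟨a, rfl⟩ := QuotientGroup.mk_surjective x
  obtain ⟨b, rfl⟩ := QuotientGroup.mk_surjective y
  obtain ⟨c, rfl⟩ := QuotientGroup.mk_surjective z
  have ne : ∀ p q : ↥(twistedG2 K e), (p : ↥(twistedG2 K e) ⧸ B1 K e) ≠ q → p⁻¹ * q ∉ B1 K e := fun p q hpq h1 => hpq (QuotientGroup.eq.2 h1)
  obtain ⟨g, w, hw, hw1, hp, ⟨b₁, hb₁, e₁⟩, ⟨b₂, hb₂, e₂⟩⟩ := d.bru.triple (ne _ _ hxy) (ne _ _ hxz) (ne _ _ hyz)
  have ht1 := (d.fix_mk _ _).1 hx
  have ht2 := (d.fix_mk _ _).1 hy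
  have ht3 := (d.fix_mk _ _).1 hz
  have key := d.stab_cases (g⁻¹ * t * g) w hw hw1 (by
      have e : g⁻¹ * t * g = (g⁻¹ * a) * (a⁻¹ * t * a) * (g⁻¹ * a)⁻¹ := by group
      rw [e]
      exact Subgroup.mul_mem _ (Subgroup.mul_mem _ hp ht1) (Subgroup.inv_mem _ hp)) (by
      have e : d.n1⁻¹ * (g⁻¹ * t * g) * d.n1 = b₁ * (b⁻¹ * t * b) * b₁⁻¹ := by
        have e0 : b = g * (d.n1 * b₁) := by
          rw [← e₁]
          group
        rw [e0]
        group
      rw [e]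
      exact Subgroup.mul_mem _ (Subgroup.mul_mem _ hb₁ ht2) (Subgroup.inv_mem _ hb₁)) (by
      have e : (w * d.n1)⁻¹ * (g⁻¹ * t * g) * (w * d.n1) = b₂ * (c⁻¹ * t * c) * b₂⁻¹ := by
        have e0 : c = g * (w * d.n1 * b₂) := by
          rw [← e₂]
          group
        rw [e0]
        group
      rw [e]
      exact Subgroup.mul_mem _ (Subgroup.mul_mem _ hb₂ ht3) (Subgroup.inv_mem _ hb₂))
  rcases key with h | h
  · left
    have e1 : t = g * (g⁻¹ * t * g) * g⁻¹ := by group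
    rw [e1, h]
    group
  · right
    refine ⟨g, ?_⟩
    rw [← h]
    group

/-- Two distinct points: the stabiliser is conjugate to a subgroup of the torus. -/
theorem fix_two {x y : ↥(twistedG2 K e) ⧸ B1 K e} (hxy : x ≠ y) : ∃ g : ↥(twistedG2 K e), ∀ t : ↥(twistedG2 K e), t • x = x → t • y = y →
    ∃ (z : Kˣ), (g⁻¹ * t * g).1 = tor RootG2T.R chevG2 (d.cOf z) := by
  obtain ⟨a, rfl⟩ := QuotientGroup.mk_surjective x
  obtain ⟨b, rfl⟩ := QuotientGroup.mk_surjective y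
  have hne : a⁻¹ * b ∉ B1 K e := fun h1 => hxy (QuotientGroup.eq.2 h1)
  obtain ⟨w, hw, b₁, hb₁, e₁⟩ := d.bru.hbr _ hne
  refine ⟨a * w, fun t hx hy => ?_⟩
  have ht1 := (d.fix_mk _ _).1 hx
  have ht2 := (d.fix_mk _ _).1 hy
  set g := a * w with hg
  have h1 : g⁻¹ * t * g ∈ B1 K e := by
    have e : g⁻¹ * t * g = w⁻¹ * (a⁻¹ * t * a) * w := by
      rw [hg]
      group
    rw [e]
    exact Subgroup.mul_mem _ (Subgroup.mul_mem _ (Subgroup.inv_mem _ (d.bru.hUB hw)) ht1) (d.bru.hUB hw)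
  have h2 : d.n1⁻¹ * (g⁻¹ * t * g) * d.n1 ∈ B1 K e := by
    have e : d.n1⁻¹ * (g⁻¹ * t * g) * d.n1 = b₁ * (b⁻¹ * t * b) * b₁⁻¹ := by
      have e0 : b = g * (d.n1 * b₁) := by
        have : b = a * (a⁻¹ * b) := by group
        rw [this, e₁, hg]
        group
      rw [e0]
      group
    rw [e]
    exact Subgroup.mul_mem _ (Subgroup.mul_mem _ hb₁ ht2) (Subgroup.inv_mem _ hb₁)
  exact d.H1_of_B h1 h2

/-- Conjugating elements of the torus: elements of the Borel subgroup with a generic torus part. -/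
theorem conj_tor (hsq : ∀ y : Kˣ, IsSquare y ∨ IsSquare (-y)) (t u v : K) {y : Kˣ} (hy : y * y ≠ 1) :
    ∃ w : ↥(twistedG2 K e), w⁻¹ * ((⟨W e t u v, d.W_mem _ _ _⟩ : ↥(twistedG2 K e)) * ⟨tor RootG2T.R chevG2 (d.cOf y), d.tor_mem hsq y⟩) * w
      = ⟨tor RootG2T.R chevG2 (d.cOf y), d.tor_mem hsq y⟩ := by
  haveI := d.finite_G1
  set h : ↥(twistedG2 K e) := ⟨tor RootG2T.R chevG2 (d.cOf y), d.tor_mem hsq y⟩ with hh
  have hhB : h ∈ B1 K e := Subgroup.mem_subgroupOf.2 ⟨hF.c.diagonal_le_borel (hF.tor_mem_diagonal _), h.2⟩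
  have hU : ∀ w ∈ U1 K e, h * w * h⁻¹ ∈ U1 K e := d.bru.hnorm h hhB
  let F : ↥(U1 K e) → ↥(U1 K e) := fun w => ⟨w.1 * (h * w.1 * h⁻¹)⁻¹,
    Subgroup.mul_mem _ w.2 (Subgroup.inv_mem _ (hU _ w.2))⟩
  have hF_inj : Function.Injective F := by
    rintro ⟨w, hw⟩ ⟨w', hw'⟩ hww
    have e1 : w * (h * w * h⁻¹)⁻¹ = w' * (h * w' * h⁻¹)⁻¹ := congrArg Subtype.val hww
    set z := w'⁻¹ * w with hz
    have hzU : z ∈ U1 K e := Subgroup.mul_mem _ (Subgroup.inv_mem _ hw') hw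
    have e2 : h * z * h⁻¹ = z := by
      have e3 : w = w' * (h * w' * h⁻¹)⁻¹ * (h * w * h⁻¹) := by
        rw [← e1]
        group
      have e4 : h * z * h⁻¹ = (h * w' * h⁻¹)⁻¹ * (h * w * h⁻¹) := by
        rw [hz]
        group
      have e5 : w'⁻¹ * w = (h * w' * h⁻¹)⁻¹ * (h * w * h⁻¹) := by
        calc w'⁻¹ * w = w'⁻¹ * (w' * (h * w' * h⁻¹)⁻¹ * (h * w * h⁻¹)) := by rw [← e3]
          _ = _ := by group
      rw [e4, hz, e5]
    obtain ⟨t₁, u₁, v₁, ew⟩ := (d.mem_U1_iff z.1).1 (Subgroup.mem_subgroupOf.1 hzU)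
    have e4 : tor RootG2T.R chevG2 (d.cOf y) * W e t₁ u₁ v₁ * (tor RootG2T.R chevG2 (d.cOf y))⁻¹ = W e t₁ u₁ v₁ := by
      have e5 := congrArg Subtype.val e2
      have e6 : (h * z * h⁻¹ : ↥(twistedG2 K e)).1 = h.1 * z.1 * h.1⁻¹ := rfl
      rw [e6, ew] at e5
      exact e5
    obtain ⟨rfl, rfl, rfl⟩ := d.fix_W hy e4
    have e7 : z = 1 := by
      apply Subtype.ext
      rw [ew]
      exact d.W_zero
    apply Subtype.ext
    exact inv_mul_eq_one.1 e7 |>.symm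
  have hF_surj := Finite.surjective_of_injective hF_inj
  have hw₀ : (⟨W e t u v, d.W_mem _ _ _⟩ : ↥(twistedG2 K e)) ∈ U1 K e :=
    Subgroup.mem_subgroupOf.2 ⟨d.W_mem_U _ _ _, d.W_mem _ _ _⟩
  obtain ⟨⟨w, hw⟩, hwe⟩ := hF_surj ⟨_, hw₀⟩
  have e1 : w * (h * w * h⁻¹)⁻¹ = ⟨W e t u v, d.W_mem _ _ _⟩ := congrArg Subtype.val hwe
  refine ⟨w, ?_⟩
  rw [← e1]
  group

/-- The order of an element of the Borel subgroup. -/
theorem order_B (hsq : ∀ y : Kˣ, IsSquare y ∨ IsSquare (-y)) {b : ↥(twistedG2 K e)} (hb : b ∈ B1 K e) :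
    b ^ 9 = 1 ∨ b ^ 6 = 1 ∨ b ^ (Fintype.card K - 1) = 1 := by
  obtain ⟨t, u, v, y, eb⟩ := d.B_form hb
  have h0 : ∀ u' v' : K, (W e 0 u' v') * (W e 0 u' v') * (W e 0 u' v') = 1 := by
    intro u' v'
    rw [d.W_cube]
    simp [d.W_zero]
  by_cases hy : y * y = 1
  · have hy' : (y : K) * y = 1 := by
      have := congrArg Units.val hy
      simpa using this
    rcases mul_self_eq_one_iff.1 hy' with h4 | h4
    · left
      have h5 : y = 1 := Units.ext h4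
      apply Subtype.ext
      rw [h5, d.cOf_one, tor_one, mul_one] at eb
      have e1 : (b ^ 9).1 = b.1 ^ 9 := rfl
      rw [e1, eb]
      have e2 : W e t u v ^ 9 = ((W e t u v) * (W e t u v) * (W e t u v)) ^ 3 := by
        have e3 : (W e t u v) * (W e t u v) * (W e t u v) = W e t u v ^ 3 := by
          rw [pow_succ, pow_two]
        rw [e3, ← pow_mul]
      rw [e2, d.W_cube]
      rw [pow_succ, pow_succ, pow_one, h0]
      rfl
    · right; left
      have h5 : y = -1 := Units.ext (by simpa using h4)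
      subst h5
      apply Subtype.ext
      have e0 : d.a₀.1 = tor RootG2T.R chevG2 (d.cOf (-1)) := rfl
      rw [← e0] at eb
      have e1 : (b ^ 6).1 = b.1 ^ 6 := rfl
      have e2 : b.1 * b.1 = W e t u v * W e (-t) u (-v) := by
        have e3 : W e (-t) u (-v) = d.a₀.1 * W e t u v * d.a₀.1⁻¹ := (d.a₀_W t u v).symm
        have e4 : d.a₀.1 * d.a₀.1 = 1 := congrArg Subtype.val d.a₀_sq
        rw [eb, e3]
        have e5 : d.a₀.1⁻¹ = d.a₀.1 := inv_eq_of_mul_eq_one_left e4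
        rw [e5]
        group
      rw [d.W_mul, add_neg_cancel] at e2
      have e3 : b.1 ^ 6 = (b.1 * b.1) * (b.1 * b.1) * (b.1 * b.1) := by
        simp only [pow_succ, pow_zero, one_mul, mul_assoc]
      rw [e1, e3, e2, h0]
      rfl
  · right; right
    obtain ⟨w, hw⟩ := d.conj_tor hsq t u v hy
    have e1 : b = (⟨W e t u v, d.W_mem _ _ _⟩ : ↥(twistedG2 K e)) * ⟨tor RootG2T.R chevG2 (d.cOf y), d.tor_mem hsq y⟩ :=
      Subtype.ext eb
    rw [← e1] at hw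
    have e2 : (w⁻¹ * b * w) ^ (Fintype.card K - 1) = 1 := by
      rw [hw]
      apply Subtype.ext
      have e3 : ((⟨tor RootG2T.R chevG2 (d.cOf y), d.tor_mem hsq y⟩ : ↥(twistedG2 K e)) ^ (Fintype.card K - 1)).1 =
          (d.torHom hsq y ^ (Fintype.card K - 1)).1 := rfl
      have e4 : y ^ (Fintype.card K - 1) = 1 := by
        classical
        rw [← Fintype.card_units]
        exact pow_card_eq_one
      rw [e3, ← map_pow, e4, map_one]
      rfl
    have e3 : (w⁻¹ * b * w) ^ (Fintype.card K - 1) = w⁻¹ * b ^ (Fintype.card K - 1) * w := by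
      have := conj_pow (a := w⁻¹) (b := b) (i := Fintype.card K - 1)
      rwa [inv_inv] at this
    rw [e3] at e2
    have e4 : b ^ (Fintype.card K - 1) = w * (w⁻¹ * b ^ (Fintype.card K - 1) * w) * w⁻¹ := by group
    rw [e4, e2]
    group

/-- An element with a fixed point. -/
theorem order_of_fix (hsq : ∀ y : Kˣ, IsSquare y ∨ IsSquare (-y)) {g : ↥(twistedG2 K e)} {x : ↥(twistedG2 K e) ⧸ B1 K e} (hx : g • x = x) :
    g ^ 9 = 1 ∨ g ^ 6 = 1 ∨ g ^ (Fintype.card K - 1) = 1 := by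
  obtain ⟨a, rfl⟩ := QuotientGroup.mk_surjective x
  have h1 := d.order_B hsq ((d.fix_mk _ _).1 hx)
  have key : ∀ n : ℕ, (a⁻¹ * g * a) ^ n = 1 → g ^ n = 1 := by
    intro n hn
    have e1 : (a⁻¹ * g * a) ^ n = a⁻¹ * g ^ n * a := by
      have := conj_pow (a := a⁻¹) (b := g) (i := n)
      rwa [inv_inv] at this
    rw [e1] at hn
    have e4 : g ^ n = a * (a⁻¹ * g ^ n * a) * a⁻¹ := by group
    rw [e4, hn]
    group
  rcases h1 with h | h | h
  · exact Or.inl (key _ h)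
  · exact Or.inr (Or.inl (key _ h))
  · exact Or.inr (Or.inr (key _ h))

/-- An element of prime order not dividing `q(q-1)` has no fixed point. -/
theorem prime_nofix (hsq : ∀ y : Kˣ, IsSquare y ∨ IsSquare (-y)) {t : ↥(twistedG2 K e)} {p : ℕ} (hp : p.Prime) (ht : orderOf t = p)
    (hpq : ¬ p ∣ Fintype.card K) (hpq1 : ¬ p ∣ Fintype.card K - 1) (x : ↥(twistedG2 K e) ⧸ B1 K e) : t • x ≠ x := by
  intro hx
  obtain ⟨a, rfl⟩ := QuotientGroup.mk_surjective x
  have h1 := (d.fix_mk _ _).1 hx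
  have h2 : orderOf (a⁻¹ * t * a) = p := by
    have := (MulAut.conj a⁻¹).orderOf_eq t
    rw [MulAut.conj_apply, inv_inv] at this
    rw [this, ht]
  have h3 := Subgroup.orderOf_dvd_natCard (B1 K e) h1
  rw [h2, d.card_B hsq, hp.dvd_mul] at h3
  rcases h3 with h | h
  · exact hpq (hp.dvd_of_dvd_pow h)
  · exact hpq1 h

/-- The fixed points of an element commuting with a fixed point free element of odd order. -/
theorem comm_nofix {x y : ↥(twistedG2 K e)} (hodd : Odd (orderOf x)) (hx : ∀ α : ↥(twistedG2 K e) ⧸ B1 K e, x • α ≠ α)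
    (hc : y * x = x * y) (hy1 : y ≠ 1) {β : ↥(twistedG2 K e) ⧸ B1 K e} (hβ : y • β = β) : ∃ g, y = g * d.a₀ * g⁻¹ := by
  have h1 : y • (x • β) = x • β := by
    rw [← mul_smul, hc, mul_smul, hβ]
  have h2 : y • ((x * x) • β) = (x * x) • β := by
    rw [mul_smul, ← mul_smul y, hc, mul_smul, h1]
  have h3 : β ≠ x • β := fun h => hx β h.symm
  have h4 : x • β ≠ (x * x) • β := by
    intro h
    rw [mul_smul] at h
    exact hx (x • β) h.symm
  have h5 : β ≠ (x * x) • β := by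
    intro h
    obtain ⟨k, hk⟩ := hodd
    have h6 : ∀ n : ℕ, (x * x) ^ n • β = β := by
      intro n
      induction n with
      | zero => simp
      | succ n ih =>
        rw [pow_succ', mul_smul, ih]
        exact h.symm
    have h7 : x = (x * x) ^ (k + 1) := by
      have : (x * x) ^ (k + 1) = x ^ (orderOf x + 1) := by
        rw [← pow_two, ← pow_mul, hk]
        congr 1
      rw [this, pow_succ, pow_orderOf_eq_one, one_mul]
    apply hx β
    rw [h7]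
    exact h6 _
  rcases d.fix_three hβ h1 h2 h3 h5 h4 with h | h
  · exact absurd h hy1
  · exact h

end Dat

section Klein

variable {G : Type*} [Group G] {a b c : G}

theorem kl1 (hab : a * b = b * a) (ha : a * a = 1) (hb : b * b = 1) : (a * b) * (a * (b * c)) = c := by
  calc (a * b) * (a * (b * c)) = a * (b * a) * b * c := by group
    _ = a * (a * b) * b * c := by rw [hab]
    _ = (a * a) * (b * b) * c := by group
    _ = c := by rw [ha, hb]; group

theorem kl2 (hac : a * c = c * a) (hc : c * c = 1) : (b * c) * (a * c) = b * a := by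
  calc (b * c) * (a * c) = b * (c * a) * c := by group
    _ = b * (a * c) * c := by rw [hac]
    _ = b * a * (c * c) := by group
    _ = b * a := by rw [hc]; group

end Klein

namespace Dat

theorem t7_a : d.t7 * d.a₀ * d.t7⁻¹ = d.X2 * d.X3 := by
  rw [d.t7_r1]
  group

theorem t7_b : d.t7 * d.X2 * d.t7⁻¹ = d.a₀ * d.X2 := by
  rw [d.t7_r2]
  group

theorem t7_c : d.t7 * d.X3 * d.t7⁻¹ = d.a₀ * (d.X2 * d.X3) := by
  rw [d.t7_r3]
  group

theorem t7_mul (x y : ↥(twistedG2 K e)) : d.t7 * (x * y) * d.t7⁻¹ = (d.t7 * x * d.t7⁻¹) * (d.t7 * y * d.t7⁻¹) := by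
  group

/-- Elements of the Sylow 2-subgroup are conjugate. -/
theorem S0_conj {g : ↥(twistedG2 K e)} (hg : g ∈ d.S0) (h1 : g ≠ 1) : ∃ h, g = h * d.a₀ * h⁻¹ := by
  have hab := d.a_X2
  have hac := d.a_X3
  have hbc := d.X23
  have ha := d.a₀_sq
  have hb := d.X2_sq
  have hc := d.X3_sq
  have up : ∀ x : ↥(twistedG2 K e), (∃ h, x = h * d.a₀ * h⁻¹) → ∃ h, d.t7 * x * d.t7⁻¹ = h * d.a₀ * h⁻¹ := by
    rintro x ⟨h, rfl⟩
    exact ⟨d.t7 * h, by group⟩
  have s0 : ∃ h, d.a₀ = h * d.a₀ * h⁻¹ := ⟨1, by group⟩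
  have s1 : ∃ h, d.X2 * d.X3 = h * d.a₀ * h⁻¹ := by
    have := up _ s0
    rwa [d.t7_a] at this
  have s2 : ∃ h, d.X3 = h * d.a₀ * h⁻¹ := by
    have := up _ s1
    rwa [d.t7_mul, d.t7_b, d.t7_c, kl1 hab ha hb] at this
  have s3 : ∃ h, d.a₀ * (d.X2 * d.X3) = h * d.a₀ * h⁻¹ := by
    have := up _ s2
    rwa [d.t7_c] at this
  have s4 : ∃ h, d.X2 = h * d.a₀ * h⁻¹ := by
    have := up _ s3
    rw [d.t7_mul, d.t7_a, d.t7_mul, d.t7_b, d.t7_c, kl1 hab ha hb] at this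
    have e1 : d.X2 * d.X3 * d.X3 = d.X2 := by rw [mul_assoc, hc, mul_one]
    rwa [e1] at this
  have s5 : ∃ h, d.a₀ * d.X2 = h * d.a₀ * h⁻¹ := by
    have := up _ s4
    rwa [d.t7_b] at this
  have s6 : ∃ h, d.a₀ * d.X3 = h * d.a₀ * h⁻¹ := by
    have := up _ s5
    rw [d.t7_mul, d.t7_a, d.t7_b] at this
    have e1 : d.X2 * d.X3 * (d.a₀ * d.X2) = d.a₀ * d.X3 := by
      calc d.X2 * d.X3 * (d.a₀ * d.X2) = d.X2 * (d.X3 * d.a₀) * d.X2 := by group
        _ = d.X2 * (d.a₀ * d.X3) * d.X2 := by rw [hac]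
        _ = (d.X2 * d.a₀) * (d.X3 * d.X2) := by group
        _ = (d.a₀ * d.X2) * (d.X2 * d.X3) := by rw [hab, hbc]
        _ = d.a₀ * (d.X2 * d.X2) * d.X3 := by group
        _ = _ := by rw [hb, mul_one]
    rwa [e1] at this
  rcases d.mem_S0 hg with h | ⟨y, h, rfl⟩
  · rcases h with h | h | h | h
    · exact absurd h h1
    · rw [h]; exact s4
    · rw [h]; exact s2
    · rw [h]; exact s1
  · rcases h with h | h | h | h
    · rw [h, mul_one]; exact s0
    · rw [h]; exact s5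
    · rw [h]; exact s6
    · rw [h]; exact s3

end Dat

end E

/-- The Ree group. -/
abbrev Gm (K : Type*) [Field K] (m : ℕ) : Type _ := ↥(twistedG2 K (3 ^ m))

namespace Dat

variable {m : ℕ} (R : Ree K m) (d : Dat K (3 ^ m))

local notation "G" => Gm K m

include R d

theorem exists_sylow_S0 : ∃ S₀ : Sylow 2 G, (S₀ : Subgroup G) = d.S0 := by
  obtain ⟨k, hk⟩ := R.h8
  haveI : Fact (Nat.Prime 2) := ⟨Nat.prime_two⟩
  haveI := d.finite_G1
  obtain ⟨n, hn, hG⟩ := d.two_part R.hs hk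
  have hcard : Nat.card d.S0 = 2 ^ (Nat.card G).factorization 2 := by
    rw [d.card_S0 R.hs R.hnm, hG, Dat.fact8 hn]
    norm_num
  exact ⟨Sylow.ofCard _ hcard, rfl⟩

/-- Any `2`-subgroup is conjugate into `S0`. -/
theorem two_conj {T : Subgroup G} (hT : IsPGroup 2 T) : ∃ g : G, ∀ t ∈ T, g⁻¹ * t * g ∈ d.S0 := by
  haveI : Fact (Nat.Prime 2) := ⟨Nat.prime_two⟩
  haveI := d.finite_G1
  obtain ⟨S₀, hS₀⟩ := d.exists_sylow_S0 R
  obtain ⟨Q, hQ⟩ := hT.exists_le_sylow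
  obtain ⟨g, rfl⟩ := MulAction.exists_smul_eq G S₀ Q
  refine ⟨g, fun t ht => ?_⟩
  have h1 := hQ ht
  rw [Sylow.coe_subgroup_smul, Subgroup.mem_smul_pointwise_iff_exists, hS₀] at h1
  obtain ⟨s, hs, e1⟩ := h1
  rw [MulAut.smul_def, MulAut.conj_apply] at e1
  rw [← e1]
  have e2 : g⁻¹ * (g * s * g⁻¹) * g = s := by group
  rwa [e2]

/-- `2`-subgroups are elementary abelian. -/
theorem two_comm {T : Subgroup G} (hT : IsPGroup 2 T) {a b : G} (ha : a ∈ T) (hb : b ∈ T) : a * b = b * a := by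
  obtain ⟨g, hg⟩ := d.two_conj R hT
  have h1 := d.S0_comm (hg a ha) (hg b hb)
  have e1 : a * b = g * ((g⁻¹ * a * g) * (g⁻¹ * b * g)) * g⁻¹ := by group
  have e2 : b * a = g * ((g⁻¹ * b * g) * (g⁻¹ * a * g)) * g⁻¹ := by group
  rw [e1, e2, h1]

theorem two_sq {T : Subgroup G} (hT : IsPGroup 2 T) {a : G} (ha : a ∈ T) : a * a = 1 := by
  obtain ⟨g, hg⟩ := d.two_conj R hT
  have h1 := d.S0_sq (hg a ha)
  have e1 : a * a = g * ((g⁻¹ * a * g) * (g⁻¹ * a * g)) * g⁻¹ := by group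
  rw [e1, h1]
  group

omit R d in
theorem isP_zpowers_of_order {p : ℕ} (hp : p.Prime) {g : G} (hg : orderOf g = p) : IsPGroup p (Subgroup.zpowers g) := by
  haveI : Fact p.Prime := ⟨hp⟩
  apply IsPGroup.of_card (n := 1)
  rw [Nat.card_zpowers, hg, pow_one]

/-- All involutions are conjugate. -/
theorem inv_conj {g : G} (h1 : g * g = 1) (h2 : g ≠ 1) : ∃ h, g = h * d.a₀ * h⁻¹ := by
  have ho : orderOf g = 2 := orderOf_eq_prime (by rwa [pow_two]) h2
  obtain ⟨x, hx⟩ := d.two_conj R (isP_zpowers_of_order Nat.prime_two ho)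
  have h3 := hx g (Subgroup.mem_zpowers g)
  obtain ⟨h, hh⟩ := d.S0_conj h3 (by
    intro h4
    apply h2
    have e1 : g = x * (x⁻¹ * g * x) * x⁻¹ := by group
    rw [e1, h4]
    group)
  refine ⟨x * h, ?_⟩
  have e1 : g = x * (x⁻¹ * g * x) * x⁻¹ := by group
  rw [e1, hh]
  group

/-- An involution has a fixed point. -/
theorem inv_fix {g : G} (h1 : g * g = 1) (h2 : g ≠ 1) : ∃ x : G ⧸ B1 K (3 ^ m), g • x = x := by
  obtain ⟨h, rfl⟩ := d.inv_conj R h1 h2
  refine ⟨((h : G) : G ⧸ B1 K (3 ^ m)), (d.fix_mk _ _).2 ?_⟩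
  have e1 : h⁻¹ * (h * d.a₀ * h⁻¹) * h = d.a₀ := by group
  rw [e1]
  exact d.a₀_mem

/-- An element of prime order dividing `q(q-1)` has a fixed point. -/
theorem prime_fix {t : G} {l : ℕ} (hl : l.Prime) (ht : orderOf t = l) (hlq : l ∣ Fintype.card K ∨ l ∣ Fintype.card K - 1) :
    ∃ x : G ⧸ B1 K (3 ^ m), t • x = x := by
  classical
  by_cases h2 : l = 2
  · subst h2
    apply d.inv_fix R (by rw [← pow_two, ← ht, pow_orderOf_eq_one])
    intro h
    rw [h, orderOf_one] at ht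
    omega
  · haveI : Fact l.Prime := ⟨hl⟩
    haveI := d.finite_G1
    haveI : Fintype (G ⧸ B1 K (3 ^ m)) := Fintype.ofFinite _
    have hq : 2 ≤ Fintype.card K := Fintype.one_lt_card
    have hnd : ¬ l ∣ Fintype.card (G ⧸ B1 K (3 ^ m)) := by
      rw [← Nat.card_eq_fintype_card, d.card_Om R.hs]
      intro h3
      rcases hlq with h4 | h4
      · have h5 : l ∣ Fintype.card K ^ 3 := dvd_pow h4 (by norm_num)
        exact hl.one_lt.ne' (Nat.dvd_one.1 ((Nat.dvd_add_right h5).1 h3))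
      · have h5 : Fintype.card K ^ 3 + 1 = (Fintype.card K - 1) * (Fintype.card K ^ 2 + Fintype.card K + 1) + 2 := by
          obtain ⟨c, hc⟩ : ∃ c, Fintype.card K = c + 1 := ⟨Fintype.card K - 1, by omega⟩
          rw [hc, Nat.add_sub_cancel]
          ring
        rw [h5] at h3
        have h6 := (Nat.dvd_add_right (Dvd.dvd.mul_right h4 _)).1 h3
        exact h2 ((Nat.prime_dvd_prime_iff_eq hl Nat.prime_two).1 h6)
    obtain ⟨x, hx⟩ := Equiv.Perm.exists_fixed_point_of_prime (p := l) (n := 1) hnd (σ := MulAction.toPermHom G (G ⧸ B1 K (3 ^ m)) t) (by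
      rw [pow_one, ← map_pow, ← ht, pow_orderOf_eq_one, map_one])
    exact ⟨x, hx⟩

/-- The centraliser of `a₀`. -/
theorem card_Ca : Nat.card (Subgroup.centralizer ({d.a₀} : Set G)) = (Fintype.card K + 1) * Fintype.card K * (Fintype.card K - 1) := by
  obtain ⟨Θ⟩ := d.cent_equiv R.hs R.hnm
  rw [Nat.card_congr Θ.toEquiv, Nat.card_prod]
  have h1 : Nat.card (Multiplicative (ZMod 2)) = 2 := Nat.card_zmod 2
  rw [h1, ← ClassicalSmall.card_PSL2]
  obtain ⟨k, hk⟩ := R.h8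
  have h2 : Nat.gcd 2 (Fintype.card K - 1) = 2 := by
    rw [hk]
    exact Nat.gcd_eq_left ⟨4 * k + 1, by omega⟩
  rw [h2]

/-- Elements commuting with an element of prime order not dividing `q(q²-1)` have no fixed points. -/
theorem comm_free {x y : G} {p : ℕ} (hp : p.Prime) (hp2 : p ≠ 2) (hx : orderOf x = p) (h1 : ¬ p ∣ Fintype.card K + 1) (h2 : ¬ p ∣ Fintype.card K)
    (h3 : ¬ p ∣ Fintype.card K - 1) (hc : y * x = x * y) (hy : y ≠ 1) (β : G ⧸ B1 K (3 ^ m)) : y • β ≠ β := by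
  intro hβ
  haveI := d.finite_G1
  have hodd : Odd (orderOf x) := by
    rw [hx]
    exact hp.odd_of_ne_two hp2
  obtain ⟨g, rfl⟩ := d.comm_nofix hodd (d.prime_nofix R.hs hp hx h2 h3) hc hy hβ
  have h4 : orderOf (g⁻¹ * x * g) = p := by
    have := (MulAut.conj g⁻¹).orderOf_eq x
    rw [MulAut.conj_apply, inv_inv] at this
    rw [this, hx]
  have h5 : g⁻¹ * x * g ∈ Subgroup.centralizer ({d.a₀} : Set G) := by
    rw [Subgroup.mem_centralizer_singleton_iff]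
    have e1 : (g⁻¹ * x * g) * d.a₀ = g⁻¹ * (x * (g * d.a₀ * g⁻¹)) * g := by group
    have e2 : d.a₀ * (g⁻¹ * x * g) = g⁻¹ * ((g * d.a₀ * g⁻¹) * x) * g := by group
    rw [e1, e2, hc]
  have h6 := Subgroup.orderOf_dvd_natCard _ h5
  rw [h4, d.card_Ca R, hp.dvd_mul, hp.dvd_mul] at h6
  rcases h6 with (h6 | h6) | h6
  · exact h1 h6
  · exact h2 h6
  · exact h3 h6

end Dat

end Cfsg.Agent.Lib.Chev.TwG2
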