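import Cfsg.Agent.Lib.Chev.TwG2A

set_option linter.style.haveILetI false
set_option linter.unusedSectionVars false

/-!
# The Ree groups `²G₂`: the tori of order `q ± r + 1`
-/

namespace Cfsg.Agent.Lib.Chev.TwG2

open Cfsg.Agent.Lib.Chev Cfsg.Lie Equiv Module
open Cfsg.Agent.Lib
open Cfsg.Agent.Lib.Chev.ReeGen

section Arith

theorem arith_fpf {Q Gc I N₀ Np : ℤ} (hQ : 27 ≤ Q)
    (E1 : Gc = 2 * N₀ + I * (Q * (Q - 1)) + Q ^ 3 * (Q ^ 3 - 1))
    (E2 : I * ((Q + 1) * Q * (Q - 1)) = Gc)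
    (E3 : Np * (6 * (Q + 1)) = Gc * (Q - 3))
    (E4 : Gc = Q ^ 3 * (Q - 1) * (Q ^ 3 + 1)) :
    3 * (N₀ - Np) = Q ^ 4 * (Q ^ 2 - 1) * (Q - 2) := by
  have h1 : (Q + 1) * Q * (Q - 1) ≠ 0 := by
    apply mul_ne_zero (mul_ne_zero _ _) <;> omega
  have hI : I = Q ^ 2 * (Q ^ 2 - Q + 1) := by
    apply mul_right_cancel₀ h1
    rw [E2, E4]
    ring
  have h2 : (Q + 1) ≠ 0 := by omega
  have hNp : 6 * Np = Q ^ 3 * (Q - 1) * (Q ^ 2 - Q + 1) * (Q - 3) := by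
    apply mul_right_cancel₀ h2
    calc 6 * Np * (Q + 1) = Np * (6 * (Q + 1)) := by ring
      _ = Gc * (Q - 3) := E3
      _ = _ := by rw [E4]; ring
  have h3 : 2 * (3 * (N₀ - Np)) = 2 * (Q ^ 4 * (Q ^ 2 - 1) * (Q - 2)) := by
    subst hI
    linear_combination (-3) * E1 + 3 * E4 - hNp
  exact mul_left_cancel₀ (by norm_num) h3

/-- The case of one class of tori. -/
theorem arith_A {Q Y n : ℤ} (hQ : 27 ≤ Q) (hn : n = 1 ∨ n = 2 ∨ n = 3 ∨ n = 6)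
    (h1 : Y * ((Q ^ 2 - Q + 1) * n) = Q ^ 3 * (Q ^ 2 - 1) * (Q ^ 2 - Q + 1) * ((Q ^ 2 - Q + 1) - 1))
    (h2 : 3 * Y = Q ^ 4 * (Q ^ 2 - 1) * (Q - 2)) : False := by
  have hP : Q ^ 2 - Q + 1 ≠ 0 := by nlinarith
  have h3 : Y * n = Q ^ 3 * (Q ^ 2 - 1) * (Q * (Q - 1)) := by
    apply mul_left_cancel₀ hP
    linear_combination h1
  have h4 : Q ^ 4 * (Q ^ 2 - 1) ≠ 0 := by
    apply mul_ne_zero
    · positivity
    · nlinarith
  have h5 : n * (Q - 2) = 3 * (Q - 1) := by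
    apply mul_left_cancel₀ h4
    linear_combination 3 * h3 - n * h2
  rcases hn with rfl | rfl | rfl | rfl <;> omega

/-- The case of two classes of tori. -/
theorem arith_B1 {Q a b Y₁ Y₂ n₁ n₂ : ℤ} (hQ : 27 ≤ Q) (ha : 7 ≤ a) (hb : 7 ≤ b) (hab : a * b = Q ^ 2 - Q + 1)
    (hn₁ : n₁ = 1 ∨ n₁ = 2 ∨ n₁ = 3 ∨ n₁ = 6) (hn₂ : n₂ = 1 ∨ n₂ = 2 ∨ n₂ = 3 ∨ n₂ = 6)
    (h1 : Y₁ * (a * n₁) = Q ^ 3 * (Q ^ 2 - 1) * (a * b) * (a - 1))
    (h2 : Y₂ * (b * n₂) = Q ^ 3 * (Q ^ 2 - 1) * (a * b) * (b - 1))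
    (h3 : 3 * (Y₁ + Y₂) = Q ^ 4 * (Q ^ 2 - 1) * (Q - 2)) : n₁ = 6 ∧ n₂ = 6 ∧ a + b = 2 * (Q + 1) := by
  have hD : Q ^ 3 * (Q ^ 2 - 1) ≠ 0 := by
    apply mul_ne_zero
    · positivity
    · nlinarith
  have ha0 : a ≠ 0 := by omega
  have hb0 : b ≠ 0 := by omega
  have e1 : Y₁ * n₁ = Q ^ 3 * (Q ^ 2 - 1) * (b * (a - 1)) := by
    apply mul_left_cancel₀ ha0
    linear_combination h1
  have e2 : Y₂ * n₂ = Q ^ 3 * (Q ^ 2 - 1) * (a * (b - 1)) := by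
    apply mul_left_cancel₀ hb0
    linear_combination h2
  have e3 : n₁ * n₂ * (Q * (Q - 2)) = 3 * (n₂ * (b * (a - 1)) + n₁ * (a * (b - 1))) := by
    apply mul_left_cancel₀ hD
    linear_combination (-(n₁ * n₂)) * h3 + 3 * n₂ * e1 + 3 * n₁ * e2
  have e4 : Q * (Q - 2) = a * b - (Q + 1) := by
    rw [hab]
    ring
  rw [e4] at e3
  have h7a : 7 * a ≤ a * b := by nlinarith
  have h7b : 7 * b ≤ a * b := by nlinarith
  generalize hX : a * b = X at e3 h7a h7b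
  have e5 : b * (a - 1) = X - b := by rw [← hX]; ring
  have e6 : a * (b - 1) = X - a := by rw [← hX]; ring
  rw [e5, e6] at e3
  rcases hn₁ with rfl | rfl | rfl | rfl <;> rcases hn₂ with rfl | rfl | rfl | rfl <;>
    first
    | (exfalso; linarith)
    | (refine ⟨rfl, rfl, ?_⟩; linarith)

/-- The lower bound on the conjugates of a torus. -/
theorem arith_lower {Y τ n Gc : ℤ} (hY : 0 ≤ Y) (hG : 0 ≤ Gc) (hτ : 7 ≤ τ) (hn : n ≤ 6) (h : Y * (τ * n) = Gc * (τ - 1)) : Gc ≤ 7 * Y := by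
  have h1 : Y * τ * n ≤ Y * τ * 6 := mul_le_mul_of_nonneg_left hn (by positivity)
  have h2 : Gc * τ * 6 ≤ Gc * (τ - 1) * 7 := by nlinarith
  have h3 : τ * (6 * Gc) ≤ τ * (6 * (7 * Y)) := by nlinarith
  have h4 := le_of_mul_le_mul_left h3 (by omega)
  omega

/-- Three classes of tori are impossible. -/
theorem arith_B2 {Q Gc N Y₁ Y₂ Y₃ : ℤ} (hQ : 27 ≤ Q) (hG : Gc = Q ^ 3 * (Q ^ 2 - 1) * (Q ^ 2 - Q + 1))
    (h1 : Gc ≤ 7 * Y₁) (h2 : Gc ≤ 7 * Y₂) (h3 : Gc ≤ 7 * Y₃) (h4 : Y₁ + Y₂ + Y₃ ≤ N) (h5 : 3 * N = Q ^ 4 * (Q ^ 2 - 1) * (Q - 2)) : False := by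
  have h6 : 3 * Gc ≤ 7 * N := by linarith
  have h7 : 9 * Gc ≤ 7 * (3 * N) := by linarith
  rw [h5, hG] at h7
  have h8 : 0 < Q ^ 3 * (Q ^ 2 - 1) := by
    apply mul_pos
    · positivity
    · nlinarith
  have h9 : Q ^ 3 * (Q ^ 2 - 1) * (9 * (Q ^ 2 - Q + 1)) ≤ Q ^ 3 * (Q ^ 2 - 1) * (7 * (Q * (Q - 2))) := by
    linarith
  have h10 := le_of_mul_le_mul_left h9 h8
  nlinarith

/-- Solving the quadratic. -/
theorem arith_roots {Q a b r : ℤ} (hr : r ^ 2 = 3 * Q) (hab : a * b = Q ^ 2 - Q + 1) (hs : a + b = 2 * (Q + 1)) :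
    (a = Q + 1 - r ∧ b = Q + 1 + r) ∨ (a = Q + 1 + r ∧ b = Q + 1 - r) := by
  have hb : b = 2 * (Q + 1) - a := by linarith
  subst hb
  have h1 : (a - (Q + 1)) ^ 2 = r ^ 2 := by
    rw [hr]
    linear_combination -hab
  rcases sq_eq_sq_iff_eq_or_eq_neg.1 h1 with h2 | h2
  · right
    constructor <;> linarith
  · left
    constructor <;> linarith

end Arith

variable {K : Type*} [Field K] [Fintype K] {m : ℕ}

namespace Dat

variable (R : Ree K m) (d : Dat K (3 ^ m))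

local notation "G" => Gm K m
local notation "Ω" => Gm K m ⧸ B1 K (3 ^ m)

variable {T A : Subgroup (Gm K m)} {w : ℕ} (hP : PlusT T A w)

include R d hP

theorem plus_Yc_fpf {g : G} (hg : g ∈ Yc (plusS T)) : g ∈ Fpf K m := by
  obtain ⟨a, t, ht, rfl⟩ := hg
  intro β hβ
  have h1 : t • (a⁻¹ • β) = a⁻¹ • β := (conj_fix a⁻¹ t β).1 (by rw [inv_inv]; exact hβ)
  exact d.plusS_fpf R hP ht _ h1

omit hP in
theorem hG_int : (Nat.card G : ℤ) = (Fintype.card K : ℤ) ^ 3 * ((Fintype.card K : ℤ) - 1) * ((Fintype.card K : ℤ) ^ 3 + 1) := by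
  have hq := R.q_ge
  rw [show Nat.card G = _ from d.card_G1 R.hs]
  push_cast [Nat.cast_sub (show 1 ≤ Fintype.card K by omega)]
  ring

/-- The formula for the number of the remaining elements. -/
theorem n3_formula : 3 * (((Fpf K m).ncard : ℤ) - ((Yc (plusS T)).ncard : ℤ)) =
    (Fintype.card K : ℤ) ^ 4 * ((Fintype.card K : ℤ) ^ 2 - 1) * ((Fintype.card K : ℤ) - 2) := by
  have hq := R.q_ge
  have E1 := d.count_fpf R
  have E2 : ((Inv K m).ncard : ℤ) * (((Fintype.card K : ℤ) + 1) * (Fintype.card K : ℤ) * ((Fintype.card K : ℤ) - 1)) = (Nat.card G : ℤ) := by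
    have := congrArg (Nat.cast : ℕ → ℤ) (d.inv_count R)
    rw [← this]
    push_cast [Nat.cast_sub (show 1 ≤ Fintype.card K by omega)]
    ring
  have E3 : ((Yc (plusS T)).ncard : ℤ) * (6 * ((Fintype.card K : ℤ) + 1)) = (Nat.card G : ℤ) * ((Fintype.card K : ℤ) - 3) := by
    have := congrArg (Nat.cast : ℕ → ℤ) (d.plusS_count R hP)
    push_cast [Nat.cast_sub (show 3 ≤ Fintype.card K by omega)] at this
    exact this
  exact arith_fpf (by exact_mod_cast hq) E1 E2 E3 (d.hG_int R)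

omit d hP in
theorem P_int : ((Fintype.card K ^ 2 - Fintype.card K + 1 : ℕ) : ℤ) = (Fintype.card K : ℤ) ^ 2 - (Fintype.card K : ℤ) + 1 := by
  have hq := R.q_ge
  have h1 : Fintype.card K ≤ Fintype.card K ^ 2 := Nat.le_self_pow (by norm_num) _
  push_cast [Nat.cast_sub h1]
  ring

/-- The integer form of the count of the conjugates. -/
theorem t3_count_int {x : G} {p : ℕ} (h : T3 x p) : ∃ n : ℕ, ((n : ℤ) = 1 ∨ (n : ℤ) = 2 ∨ (n : ℤ) = 3 ∨ (n : ℤ) = 6) ∧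
    Nat.card (Subgroup.normalizer ((Subgroup.centralizer ({x} : Set G) : Subgroup G) : Set G)) = Nat.card (Subgroup.centralizer ({x} : Set G)) * n ∧
    ((Yc (t3S (Subgroup.centralizer ({x} : Set G)))).ncard : ℤ) * ((Nat.card (Subgroup.centralizer ({x} : Set G)) : ℤ) * (n : ℤ)) = (Nat.card G : ℤ) * ((Nat.card (Subgroup.centralizer ({x} : Set G)) : ℤ) - 1) := by
  obtain ⟨n, hn, hN, hc⟩ := d.t3_count R hP h
  refine ⟨n, ?_, hN, ?_⟩
  · have h1 := Nat.le_of_dvd (by norm_num) hn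
    interval_cases n <;> first | (simp; done) | (exfalso; revert hn; decide)
  · have h7 := d.t3_ge7 R hP h
    have := congrArg (Nat.cast : ℕ → ℤ) hc
    push_cast [Nat.cast_sub (show 1 ≤ Nat.card (Subgroup.centralizer ({x} : Set G)) by omega)] at this
    exact this

omit hP in
theorem fpf_ne_one {g : G} (hg : g ∈ Fpf K m) : g ≠ 1 := by
  rintro rfl
  exact hg ((1 : G) : Ω) (one_smul _ _)

/-- The tori of order `q ± r + 1`. -/
theorem exists_tori : ∃ (x₁ x₂ : G) (p₁ p₂ : ℕ), T3 x₁ p₁ ∧ T3 x₂ p₂ ∧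
    Nat.card (Subgroup.centralizer ({x₁} : Set G)) = Fintype.card K - 3 ^ (m + 1) + 1 ∧
    Nat.card (Subgroup.centralizer ({x₂} : Set G)) = Fintype.card K + 3 ^ (m + 1) + 1 ∧
    Nat.card (Subgroup.normalizer ((Subgroup.centralizer ({x₁} : Set G) : Subgroup G) : Set G)) = Nat.card (Subgroup.centralizer ({x₁} : Set G)) * 6 ∧
    Nat.card (Subgroup.normalizer ((Subgroup.centralizer ({x₂} : Set G) : Subgroup G) : Set G)) = Nat.card (Subgroup.centralizer ({x₂} : Set G)) * 6 ∧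
    ∀ l : ℕ, l.Prime → l ∣ Fintype.card K ^ 2 - Fintype.card K + 1 → l ∣ Nat.card (Subgroup.centralizer ({x₁} : Set G)) ∨ l ∣ Nat.card (Subgroup.centralizer ({x₂} : Set G)) := by
  classical
  haveI := d.finite_G1
  have hq := R.q_ge
  have hQ : (27 : ℤ) ≤ (Fintype.card K : ℤ) := by exact_mod_cast hq
  have hn3 := d.n3_formula R hP
  have hGz := d.hG_int R
  have hPz := P_int R
  have hG2 : (Nat.card G : ℤ) = (Fintype.card K : ℤ) ^ 3 * ((Fintype.card K : ℤ) ^ 2 - 1) * ((Fintype.card K : ℤ) ^ 2 - (Fintype.card K : ℤ) + 1) := by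
    rw [hGz]
    ring
  have hP1 : Fintype.card K ^ 2 - Fintype.card K + 1 ≠ 1 := by
    have h1 : Fintype.card K ^ 2 = Fintype.card K * Fintype.card K := pow_two _
    have h2 : 27 * Fintype.card K ≤ Fintype.card K * Fintype.card K := Nat.mul_le_mul_right _ hq
    omega
  obtain ⟨p₁, hp₁, hp₁P⟩ := Nat.exists_prime_and_dvd hP1
  obtain ⟨x₁, h₁⟩ := d.exists_t3 R hp₁ hp₁P
  obtain ⟨n₁, hn₁, hN₁, hc₁⟩ := d.t3_count_int R hP h₁
  have hτ₁7 := d.t3_ge7 R hP h₁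
  have hdisj₁ := d.plus_disj R hP h₁
  have hsubp : Yc (plusS T) ⊆ Fpf K m := fun g hg => d.plus_Yc_fpf R hP hg
  have hsub₁ : Yc (t3S (Subgroup.centralizer ({x₁} : Set G))) ⊆ Fpf K m := fun g hg => d.t3_Yc_fpf R hP h₁ hg
  by_cases hall1 : ∀ l : ℕ, l.Prime → l ∣ Fintype.card K ^ 2 - Fintype.card K + 1 → l ∣ Nat.card (Subgroup.centralizer ({x₁} : Set G))
  · exfalso
    have hτ := d.t3_eq_P R hP h₁ hall1
    have hU : Fpf K m = Yc (plusS T) ∪ Yc (t3S (Subgroup.centralizer ({x₁} : Set G))) := by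
      ext g
      constructor
      · intro hg
        rcases d.fpf_cover R hP hg with h | ⟨l, hl, hlP, hlo⟩
        · exact Or.inl h
        · exact Or.inr (d.t3_cover R hP h₁ (d.fpf_ne_one R hg) hl (hall1 l hl hlP) hlo)
      · rintro (h | h)
        · exact hsubp h
        · exact hsub₁ h
    have hcard : (Fpf K m).ncard = (Yc (plusS T)).ncard + (Yc (t3S (Subgroup.centralizer ({x₁} : Set G)))).ncard := by
      rw [hU]
      exact Set.ncard_union_eq hdisj₁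
    rw [hcard] at hn3
    push_cast at hn3
    rw [hτ, hPz, hG2] at hc₁
    refine arith_A hQ hn₁ hc₁ ?_
    linear_combination hn3
  obtain ⟨p₂, hp₂, hp₂P, hp₂n⟩ : ∃ p₂ : ℕ, p₂.Prime ∧ p₂ ∣ Fintype.card K ^ 2 - Fintype.card K + 1 ∧ ¬ p₂ ∣ Nat.card (Subgroup.centralizer ({x₁} : Set G)) := by
    by_contra hno
    push Not at hno
    exact hall1 hno
  obtain ⟨x₂, h₂⟩ := d.exists_t3 R hp₂ hp₂P
  obtain ⟨n₂, hn₂, hN₂, hc₂⟩ := d.t3_count_int R hP h₂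
  have hτ₂7 := d.t3_ge7 R hP h₂
  have hdisj₂ := d.plus_disj R hP h₂
  have hsub₂ : Yc (t3S (Subgroup.centralizer ({x₂} : Set G))) ⊆ Fpf K m := fun g hg => d.t3_Yc_fpf R hP h₂ hg
  have hcop₁₂ := d.t3_coprime2 R hP h₁ h₂ hp₂n
  have hd₁₂ := Yc_disj hcop₁₂
  by_cases hall2 : ∀ l : ℕ, l.Prime → l ∣ Fintype.card K ^ 2 - Fintype.card K + 1 → l ∣ Nat.card (Subgroup.centralizer ({x₁} : Set G)) ∨ l ∣ Nat.card (Subgroup.centralizer ({x₂} : Set G))
  · have hτ := d.t3_mul_eq_P R hP h₁ h₂ hcop₁₂ hall2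
    have hU : Fpf K m = (Yc (plusS T) ∪ Yc (t3S (Subgroup.centralizer ({x₁} : Set G)))) ∪ Yc (t3S (Subgroup.centralizer ({x₂} : Set G))) := by
      ext g
      constructor
      · intro hg
        rcases d.fpf_cover R hP hg with h | ⟨l, hl, hlP, hlo⟩
        · exact Or.inl (Or.inl h)
        · rcases hall2 l hl hlP with h3 | h3
          · exact Or.inl (Or.inr (d.t3_cover R hP h₁ (d.fpf_ne_one R hg) hl h3 hlo))
          · exact Or.inr (d.t3_cover R hP h₂ (d.fpf_ne_one R hg) hl h3 hlo)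
      · rintro ((h | h) | h)
        · exact hsubp h
        · exact hsub₁ h
        · exact hsub₂ h
    have hcard : (Fpf K m).ncard = (Yc (plusS T)).ncard + (Yc (t3S (Subgroup.centralizer ({x₁} : Set G)))).ncard + (Yc (t3S (Subgroup.centralizer ({x₂} : Set G)))).ncard := by
      rw [hU, Set.ncard_union_eq (Set.disjoint_union_left.2 ⟨hdisj₂, hd₁₂⟩), Set.ncard_union_eq hdisj₁]
    rw [hcard] at hn3
    push_cast at hn3
    have hab : (Nat.card (Subgroup.centralizer ({x₁} : Set G)) : ℤ) * (Nat.card (Subgroup.centralizer ({x₂} : Set G)) : ℤ) = (Fintype.card K : ℤ) ^ 2 - (Fintype.card K : ℤ) + 1 := by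
      rw [← hPz, ← hτ]
      push_cast
      ring
    rw [hG2, ← hab] at hc₁ hc₂
    obtain ⟨e₁, e₂, e₃⟩ := arith_B1 hQ (by exact_mod_cast hτ₁7) (by exact_mod_cast hτ₂7) hab hn₁ hn₂ hc₁ hc₂ (by linear_combination hn3)
    have hn₁6 : n₁ = 6 := by exact_mod_cast e₁
    have hn₂6 : n₂ = 6 := by exact_mod_cast e₂
    subst hn₁6 hn₂6
    have hr : ((3 ^ (m + 1) : ℕ) : ℤ) ^ 2 = 3 * (Fintype.card K : ℤ) := by
      rw [R.hK]
      push_cast
      ring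
    have hrq : 3 ^ (m + 1) ≤ Fintype.card K := by
      rw [R.hK]
      exact Nat.pow_le_pow_right (by norm_num) (by omega)
    rcases arith_roots hr hab e₃ with ⟨e₄, e₅⟩ | ⟨e₄, e₅⟩
    · refine ⟨x₁, x₂, p₁, p₂, h₁, h₂, ?_, ?_, hN₁, hN₂, hall2⟩
      · zify [hrq]
        rw [e₄]
        push_cast
        ring
      · zify
        rw [e₅]
        push_cast
        ring
    · refine ⟨x₂, x₁, p₂, p₁, h₂, h₁, ?_, ?_, hN₂, hN₁, fun l hl hlP => (hall2 l hl hlP).symm⟩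
      · zify [hrq]
        rw [e₅]
        push_cast
        ring
      · zify
        rw [e₄]
        push_cast
        ring
  · exfalso
    obtain ⟨p₃, hp₃, hp₃P, hp₃n₁, hp₃n₂⟩ : ∃ p₃ : ℕ, p₃.Prime ∧ p₃ ∣ Fintype.card K ^ 2 - Fintype.card K + 1 ∧ ¬ p₃ ∣ Nat.card (Subgroup.centralizer ({x₁} : Set G)) ∧ ¬ p₃ ∣ Nat.card (Subgroup.centralizer ({x₂} : Set G)) := by
      by_contra hno
      push Not at hno
      apply hall2
      intro l hl hlP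
      by_cases h5 : l ∣ Nat.card (Subgroup.centralizer ({x₁} : Set G))
      · exact Or.inl h5
      · exact Or.inr (hno l hl hlP h5)
    obtain ⟨x₃, h₃⟩ := d.exists_t3 R hp₃ hp₃P
    obtain ⟨n₃, hn₃, hN₃, hc₃⟩ := d.t3_count_int R hP h₃
    have hτ₃7 := d.t3_ge7 R hP h₃
    have hdisj₃ := d.plus_disj R hP h₃
    have hsub₃ : Yc (t3S (Subgroup.centralizer ({x₃} : Set G))) ⊆ Fpf K m := fun g hg => d.t3_Yc_fpf R hP h₃ hg
    have hd₁₃ := Yc_disj (d.t3_coprime2 R hP h₁ h₃ hp₃n₁)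
    have hd₂₃ := Yc_disj (d.t3_coprime2 R hP h₂ h₃ hp₃n₂)
    have hsub : (((Yc (plusS T) ∪ Yc (t3S (Subgroup.centralizer ({x₁} : Set G)))) ∪ Yc (t3S (Subgroup.centralizer ({x₂} : Set G)))) ∪ Yc (t3S (Subgroup.centralizer ({x₃} : Set G)))) ⊆ Fpf K m := by
      rintro g (((h | h) | h) | h)
      · exact hsubp h
      · exact hsub₁ h
      · exact hsub₂ h
      · exact hsub₃ h
    have hcard := Set.ncard_le_ncard hsub
    rw [Set.ncard_union_eq (Set.disjoint_union_left.2 ⟨Set.disjoint_union_left.2 ⟨hdisj₃, hd₁₃⟩, hd₂₃⟩), Set.ncard_union_eq (Set.disjoint_union_left.2 ⟨hdisj₂, hd₁₂⟩), Set.ncard_union_eq hdisj₁] at hcard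
    have hcard' : ((Yc (plusS T)).ncard : ℤ) + ((Yc (t3S (Subgroup.centralizer ({x₁} : Set G)))).ncard : ℤ) + ((Yc (t3S (Subgroup.centralizer ({x₂} : Set G)))).ncard : ℤ) + ((Yc (t3S (Subgroup.centralizer ({x₃} : Set G)))).ncard : ℤ) ≤ ((Fpf K m).ncard : ℤ) := by
      exact_mod_cast hcard
    have hn6 : ∀ n : ℕ, ((n : ℤ) = 1 ∨ (n : ℤ) = 2 ∨ (n : ℤ) = 3 ∨ (n : ℤ) = 6) → (n : ℤ) ≤ 6 := by
      rintro n (h | h | h | h) <;> rw [h] <;> norm_num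
    have hGn : (0 : ℤ) ≤ (Nat.card G : ℤ) := by positivity
    have b₁ := arith_lower (by positivity) hGn (by exact_mod_cast hτ₁7) (hn6 n₁ hn₁) hc₁
    have b₂ := arith_lower (by positivity) hGn (by exact_mod_cast hτ₂7) (hn6 n₂ hn₂) hc₂
    have b₃ := arith_lower (by positivity) hGn (by exact_mod_cast hτ₃7) (hn6 n₃ hn₃) hc₃
    exact arith_B2 hQ hG2 b₁ b₂ b₃ (by
      have : ((Yc (t3S (Subgroup.centralizer ({x₁} : Set G)))).ncard : ℤ) + ((Yc (t3S (Subgroup.centralizer ({x₂} : Set G)))).ncard : ℤ) + ((Yc (t3S (Subgroup.centralizer ({x₃} : Set G)))).ncard : ℤ) ≤ ((Fpf K m).ncard : ℤ) - ((Yc (plusS T)).ncard : ℤ) := by linarith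
      exact this) hn3

end Dat

end Cfsg.Agent.Lib.Chev.TwG2
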