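import Cfsg.Agent.Lib.Chev.TwG2G

set_option linter.style.haveILetI false
set_option linter.unusedSectionVars false

/-!
# The Ree groups `²G₂`: cyclic Hall subgroups and the orders of the elements
-/

namespace Cfsg.Agent.Lib.Chev.TwG2

open Cfsg.Agent.Lib.Chev Cfsg.Lie Equiv Module
open Cfsg.Agent.Lib
open Cfsg.Agent.Lib.Chev.ReeGen

variable {K : Type*} [Field K] [Fintype K] {m : ℕ}

namespace Dat

variable (R : Ree K m) (d : Dat K (3 ^ m))

local notation "G" => Gm K m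
local notation "Ω" => Gm K m ⧸ B1 K (3 ^ m)

variable {T A : Subgroup (Gm K m)} {w : ℕ} (hP : PlusT T A w)

include R d hP in
/-- Non-trivial subgroups of the tori have the same normaliser. -/
theorem t3_norm_sub {x : G} {p : ℕ} (h : T3 x p) {A₀ : Subgroup G} (hA : A₀ ≤ Subgroup.centralizer ({x} : Set G)) (h1 : A₀ ≠ ⊥) :
    Subgroup.normalizer (A₀ : Set G) = Subgroup.normalizer ((Subgroup.centralizer ({x} : Set G) : Subgroup G) : Set G) := by
  haveI := d.finite_G1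
  haveI := d.t3_cyc R h
  apply le_antisymm _ (normalizer_le_of_cyclic hA)
  haveI : IsCyclic A₀ := isCyclic_of_injective (Subgroup.inclusion hA) (Subgroup.inclusion_injective hA)
  obtain ⟨u, hu, hu1⟩ := (Subgroup.ne_bot_iff_exists_ne_one (H := A₀)).1 h1 |> fun ⟨a, ha⟩ => (⟨a.1, a.2, fun e => ha (Subtype.ext e)⟩ : ∃ x ∈ A₀, x ≠ 1)
  have hox : orderOf u ≠ 1 := fun e => hu1 (orderOf_eq_one_iff.1 e)
  obtain ⟨l, hl, hlx⟩ := Nat.exists_prime_and_dvd hox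
  set y := u ^ (orderOf u / l) with hy
  have hyl : orderOf y = l := orderOf_pow_orderOf_div (orderOf_pos u).ne' hlx
  have hyA₀ : y ∈ A₀ := A₀.pow_mem hu _
  obtain ⟨-, h6⟩ := d.t3_prime R hP h (hA hyA₀) hl hyl
  have h2 : Subgroup.zpowers y ≤ A₀ := by rwa [Subgroup.zpowers_le]
  refine (normalizer_le_of_cyclic h2).trans ?_
  have h3 := norm_zpowers_le_norm_cent y
  rwa [h6] at h3

include R d in
/-- Elements of order nine and six. -/
theorem exists_order_nine : ∃ g : G, orderOf g = 9 := by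
  have hh3 := d.h3
  set w : G := ⟨W (3 ^ m) 1 0 0, d.W_mem _ _ _⟩ with hw
  have h0 : W (3 ^ m) (0 : K) 0 (-1) * W (3 ^ m) 0 0 (-1) * W (3 ^ m) 0 0 (-1) = 1 := by
    rw [d.W_cube]
    simp [d.W_zero]
  have hc : W (3 ^ m) (1 : K) 0 0 * W (3 ^ m) 1 0 0 * W (3 ^ m) 1 0 0 = W (3 ^ m) 0 0 (-1) := by
    rw [d.W_cube]
    simp
  have h3 : (w ^ 3).1 = W (3 ^ m) (0 : K) 0 (-1) := by
    rw [← hc]
    show w.1 ^ 3 = _
    rw [pow_succ, pow_two]
  have h9 : w ^ 9 = 1 := by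
    apply Subtype.ext
    have e : w ^ 9 = (w ^ 3) ^ 3 := by rw [← pow_mul]
    rw [e]
    show (w ^ 3).1 ^ 3 = 1
    rw [h3, pow_succ, pow_two, h0]
  have h31 : w ^ 3 ≠ 1 := by
    intro h
    have h5 := congrArg Subtype.val h
    rw [h3] at h5
    have h6 : W (3 ^ m) (0 : K) 0 (-1) = W (3 ^ m) 0 0 0 := by
      rw [d.W_zero]
      exact h5
    have h7 := (d.W_inj h6).2.2
    exact one_ne_zero (neg_eq_zero.1 h7)
  refine ⟨w, ?_⟩
  have h4 := orderOf_dvd_of_pow_eq_one h9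
  have h5 : orderOf w ∣ 3 ^ 2 := h4
  obtain ⟨i, hi, hi2⟩ := (Nat.dvd_prime_pow Nat.prime_three).1 h5
  have hi3 : i = 2 := by
    by_contra hne
    have h6 : i ≤ 1 := by omega
    apply h31
    rw [← orderOf_dvd_iff_pow_eq_one, hi2]
    calc 3 ^ i ∣ 3 ^ 1 := pow_dvd_pow 3 h6
      _ = 3 := rfl
  rw [hi2, hi3]
  norm_num

include R d in
theorem exists_order_six : ∃ g : G, orderOf g = 6 := by
  have h0 : W (3 ^ m) (0 : K) 1 0 * W (3 ^ m) 0 1 0 * W (3 ^ m) 0 1 0 = 1 := by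
    rw [d.W_cube]
    simp [d.W_zero]
  have hw3 : d.wu 1 ^ 3 = 1 := by
    apply Subtype.ext
    show (d.wu 1).1 ^ 3 = 1
    have e : (d.wu 1).1 = W (3 ^ m) (0 : K) 1 0 := rfl
    rw [e, pow_succ, pow_two, h0]
  have hw1 : d.wu 1 ≠ 1 := by
    intro h
    have h5 : W (3 ^ m) (0 : K) 1 0 = W (3 ^ m) 0 0 0 := by
      rw [d.W_zero]
      exact congrArg Subtype.val h
    exact one_ne_zero (d.W_inj h5).2.1
  have ho3 : orderOf (d.wu 1) = 3 := orderOf_eq_prime hw3 hw1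
  have ho2 : orderOf d.a₀ = 2 := orderOf_eq_prime (by rw [pow_two, d.a₀_sq]) d.a₀_ne
  have hc : Commute d.a₀ (d.wu 1) := by
    have := d.a₀_wu 1
    rw [mul_inv_eq_iff_eq_mul] at this
    exact this
  refine ⟨d.a₀ * d.wu 1, ?_⟩
  rw [hc.orderOf_mul_eq_mul_orderOf_of_coprime (by rw [ho2, ho3]; norm_num), ho2, ho3]

include R d in
theorem exists_order_q : ∃ g : G, orderOf g = Fintype.card K - 1 := by
  classical
  obtain ⟨ζ, hζ⟩ := IsCyclic.exists_generator (α := Kˣ)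
  refine ⟨d.tH R.hs ζ, ?_⟩
  rw [orderOf_injective _ (d.tH_inj R.hs), orderOf_eq_card_of_forall_mem_zpowers hζ, Nat.card_eq_fintype_card, Fintype.card_units]

/-- The divisors. -/
theorem exists_of_dvd {H : Type*} [Group H] [Finite H] {h : H} {n : ℕ} (hn : n ∣ orderOf h) : ∃ g : H, orderOf g = n :=
  ⟨h ^ (orderOf h / n), orderOf_pow_orderOf_div (orderOf_pos h).ne' hn⟩

end Dat

/-- The main theorem on cyclic subgroups. -/
theorem main_S1158 (hm : 1 ≤ m) (hK : Fintype.card K = 3 ^ (2 * m + 1)) :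
    ∀ kn ∈ ({((3 ^ (2 * m + 1) - 1) / 2, 2 * (3 ^ (2 * m + 1) - 1)), ((3 ^ (2 * m + 1) + 1) / 4, 6 * (3 ^ (2 * m + 1) + 1)),
        (3 ^ (2 * m + 1) - 3 ^ (m + 1) + 1, 6 * (3 ^ (2 * m + 1) - 3 ^ (m + 1) + 1)),
        (3 ^ (2 * m + 1) + 3 ^ (m + 1) + 1, 6 * (3 ^ (2 * m + 1) + 3 ^ (m + 1) + 1))} : Set (ℕ × ℕ)),
      ∃ A : Subgroup ↥(Cfsg.Lie.twistedG2 K (3 ^ m)), IsCyclic A ∧ Nat.card A = kn.1 ∧
        Nat.card (Subgroup.normalizer (A : Set ↥(Cfsg.Lie.twistedG2 K (3 ^ m)))) = kn.2 ∧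
        ∀ A₀ : Subgroup ↥(Cfsg.Lie.twistedG2 K (3 ^ m)), A₀ ≤ A → A₀ ≠ ⊥ →
          Subgroup.normalizer (A₀ : Set ↥(Cfsg.Lie.twistedG2 K (3 ^ m))) = Subgroup.normalizer (A : Set ↥(Cfsg.Lie.twistedG2 K (3 ^ m))) := by
  have R : Ree K m := ⟨hm, hK⟩
  obtain ⟨d⟩ := exists_dat hK
  obtain ⟨T, A, w, hP⟩ := d.exists_plus R
  obtain ⟨x₁, x₂, p₁, p₂, h₁, h₂, hτ₁, hτ₂, hN₁, hN₂, -⟩ := d.exists_tori R hP
  rw [← hK]
  intro kn hkn
  simp only [Set.mem_insert_iff, Set.mem_singleton_iff] at hkn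
  rcases hkn with rfl | rfl | rfl | rfl
  · refine ⟨d.Am R.hs, d.isCyclic_Am R.hs, ?_, d.card_norm_Am R, fun A₀ h1 h2 => d.norm_Am_sub R h1 h2⟩
    obtain ⟨k, hk⟩ := R.h8
    rw [d.card_Am R.hs hk]
    simp only
    omega
  · refine ⟨A, hP.cyc_A, ?_, ?_, fun A₀ h1 h2 => d.plus_norm_sub R hP h1 h2⟩
    · rw [hP.card_A]
      simp only
      have := hP.hw
      omega
    · exact d.plus_card_norm R hP
  · refine ⟨_, d.t3_cyc R h₁, hτ₁, ?_, fun A₀ h1 h2 => d.t3_norm_sub R hP h₁ h1 h2⟩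
    simp only
    rw [hN₁, hτ₁]
    ring
  · refine ⟨_, d.t3_cyc R h₂, hτ₂, ?_, fun A₀ h1 h2 => d.t3_norm_sub R hP h₂ h1 h2⟩
    simp only
    rw [hN₂, hτ₂]
    ring

/-- The orders of the elements. -/
theorem main_S1159 (hm : 1 ≤ m) (hK : Fintype.card K = 3 ^ (2 * m + 1)) (n : ℕ) :
    (∃ g : ↥(Cfsg.Lie.twistedG2 K (3 ^ m)), orderOf g = n) ↔
      (n ∣ 6 ∨ n ∣ 9 ∨ n ∣ 3 ^ (2 * m + 1) - 1 ∨ n ∣ (3 ^ (2 * m + 1) + 1) / 2 ∨
        n ∣ 3 ^ (2 * m + 1) - 3 ^ (m + 1) + 1 ∨ n ∣ 3 ^ (2 * m + 1) + 3 ^ (m + 1) + 1) := by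
  have R : Ree K m := ⟨hm, hK⟩
  obtain ⟨d⟩ := exists_dat hK
  obtain ⟨T, A, w, hP⟩ := d.exists_plus R
  obtain ⟨x₁, x₂, p₁, p₂, h₁, h₂, hτ₁, hτ₂, hN₁, hN₂, hall⟩ := d.exists_tori R hP
  haveI := d.finite_G1
  rw [← hK]
  have hw2 : (Fintype.card K + 1) / 2 = 2 * w := by
    have := hP.hw
    omega
  rw [hw2]
  constructor
  · rintro ⟨g, rfl⟩
    by_cases hg : g ∈ Dat.Fpf K m
    · rcases d.fpf_cover R hP hg with h | ⟨l, hl, hlP, hlo⟩
      · obtain ⟨a, t, ht, rfl⟩ := h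
        right; right; right; left
        have h4 := (MulAut.conj a).orderOf_eq t
        rw [MulAut.conj_apply] at h4
        rw [h4]
        exact orderOf_dvd_of_pow_eq_one (hP.exp t ht.1)
      · rcases hall l hl hlP with h3 | h3
        · right; right; right; right; left
          rw [← hτ₁]
          exact Dat.Yc_order (d.t3_cover R hP h₁ (d.fpf_ne_one R hg) hl h3 hlo)
        · right; right; right; right; right
          rw [← hτ₂]
          exact Dat.Yc_order (d.t3_cover R hP h₂ (d.fpf_ne_one R hg) hl h3 hlo)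
    · have h1 : ∃ x : Gm K m ⧸ B1 K (3 ^ m), g • x = x := by
        by_contra hno
        push Not at hno
        exact hg hno
      obtain ⟨x, hx⟩ := h1
      rcases d.order_of_fix R.hs hx with h | h | h
      · exact Or.inr (Or.inl (orderOf_dvd_of_pow_eq_one h))
      · exact Or.inl (orderOf_dvd_of_pow_eq_one h)
      · exact Or.inr (Or.inr (Or.inl (orderOf_dvd_of_pow_eq_one h)))
  · rintro (h | h | h | h | h | h)
    · obtain ⟨g, hg⟩ := d.exists_order_six R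
      exact Dat.exists_of_dvd (by rwa [hg])
    · obtain ⟨g, hg⟩ := d.exists_order_nine R
      exact Dat.exists_of_dvd (by rwa [hg])
    · obtain ⟨g, hg⟩ := d.exists_order_q R
      exact Dat.exists_of_dvd (by rwa [hg])
    · obtain ⟨g, hgT, hg⟩ := hP.gen
      exact Dat.exists_of_dvd (by rwa [hg])
    · haveI := d.t3_cyc R h₁
      obtain ⟨g, hg⟩ := IsCyclic.exists_ofOrder_eq_natCard (α := Subgroup.centralizer ({x₁} : Set (Gm K m)))
      rw [hτ₁] at hg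
      have hg' : orderOf g.1 = _ := (Subgroup.orderOf_coe g).trans hg
      exact Dat.exists_of_dvd (by rwa [hg'])
    · haveI := d.t3_cyc R h₂
      obtain ⟨g, hg⟩ := IsCyclic.exists_ofOrder_eq_natCard (α := Subgroup.centralizer ({x₂} : Set (Gm K m)))
      rw [hτ₂] at hg
      have hg' : orderOf g.1 = _ := (Subgroup.orderOf_coe g).trans hg
      exact Dat.exists_of_dvd (by rwa [hg'])

end Cfsg.Agent.Lib.Chev.TwG2
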