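import Cfsg.Agent.Lib.Chev.TwG2H

set_option linter.style.haveILetI false
set_option linter.unusedSectionVars false

/-!
# The Ree groups `²G₂`: conjugacy of cyclic subgroups of the tori, and their centralisers
-/

namespace Cfsg.Agent.Lib.Chev.TwG2

open Cfsg.Agent.Lib.Chev Cfsg.Lie Equiv Module
open Cfsg.Agent.Lib
open Cfsg.Agent.Lib.Chev.ReeGen

variable {K : Type*} [Field K] [Fintype K] {m : ℕ}

section generic

variable {H : Type*} [Group H]

/-- The centraliser of a conjugate. -/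
theorem cent_map_conj (g : H) (X : Subgroup H) :
    Subgroup.centralizer ((X.map (MulAut.conj g).toMonoidHom : Subgroup H) : Set H) =
      (Subgroup.centralizer (X : Set H)).map (MulAut.conj g).toMonoidHom := by
  ext u
  simp only [Subgroup.mem_map, Subgroup.mem_centralizer_iff, SetLike.mem_coe, MulEquiv.coe_toMonoidHom,
    MulAut.conj_apply]
  constructor
  · intro hu
    refine ⟨g⁻¹ * u * g, ?_, by group⟩
    intro x hx
    have := hu (g * x * g⁻¹) ⟨x, hx, rfl⟩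
    calc x * (g⁻¹ * u * g) = g⁻¹ * ((g * x * g⁻¹) * u) * g := by group
      _ = g⁻¹ * (u * (g * x * g⁻¹)) * g := by rw [this]
      _ = (g⁻¹ * u * g) * x := by group
  · rintro ⟨v, hv, rfl⟩ y ⟨x, hx, rfl⟩
    have := hv x hx
    calc g * x * g⁻¹ * (g * v * g⁻¹) = g * (x * v) * g⁻¹ := by group
      _ = g * (v * x) * g⁻¹ := by rw [this]
      _ = g * v * g⁻¹ * (g * x * g⁻¹) := by group

/-- Going back along a conjugation. -/
theorem map_conj_conj (g : H) (A : Subgroup H) :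
    (A.map (MulAut.conj g⁻¹).toMonoidHom).map (MulAut.conj g).toMonoidHom = A := by
  ext u
  simp only [Subgroup.mem_map, MulEquiv.coe_toMonoidHom, MulAut.conj_apply, exists_exists_and_eq_and]
  constructor
  · rintro ⟨v, hv, rfl⟩
    have e : g * (g⁻¹ * v * g⁻¹⁻¹) * g⁻¹ = v := by group
    rwa [e]
  · intro hu
    refine ⟨u, hu, by group⟩

theorem map_conj_comp (g h : H) (A : Subgroup H) :
    (A.map (MulAut.conj h).toMonoidHom).map (MulAut.conj g).toMonoidHom = A.map (MulAut.conj (g * h)).toMonoidHom := by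
  ext u
  simp only [Subgroup.mem_map, MulEquiv.coe_toMonoidHom, MulAut.conj_apply, exists_exists_and_eq_and]
  constructor
  · rintro ⟨v, hv, rfl⟩
    exact ⟨v, hv, by group⟩
  · rintro ⟨v, hv, rfl⟩
    exact ⟨v, hv, by group⟩

theorem card_map_conj (g : H) (A : Subgroup H) : Nat.card (A.map (MulAut.conj g).toMonoidHom) = Nat.card A :=
  Subgroup.card_map_of_injective (MulAut.conj g).injective

theorem map_conj_eq_bot {g : H} {A : Subgroup H} (h : A.map (MulAut.conj g).toMonoidHom = ⊥) : A = ⊥ := by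
  rw [Subgroup.map_eq_bot_iff] at h
  rw [eq_bot_iff]
  intro x hx
  have := h hx
  rw [Subgroup.mem_bot]
  have e : (MulAut.conj g).toMonoidHom x = g * x * g⁻¹ := rfl
  rw [MonoidHom.mem_ker, e] at this
  have e2 : x = g⁻¹ * (g * x * g⁻¹) * g := by group
  rw [e2, this]
  group

/-- Transport of a "same centraliser" statement along a conjugation. -/
theorem cent_transport {Y C' : Subgroup H} (hc : ∀ X ≤ Y, X ≠ ⊥ → Subgroup.centralizer (X : Set H) = C') (g : H)
    {A₀ : Subgroup H} (hA : A₀ ≤ Y.map (MulAut.conj g).toMonoidHom) (h1 : A₀ ≠ ⊥) :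
    Subgroup.centralizer (A₀ : Set H) = C'.map (MulAut.conj g).toMonoidHom := by
  have h2 : A₀.map (MulAut.conj g⁻¹).toMonoidHom ≤ Y := by
    rintro _ ⟨x, hx, rfl⟩
    obtain ⟨v, hv, rfl⟩ := hA hx
    have e : (MulAut.conj g⁻¹).toMonoidHom ((MulAut.conj g).toMonoidHom v) = v := by
      simp only [MulEquiv.coe_toMonoidHom, MulAut.conj_apply]
      group
    rw [e]
    exact hv
  have h3 : A₀.map (MulAut.conj g⁻¹).toMonoidHom ≠ ⊥ := fun e => h1 (map_conj_eq_bot e)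
  have h4 := hc _ h2 h3
  rw [← h4, ← cent_map_conj, map_conj_conj]

end generic

namespace Dat

variable (R : Ree K m) (d : Dat K (3 ^ m))

local notation "G" => Gm K m
local notation "Ω" => Gm K m ⧸ B1 K (3 ^ m)

variable {T A : Subgroup (Gm K m)} {w : ℕ} (hP : PlusT T A w)

omit R in
include d in
theorem isCyclic_Hh (hs : ∀ y : Kˣ, IsSquare y ∨ IsSquare (-y)) : IsCyclic (d.Hh hs) :=
  isCyclic_of_surjective (d.tH hs).rangeRestrict (MonoidHom.rangeRestrict_surjective _)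

include R d

/-- The centraliser of a non-trivial element of `Am`. -/
theorem cent_Am {x : G} (hx : x ∈ d.Am R.hs) (hx1 : x ≠ 1) : Subgroup.centralizer ({x} : Set G) = d.Hh R.hs := by
  have hodd := d.Am_odd R hx
  have hH := (d.mem_Hh_iff R.hs).1 (d.Am_le R.hs hx)
  have hne := d.pI_ne_pO
  apply le_antisymm
  · intro g hg
    rw [Subgroup.mem_centralizer_singleton_iff] at hg
    have h1 : x • (g • (pI : Ω)) = g • (pI : Ω) := by
      rw [← mul_smul, ← hg, mul_smul, hH.1]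
    have h2 : x • (g • d.pO) = g • d.pO := by
      rw [← mul_smul, ← hg, mul_smul, hH.2]
    have k1 := d.fix_only hodd hx1 hne hH.1 hH.2 h1
    have k2 := d.fix_only hodd hx1 hne hH.1 hH.2 h2
    rw [d.mem_Hh_iff R.hs]
    rcases k1 with k1 | k1 <;> rcases k2 with k2 | k2
    · exfalso
      exact hne (smul_left_cancel _ (k1.trans k2.symm))
    · exact ⟨k1, k2⟩
    · exact (d.swap_false R hx1 hodd hne hH.1 hH.2 k1 k2 hg).elim
    · exfalso
      exact hne (smul_left_cancel _ (k1.trans k2.symm))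
  · intro g hg
    rw [Subgroup.mem_centralizer_singleton_iff]
    exact d.Hh_comm R.hs hg (d.Am_le R.hs hx)

omit R d in
theorem exists_ne_of_ne_bot {X : Subgroup G} (h : X ≠ ⊥) : ∃ x ∈ X, x ≠ 1 := by
  obtain ⟨a, ha⟩ := (Subgroup.ne_bot_iff_exists_ne_one (H := X)).1 h
  exact ⟨a.1, a.2, fun e => ha (Subtype.ext e)⟩

/-- The centraliser of a non-trivial subgroup of `Am`. -/
theorem cent_sub_Am {X : Subgroup G} (hX : X ≤ d.Am R.hs) (h1 : X ≠ ⊥) : Subgroup.centralizer (X : Set G) = d.Hh R.hs := by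
  obtain ⟨x, hx, hx1⟩ := exists_ne_of_ne_bot h1
  apply le_antisymm
  · rw [← d.cent_Am R (hX hx) hx1]
    apply Subgroup.centralizer_le
    simpa using hx
  · intro g hg
    rw [Subgroup.mem_centralizer_iff]
    intro u hu
    exact d.Hh_comm R.hs (d.Am_le R.hs (hX hu)) hg

include hP in
/-- The centraliser of a non-trivial subgroup of `A₊`. -/
theorem cent_sub_plus {X : Subgroup G} (hX : X ≤ A) (h1 : X ≠ ⊥) : Subgroup.centralizer (X : Set G) = T := by
  haveI := d.finite_G1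
  obtain ⟨x, hx, hx1⟩ := exists_ne_of_ne_bot h1
  have ho : orderOf x ≠ 1 := fun e => hx1 (orderOf_eq_one_iff.1 e)
  obtain ⟨l, hl, hlx⟩ := Nat.exists_prime_and_dvd ho
  set y := x ^ (orderOf x / l) with hy
  have hyl : orderOf y = l := orderOf_pow_orderOf_div (orderOf_pos x).ne' hlx
  have hlw : l ∣ w := by
    have h2 := Subgroup.orderOf_dvd_natCard _ (hX hx)
    rw [hP.card_A] at h2
    exact hlx.trans h2
  have hyA : y ∈ A := A.pow_mem (hX hx) _
  apply le_antisymm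
  · rw [← d.plus_cent_A R hP hyA hl hlw hyl]
    intro g hg
    rw [Subgroup.mem_centralizer_iff] at hg
    have h3 := hg x hx
    rw [Subgroup.mem_centralizer_singleton_iff, hy]
    exact ((show Commute x g from h3).pow_left _).symm
  · intro g hg
    rw [Subgroup.mem_centralizer_iff]
    intro u hu
    exact hP.comm _ (hP.A_le (hX hu)) _ hg

omit R d in
include R d in
/-- The general conjugacy lemma. -/
theorem conj_main {D l : ℕ} (hl : l.Prime) (h3 : 3 < l) (hlD : l ∣ D) {Z : Subgroup G} (hZ : IsCyclic Z) {y₀ : G}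
    (hy₀ : orderOf y₀ = l) (hsub : ∀ t, t ∈ Subgroup.centralizer ({y₀} : Set G) → t ^ D = 1 → t ∈ Z)
    {A B : Subgroup G} (hA : IsCyclic A) (hB : IsCyclic B) (hAd : Nat.card A = D) (hBd : Nat.card B = D) :
    ∃ g : G, B = A.map (MulAut.conj g).toMonoidHom := by
  haveI := d.finite_G1
  haveI : Fact l.Prime := ⟨hl⟩
  have key : ∀ X : Subgroup G, IsCyclic X → Nat.card X = D → ∃ h : G, X.map (MulAut.conj h).toMonoidHom ≤ Z := by
    intro X hX hXd
    have h0 : ∃ y : X, orderOf y = l := exists_prime_orderOf_dvd_card' l (by rw [hXd]; exact hlD)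
    obtain ⟨⟨y, hyX⟩, hy⟩ := h0
    have hy' : orderOf y = l := (Subgroup.orderOf_coe (⟨y, hyX⟩ : X)).trans hy
    obtain ⟨h, hh⟩ := d.conj_of_prime R hl h3 hy' hy₀
    refine ⟨h, ?_⟩
    rintro _ ⟨x, hx, rfl⟩
    apply hsub
    · rw [← cent_eq_of_zpowers_eq hh, Subgroup.mem_centralizer_singleton_iff]
      have e : ((⟨x, hx⟩ : X) * ⟨y, hyX⟩) = ⟨y, hyX⟩ * ⟨x, hx⟩ := mul_comm' _ _
      have e' : x * y = y * x := congrArg Subtype.val e
      change h * x * h⁻¹ * (h * y * h⁻¹) = h * y * h⁻¹ * (h * x * h⁻¹)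
      calc h * x * h⁻¹ * (h * y * h⁻¹) = h * (x * y) * h⁻¹ := by group
        _ = h * (y * x) * h⁻¹ := by rw [e']
        _ = h * y * h⁻¹ * (h * x * h⁻¹) := by group
    · change (h * x * h⁻¹) ^ D = 1
      have e : x ^ D = 1 := by
        have := pow_card_eq_one' (x := (⟨x, hx⟩ : X))
        rw [hXd] at this
        exact congrArg Subtype.val this
      rw [conj_pow, e]
      group
  obtain ⟨h₁, h₁Z⟩ := key A hA hAd
  obtain ⟨h₂, h₂Z⟩ := key B hB hBd
  have e : A.map (MulAut.conj h₁).toMonoidHom = B.map (MulAut.conj h₂).toMonoidHom := by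
    apply cyc_sub_eq h₁Z h₂Z
    rw [card_map_conj, card_map_conj, hAd, hBd]
  have e2 := map_conj_conj h₂⁻¹ B
  rw [inv_inv, ← e, map_conj_comp] at e2
  exact ⟨h₂⁻¹ * h₁, e2.symm⟩


/-- The Hall subgroups are conjugate: the case of the divisors of `(q - 1) / 2`. -/
theorem conj_case1 {D : ℕ} (hD : D ∣ (Fintype.card K - 1) / 2) (hD1 : D ≠ 1)
    {A B : Subgroup G} (hA : IsCyclic A) (hB : IsCyclic B) (hAd : Nat.card A = D) (hBd : Nat.card B = D) :
    ∃ g : G, B = A.map (MulAut.conj g).toMonoidHom := by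
  haveI := d.finite_G1
  obtain ⟨l, hl, hlD⟩ := Nat.exists_prime_and_dvd hD1
  haveI : Fact l.Prime := ⟨hl⟩
  obtain ⟨k, hk⟩ := R.h8
  have hcard := d.card_Am R.hs hk
  have hq := R.three_dvd
  have hlA : l ∣ 4 * k + 1 := by
    have : (Fintype.card K - 1) / 2 = 4 * k + 1 := by omega
    rw [← this]
    exact hlD.trans hD
  have h2 : l ≠ 2 := by
    rintro rfl
    omega
  have h3' : l ≠ 3 := by
    rintro rfl
    omega
  have h3 : 3 < l := by
    have := hl.two_le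
    omega
  have h0 : ∃ y : d.Am R.hs, orderOf y = l := exists_prime_orderOf_dvd_card' l (by rw [hcard]; exact hlA)
  obtain ⟨y, hy⟩ := h0
  have hy' : orderOf y.1 = l := (Subgroup.orderOf_coe y).trans hy
  have hy1 : y.1 ≠ 1 := by
    intro e
    rw [e, orderOf_one] at hy'
    exact hl.one_lt.ne hy'
  refine d.conj_main R hl h3 hlD (d.isCyclic_Hh R.hs) hy' ?_ hA hB hAd hBd
  intro t ht _
  rwa [d.cent_Am R y.2 hy1] at ht

include hP in
/-- The case of the divisors of `(q + 1) / 4`. -/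
theorem conj_case2 {D : ℕ} (hD : D ∣ w) (hD1 : D ≠ 1)
    {A₁ B : Subgroup G} (hA : IsCyclic A₁) (hB : IsCyclic B) (hAd : Nat.card A₁ = D) (hBd : Nat.card B = D) :
    ∃ g : G, B = A₁.map (MulAut.conj g).toMonoidHom := by
  haveI := d.finite_G1
  obtain ⟨l, hl, hlD⟩ := Nat.exists_prime_and_dvd hD1
  have hlw := hlD.trans hD
  have h7 := R.prime_ge hP.hw hP.hodd hl hlw
  obtain ⟨y, hyA, hy⟩ := d.plus_exists_elt R hP hl hlw
  refine d.conj_main R hl (by omega) hlD hP.cyc_A hy ?_ hA hB hAd hBd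
  intro t ht ht1
  rw [d.plus_cent_A R hP hyA hl hlw hy] at ht
  apply hP.A_of t ht
  obtain ⟨c, hc⟩ := hD
  rw [hc, pow_mul, ht1, one_pow]

include hP in
/-- The case of the divisors of the `τᵢ`. -/
theorem conj_case3 {x : G} {p : ℕ} (h : T3 x p) {D : ℕ} (hD : D ∣ Nat.card (Subgroup.centralizer ({x} : Set G))) (hD1 : D ≠ 1)
    {A₁ B : Subgroup G} (hA : IsCyclic A₁) (hB : IsCyclic B) (hAd : Nat.card A₁ = D) (hBd : Nat.card B = D) :
    ∃ g : G, B = A₁.map (MulAut.conj g).toMonoidHom := by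
  obtain ⟨l, hl, hlD⟩ := Nat.exists_prime_and_dvd hD1
  have hlw := hlD.trans hD
  obtain ⟨y, hyA, hy⟩ := d.t3_exists_elt R hP h hl hlw
  obtain ⟨h5, h6⟩ := d.t3_prime R hP h hyA hl hy
  have h7 := R.prime_ge_P hl h5
  refine d.conj_main R hl (by omega) hlD (d.t3_cyc R h) hy ?_ hA hB hAd hBd
  intro t ht _
  rwa [h6] at ht

end Dat

omit [Fintype K] in
theorem eq_bot_of_card_one' {H : Type*} [Group H] {A : Subgroup H} (h : Nat.card A = 1) : A = ⊥ :=
  Subgroup.eq_bot_of_card_eq A h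

/-- S2358: cyclic subgroups of the tori are conjugate. -/
theorem main_S2358 (hm : 1 ≤ m) (hK : Fintype.card K = 3 ^ (2 * m + 1)) (D : ℕ)
    (hd : D ∣ (3 ^ (2 * m + 1) - 1) / 2 ∨ D ∣ (3 ^ (2 * m + 1) + 1) / 4 ∨ D ∣ 3 ^ (2 * m + 1) - 3 ^ (m + 1) + 1 ∨ D ∣ 3 ^ (2 * m + 1) + 3 ^ (m + 1) + 1)
    (A B : Subgroup ↥(Cfsg.Lie.twistedG2 K (3 ^ m))) (hA : IsCyclic A) (hB : IsCyclic B)
    (hAd : Nat.card A = D) (hBd : Nat.card B = D) :
    ∃ g : ↥(Cfsg.Lie.twistedG2 K (3 ^ m)), B = A.map (MulAut.conj g).toMonoidHom := by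
  have R : Ree K m := ⟨hm, hK⟩
  obtain ⟨d⟩ := exists_dat hK
  by_cases hD1 : D = 1
  · subst hD1
    refine ⟨1, ?_⟩
    rw [eq_bot_of_card_one' hAd, eq_bot_of_card_one' hBd, Subgroup.map_bot]
  obtain ⟨T, A₁, w, hP⟩ := d.exists_plus R
  obtain ⟨x₁, x₂, p₁, p₂, h₁, h₂, hτ₁, hτ₂, hN₁, hN₂, -⟩ := d.exists_tori R hP
  rw [← hK] at hd
  rcases hd with h | h | h | h
  · exact d.conj_case1 R h hD1 hA hB hAd hBd
  · have e : (Fintype.card K + 1) / 4 = w := by
      have := hP.hw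
      omega
    rw [e] at h
    exact d.conj_case2 R hP h hD1 hA hB hAd hBd
  · rw [← hτ₁] at h
    exact d.conj_case3 R hP h₁ h hD1 hA hB hAd hBd
  · rw [← hτ₂] at h
    exact d.conj_case3 R hP h₂ h hD1 hA hB hAd hBd

/-- S2359: the centralisers of the tori. -/
theorem main_S2359 (hm : 1 ≤ m) (hK : Fintype.card K = 3 ^ (2 * m + 1)) (H : Subgroup ↥(Cfsg.Lie.twistedG2 K (3 ^ m))) (hH : IsCyclic H) :
    (Nat.card H = (3 ^ (2 * m + 1) - 1) / 2 →
      IsCyclic ↥(Subgroup.centralizer (H : Set ↥(Cfsg.Lie.twistedG2 K (3 ^ m)))) ∧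
        Nat.card ↥(Subgroup.centralizer (H : Set ↥(Cfsg.Lie.twistedG2 K (3 ^ m)))) = 3 ^ (2 * m + 1) - 1 ∧
        ∀ A : Subgroup ↥(Cfsg.Lie.twistedG2 K (3 ^ m)), A ≤ H → A ≠ ⊥ →
          Subgroup.centralizer (A : Set ↥(Cfsg.Lie.twistedG2 K (3 ^ m))) = Subgroup.centralizer (H : Set ↥(Cfsg.Lie.twistedG2 K (3 ^ m)))) ∧
    (Nat.card H = (3 ^ (2 * m + 1) + 1) / 4 →
      IsMulCommutative ↥(Subgroup.centralizer (H : Set ↥(Cfsg.Lie.twistedG2 K (3 ^ m)))) ∧
        Nat.card ↥(Subgroup.centralizer (H : Set ↥(Cfsg.Lie.twistedG2 K (3 ^ m)))) = 3 ^ (2 * m + 1) + 1 ∧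
        (∀ x ∈ Subgroup.centralizer (H : Set ↥(Cfsg.Lie.twistedG2 K (3 ^ m))), orderOf x ≠ 4) ∧
        ∀ A : Subgroup ↥(Cfsg.Lie.twistedG2 K (3 ^ m)), A ≤ H → A ≠ ⊥ →
          Subgroup.centralizer (A : Set ↥(Cfsg.Lie.twistedG2 K (3 ^ m))) = Subgroup.centralizer (H : Set ↥(Cfsg.Lie.twistedG2 K (3 ^ m)))) := by
  have R : Ree K m := ⟨hm, hK⟩
  obtain ⟨d⟩ := exists_dat hK
  obtain ⟨T, A₁, w, hP⟩ := d.exists_plus R
  haveI := d.finite_G1
  have hq := R.q_ge
  constructor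
  · intro hc
    obtain ⟨k, hk⟩ := R.h8
    have hAm := d.card_Am R.hs hk
    obtain ⟨g, rfl⟩ := main_S2358 hm hK _ (Or.inl dvd_rfl) (d.Am R.hs) H (d.isCyclic_Am R.hs) hH (by rw [hAm, ← hK]; omega) hc
    have hne : d.Am R.hs ≠ ⊥ := by
      obtain ⟨x, hx, hx1⟩ := d.Am_exists R
      rintro h
      rw [h] at hx
      exact hx1 hx
    have hC := d.cent_sub_Am R le_rfl hne
    rw [cent_map_conj, hC]
    refine ⟨?_, ?_, ?_⟩
    · haveI : IsCyclic (d.Hh R.hs) := d.isCyclic_Hh R.hs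
      exact Dat.isCyclic_map _ _
    · rw [card_map_conj, d.card_Hh R.hs, hK]
    · intro A₀ h1 h2
      rw [cent_transport (fun X hX hX1 => d.cent_sub_Am R hX hX1) g h1 h2]
  · intro hc
    have hw : (3 ^ (2 * m + 1) + 1) / 4 = w := by
      have := hP.hw
      rw [hK] at this
      omega
    rw [hw] at hc
    have hw1 : w ≠ 1 := by
      have := hP.hw
      omega
    obtain ⟨g, rfl⟩ := d.conj_case2 R hP dvd_rfl hw1 hP.cyc_A hH hP.card_A hc
    have hne : A₁ ≠ ⊥ := by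
      rintro rfl
      have h1 := hP.card_A
      rw [Nat.card_eq_one_iff_unique.2 ⟨inferInstance, inferInstance⟩] at h1
      exact hw1 h1.symm
    have hC := d.cent_sub_plus R hP le_rfl hne
    rw [cent_map_conj, hC]
    refine ⟨?_, ?_, ?_, ?_⟩
    · constructor
      constructor
      rintro ⟨_, a, ha, rfl⟩ ⟨_, b, hb, rfl⟩
      apply Subtype.ext
      change g * a * g⁻¹ * (g * b * g⁻¹) = g * b * g⁻¹ * (g * a * g⁻¹)
      calc g * a * g⁻¹ * (g * b * g⁻¹) = g * (a * b) * g⁻¹ := by group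
        _ = g * (b * a) * g⁻¹ := by rw [hP.comm a ha b hb]
        _ = g * b * g⁻¹ * (g * a * g⁻¹) := by group
    · rw [card_map_conj, hP.card_T, hK]
    · rintro _ ⟨a, ha, rfl⟩ h4
      have h5 := (MulAut.conj g).orderOf_eq a
      change orderOf (g * a * g⁻¹) = 4 at h4
      rw [MulAut.conj_apply] at h5
      rw [h5] at h4
      have h6 := orderOf_dvd_of_pow_eq_one (hP.exp a ha)
      rw [h4] at h6
      obtain ⟨c, hc'⟩ := hP.hodd
      omega
    · intro A₀ h1 h2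
      rw [cent_transport (fun X hX hX1 => d.cent_sub_plus R hP hX hX1) g h1 h2]

end Cfsg.Agent.Lib.Chev.TwG2
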