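import Cfsg.Agent.Lib.Chev.TwG2I

set_option linter.style.haveILetI false
set_option linter.unusedSectionVars false

/-!
# The Ree groups `²G₂`: the number of elements of a given order
-/

namespace Cfsg.Agent.Lib.Chev.TwG2

open Cfsg.Agent.Lib.Chev Cfsg.Lie Equiv Module
open Cfsg.Agent.Lib
open Cfsg.Agent.Lib.Chev.ReeGen

variable {K : Type*} [Field K] [Fintype K] {m : ℕ}

section generic

variable {H : Type*} [Group H] [Finite H]

theorem card_order_of_Yc {S : Set H} {N : Subgroup H} {n : ℕ} (hS : ∀ a, ∀ t ∈ S, (a * t * a⁻¹ ∈ S ↔ a ∈ N))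
    (hY : Yc S = {g | orderOf g = n}) :
    Nat.card {g : H // orderOf g = n} * Nat.card N = Nat.card H * S.ncard := by
  have h := ti_count S N hS
  rw [hY] at h
  rw [← h, ← Nat.card_coe_set_eq]
  rfl

theorem card_order_cyc (C : Subgroup H) [IsCyclic C] {i : ℕ} (hi : i ∣ Nat.card C) :
    ({t | t ∈ C ∧ orderOf t = i} : Set H).ncard = Nat.totient i := by
  classical
  haveI := Fintype.ofFinite C
  have h1 := IsCyclic.card_orderOf_eq_totient (α := C) (d := i) (by rwa [← Nat.card_eq_fintype_card])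
  rw [← h1, ← Set.ncard_coe_finset]
  have e : ({t | t ∈ C ∧ orderOf t = i} : Set H) = Subtype.val '' (↑(Finset.univ.filter fun a : C => orderOf a = i) : Set C) := by
    ext t
    constructor
    · rintro ⟨h2, h3⟩
      refine ⟨⟨t, h2⟩, ?_, rfl⟩
      simp only [Finset.coe_filter, Finset.mem_univ, true_and, Set.mem_ofPred_eq]
      exact (Subgroup.orderOf_mk t h2).trans h3
    · rintro ⟨a, ha, rfl⟩
      simp only [Finset.coe_filter, Finset.mem_univ, true_and, Set.mem_ofPred_eq] at ha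
      exact ⟨a.2, (Subgroup.orderOf_coe a).trans ha⟩
  rw [e, Set.ncard_image_of_injective _ Subtype.val_injective]

/-- A uniform conjugation condition. -/
theorem torus_ti {Cc A₀ : Subgroup H} (ha : ∀ u ∈ A₀, u ≠ 1 → Subgroup.centralizer ({u} : Set H) = Cc)
    (hb : ∀ t ∈ Cc, t * t ∈ A₀) (hb' : ∀ u ∈ A₀, ∃ t ∈ Cc, u = t * t) {n : ℕ} (hn : 2 < n) (a : H) {t : H}
    (ht : t ∈ ({t | t ∈ Cc ∧ orderOf t = n} : Set H)) :
    a * t * a⁻¹ ∈ ({t | t ∈ Cc ∧ orderOf t = n} : Set H) ↔ a ∈ Subgroup.normalizer (A₀ : Set H) := by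
  obtain ⟨htC, hto⟩ := ht
  have ht1 : t * t ≠ 1 := by
    intro h
    have h2 : t ^ 2 = 1 := by rwa [pow_two]
    have h3 := Nat.le_of_dvd (by norm_num) (orderOf_dvd_of_pow_eq_one h2)
    omega
  have key : ∀ v ∈ Cc, a * (t * t) * a⁻¹ ∈ A₀ → a * v * a⁻¹ ∈ Cc := by
    intro v hv h1
    have h2 : a * (t * t) * a⁻¹ ≠ 1 := by
      intro h3
      apply ht1
      have e : t * t = a⁻¹ * (a * (t * t) * a⁻¹) * a := by group
      rw [e, h3]
      group
    rw [← ha _ h1 h2, mem_cent_conj, ha _ (hb t htC) ht1]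
    have e : a⁻¹ * (a * v * a⁻¹) * a = v := by group
    rwa [e]
  have hmul : ∀ s : H, a * (s * s) * a⁻¹ = (a * s * a⁻¹) * (a * s * a⁻¹) := fun s => by group
  constructor
  · rintro ⟨h1, -⟩
    apply mem_norm_of_conj_le
    intro v hv
    obtain ⟨s, hs, rfl⟩ := hb' v hv
    rw [hmul]
    apply hb
    apply key _ hs
    rw [hmul]
    exact hb _ h1
  · intro h1
    have h2 : a * (t * t) * a⁻¹ ∈ A₀ := (Subgroup.mem_set_normalizer_iff.1 h1 _).1 (hb t htC)
    refine ⟨key t htC h2, ?_⟩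
    have h3 := (MulAut.conj a).orderOf_eq t
    rw [MulAut.conj_apply] at h3
    rw [h3, hto]

/-- A uniform count. -/
theorem torus_count {Cc A₀ : Subgroup H} (ha : ∀ u ∈ A₀, u ≠ 1 → Subgroup.centralizer ({u} : Set H) = Cc)
    (hb : ∀ t ∈ Cc, t * t ∈ A₀) (hb' : ∀ u ∈ A₀, ∃ t ∈ Cc, u = t * t) {n : ℕ} (hn : 2 < n)
    (hcov : ∀ g : H, orderOf g = n → ∃ h : H, h * g * h⁻¹ ∈ Cc) :
    Nat.card {g : H // orderOf g = n} * Nat.card (Subgroup.normalizer (A₀ : Set H)) =
      Nat.card H * ({t | t ∈ Cc ∧ orderOf t = n} : Set H).ncard := by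
  apply card_order_of_Yc (fun a t ht => torus_ti ha hb hb' hn a ht)
  ext g
  constructor
  · rintro ⟨a, t, ht, rfl⟩
    have h3 := (MulAut.conj a).orderOf_eq t
    rw [MulAut.conj_apply] at h3
    simp only [Set.mem_ofPred_eq]
    rw [h3]
    exact ht.2
  · intro hg
    obtain ⟨h, hh⟩ := hcov g hg
    refine ⟨h⁻¹, h * g * h⁻¹, ⟨hh, ?_⟩, by group⟩
    have h3 := (MulAut.conj h).orderOf_eq g
    rw [MulAut.conj_apply] at h3
    rw [h3]
    exact hg

end generic

namespace Dat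

variable (R : Ree K m) (d : Dat K (3 ^ m))

local notation "G" => Gm K m
local notation "Ω" => Gm K m ⧸ B1 K (3 ^ m)

variable {T A : Subgroup (Gm K m)} {w : ℕ} (hP : PlusT T A w)

include R d

/-- The covering by conjugates of the centraliser of an element of prime order. -/
theorem cover_of_prime {Cc : Subgroup G} {y₀ : G} {l n : ℕ} (hl : l.Prime) (h3 : 3 < l) (hy₀ : orderOf y₀ = l)
    (hC : Subgroup.centralizer ({y₀} : Set G) = Cc) (hln : l ∣ n) (g : G) (hg : orderOf g = n) : ∃ h : G, h * g * h⁻¹ ∈ Cc := by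
  haveI := d.finite_G1
  subst hg
  have hz : orderOf (g ^ (orderOf g / l)) = l := orderOf_pow_orderOf_div (orderOf_pos g).ne' hln
  obtain ⟨h, hh⟩ := d.conj_of_prime R hl h3 hz hy₀
  refine ⟨h, ?_⟩
  rw [← hC, ← cent_eq_of_zpowers_eq hh, mem_cent_conj, Subgroup.mem_centralizer_singleton_iff]
  have e : h⁻¹ * (h * g * h⁻¹) * h = g := by group
  rw [e]
  exact ((Commute.refl g).pow_left _).symm

/-- Elements fixing two points have order dividing `q - 1`. -/
theorem fix_two_dvd {t : G} {x y : Ω} (hxy : x ≠ y) (h1 : t • x = x) (h2 : t • y = y) : orderOf t ∣ Fintype.card K - 1 := by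
  obtain ⟨g, rfl, rfl⟩ := d.two_trans hxy
  have hz : g⁻¹ * t * g ∈ d.Hh R.hs := (d.mem_Hh_iff R.hs).2 ⟨(conj_fix _ _ _).2 h1, (conj_fix _ _ _).2 h2⟩
  have h3 := Subgroup.orderOf_dvd_natCard _ hz
  rw [d.card_Hh R.hs] at h3
  have h4 := (MulAut.conj g⁻¹).orderOf_eq t
  rw [MulAut.conj_apply, inv_inv] at h4
  rwa [h4] at h3

theorem not_three_dvd : ¬ 3 ∣ Fintype.card K - 1 := by
  have h := R.three_dvd
  have hq := R.q_ge
  omega

/-- An element of order divisible by three has at most one fixed point. -/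
theorem fix_unique {g : G} (h3 : 3 ∣ orderOf g) {x y : Ω} (h1 : g • x = x) (h2 : g • y = y) : x = y := by
  by_contra hne
  exact d.not_three_dvd R (h3.trans (d.fix_two_dvd R hne h1 h2))

/-- An element of order divisible by three has a fixed point. -/
theorem exists_fix {g : G} (h3 : 3 ∣ orderOf g) : ∃ x : Ω, g • x = x := by
  haveI := d.finite_G1
  have hz : orderOf (g ^ (orderOf g / 3)) = 3 := orderOf_pow_orderOf_div (orderOf_pos g).ne' h3
  obtain ⟨x, hx⟩ := d.prime_fix R Nat.prime_three hz (Or.inl R.three_dvd)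
  refine ⟨x, d.fix_unique R (by rw [hz]) ?_ hx⟩
  have hc : g ^ (orderOf g / 3) * g = g * g ^ (orderOf g / 3) := ((Commute.refl g).pow_left _)
  rw [← mul_smul, hc, mul_smul, hx]

/-- Counting elements of order divisible by three. -/
theorem borel_count {n : ℕ} (h3 : 3 ∣ n) :
    Nat.card {g : G // orderOf g = n} * Nat.card (B1 K (3 ^ m)) = Nat.card G * ({t | t ∈ B1 K (3 ^ m) ∧ orderOf t = n} : Set G).ncard := by
  haveI := d.finite_G1
  apply card_order_of_Yc
  · rintro a t ⟨ht, hto⟩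
    have ho := (MulAut.conj a).orderOf_eq t
    rw [MulAut.conj_apply] at ho
    constructor
    · rintro ⟨h1, -⟩
      have h2 : (a * t * a⁻¹) • (pI : Ω) = pI := (d.fix_pI).2 h1
      have h4 : t • (a⁻¹ • (pI : Ω)) = a⁻¹ • (pI : Ω) := by
        apply (conj_fix a⁻¹ t _).1
        rwa [inv_inv]
      have h5 := d.fix_unique R (by rwa [hto]) h4 ((d.fix_pI).2 ht)
      have h6 : a⁻¹ ∈ B1 K (3 ^ m) := (d.fix_pI).1 h5
      simpa using h6
    · intro ha
      refine ⟨Subgroup.mul_mem _ (Subgroup.mul_mem _ ha ht) (Subgroup.inv_mem _ ha), ?_⟩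
      rw [ho, hto]
  · ext g
    constructor
    · rintro ⟨a, t, ⟨-, ht⟩, rfl⟩
      have ho := (MulAut.conj a).orderOf_eq t
      rw [MulAut.conj_apply] at ho
      simp only [Set.mem_ofPred_eq]
      rw [ho, ht]
    · intro hg
      have hg' : orderOf g = n := hg
      obtain ⟨x, hx⟩ := d.exists_fix R (by rwa [hg'])
      obtain ⟨a, rfl⟩ := QuotientGroup.mk_surjective x
      refine ⟨a, a⁻¹ * g * a, ⟨(d.fix_mk _ _).1 hx, ?_⟩, by group⟩
      have ho := (MulAut.conj a⁻¹).orderOf_eq g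
      rw [MulAut.conj_apply, inv_inv] at ho
      rw [ho, hg']

omit R in
/-- The elements of the unipotent group. -/
noncomputable def wW (t u v : K) : G := ⟨W (3 ^ m) t u v, d.W_mem _ _ _⟩

omit R in
theorem wW_inj {t u v t' u' v' : K} (h : d.wW t u v = d.wW t' u' v') : t = t' ∧ u = u' ∧ v = v' :=
  d.W_inj (congrArg Subtype.val h)

omit R in
theorem wW_mul (t u v t' u' v' : K) : d.wW t u v * d.wW t' u' v' =
    d.wW (t + t') (u + u' - t * (d.f t') ^ 3) (v + v' - t' * u - t ^ 2 * (d.f t') ^ 3 + t * t' * (d.f t') ^ 3) :=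
  Subtype.ext (d.W_mul t u v t' u' v')

omit R in
theorem wW_one : d.wW (0 : K) 0 0 = 1 := Subtype.ext d.W_zero

omit R in
theorem wW_mem (t u v : K) : d.wW t u v ∈ B1 K (3 ^ m) :=
  d.bru.hUB (Subgroup.mem_subgroupOf.2 ⟨d.W_mem_U _ _ _, d.W_mem _ _ _⟩)

omit R in
theorem wW_cube (t u v : K) : d.wW t u v ^ 3 = d.wW 0 0 (-(t ^ 2 * (d.f t) ^ 3)) := by
  apply Subtype.ext
  have e : (d.wW t u v ^ 3).1 = W (3 ^ m) t u v * W (3 ^ m) t u v * W (3 ^ m) t u v := by
    show (d.wW t u v).1 ^ 3 = _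
    rw [pow_succ, pow_two]
    rfl
  rw [e, d.W_cube]
  rfl

omit R in
theorem wW_zero_cube (u v : K) : d.wW 0 u v ^ 3 = 1 := by
  rw [d.wW_cube]
  simp [d.wW_one]

omit R in
theorem wW_nine (t u v : K) : d.wW t u v ^ 9 = 1 := by
  have e : d.wW t u v ^ 9 = (d.wW t u v ^ 3) ^ 3 := by rw [← pow_mul]
  rw [e, d.wW_cube, d.wW_zero_cube]

omit R in
theorem wW_conj (t u v : K) : d.a₀ * d.wW t u v * d.a₀⁻¹ = d.wW (-t) u (-v) := Subtype.ext (d.a₀_W t u v)

omit R in
/-- The square of an element of the coset of `a₀`. -/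
theorem wWa_sq (t u v : K) : (d.wW t u v * d.a₀) * (d.wW t u v * d.a₀) = d.wW 0 (-(u - t * (d.f t) ^ 3)) (t * (u - t * (d.f t) ^ 3)) := by
  have e0 : d.a₀⁻¹ = d.a₀ := inv_eq_of_mul_eq_one_left d.a₀_sq
  have e1 : (d.wW t u v * d.a₀) * (d.wW t u v * d.a₀) = d.wW t u v * (d.a₀ * d.wW t u v * d.a₀⁻¹) := by
    rw [e0]
    have e2 := d.a₀_sq
    calc (d.wW t u v * d.a₀) * (d.wW t u v * d.a₀) = d.wW t u v * (d.a₀ * d.wW t u v * d.a₀) := by group
      _ = _ := rfl
  rw [e1, d.wW_conj, d.wW_mul, add_neg_cancel]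
  have h3 := d.h3
  have hf : d.f (-t) = - d.f t := map_neg _ _
  rw [hf]
  congr 1
  · linear_combination u * h3
  · linear_combination (t ^ 2 * (d.f t) ^ 3) * h3

omit R in
theorem wWa_six (t u v : K) : (d.wW t u v * d.a₀) ^ 6 = 1 := by
  have e : (d.wW t u v * d.a₀) ^ 6 = ((d.wW t u v * d.a₀) * (d.wW t u v * d.a₀)) ^ 3 := by
    rw [← pow_two, ← pow_mul]
  rw [e, d.wWa_sq, d.wW_zero_cube]

omit R in
theorem a₀_ne_wW (t u v : K) : d.a₀ ≠ d.wW t u v := by
  intro h
  apply d.a₀_ne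
  have h1 := d.wW_nine t u v
  rw [← h] at h1
  have e : d.a₀ ^ 9 = (d.a₀ * d.a₀) ^ 4 * d.a₀ := by
    simp only [← pow_two, ← pow_mul, ← pow_succ]
  rw [e, d.a₀_sq] at h1
  simpa using h1

omit R in
theorem wWa_cube_ne (t u v : K) : (d.wW t u v * d.a₀) ^ 3 ≠ 1 := by
  intro h
  have e : (d.wW t u v * d.a₀) ^ 3 = (d.wW t u v * d.a₀) * (d.wW t u v * d.a₀) * (d.wW t u v * d.a₀) := by
    rw [pow_succ, pow_two]
  rw [e, d.wWa_sq, ← mul_assoc, d.wW_mul] at h
  have e0 : d.a₀⁻¹ = d.a₀ := inv_eq_of_mul_eq_one_left d.a₀_sq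
  have h1 := eq_inv_of_mul_eq_one_left h
  rw [e0] at h1
  exact d.a₀_ne_wW _ _ _ h1.symm

/-- The form of the elements of the Borel subgroup. -/
theorem B_cases {b : G} (hb : b ∈ B1 K (3 ^ m)) :
    (∃ t u v : K, b = d.wW t u v) ∨ (∃ t u v : K, b = d.wW t u v * d.a₀) ∨ b ^ (Fintype.card K - 1) = 1 := by
  obtain ⟨t, u, v, y, eb⟩ := d.B_form hb
  by_cases hy : y * y = 1
  · have hy' : (y : K) * y = 1 := by
      have := congrArg Units.val hy
      simpa using this
    rcases mul_self_eq_one_iff.1 hy' with h4 | h4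
    · left
      have h5 : y = 1 := Units.ext h4
      rw [h5, d.cOf_one, tor_one, mul_one] at eb
      exact ⟨t, u, v, Subtype.ext eb⟩
    · right; left
      have h5 : y = -1 := Units.ext (by simpa using h4)
      subst h5
      exact ⟨t, u, v, Subtype.ext eb⟩
  · right; right
    have hb2 : b ^ (Fintype.card K - 1) = 1 := by
      obtain ⟨w, hw⟩ := d.conj_tor R.hs t u v hy
      have e1 : b = (⟨W (3 ^ m) t u v, d.W_mem _ _ _⟩ : G) * ⟨tor RootG2T.R chevG2 (d.cOf y), d.tor_mem R.hs y⟩ :=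
        Subtype.ext eb
      rw [← e1] at hw
      have e2 : (w⁻¹ * b * w) ^ (Fintype.card K - 1) = 1 := by
        rw [hw]
        apply Subtype.ext
        have e3 : ((⟨tor RootG2T.R chevG2 (d.cOf y), d.tor_mem R.hs y⟩ : G) ^ (Fintype.card K - 1)).1 =
            (d.torHom R.hs y ^ (Fintype.card K - 1)).1 := rfl
        have e4 : y ^ (Fintype.card K - 1) = 1 := by
          classical
          rw [← Fintype.card_units]
          exact pow_card_eq_one
        rw [e3, ← map_pow, e4, map_one]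
        rfl
      have e3 : (w⁻¹ * b * w) ^ (Fintype.card K - 1) = w⁻¹ * b ^ (Fintype.card K - 1) * w := by
        have := conj_pow (a := w⁻¹) (b := b) (i := Fintype.card K - 1)
        rwa [inv_inv] at this
      rw [e3] at e2
      have e4 : b ^ (Fintype.card K - 1) = w * (w⁻¹ * b ^ (Fintype.card K - 1) * w) * w⁻¹ := by group
      rw [e4, e2]
      group
    exact hb2

include R d in
/-- The elements of order three in the Borel subgroup. -/
theorem Sb_three : ({t | t ∈ B1 K (3 ^ m) ∧ orderOf t = 3} : Set G) = Set.range (fun p : {p : K × K // p ≠ 0} => d.wW 0 p.1.1 p.1.2) := by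
  ext b
  constructor
  · rintro ⟨hb, ho⟩
    rcases d.B_cases R hb with ⟨t, u, v, rfl⟩ | ⟨t, u, v, rfl⟩ | h
    · have ht : t = 0 := by
        by_contra ht
        have h1 : d.wW t u v ^ 3 = 1 := by
          have := pow_orderOf_eq_one (d.wW t u v)
          rwa [ho] at this
        rw [d.wW_cube, ← d.wW_one] at h1
        have h2 := (d.wW_inj h1).2.2
        rw [neg_eq_zero] at h2
        have h4 : d.f t ≠ 0 := by
          simpa using ht
        exact (mul_ne_zero (pow_ne_zero 2 ht) (pow_ne_zero 3 h4)) h2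
      subst ht
      have hp : (u, v) ≠ (0 : K × K) := by
        intro h
        have h1 : u = 0 := congrArg Prod.fst h
        have h2 : v = 0 := congrArg Prod.snd h
        subst h1 h2
        rw [d.wW_one, orderOf_one] at ho
        omega
      exact ⟨⟨(u, v), hp⟩, rfl⟩
    · have := pow_orderOf_eq_one (d.wW t u v * d.a₀)
      rw [ho] at this
      exact absurd this (d.wWa_cube_ne t u v)
    · exfalso
      apply d.not_three_dvd R
      rw [← ho]
      exact orderOf_dvd_of_pow_eq_one h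
  · rintro ⟨⟨⟨u, v⟩, hp⟩, rfl⟩
    haveI : Fact (Nat.Prime 3) := ⟨Nat.prime_three⟩
    refine ⟨d.wW_mem _ _ _, orderOf_eq_prime (d.wW_zero_cube u v) ?_⟩
    intro h
    rw [← d.wW_one] at h
    obtain ⟨-, h1, h2⟩ := d.wW_inj h
    subst h1 h2
    exact hp rfl

include R d in
/-- The elements of order nine in the Borel subgroup. -/
theorem Sb_nine : ({t | t ∈ B1 K (3 ^ m) ∧ orderOf t = 9} : Set G) = Set.range (fun p : Kˣ × K × K => d.wW p.1 p.2.1 p.2.2) := by
  ext b
  constructor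
  · rintro ⟨hb, ho⟩
    rcases d.B_cases R hb with ⟨t, u, v, rfl⟩ | ⟨t, u, v, rfl⟩ | h
    · have ht : t ≠ 0 := by
        rintro rfl
        have h1 := orderOf_dvd_of_pow_eq_one (d.wW_zero_cube u v)
        rw [ho] at h1
        omega
      exact ⟨(Units.mk0 t ht, u, v), rfl⟩
    · have h1 := orderOf_dvd_of_pow_eq_one (d.wWa_six t u v)
      rw [ho] at h1
      omega
    · exfalso
      apply d.not_three_dvd R
      have h1 := orderOf_dvd_of_pow_eq_one h
      rw [ho] at h1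
      exact (by norm_num : 3 ∣ 9).trans h1
  · rintro ⟨⟨t, u, v⟩, rfl⟩
    refine ⟨d.wW_mem _ _ _, ?_⟩
    have h1 := orderOf_dvd_of_pow_eq_one (d.wW_nine (t : K) u v)
    have h2 : orderOf (d.wW (t : K) u v) ∣ 3 ^ 2 := h1
    obtain ⟨i, hi, hi2⟩ := (Nat.dvd_prime_pow Nat.prime_three).1 h2
    have hi3 : i = 2 := by
      by_contra hne
      have h6 : i ≤ 1 := by omega
      have h7 : d.wW (t : K) u v ^ 3 = 1 := by
        rw [← orderOf_dvd_iff_pow_eq_one, hi2]
        calc 3 ^ i ∣ 3 ^ 1 := pow_dvd_pow 3 h6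
          _ = 3 := rfl
      rw [d.wW_cube, ← d.wW_one] at h7
      have h8 := (d.wW_inj h7).2.2
      rw [neg_eq_zero] at h8
      have h4 : d.f (t : K) ≠ 0 := by
        simp
      exact (mul_ne_zero (pow_ne_zero 2 t.ne_zero) (pow_ne_zero 3 h4)) h8
    show orderOf (d.wW (t : K) u v) = 9
    rw [hi2, hi3]
    norm_num

include R d in
/-- The elements of order six in the Borel subgroup. -/
theorem Sb_six : ({t | t ∈ B1 K (3 ^ m) ∧ orderOf t = 6} : Set G) =
    Set.range (fun p : K × Kˣ × K => d.wW p.1 ((p.2.1 : K) + p.1 * (d.f p.1) ^ 3) p.2.2 * d.a₀) := by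
  ext b
  constructor
  · rintro ⟨hb, ho⟩
    rcases d.B_cases R hb with ⟨t, u, v, rfl⟩ | ⟨t, u, v, rfl⟩ | h
    · have h1 := orderOf_dvd_of_pow_eq_one (d.wW_nine t u v)
      rw [ho] at h1
      omega
    · have hc : u - t * (d.f t) ^ 3 ≠ 0 := by
        intro hc
        have h1 := d.wWa_sq t u v
        rw [hc, neg_zero, mul_zero, d.wW_one, ← pow_two] at h1
        have h2 := orderOf_dvd_of_pow_eq_one h1
        rw [ho] at h2
        omega
      refine ⟨(t, Units.mk0 _ hc, v), ?_⟩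
      simp only [Units.val_mk0, sub_add_cancel]
    · exfalso
      apply d.not_three_dvd R
      have h1 := orderOf_dvd_of_pow_eq_one h
      rw [ho] at h1
      exact (by norm_num : 3 ∣ 6).trans h1
  · rintro ⟨⟨t, c, v⟩, rfl⟩
    refine ⟨Subgroup.mul_mem _ (d.wW_mem _ _ _) d.a₀_mem, ?_⟩
    simp only
    set u := (c : K) + t * (d.f t) ^ 3 with hu
    have h6 := orderOf_dvd_of_pow_eq_one (d.wWa_six t u v)
    have h2 : (d.wW t u v * d.a₀) ^ 2 ≠ 1 := by
      rw [pow_two, d.wWa_sq, ← d.wW_one]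
      intro h
      have h3 := (d.wW_inj h).2.1
      rw [neg_eq_zero, hu, add_sub_cancel_right] at h3
      exact c.ne_zero h3
    have h3 := d.wWa_cube_ne t u v
    have hne2 : ¬ orderOf (d.wW t u v * d.a₀) ∣ 2 := fun e => h2 (orderOf_dvd_iff_pow_eq_one.1 e)
    have hne3 : ¬ orderOf (d.wW t u v * d.a₀) ∣ 3 := fun e => h3 (orderOf_dvd_iff_pow_eq_one.1 e)
    have hle := Nat.le_of_dvd (by norm_num) h6
    generalize orderOf (d.wW t u v * d.a₀) = n at *
    interval_cases n <;> omega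

omit R d in
theorem ncard_range {α β : Type*} [Finite α] {f : α → β} (hf : Function.Injective f) : (Set.range f).ncard = Nat.card α := by
  rw [← Nat.card_coe_set_eq, Nat.card_range_of_injective hf]

omit R d in
theorem card_units_K : Nat.card Kˣ = Fintype.card K - 1 := by
  classical
  rw [Nat.card_eq_fintype_card, Fintype.card_units]

theorem card_Sb_three : ({t | t ∈ B1 K (3 ^ m) ∧ orderOf t = 3} : Set G).ncard = Fintype.card K ^ 2 - 1 := by
  classical
  rw [d.Sb_three R, ncard_range]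
  · rw [Nat.card_eq_fintype_card, Fintype.card_subtype_compl, Fintype.card_prod, Fintype.card_subtype_eq, pow_two]
  · rintro ⟨⟨u, v⟩, hp⟩ ⟨⟨u', v'⟩, hp'⟩ h
    obtain ⟨-, h1, h2⟩ := d.wW_inj h
    subst h1 h2
    rfl

theorem card_Sb_nine : ({t | t ∈ B1 K (3 ^ m) ∧ orderOf t = 9} : Set G).ncard = Fintype.card K ^ 2 * (Fintype.card K - 1) := by
  rw [d.Sb_nine R, ncard_range]
  · rw [Nat.card_prod, Nat.card_prod, card_units_K, Nat.card_eq_fintype_card]
    ring
  · rintro ⟨t, u, v⟩ ⟨t', u', v'⟩ h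
    obtain ⟨h1, h2, h3⟩ := d.wW_inj h
    have h4 : t = t' := Units.ext h1
    subst h4 h2 h3
    rfl

theorem card_Sb_six : ({t | t ∈ B1 K (3 ^ m) ∧ orderOf t = 6} : Set G).ncard = Fintype.card K ^ 2 * (Fintype.card K - 1) := by
  rw [d.Sb_six R, ncard_range]
  · rw [Nat.card_prod, Nat.card_prod, card_units_K, Nat.card_eq_fintype_card]
    ring
  · rintro ⟨t, c, v⟩ ⟨t', c', v'⟩ h
    obtain ⟨h1, h2, h3⟩ := d.wW_inj (mul_right_cancel h)
    subst h1 h3
    have h4 : c = c' := Units.ext (add_right_cancel h2)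
    subst h4
    rfl

/-- The counts of elements of orders three, six and nine. -/
theorem count_three_six_nine :
    Nat.card {g : G // orderOf g = 3} = (Fintype.card K ^ 2 - 1) * (Fintype.card K ^ 3 + 1) ∧
    Nat.card {g : G // orderOf g = 6} = Fintype.card K ^ 2 * (Fintype.card K - 1) * (Fintype.card K ^ 3 + 1) ∧
    Nat.card {g : G // orderOf g = 9} = Fintype.card K ^ 2 * (Fintype.card K - 1) * (Fintype.card K ^ 3 + 1) := by
  have hq := R.q_ge
  have hG : Nat.card G = Fintype.card K ^ 3 * (Fintype.card K - 1) * (Fintype.card K ^ 3 + 1) := d.card_G1 R.hs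
  have hB := d.card_B R.hs
  have hpos : 0 < Fintype.card K ^ 3 * (Fintype.card K - 1) := Nat.mul_pos (by positivity) (by omega)
  have key : ∀ n : ℕ, 3 ∣ n → Nat.card {g : G // orderOf g = n} = ({t | t ∈ B1 K (3 ^ m) ∧ orderOf t = n} : Set G).ncard * (Fintype.card K ^ 3 + 1) := by
    intro n hn
    have h1 := d.borel_count R hn
    rw [hB, hG] at h1
    apply Nat.eq_of_mul_eq_mul_right hpos
    rw [h1]
    ring
  refine ⟨?_, ?_, ?_⟩
  · rw [key 3 (by norm_num), d.card_Sb_three R]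
  · rw [key 6 (by norm_num), d.card_Sb_six R]
  · rw [key 9 (by norm_num), d.card_Sb_nine R]

/-- The count of involutions. -/
theorem count_two : Nat.card {g : G // orderOf g = 2} = Fintype.card K ^ 2 * (Fintype.card K ^ 2 - Fintype.card K + 1) := by
  have hq := R.q_ge
  have hG : Nat.card G = Fintype.card K ^ 3 * (Fintype.card K - 1) * (Fintype.card K ^ 3 + 1) := d.card_G1 R.hs
  have h1 := d.inv_count R
  have e : Nat.card {g : G // orderOf g = 2} = (Dat.Inv K m).ncard := by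
    rw [← Nat.card_coe_set_eq]
    apply Nat.card_congr
    refine Equiv.subtypeEquivRight (fun g => ?_)
    haveI : Fact (Nat.Prime 2) := ⟨Nat.prime_two⟩
    constructor
    · intro h
      refine ⟨?_, ?_⟩
      · rw [← pow_two, ← h, pow_orderOf_eq_one]
      · rintro rfl
        rw [orderOf_one] at h
        omega
    · rintro ⟨h2, h3⟩
      exact orderOf_eq_prime (by rwa [pow_two]) h3
  rw [e]
  rw [hG] at h1
  obtain ⟨c, hc⟩ : ∃ c, Fintype.card K = c + 2 := ⟨Fintype.card K - 2, by omega⟩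
  have hP : Fintype.card K ^ 3 + 1 = (Fintype.card K + 1) * (Fintype.card K ^ 2 - Fintype.card K + 1) := by
    rw [hc]
    have e2 : (c + 2) ^ 2 - (c + 2) + 1 = c ^ 2 + 3 * c + 3 := by
      have : (c + 2) ^ 2 = c ^ 2 + 3 * c + 2 + (c + 2) := by ring
      rw [this]
      omega
    rw [e2]
    ring
  rw [hP] at h1
  have hpos : 0 < (Fintype.card K + 1) * Fintype.card K * (Fintype.card K - 1) := Nat.mul_pos (by positivity) (by omega)
  apply Nat.eq_of_mul_eq_mul_right hpos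
  rw [h1]
  ring

/-- The count of elements of order `i` dividing `q - 1`. -/
theorem count_Hh {i : ℕ} (hi2 : 2 < i) (hi : i ∣ Fintype.card K - 1) :
    2 * Nat.card {g : G // orderOf g = i} = Nat.totient i * Fintype.card K ^ 3 * (Fintype.card K ^ 3 + 1) := by
  haveI := d.finite_G1
  haveI := d.isCyclic_Hh R.hs
  obtain ⟨k, hk⟩ := R.h8
  have hq3 := R.three_dvd
  have hq := R.q_ge
  have hq2 : Fintype.card K - 1 = 2 * (4 * k + 1) := by omega
  have c := torus_count (Cc := d.Hh R.hs) (A₀ := d.Am R.hs) (fun u hu hu1 => d.cent_Am R hu hu1)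
    (by
      rintro _ ⟨y, rfl⟩
      exact (d.mem_Am R.hs).2 ⟨y, (map_mul _ _ _).symm⟩)
    (by
      intro u hu
      obtain ⟨z, rfl⟩ := (d.mem_Am R.hs).1 hu
      exact ⟨d.tH R.hs z, ⟨z, rfl⟩, map_mul _ _ _⟩)
    hi2 (by
      intro g hg
      have h0 : ∃ l : ℕ, l.Prime ∧ l ≠ 2 ∧ l ∣ i := by
        by_contra hno
        push Not at hno
        have h3 : i = 2 ^ i.primeFactorsList.length :=
          Nat.eq_prime_pow_of_unique_prime_dvd (by omega) (fun {l} hl hlo => by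
            by_contra hne
            exact hno l hl hne hlo)
        generalize i.primeFactorsList.length = a at h3
        have h4 : 2 ≤ a := by
          by_contra hlt
          have : a = 0 ∨ a = 1 := by omega
          rcases this with rfl | rfl <;> omega
        have h5 : 4 ∣ i := by
          rw [h3]
          exact pow_dvd_pow 2 h4
        have h6 : 4 ∣ 2 * (4 * k + 1) := by
          rw [← hq2]
          exact h5.trans hi
        omega
      obtain ⟨l, hl, hl2, hli⟩ := h0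
      haveI : Fact l.Prime := ⟨hl⟩
      have hlA : l ∣ 4 * k + 1 := by
        have h1 : l ∣ 2 * (4 * k + 1) := by
          rw [← hq2]
          exact hli.trans hi
        rcases hl.dvd_mul.1 h1 with h2 | h2
        · exact absurd ((Nat.prime_dvd_prime_iff_eq hl Nat.prime_two).1 h2) hl2
        · exact h2
      have hl3 : l ≠ 3 := by
        rintro rfl
        omega
      have h3 : 3 < l := by
        have := hl.two_le
        omega
      have h0 : ∃ y : d.Am R.hs, orderOf y = l := exists_prime_orderOf_dvd_card' l (by rw [d.card_Am R.hs hk]; exact hlA)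
      obtain ⟨y, hy⟩ := h0
      have hy' : orderOf y.1 = l := (Subgroup.orderOf_coe y).trans hy
      have hy1 : y.1 ≠ 1 := by
        intro e
        rw [e, orderOf_one] at hy'
        exact hl.one_lt.ne hy'
      exact d.cover_of_prime R hl h3 hy' (d.cent_Am R y.2 hy1) hli g hg)
  have hG : Nat.card G = Fintype.card K ^ 3 * (Fintype.card K - 1) * (Fintype.card K ^ 3 + 1) := d.card_G1 R.hs
  rw [card_order_cyc (d.Hh R.hs) (by rw [d.card_Hh R.hs]; exact hi), d.card_norm_Am R, hG] at c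
  have hpos : 0 < Fintype.card K - 1 := by omega
  apply Nat.eq_of_mul_eq_mul_right hpos
  calc 2 * Nat.card {g : G // orderOf g = i} * (Fintype.card K - 1) = Nat.card {g : G // orderOf g = i} * (2 * (Fintype.card K - 1)) := by ring
    _ = _ := c
    _ = _ := by ring

include hP

theorem plus_ha {u : G} (hu : u ∈ A) (hu1 : u ≠ 1) : Subgroup.centralizer ({u} : Set G) = T := by
  haveI := d.finite_G1
  have ho : orderOf u ≠ 1 := fun e => hu1 (orderOf_eq_one_iff.1 e)
  obtain ⟨l, hl, hlx⟩ := Nat.exists_prime_and_dvd ho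
  set y := u ^ (orderOf u / l) with hy
  have hyl : orderOf y = l := orderOf_pow_orderOf_div (orderOf_pos u).ne' hlx
  have hlw : l ∣ w := by
    have h2 := Subgroup.orderOf_dvd_natCard _ hu
    rw [hP.card_A] at h2
    exact hlx.trans h2
  have hyA : y ∈ A := A.pow_mem hu _
  apply le_antisymm
  · rw [← d.plus_cent_A R hP hyA hl hlw hyl]
    intro g hg
    rw [Subgroup.mem_centralizer_singleton_iff] at hg ⊢
    rw [hy]
    exact ((show Commute g u from hg).pow_right _)
  · intro g hg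
    rw [Subgroup.mem_centralizer_singleton_iff]
    exact hP.comm _ hg _ (hP.A_le hu)

omit R d in
theorem plus_hb {t : G} (ht : t ∈ T) : t * t ∈ A := by
  apply hP.A_of _ (T.mul_mem ht ht)
  rw [← pow_two, ← pow_mul, hP.exp t ht]

theorem plus_pow {a : G} (ha : a ∈ A) : a ^ w = 1 := by
  haveI := d.finite_G1
  rw [← orderOf_dvd_iff_pow_eq_one, ← hP.card_A]
  exact Subgroup.orderOf_dvd_natCard _ ha

theorem plus_hb' {u : G} (hu : u ∈ A) : ∃ t ∈ T, u = t * t := by
  obtain ⟨c, hc⟩ := hP.hodd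
  refine ⟨u ^ (c + 1), T.pow_mem (hP.A_le hu) _, ?_⟩
  rw [← pow_two, ← pow_mul]
  have e : (c + 1) * 2 = w + 1 := by omega
  rw [e, pow_succ, d.plus_pow R hP hu, one_mul]

theorem plus_order_eq {i : ℕ} (hi : i ∣ w) : ({t | t ∈ T ∧ orderOf t = i} : Set G).ncard = Nat.totient i := by
  haveI := d.finite_G1
  haveI := hP.cyc_A
  have e : ({t | t ∈ T ∧ orderOf t = i} : Set G) = {t | t ∈ A ∧ orderOf t = i} := by
    ext t
    constructor
    · rintro ⟨h1, h2⟩
      refine ⟨hP.A_of t h1 ?_, h2⟩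
      rw [← orderOf_dvd_iff_pow_eq_one, h2]
      exact hi
    · rintro ⟨h1, h2⟩
      exact ⟨hP.A_le h1, h2⟩
  rw [e, card_order_cyc A (by rw [hP.card_A]; exact hi)]

theorem plus_cov {i l : ℕ} (hl : l.Prime) (hlw : l ∣ w) (hli : l ∣ i) (g : G) (hg : orderOf g = i) : ∃ h : G, h * g * h⁻¹ ∈ T := by
  have h7 := R.prime_ge hP.hw hP.hodd hl hlw
  obtain ⟨y, hyA, hy⟩ := d.plus_exists_elt R hP hl hlw
  exact d.cover_of_prime R hl (by omega) hy (d.plus_cent_A R hP hyA hl hlw hy) hli g hg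

/-- The elements of order `i` dividing `(q + 1) / 4`. -/
theorem count_plus {i : ℕ} (hi1 : 1 < i) (hi : i ∣ w) :
    6 * Nat.card {g : G // orderOf g = i} = Nat.totient i * Fintype.card K ^ 3 * (Fintype.card K - 1) * (Fintype.card K ^ 2 - Fintype.card K + 1) := by
  haveI := d.finite_G1
  have hq := R.q_ge
  have hodd : Odd i := Odd.of_dvd_nat hP.hodd hi
  have hi2 : 2 < i := by
    obtain ⟨c, hc⟩ := hodd
    omega
  obtain ⟨l, hl, hli⟩ := Nat.exists_prime_and_dvd (show i ≠ 1 by omega)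
  have c := torus_count (Cc := T) (A₀ := A) (fun u hu hu1 => d.plus_ha R hP hu hu1) (fun t ht => plus_hb hP ht)
    (fun u hu => d.plus_hb' R hP hu) hi2 (fun g hg => d.plus_cov R hP hl (hli.trans hi) hli g hg)
  have hG : Nat.card G = Fintype.card K ^ 3 * (Fintype.card K - 1) * (Fintype.card K ^ 3 + 1) := d.card_G1 R.hs
  rw [d.plus_order_eq R hP hi, d.plus_card_norm R hP, hG] at c
  obtain ⟨a, ha⟩ : ∃ a, Fintype.card K = a + 2 := ⟨Fintype.card K - 2, by omega⟩
  have hP' : Fintype.card K ^ 3 + 1 = (Fintype.card K + 1) * (Fintype.card K ^ 2 - Fintype.card K + 1) := by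
    rw [ha]
    have e2 : (a + 2) ^ 2 - (a + 2) + 1 = a ^ 2 + 3 * a + 3 := by
      have : (a + 2) ^ 2 = a ^ 2 + 3 * a + 2 + (a + 2) := by ring
      rw [this]
      omega
    rw [e2]
    ring
  rw [hP'] at c
  have hpos : 0 < Fintype.card K + 1 := by omega
  apply Nat.eq_of_mul_eq_mul_right hpos
  calc 6 * Nat.card {g : G // orderOf g = i} * (Fintype.card K + 1) = Nat.card {g : G // orderOf g = i} * (6 * (Fintype.card K + 1)) := by ring
    _ = _ := c
    _ = _ := by ring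

/-- The number of elements of order `2 i` in the torus. -/
theorem plus_double {i : ℕ} (hi : i ∣ w) : ({t | t ∈ T ∧ orderOf t = 2 * i} : Set G).ncard = 3 * Nat.totient i := by
  haveI := d.finite_G1
  haveI := hP.cyc_A
  haveI : Fact (Nat.Prime 2) := ⟨Nat.prime_two⟩
  set V₁ : Set G := {v | v ∈ T ∧ v * v = 1 ∧ v ≠ 1} with hV₁
  set Ai : Set G := {a | a ∈ A ∧ orderOf a = i} with hAi
  have hV : V₁.ncard = 3 := by
    have h1 : ({t | t ∈ T ∧ t * t = 1} : Set G) = V₁ ∪ {1} := by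
      ext t
      constructor
      · rintro ⟨h2, h3⟩
        by_cases h4 : t = 1
        · exact Or.inr h4
        · exact Or.inl ⟨h2, h3, h4⟩
      · rintro (⟨h2, h3, -⟩ | h2)
        · exact ⟨h2, h3⟩
        · rw [Set.mem_singleton_iff] at h2
          subst h2
          exact ⟨T.one_mem, mul_one _⟩
    have h2 := hP.two
    rw [h1, Set.ncard_union_eq, Set.ncard_singleton] at h2
    · omega
    · rw [Set.disjoint_left]
      rintro t ⟨-, -, h⟩ h'
      exact h h'
  have hA : Ai.ncard = Nat.totient i := card_order_cyc A (by rw [hP.card_A]; exact hi)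
  have hodd : Odd w := hP.hodd
  have hoddi : Odd i := Odd.of_dvd_nat hodd hi
  have hord : ∀ v ∈ V₁, orderOf v = 2 := by
    rintro v ⟨-, h2, h3⟩
    exact orderOf_eq_prime (by rwa [pow_two]) h3
  have hvpow : ∀ v ∈ V₁, v ^ w = v := by
    rintro v ⟨-, h2, -⟩
    obtain ⟨c, hc⟩ := hodd
    rw [hc, pow_succ, pow_mul, pow_two, h2, one_pow, one_mul]
  have hrec : ∀ v ∈ V₁, ∀ a ∈ A, (v * a) ^ w = v := by
    intro v hv a ha
    have hc : Commute v a := hP.comm _ hv.1 _ (hP.A_le ha)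
    rw [hc.mul_pow, hvpow v hv, d.plus_pow R hP ha, mul_one]
  have himg : ({t | t ∈ T ∧ orderOf t = 2 * i} : Set G) = (fun p : G × G => p.1 * p.2) '' (V₁ ×ˢ Ai) := by
    ext t
    constructor
    · rintro ⟨h1, h2⟩
      have hv : t ^ w ∈ V₁ := by
        refine ⟨T.pow_mem h1 _, ?_, ?_⟩
        · rw [← pow_add, ← two_mul, hP.exp t h1]
        · intro h3
          have h4 := orderOf_dvd_of_pow_eq_one h3
          rw [h2] at h4
          have h5 : 2 ∣ w := (Dvd.intro i rfl).trans h4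
          exact (Nat.not_even_iff_odd.2 hodd) (even_iff_two_dvd.2 h5)
      have ha : t ^ (w + 1) ∈ A := by
        apply hP.A_of _ (T.pow_mem h1 _)
        obtain ⟨c, hc⟩ := hodd
        rw [← pow_mul]
        have e : (w + 1) * w = 2 * w * (c + 1) := by
          have : w + 1 = 2 * (c + 1) := by omega
          rw [this]
          ring
        rw [e, pow_mul, hP.exp t h1, one_pow]
      have ht : t ^ w * t ^ (w + 1) = t := by
        rw [← pow_add]
        have e : w + (w + 1) = 2 * w + 1 := by ring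
        rw [e, pow_succ, hP.exp t h1, one_mul]
      have hoa : orderOf (t ^ (w + 1)) = i := by
        have hc : Commute (t ^ w) (t ^ (w + 1)) := hP.comm _ hv.1 _ (hP.A_le ha)
        have h3 : Odd (orderOf (t ^ (w + 1))) := by
          apply Odd.of_dvd_nat hodd
          rw [orderOf_dvd_iff_pow_eq_one]
          exact d.plus_pow R hP ha
        have h4 := hc.orderOf_mul_eq_mul_orderOf_of_coprime (by
          rw [hord _ hv, Nat.coprime_two_left]
          exact h3)
        rw [ht, hord _ hv, h2] at h4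
        omega
      exact ⟨(t ^ w, t ^ (w + 1)), ⟨hv, ha, hoa⟩, ht⟩
    · rintro ⟨⟨v, a⟩, ⟨hv, ha, hoa⟩, rfl⟩
      refine ⟨T.mul_mem hv.1 (hP.A_le ha), ?_⟩
      have hc : Commute v a := hP.comm _ hv.1 _ (hP.A_le ha)
      simp only
      rw [hc.orderOf_mul_eq_mul_orderOf_of_coprime (by
        rw [hord _ hv, hoa, Nat.coprime_two_left]
        exact hoddi), hord _ hv, hoa]
  rw [himg, Set.ncard_image_of_injOn, Set.ncard_prod, hV, hA]
  rintro ⟨v, a⟩ ⟨hv, ha, -⟩ ⟨v', a'⟩ ⟨hv', ha', -⟩ h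
  have h1 : v * a = v' * a' := h
  have h2 : v = v' := by
    rw [← hrec v hv a ha, ← hrec v' hv' a' ha', h1]
  subst h2
  rw [mul_left_cancel h1]

/-- The elements of order `2 i`. -/
theorem count_plus2 {i : ℕ} (hi1 : 1 < i) (hi : i ∣ w) :
    2 * Nat.card {g : G // orderOf g = 2 * i} = Nat.totient i * Fintype.card K ^ 3 * (Fintype.card K - 1) * (Fintype.card K ^ 2 - Fintype.card K + 1) := by
  haveI := d.finite_G1
  have hq := R.q_ge
  obtain ⟨l, hl, hli⟩ := Nat.exists_prime_and_dvd (show i ≠ 1 by omega)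
  have c := torus_count (n := 2 * i) (Cc := T) (A₀ := A) (fun u hu hu1 => d.plus_ha R hP hu hu1) (fun t ht => plus_hb hP ht)
    (fun u hu => d.plus_hb' R hP hu) (by omega) (fun g hg => d.plus_cov R hP hl (hli.trans hi) (hli.trans (Dvd.intro_left 2 rfl)) g hg)
  have hG : Nat.card G = Fintype.card K ^ 3 * (Fintype.card K - 1) * (Fintype.card K ^ 3 + 1) := d.card_G1 R.hs
  rw [d.plus_double R hP hi, d.plus_card_norm R hP, hG] at c
  obtain ⟨a, ha⟩ : ∃ a, Fintype.card K = a + 2 := ⟨Fintype.card K - 2, by omega⟩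
  have hP' : Fintype.card K ^ 3 + 1 = (Fintype.card K + 1) * (Fintype.card K ^ 2 - Fintype.card K + 1) := by
    rw [ha]
    have e2 : (a + 2) ^ 2 - (a + 2) + 1 = a ^ 2 + 3 * a + 3 := by
      have : (a + 2) ^ 2 = a ^ 2 + 3 * a + 2 + (a + 2) := by ring
      rw [this]
      omega
    rw [e2]
    ring
  rw [hP'] at c
  have hpos : 0 < 3 * (Fintype.card K + 1) := by omega
  apply Nat.eq_of_mul_eq_mul_right hpos
  calc 2 * Nat.card {g : G // orderOf g = 2 * i} * (3 * (Fintype.card K + 1)) = Nat.card {g : G // orderOf g = 2 * i} * (6 * (Fintype.card K + 1)) := by ring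
    _ = _ := c
    _ = _ := by ring

/-- The elements of order `i` dividing the order of one of the tori of order `q ± r + 1`. -/
theorem count_t3 {x : G} {p : ℕ} (h : T3 x p) (hN : Nat.card (Subgroup.normalizer ((Subgroup.centralizer ({x} : Set G) : Subgroup G) : Set G)) = Nat.card (Subgroup.centralizer ({x} : Set G)) * 6)
    {i : ℕ} (hi1 : 1 < i) (hi : i ∣ Nat.card (Subgroup.centralizer ({x} : Set G))) :
    Nat.card {g : G // orderOf g = i} * (Nat.card (Subgroup.centralizer ({x} : Set G)) * 6) = Nat.card G * Nat.totient i := by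
  haveI := d.finite_G1
  haveI := d.t3_cyc R h
  have hq := R.q_ge
  have hPodd : Odd (Fintype.card K ^ 2 - Fintype.card K + 1) := by
    obtain ⟨a, ha⟩ : ∃ a, Fintype.card K = a + 2 := ⟨Fintype.card K - 2, by omega⟩
    have e2 : Fintype.card K ^ 2 - Fintype.card K + 1 = a ^ 2 + 3 * a + 3 := by
      rw [ha]
      have : (a + 2) ^ 2 = a ^ 2 + 3 * a + 2 + (a + 2) := by ring
      rw [this]
      omega
    rw [e2]
    have e3 : a ^ 2 + 3 * a + 3 = a * (a + 1) + 2 * a + 3 := by ring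
    rw [e3]
    have e4 : Even (a * (a + 1)) := Nat.even_mul_succ_self a
    obtain ⟨b, hb⟩ := e4
    exact ⟨b + a + 1, by omega⟩
  have hodd : Odd (Nat.card (Subgroup.centralizer ({x} : Set G))) := Odd.of_dvd_nat hPodd (d.t3_dvd R hP h)
  have hoddi : Odd i := Odd.of_dvd_nat hodd hi
  have hi2 : 2 < i := by
    obtain ⟨c, hc⟩ := hoddi
    omega
  obtain ⟨l, hl, hli⟩ := Nat.exists_prime_and_dvd (show i ≠ 1 by omega)
  have c := torus_count (Cc := Subgroup.centralizer ({x} : Set G)) (A₀ := Subgroup.centralizer ({x} : Set G))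
    (fun u hu hu1 => d.t3_cent R hP h hu hu1) (fun t ht => Subgroup.mul_mem _ ht ht)
    (by
      intro u hu
      obtain ⟨c, hc⟩ := hodd
      refine ⟨u ^ (c + 1), Subgroup.pow_mem _ hu _, ?_⟩
      rw [← pow_two, ← pow_mul]
      have e : (c + 1) * 2 = Nat.card (Subgroup.centralizer ({x} : Set G)) + 1 := by omega
      rw [e, pow_succ]
      have h1 : u ^ Nat.card (Subgroup.centralizer ({x} : Set G)) = 1 := by
        rw [← orderOf_dvd_iff_pow_eq_one]
        exact Subgroup.orderOf_dvd_natCard _ hu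
      rw [h1, one_mul])
    hi2 (by
      intro g hg
      obtain ⟨y, hy, hyl⟩ := d.t3_exists_elt R hP h hl (hli.trans hi)
      obtain ⟨h5, h6⟩ := d.t3_prime R hP h hy hl hyl
      have h7 := R.prime_ge_P hl h5
      exact d.cover_of_prime R hl (by omega) hyl h6 hli g hg)
  rw [card_order_cyc _ hi, hN] at c
  exact c

end Dat

omit [Fintype K] in
theorem Dat.arith_tau {q r : ℕ} (hq : 27 ≤ q) (hr : r ^ 2 = 3 * q) :
    r ≤ q ∧ q ^ 3 + 1 = (q + 1) * ((q - r + 1) * (q + r + 1)) := by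
  have hrq : r ≤ q := by
    by_contra hlt
    push Not at hlt
    have : q ^ 2 < r ^ 2 := by
      have := Nat.pow_lt_pow_left hlt (n := 2) (by norm_num)
      exact this
    nlinarith
  refine ⟨hrq, ?_⟩
  zify [hrq]
  have hr' : (r : ℤ) ^ 2 = 3 * q := by exact_mod_cast hr
  linear_combination ((q : ℤ) + 1) * hr'

/-- S2357: the number of elements of each order. -/
theorem main_S2357 (hm : 1 ≤ m) (hK : Fintype.card K = 3 ^ (2 * m + 1)) :
    Nat.card {g : ↥(Cfsg.Lie.twistedG2 K (3 ^ m)) // orderOf g = 2} = (3 ^ (2 * m + 1)) ^ 2 * ((3 ^ (2 * m + 1)) ^ 2 - 3 ^ (2 * m + 1) + 1) ∧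
    Nat.card {g : ↥(Cfsg.Lie.twistedG2 K (3 ^ m)) // orderOf g = 3} = ((3 ^ (2 * m + 1)) ^ 2 - 1) * ((3 ^ (2 * m + 1)) ^ 3 + 1) ∧
    Nat.card {g : ↥(Cfsg.Lie.twistedG2 K (3 ^ m)) // orderOf g = 6} = (3 ^ (2 * m + 1)) ^ 2 * (3 ^ (2 * m + 1) - 1) * ((3 ^ (2 * m + 1)) ^ 3 + 1) ∧
    Nat.card {g : ↥(Cfsg.Lie.twistedG2 K (3 ^ m)) // orderOf g = 9} = (3 ^ (2 * m + 1)) ^ 2 * (3 ^ (2 * m + 1) - 1) * ((3 ^ (2 * m + 1)) ^ 3 + 1) ∧
    (∀ i : ℕ, 2 < i → i ∣ 3 ^ (2 * m + 1) - 1 →
      2 * Nat.card {g : ↥(Cfsg.Lie.twistedG2 K (3 ^ m)) // orderOf g = i} = Nat.totient i * (3 ^ (2 * m + 1)) ^ 3 * ((3 ^ (2 * m + 1)) ^ 3 + 1)) ∧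
    (∀ i : ℕ, 1 < i → i ∣ (3 ^ (2 * m + 1) + 1) / 4 →
      6 * Nat.card {g : ↥(Cfsg.Lie.twistedG2 K (3 ^ m)) // orderOf g = i} =
          Nat.totient i * (3 ^ (2 * m + 1)) ^ 3 * (3 ^ (2 * m + 1) - 1) * ((3 ^ (2 * m + 1)) ^ 2 - 3 ^ (2 * m + 1) + 1) ∧
        2 * Nat.card {g : ↥(Cfsg.Lie.twistedG2 K (3 ^ m)) // orderOf g = 2 * i} =
          Nat.totient i * (3 ^ (2 * m + 1)) ^ 3 * (3 ^ (2 * m + 1) - 1) * ((3 ^ (2 * m + 1)) ^ 2 - 3 ^ (2 * m + 1) + 1)) ∧
    (∀ i : ℕ, 1 < i → i ∣ 3 ^ (2 * m + 1) - 3 ^ (m + 1) + 1 →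
      6 * Nat.card {g : ↥(Cfsg.Lie.twistedG2 K (3 ^ m)) // orderOf g = i} =
        Nat.totient i * (3 ^ (2 * m + 1)) ^ 3 * ((3 ^ (2 * m + 1)) ^ 2 - 1) * (3 ^ (2 * m + 1) + 3 ^ (m + 1) + 1)) ∧
    (∀ i : ℕ, 1 < i → i ∣ 3 ^ (2 * m + 1) + 3 ^ (m + 1) + 1 →
      6 * Nat.card {g : ↥(Cfsg.Lie.twistedG2 K (3 ^ m)) // orderOf g = i} =
        Nat.totient i * (3 ^ (2 * m + 1)) ^ 3 * ((3 ^ (2 * m + 1)) ^ 2 - 1) * (3 ^ (2 * m + 1) - 3 ^ (m + 1) + 1)) := by
  have R : Ree K m := ⟨hm, hK⟩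
  obtain ⟨d⟩ := exists_dat hK
  obtain ⟨T, A₁, w, hP⟩ := d.exists_plus R
  obtain ⟨x₁, x₂, p₁, p₂, h₁, h₂, hτ₁, hτ₂, hN₁, hN₂, -⟩ := d.exists_tori R hP
  obtain ⟨c3, c6, c9⟩ := d.count_three_six_nine R
  have hq := R.q_ge
  have hG : Nat.card (Gm K m) = Fintype.card K ^ 3 * (Fintype.card K - 1) * (Fintype.card K ^ 3 + 1) := d.card_G1 R.hs
  have hr : (3 ^ (m + 1)) ^ 2 = 3 * Fintype.card K := by
    rw [hK, ← pow_mul, ← pow_succ']
    congr 1
    ring
  obtain ⟨hrq, harith⟩ := Dat.arith_tau hq hr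
  have hsq : Fintype.card K ^ 2 - 1 = (Fintype.card K - 1) * (Fintype.card K + 1) := by
    obtain ⟨a, ha⟩ : ∃ a, Fintype.card K = a + 1 := ⟨Fintype.card K - 1, by omega⟩
    rw [ha]
    simp only [Nat.add_sub_cancel]
    have : (a + 1) ^ 2 = a * (a + 1 + 1) + 1 := by ring
    rw [this, Nat.add_sub_cancel]
  rw [← hK]
  refine ⟨d.count_two R, c3, c6, c9, ?_, ?_, ?_, ?_⟩
  · exact fun i hi1 hi => d.count_Hh R hi1 hi
  · intro i hi1 hi
    have e : (Fintype.card K + 1) / 4 = w := by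
      have := hP.hw
      omega
    rw [e] at hi
    exact ⟨d.count_plus R hP hi1 hi, d.count_plus2 R hP hi1 hi⟩
  · intro i hi1 hi
    rw [← hτ₁] at hi
    have c := d.count_t3 R hP h₁ hN₁ hi1 hi
    rw [hG, harith, hτ₁] at c
    have hpos : 0 < Fintype.card K - 3 ^ (m + 1) + 1 := by omega
    apply Nat.eq_of_mul_eq_mul_right hpos
    rw [hsq]
    calc 6 * Nat.card {g : Gm K m // orderOf g = i} * (Fintype.card K - 3 ^ (m + 1) + 1) = Nat.card {g : Gm K m // orderOf g = i} * ((Fintype.card K - 3 ^ (m + 1) + 1) * 6) := by ring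
      _ = _ := c
      _ = _ := by ring
  · intro i hi1 hi
    rw [← hτ₂] at hi
    have c := d.count_t3 R hP h₂ hN₂ hi1 hi
    rw [hG, harith, hτ₂] at c
    have hpos : 0 < Fintype.card K + 3 ^ (m + 1) + 1 := by omega
    apply Nat.eq_of_mul_eq_mul_right hpos
    rw [hsq]
    calc 6 * Nat.card {g : Gm K m // orderOf g = i} * (Fintype.card K + 3 ^ (m + 1) + 1) = Nat.card {g : Gm K m // orderOf g = i} * ((Fintype.card K + 3 ^ (m + 1) + 1) * 6) := by ring
      _ = _ := c
      _ = _ := by ring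

end Cfsg.Agent.Lib.Chev.TwG2
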