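import Cfsg.Agent.Lib.Chev.TwG2J

set_option linter.style.haveILetI false
set_option linter.unusedSectionVars false

/-!
# The Ree groups `²G₂`: solvable subgroups
-/

namespace Cfsg.Agent.Lib.Chev.TwG2

open Cfsg.Agent.Lib.Chev Cfsg.Lie Equiv Module
open Cfsg.Agent.Lib
open Cfsg.Agent.Lib.SL2Nonsplit (IsNSTorus NS exists_torus_of_ns isNSTorus_zpowers ns_iff NS_not_center)
open Matrix (SpecialLinearGroup)
open Cfsg.Agent.Lib.Chev.SL2 (x0 y0 D0 n0 ext4)
open Cfsg.Agent.Lib.Chev.ReeGen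

variable {K : Type*} [Field K] [Fintype K] {m : ℕ}

section generic

variable {H : Type*} [Group H]

/-- The derived series, inside the ambient group. -/
def dser (S : Subgroup H) : ℕ → Subgroup H
  | 0 => S
  | n + 1 => ⁅dser S n, dser S n⁆

theorem dser_eq (S : Subgroup H) (n : ℕ) : dser S n = (derivedSeries S n).map S.subtype := by
  induction n with
  | zero =>
    rw [derivedSeries_zero, ← MonoidHom.range_eq_map, Subgroup.range_subtype]
    rfl
  | succ n ih =>
    rw [dser, derivedSeries_succ, Subgroup.map_commutator, ih]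

theorem dser_le (S : Subgroup H) (n : ℕ) : dser S n ≤ S := by
  induction n with
  | zero => exact le_rfl
  | succ n ih =>
    refine le_trans ?_ ih
    rw [dser, Subgroup.commutator_le]
    intro a ha b hb
    rw [commutatorElement_def]
    exact Subgroup.mul_mem _ (Subgroup.mul_mem _ (Subgroup.mul_mem _ ha hb) (Subgroup.inv_mem _ ha)) (Subgroup.inv_mem _ hb)

theorem dser_conj (S : Subgroup H) {g : H} (hg : ∀ x ∈ S, g * x * g⁻¹ ∈ S) (n : ℕ) : ∀ x ∈ dser S n, g * x * g⁻¹ ∈ dser S n := by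
  induction n with
  | zero => exact hg
  | succ n ih =>
    intro x hx
    have h1 : (dser S n).map (MulAut.conj g).toMonoidHom ≤ dser S n := by
      rintro _ ⟨y, hy, rfl⟩
      exact ih y hy
    have h2 : (MulAut.conj g).toMonoidHom x ∈ ((dser S (n + 1)).map (MulAut.conj g).toMonoidHom) := ⟨x, hx, rfl⟩
    rw [dser, Subgroup.map_commutator] at h2
    exact Subgroup.commutator_mono h1 h1 h2

/-- A nontrivial solvable subgroup contains a nontrivial characteristic elementary abelian subgroup. -/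
theorem exists_char [Finite H] (S : Subgroup H) (hsol : Group.IsSolvable S) (hne : S ≠ ⊥) :
    ∃ (r : ℕ) (X : Subgroup H), r.Prime ∧ X ≠ ⊥ ∧ X ≤ S ∧ (∀ x ∈ X, x ^ r = 1) ∧ (∀ a ∈ X, ∀ b ∈ X, a * b = b * a) ∧
      Subgroup.normalizer (S : Set H) ≤ Subgroup.normalizer (X : Set H) := by
  classical
  obtain ⟨n, hn⟩ := hsol.solvable
  have hn' : ∃ n, dser S n = ⊥ := ⟨n, by rw [dser_eq, hn, Subgroup.map_bot]⟩
  have h0 : Nat.find hn' ≠ 0 := by
    intro h
    have := Nat.find_spec hn'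
    rw [h] at this
    exact hne this
  obtain ⟨k, hk⟩ := Nat.exists_eq_succ_of_ne_zero h0
  have hD : dser S (k + 1) = ⊥ := by
    have := Nat.find_spec hn'
    rwa [hk] at this
  have hDk : dser S k ≠ ⊥ := Nat.find_min hn' (by omega)
  set D := dser S k with hDdef
  have hcomm : ∀ a ∈ D, ∀ b ∈ D, a * b = b * a := by
    intro a ha b hb
    have h1 := Subgroup.commutator_mem_commutator ha hb
    have h2 : ⁅D, D⁆ = ⊥ := hD
    rw [h2, Subgroup.mem_bot] at h1
    exact commutatorElement_eq_one_iff_mul_comm.1 h1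
  have hc1 : Nat.card D ≠ 1 := by
    intro h
    exact hDk (Subgroup.eq_bot_of_card_eq D h)
  obtain ⟨r, hr, hrD⟩ := Nat.exists_prime_and_dvd hc1
  haveI : Fact r.Prime := ⟨hr⟩
  obtain ⟨x₀, hx₀⟩ := exists_prime_orderOf_dvd_card' r hrD
  let X : Subgroup H :=
    { carrier := {x | x ∈ D ∧ x ^ r = 1}
      one_mem' := ⟨D.one_mem, one_pow _⟩
      mul_mem' := by
        rintro a b ⟨ha, ha1⟩ ⟨hb, hb1⟩
        refine ⟨D.mul_mem ha hb, ?_⟩
        rw [(show Commute a b from hcomm a ha b hb).mul_pow, ha1, hb1, one_mul]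
      inv_mem' := by
        rintro a ⟨ha, ha1⟩
        exact ⟨D.inv_mem ha, by rw [inv_pow, ha1, inv_one]⟩ }
  have hX : ∀ x, x ∈ X ↔ x ∈ D ∧ x ^ r = 1 := fun x => Iff.rfl
  refine ⟨r, X, hr, ?_, ?_, ?_, ?_, ?_⟩
  · intro h
    have h1 : (x₀ : H) ∈ X := ⟨x₀.2, by
      have := pow_orderOf_eq_one x₀
      rw [hx₀] at this
      exact congrArg Subtype.val this⟩
    rw [h, Subgroup.mem_bot] at h1
    have h2 : x₀ = 1 := Subtype.ext h1
    rw [h2, orderOf_one] at hx₀
    exact hr.one_lt.ne hx₀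
  · intro x hx
    exact dser_le S k hx.1
  · intro x hx
    exact hx.2
  · intro a ha b hb
    exact hcomm a ha.1 b hb.1
  · intro g hg
    apply mem_norm_of_conj_le
    rintro x ⟨hx, hx1⟩
    refine ⟨dser_conj S (fun y hy => (Subgroup.mem_set_normalizer_iff.1 hg y).1 hy) k x hx, ?_⟩
    rw [conj_pow, hx1]
    group

theorem mem_map_conj_iff {g u : H} {A : Subgroup H} : u ∈ A.map (MulAut.conj g).toMonoidHom ↔ g⁻¹ * u * g ∈ A := by
  constructor
  · rintro ⟨v, hv, rfl⟩
    have e : g⁻¹ * (g * v * g⁻¹) * g = v := by group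
    have e2 : (MulAut.conj g).toMonoidHom v = g * v * g⁻¹ := rfl
    rw [e2, e]
    exact hv
  · intro h
    refine ⟨_, h, ?_⟩
    change g * (g⁻¹ * u * g) * g⁻¹ = u
    group

theorem conj_mem_norm {g h : H} {A : Subgroup H} (hg : g ∈ Subgroup.normalizer (A : Set H)) :
    h * g * h⁻¹ ∈ Subgroup.normalizer ((A.map (MulAut.conj h).toMonoidHom : Subgroup H) : Set H) := by
  rw [Subgroup.mem_set_normalizer_iff] at hg ⊢
  intro u
  change u ∈ A.map (MulAut.conj h).toMonoidHom ↔ (h * g * h⁻¹) * u * (h * g * h⁻¹)⁻¹ ∈ A.map (MulAut.conj h).toMonoidHom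
  have e : h⁻¹ * (h * g * h⁻¹ * u * (h * g * h⁻¹)⁻¹) * h = g * (h⁻¹ * u * h) * g⁻¹ := by group
  rw [mem_map_conj_iff, mem_map_conj_iff, e]
  exact hg _

theorem norm_conj_of_map {S A : Subgroup H} {h : H} (hS : S.map (MulAut.conj h).toMonoidHom ≤ Subgroup.normalizer (A : Set H)) :
    S ≤ Subgroup.normalizer ((A.map (MulAut.conj h⁻¹).toMonoidHom : Subgroup H) : Set H) := by
  intro g hg
  have h1 : h * g * h⁻¹ ∈ Subgroup.normalizer (A : Set H) := hS ⟨g, hg, rfl⟩
  have h2 := conj_mem_norm (h := h⁻¹) h1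
  have e : h⁻¹ * (h * g * h⁻¹) * h⁻¹⁻¹ = g := by group
  rwa [e] at h2

theorem map_le_norm {S A : Subgroup H} {h : H} (hS : S ≤ Subgroup.normalizer (A : Set H)) :
    S.map (MulAut.conj h).toMonoidHom ≤ Subgroup.normalizer ((A.map (MulAut.conj h).toMonoidHom : Subgroup H) : Set H) := by
  rintro _ ⟨g, hg, rfl⟩
  exact conj_mem_norm (hS hg)

end generic

namespace Dat

variable (R : Ree K m) (d : Dat K (3 ^ m))

local notation "G" => Gm K m
local notation "Ω" => Gm K m ⧸ B1 K (3 ^ m)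

include R d

/-- The standard torus attached to any nonsplit torus. -/
theorem plus_of_torus {C : Subgroup (SpecialLinearGroup (Fin 2) K)} (hC : IsNSTorus C) : ∃ (A : Subgroup G) (w : ℕ), PlusT (d.Tp C) A w := by
  classical
  haveI := d.finite_G1
  obtain ⟨k, hk⟩ := R.h8
  obtain ⟨c, hcC, hcgen, hcn⟩ := hC.exists_gen
  have hco : orderOf c = 4 * (2 * k + 1) := by
    rw [← Nat.card_zpowers, hcgen, hC.card_eq]
    omega
  obtain ⟨w, hw⟩ : ∃ w, w = 2 * k + 1 := ⟨_, rfl⟩
  rw [← hw] at hco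
  have hwpos : 0 < w := by omega
  have hwo : Odd w := ⟨k, hw⟩
  have hc2w : c ^ (2 * w) = D0 (-1) := by
    have h4 : c ^ (2 * w) * c ^ (2 * w) = 1 := by
      rw [← pow_add, ← two_mul, ← mul_assoc, show 2 * 2 = 4 by norm_num, ← hco, pow_orderOf_eq_one]
    rcases (mem_center_SL _).1 (SL2Nonsplit.sq_eq_one_iff R.ringChar_ne h4) with h5 | h5
    · exfalso
      have h6 := orderOf_dvd_of_pow_eq_one h5
      rw [hco] at h6
      have h7 := Nat.le_of_dvd (by omega) h6
      omega
    · exact h5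
  have hpc : ∀ n, d.psi (c ^ n) = 1 ↔ 2 * w ∣ n := by
    intro n
    constructor
    · intro h
      have h2 : c ^ (2 * n) = 1 := by
        rw [two_mul, pow_add]
        rcases d.psi_eq_one h with h3 | h3
        · rw [h3, one_mul]
        · rw [h3, D0m_sq]
      have h3 := orderOf_dvd_of_pow_eq_one h2
      rw [hco] at h3
      obtain ⟨b, hb⟩ := h3
      exact ⟨b, by nlinarith⟩
    · rintro ⟨b, rfl⟩
      rw [pow_mul, hc2w, map_pow, d.psi_D_neg_one, one_pow]
  have hpo : orderOf (d.psi c) = 2 * w := by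
    apply Nat.dvd_antisymm
    · apply orderOf_dvd_of_pow_eq_one
      rw [← map_pow]
      exact (hpc _).2 dvd_rfl
    · have := (hpc (orderOf (d.psi c))).1 (by rw [map_pow, pow_orderOf_eq_one])
      exact this
  have hCn : ∀ A ∈ C, ∃ n : ℕ, A = c ^ n := by
    intro A hA
    rw [← hcgen] at hA
    obtain ⟨n, hn⟩ := (mem_powers_iff_mem_zpowers).2 hA
    exact ⟨n, hn.symm⟩
  set y₁ := d.psi (c ^ 2) with hy₁
  have hy₁o : orderOf y₁ = w := by
    have e : y₁ = d.psi c ^ 2 := by rw [hy₁, map_pow]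
    rw [e, orderOf_pow, hpo]
    have : Nat.gcd (2 * w) 2 = 2 := Nat.gcd_eq_right ⟨w, by ring⟩
    rw [this]
    omega
  set i := d.psi (c ^ w) with hi
  have hii : i * i = 1 := by
    rw [hi, ← map_mul, ← pow_add, ← two_mul]
    exact (hpc _).2 dvd_rfl
  have hi1 : i ≠ 1 := by
    intro h
    have h1 := (hpc _).1 h
    have := Nat.le_of_dvd hwpos h1
    omega
  have hai : d.a₀ ≠ i := (d.a₀_not_psi R.hs R.hnm _).symm
  have haicomm : d.a₀ * i = i * d.a₀ := (d.a₀_comm_psi _).symm
  obtain ⟨V, hV4, haV, hiV, hVm⟩ := klein_sub d.a₀_sq hii haicomm d.a₀_ne hi1 hai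
  refine ⟨Subgroup.zpowers y₁, w, ?_⟩
  have hT4 : Fintype.card K + 1 = 4 * w := by omega
  have hT : Nat.card (d.Tp C) = Fintype.card K + 1 := d.card_Tp R hC
  have hTexp : ∀ t ∈ d.Tp C, t ^ (2 * w) = 1 := by
    have e1 : ∀ A ∈ C, d.psi A ^ (2 * w) = 1 := by
      intro A hA
      obtain ⟨n, rfl⟩ := hCn A hA
      rw [← map_pow, ← pow_mul, mul_comm]
      exact (hpc _).2 ⟨n, rfl⟩
    rintro _ ⟨A, hA, rfl | rfl⟩
    · exact e1 A hA
    · have hc : Commute d.a₀ (d.psi A) := (d.a₀_comm_psi A).symm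
      rw [hc.mul_pow, e1 A hA, mul_one, pow_mul, pow_two, d.a₀_sq, one_pow]
  refine ⟨hT4, hwo, hT, ?_, inferInstance, ?_, ?_, hTexp, ?_, ?_, ?_, ?_⟩
  · intro a ha b hb
    exact d.comm_Tp hC ha hb
  · rw [Nat.card_zpowers, hy₁o]
  · rw [Subgroup.zpowers_le]
    exact d.psi_mem_Tp (C.pow_mem hcC 2)
  · rintro _ ⟨A, hA, rfl | rfl⟩ ht
    · obtain ⟨n, rfl⟩ := hCn A hA
      rw [← map_pow, ← pow_mul] at ht
      obtain ⟨b, hb⟩ := (hpc _).1 ht
      have h2 : n = 2 * b := by
        have : w * n = w * (2 * b) := by nlinarith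
        exact Nat.eq_of_mul_eq_mul_left hwpos this
      rw [h2, pow_mul, map_pow]
      exact Subgroup.pow_mem _ (Subgroup.mem_zpowers _) _
    · exact absurd ht (d.a₀_psi_pow_ne R hwo A)
  · intro y hy l hl hl2 hl3 hyl
    have hlo : Odd l := hl.odd_of_ne_two hl2
    have hyo : y ^ l = 1 := by rw [← hyl, pow_orderOf_eq_one]
    have hy1 : y ≠ 1 := by
      rintro rfl
      rw [orderOf_one] at hyl
      exact hl.one_lt.ne hyl
    have hldvd : l ∣ Fintype.card K + 1 := by
      rw [← hT, ← hyl]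
      exact Subgroup.orderOf_dvd_natCard _ hy
    have hq : ¬ l ∣ Fintype.card K - 1 := by
      intro h3
      have h5 : Fintype.card K + 1 = (Fintype.card K - 1) + 2 := by
        have := R.q_ge
        omega
      rw [h5] at hldvd
      have h4 := (Nat.dvd_add_right h3).1 hldvd
      exact hl2 ((Nat.prime_dvd_prime_iff_eq hl Nat.prime_two).1 h4)
    obtain ⟨A, hA, rfl | rfl⟩ := hy
    · obtain ⟨A', hA', hA'l, hA'or⟩ := d.norm_lift hlo hyo rfl
      have hA'C : A' ∈ C := by
        rcases hA'or with rfl | rfl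
        · exact hA
        · exact C.mul_mem (hC.center_le ((mem_center_SL _).2 (Or.inr rfl))) hA
      have hA'1 : A' ≠ 1 := by
        rintro rfl
        rw [map_one] at hA'
        exact hy1 hA'.symm
      have hNS := ns_of_prime R hl hl3 hq hA'l hA'1
      rw [d.cent_eq_Tp R hl hl2 hl3 hq hyl hA' hA'l hNS]
      congr 1
      exact hC.cent A' hA'C (NS_not_center hNS)
    · exact absurd hyo (d.a₀_psi_pow_ne R hlo A)
  · have hset : ({t | t ∈ d.Tp C ∧ t * t = 1} : Set G) = (V : Set G) := by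
      have hVT : V ≤ d.Tp C := by
        intro x hx
        rcases hVm x hx with rfl | rfl | rfl | rfl
        · exact Subgroup.one_mem _
        · exact d.a₀_mem_Tp C
        · exact d.psi_mem_Tp (C.pow_mem hcC w)
        · exact Subgroup.mul_mem _ (d.a₀_mem_Tp C) (d.psi_mem_Tp (C.pow_mem hcC w))
      have hiV' : ∀ b : ℕ, i ^ b ∈ V := fun b => V.pow_mem hiV b
      ext t
      constructor
      · rintro ⟨⟨A, hA, ht⟩, htt⟩
        obtain ⟨n, rfl⟩ := hCn A hA
        have e1 : d.psi (c ^ n) * d.psi (c ^ n) = 1 := by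
          rcases ht with rfl | rfl
          · exact htt
          · have hc := d.a₀_comm_psi (c ^ n)
            calc d.psi (c ^ n) * d.psi (c ^ n) = (d.a₀ * d.psi (c ^ n)) * (d.a₀ * d.psi (c ^ n)) * (d.a₀ * d.a₀)⁻¹ := by
                  rw [d.a₀_sq]
                  calc d.psi (c ^ n) * d.psi (c ^ n) = d.a₀ * (d.a₀ * d.psi (c ^ n)) * d.psi (c ^ n) * 1⁻¹ := by
                        rw [← mul_assoc, d.a₀_sq]
                        group
                    _ = d.a₀ * (d.psi (c ^ n) * d.a₀) * d.psi (c ^ n) * 1⁻¹ := by rw [hc]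
                    _ = _ := by group
              _ = 1 := by
                rw [htt, d.a₀_sq]
                group
        have h2 : 2 * w ∣ 2 * n := by
          apply (hpc _).1
          rw [two_mul, pow_add, map_mul]
          exact e1
        obtain ⟨b, hb⟩ := Nat.dvd_of_mul_dvd_mul_left (by norm_num) h2
        have e2 : d.psi (c ^ n) = i ^ b := by
          rw [hb, pow_mul, map_pow]
        rcases ht with rfl | rfl
        · show d.psi (c ^ n) ∈ V
          rw [e2]
          exact hiV' b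
        · show d.a₀ * d.psi (c ^ n) ∈ V
          rw [e2]
          exact V.mul_mem haV (hiV' b)
      · intro ht
        refine ⟨hVT ht, ?_⟩
        rcases hVm t ht with rfl | rfl | rfl | rfl
        · simp
        · exact d.a₀_sq
        · exact hii
        · rw [mul_assoc, ← mul_assoc i, ← haicomm, mul_assoc, hii, mul_one, d.a₀_sq]
    rw [hset, ← hV4]
    rfl
  · exact ⟨d.psi c, d.psi_mem_Tp hcC, hpo⟩

end Dat

/-- The target subgroups. -/
def Good (K : Type*) [Field K] [Fintype K] (m : ℕ) (A : Subgroup (Gm K m)) : Prop :=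
  (∃ P : Sylow 2 (Gm K m), A = P) ∨ (∃ P : Sylow 3 (Gm K m), A = P) ∨
  (IsCyclic A ∧ (Nat.card A = (Fintype.card K - 1) / 2 ∨ Nat.card A = (Fintype.card K + 1) / 4 ∨
    Nat.card A = Fintype.card K - 3 ^ (m + 1) + 1 ∨ Nat.card A = Fintype.card K + 3 ^ (m + 1) + 1))

/-- A subgroup normalises a target subgroup. -/
def Loc (S : Subgroup (Gm K m)) : Prop := ∃ A : Subgroup (Gm K m), S ≤ Subgroup.normalizer (A : Set (Gm K m)) ∧ Good K m A

omit [Fintype K] in
theorem klein_comm {H : Type*} [Group H] {X : Subgroup H} (hX : ∀ x ∈ X, x * x = 1) {a b : H} (ha : a ∈ X) (hb : b ∈ X) : a * b = b * a := by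
  have h1 := hX _ (X.mul_mem ha hb)
  have h2 := hX _ ha
  have h3 := hX _ hb
  calc a * b = a * (a * b * (a * b)) * b := by rw [h1]; group
    _ = (a * a) * (b * a) * (b * b) := by group
    _ = b * a := by rw [h2, h3]; group

theorem good_conj {A : Subgroup (Gm K m)} (h : Good K m A) (g : Gm K m) : Good K m (A.map (MulAut.conj g).toMonoidHom) := by
  rcases h with ⟨P, rfl⟩ | ⟨P, rfl⟩ | ⟨hc, hc2⟩
  · left
    exact ⟨g • P, by rw [Sylow.coe_subgroup_smul]; rfl⟩
  · right; left
    exact ⟨g • P, by rw [Sylow.coe_subgroup_smul]; rfl⟩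
  · right; right
    haveI := hc
    refine ⟨Dat.isCyclic_map _ _, ?_⟩
    rw [card_map_conj]
    exact hc2

theorem loc_of_map {S : Subgroup (Gm K m)} (h : Gm K m) (hL : Loc (S.map (MulAut.conj h).toMonoidHom)) : Loc S := by
  obtain ⟨A, hA, hG⟩ := hL
  exact ⟨A.map (MulAut.conj h⁻¹).toMonoidHom, norm_conj_of_map hA, good_conj hG _⟩

namespace Dat

variable (R : Ree K m) (d : Dat K (3 ^ m))

local notation "G" => Gm K m

include R d

/-- The tori of the group. -/
theorem exists_good {l : ℕ} (hl : l.Prime) (h3 : 3 < l) (hdvd : l ∣ Nat.card G) :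
    ∃ (A₀ : Subgroup G) (y₀ : G), Good K m A₀ ∧ orderOf y₀ = l ∧
      Subgroup.normalizer ((Subgroup.zpowers y₀ : Subgroup G) : Set G) = Subgroup.normalizer (A₀ : Set G) := by
  haveI := d.finite_G1
  haveI : Fact l.Prime := ⟨hl⟩
  obtain ⟨T, A, w, hP⟩ := d.exists_plus R
  obtain ⟨x₁, x₂, p₁, p₂, h₁, h₂, hτ₁, hτ₂, hN₁, hN₂, hall⟩ := d.exists_tori R hP
  have hq := R.q_ge
  have hG : Nat.card G = Fintype.card K ^ 3 * (Fintype.card K - 1) * (Fintype.card K ^ 3 + 1) := d.card_G1 R.hs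
  obtain ⟨a, ha⟩ : ∃ a, Fintype.card K = a + 2 := ⟨Fintype.card K - 2, by omega⟩
  have hP' : Fintype.card K ^ 3 + 1 = (Fintype.card K + 1) * (Fintype.card K ^ 2 - Fintype.card K + 1) := by
    rw [ha]
    have e2 : (a + 2) ^ 2 - (a + 2) + 1 = a ^ 2 + 3 * a + 3 := by
      have : (a + 2) ^ 2 = a ^ 2 + 3 * a + 2 + (a + 2) := by ring
      rw [this]
      omega
    rw [e2]
    ring
  rw [hG, hP', hl.dvd_mul, hl.dvd_mul, hl.dvd_mul] at hdvd
  have hne : ∀ y : G, orderOf y = l → Subgroup.zpowers y ≠ ⊥ := by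
    intro y hy h
    rw [Subgroup.zpowers_eq_bot] at h
    rw [h, orderOf_one] at hy
    exact hl.one_lt.ne hy
  rcases hdvd with ((h | h) | h | h)
  · exfalso
    have h4 := hl.dvd_of_dvd_pow h
    rw [R.hK] at h4
    have h5 := hl.dvd_of_dvd_pow h4
    have h6 := (Nat.prime_dvd_prime_iff_eq hl Nat.prime_three).1 h5
    omega
  · obtain ⟨k, hk⟩ := R.h8
    have hAm : l ∣ 4 * k + 1 := by
      have h5 : Fintype.card K - 1 = 2 * (4 * k + 1) := by omega
      rw [h5] at h
      rcases hl.dvd_mul.1 h with h6 | h6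
      · have h7 := (Nat.prime_dvd_prime_iff_eq hl Nat.prime_two).1 h6
        omega
      · exact h6
    have h0 : ∃ y : d.Am R.hs, orderOf y = l := exists_prime_orderOf_dvd_card' l (by rw [d.card_Am R.hs hk]; exact hAm)
    obtain ⟨y, hy⟩ := h0
    have hy' : orderOf y.1 = l := (Subgroup.orderOf_coe y).trans hy
    refine ⟨d.Am R.hs, y.1, Or.inr (Or.inr ⟨d.isCyclic_Am R.hs, Or.inl ?_⟩), hy', ?_⟩
    · rw [d.card_Am R.hs hk]
      omega
    · exact d.norm_Am_sub R (Subgroup.zpowers_le.2 y.2) (hne _ hy')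
  · have hw : l ∣ w := by
      have h5 := hP.hw
      rw [h5] at h
      rcases hl.dvd_mul.1 h with h6 | h6
      · have h7 : l ∣ 2 ^ 2 := h6
        have h8 := hl.dvd_of_dvd_pow h7
        have h9 := (Nat.prime_dvd_prime_iff_eq hl Nat.prime_two).1 h8
        omega
      · exact h6
    obtain ⟨y, hyA, hy⟩ := d.plus_exists_elt R hP hl hw
    refine ⟨A, y, Or.inr (Or.inr ⟨hP.cyc_A, Or.inr (Or.inl ?_)⟩), hy, ?_⟩
    · rw [hP.card_A]
      have := hP.hw
      omega
    · exact d.plus_norm_sub R hP (Subgroup.zpowers_le.2 hyA) (hne _ hy)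
  · rcases hall l hl h with h5 | h5
    · obtain ⟨y, hy, hyl⟩ := d.t3_exists_elt R hP h₁ hl h5
      refine ⟨_, y, Or.inr (Or.inr ⟨d.t3_cyc R h₁, Or.inr (Or.inr (Or.inl hτ₁))⟩), hyl, ?_⟩
      exact d.t3_norm_sub R hP h₁ (Subgroup.zpowers_le.2 hy) (hne _ hyl)
    · obtain ⟨y, hy, hyl⟩ := d.t3_exists_elt R hP h₂ hl h5
      refine ⟨_, y, Or.inr (Or.inr ⟨d.t3_cyc R h₂, Or.inr (Or.inr (Or.inr hτ₂))⟩), hyl, ?_⟩
      exact d.t3_norm_sub R hP h₂ (Subgroup.zpowers_le.2 hy) (hne _ hyl)

/-- Subgroups normalising a group of prime power order, for primes larger than three. -/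
theorem loc_large {r : ℕ} (hr : r.Prime) (h3 : 3 < r) {X : Subgroup G} (hX : IsPGroup r X) (hne : X ≠ ⊥) {S : Subgroup G}
    (hS : S ≤ Subgroup.normalizer (X : Set G)) : Loc S := by
  haveI := d.finite_G1
  haveI : Fact r.Prime := ⟨hr⟩
  obtain ⟨Q, hQ⟩ := hX.exists_le_sylow
  haveI := d.sylow_cyc R h3 Q
  haveI : IsCyclic X := isCyclic_of_injective (Subgroup.inclusion hQ) (Subgroup.inclusion_injective hQ)
  obtain ⟨x, hx, hx1⟩ := exists_ne_of_ne_bot hne
  obtain ⟨k, hk⟩ := hX ⟨x, hx⟩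
  have hk' : x ^ r ^ k = 1 := congrArg Subtype.val hk
  have hro : r ∣ orderOf x := by
    obtain ⟨j, -, hj⟩ := (Nat.dvd_prime_pow hr).1 (orderOf_dvd_of_pow_eq_one hk')
    rw [hj]
    refine dvd_pow_self r ?_
    rintro rfl
    rw [pow_zero] at hj
    exact hx1 (orderOf_eq_one_iff.1 hj)
  set y := x ^ (orderOf x / r) with hy
  have hyo : orderOf y = r := orderOf_pow_orderOf_div (orderOf_pos x).ne' hro
  have hle : Subgroup.normalizer (X : Set G) ≤ Subgroup.normalizer ((Subgroup.zpowers y : Subgroup G) : Set G) :=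
    normalizer_le_of_cyclic (Subgroup.zpowers_le.2 (X.pow_mem hx _))
  have hrG : r ∣ Nat.card G := by
    rw [← hyo]
    exact orderOf_dvd_natCard y
  obtain ⟨A₀, y₀, hgood, hy₀, hN⟩ := d.exists_good R hr h3 hrG
  obtain ⟨h, hh⟩ := d.conj_of_prime R hr h3 hyo hy₀
  apply loc_of_map h
  refine ⟨A₀, ?_, hgood⟩
  rintro _ ⟨g, hg, rfl⟩
  rw [← hN, ← hh]
  have e : Subgroup.zpowers (h * y * h⁻¹) = (Subgroup.zpowers y).map (MulAut.conj h).toMonoidHom := by
    rw [MonoidHom.map_zpowers]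
    rfl
  rw [e]
  exact conj_mem_norm (hle (hS hg))

/-- Subgroups normalising a non-trivial `3`-group. -/
theorem loc_three {X : Subgroup G} (hX : IsPGroup 3 X) (hne : X ≠ ⊥) {S : Subgroup G}
    (hS : S ≤ Subgroup.normalizer (X : Set G)) : Loc S := by
  haveI := d.finite_G1
  haveI : Fact (Nat.Prime 3) := ⟨Nat.prime_three⟩
  obtain ⟨Q, hQ⟩ := hX.exists_le_sylow
  refine ⟨Q, ?_, Or.inr (Or.inl ⟨Q, rfl⟩)⟩
  intro g hg
  apply Sylow.smul_eq_iff_mem_normalizer.1
  by_contra hne'
  have h1 := d.sylow3_TI R.hs R.hK (by omega) (g • Q) Q hne'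
  obtain ⟨x, hx, hx1⟩ := exists_ne_of_ne_bot hne
  apply hx1
  have h2 : x ∈ ((g • Q : Sylow 3 G) : Subgroup G) ⊓ (Q : Subgroup G) := by
    refine Subgroup.mem_inf.2 ⟨?_, hQ hx⟩
    rw [Sylow.coe_subgroup_smul, Subgroup.mem_smul_pointwise_iff_exists]
    have h3 : g⁻¹ * x * g ∈ X := by
      have := (Subgroup.mem_set_normalizer_iff.1 (hS hg) (g⁻¹ * x * g))
      have e : g * (g⁻¹ * x * g) * g⁻¹ = x := by group
      rw [e] at this
      exact this.2 hx
    refine ⟨_, hQ h3, ?_⟩
    rw [MulAut.smul_def, MulAut.conj_apply]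
    group
  rw [h1] at h2
  exact h2

/-- Subgroups normalising a Sylow `2`-subgroup. -/
theorem loc_eight {X : Subgroup G} (h8 : Nat.card X = 8) {S : Subgroup G}
    (hS : S ≤ Subgroup.normalizer (X : Set G)) : Loc S := by
  haveI := d.finite_G1
  haveI : Fact (Nat.Prime 2) := ⟨Nat.prime_two⟩
  obtain ⟨k, hk⟩ := R.h8
  obtain ⟨n, hn, hG⟩ := d.two_part R.hs hk
  have hcard : Nat.card X = 2 ^ (Nat.card G).factorization 2 := by
    rw [h8, hG, Dat.fact8 hn]
    norm_num
  exact ⟨X, hS, Or.inl ⟨Sylow.ofCard _ hcard, rfl⟩⟩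

omit d in
theorem ns_of_sq {B : SpecialLinearGroup (Fin 2) K} (hB : B * B = D0 (-1)) : NS B := by
  rw [ns_iff]
  intro c v hv hBv
  have h1 : ((B * B : SpecialLinearGroup (Fin 2) K) : Matrix (Fin 2) (Fin 2) K).mulVec v = (c * c) • v := by
    rw [Matrix.SpecialLinearGroup.coe_mul, ← Matrix.mulVec_mulVec, hBv, Matrix.mulVec_smul, hBv, smul_smul]
  have h2 : ((D0 (-1 : Kˣ) : SpecialLinearGroup (Fin 2) K) : Matrix (Fin 2) (Fin 2) K).mulVec v = -v := by
    ext i
    fin_cases i <;> simp [D0, Matrix.mulVec, dotProduct, Fin.sum_univ_two]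
  rw [hB, h2] at h1
  have h3 : (c * c + 1) • v = 0 := by
    rw [add_smul, one_smul, ← h1]
    simp
  rcases smul_eq_zero.1 h3 with h4 | h4
  · apply R.hnm
    exact ⟨c, by linear_combination -h4⟩
  · exact hv h4

/-- Subgroups normalising a four-group containing `a₀`. -/
theorem loc_four_a {X : Subgroup G} (hX : ∀ x ∈ X, x * x = 1) (h4 : Nat.card X = 4) (ha : d.a₀ ∈ X) {S : Subgroup G}
    (hS : S ≤ Subgroup.normalizer (X : Set G)) : Loc S := by
  classical
  haveI := d.finite_G1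
  have hb : ∃ b ∈ X, b ≠ 1 ∧ b ≠ d.a₀ := by
    by_contra hno
    push Not at hno
    have h1 : (X : Set G) ⊆ {1, d.a₀} := by
      intro x hx
      by_cases h2 : x = 1
      · exact Or.inl h2
      · exact Or.inr (hno x hx h2)
    have h2 := Set.ncard_le_ncard h1
    have h3 : Nat.card X = (X : Set G).ncard := Nat.card_coe_set_eq (X : Set G)
    have h5 := Set.ncard_insert_le (1 : G) ({d.a₀} : Set G)
    rw [Set.ncard_singleton] at h5
    omega
  obtain ⟨b, hbX, hb1, hb2⟩ := hb
  obtain ⟨B, hB⟩ := d.isP_of_comm R.hs (klein_comm hX hbX ha)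
  have hB' : d.psi B ∈ X ∧ d.psi B ≠ 1 := by
    rcases hB with rfl | rfl
    · exact ⟨hbX, hb1⟩
    · refine ⟨?_, ?_⟩
      · have : d.psi B = d.a₀ * (d.a₀ * d.psi B) := by
          rw [← mul_assoc, d.a₀_sq, one_mul]
        rw [this]
        exact X.mul_mem ha hbX
      · intro h
        rw [h, mul_one] at hb2
        exact hb2 rfl
  obtain ⟨hBX, hB1⟩ := hB'
  have hBB : B * B = D0 (-1) := by
    have h1 : d.psi (B * B) = 1 := by
      rw [map_mul]
      exact hX _ hBX
    rcases d.psi_eq_one h1 with h2 | h2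
    · exfalso
      rcases (mem_center_SL _).1 (SL2Nonsplit.sq_eq_one_iff R.ringChar_ne h2) with h5 | h5
      · rw [h5, map_one] at hB1
        exact hB1 rfl
      · rw [h5, d.psi_D_neg_one] at hB1
        exact hB1 rfl
    · exact h2
  have hNS := ns_of_sq R hBB
  have hC : IsNSTorus (Subgroup.centralizer ({B} : Set (SpecialLinearGroup (Fin 2) K))) := exists_torus_of_ns R.ringChar_ne hNS
  set C₁ := Subgroup.centralizer ({B} : Set (SpecialLinearGroup (Fin 2) K)) with hC₁
  have hBC : B ∈ C₁ := Subgroup.mem_centralizer_singleton_iff.2 rfl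
  obtain ⟨A, w, hP⟩ := d.plus_of_torus R hC
  have haBne : d.a₀ ≠ d.psi B := (d.a₀_not_psi R.hs R.hnm _).symm
  have hacomm : d.a₀ * d.psi B = d.psi B * d.a₀ := (d.a₀_comm_psi _).symm
  obtain ⟨V, hV4, haV, hiV, hVm⟩ := klein_sub d.a₀_sq (hX _ hBX) hacomm d.a₀_ne hB1 haBne
  have hVX : V ≤ X := by
    intro x hx
    rcases hVm x hx with rfl | rfl | rfl | rfl
    · exact X.one_mem
    · exact ha
    · exact hBX
    · exact X.mul_mem ha hBX
  have hVeq : V = X := Subgroup.eq_of_le_of_card_ge hVX (by rw [hV4, h4])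
  have hXT : X ≤ d.Tp C₁ := by
    rw [← hVeq]
    intro x hx
    rcases hVm x hx with rfl | rfl | rfl | rfl
    · exact Subgroup.one_mem _
    · exact d.a₀_mem_Tp C₁
    · exact d.psi_mem_Tp hBC
    · exact Subgroup.mul_mem _ (d.a₀_mem_Tp C₁) (d.psi_mem_Tp hBC)
  have hq := R.q_ge
  have hw1 : w ≠ 1 := by
    have := hP.hw
    omega
  obtain ⟨l, hl, hlw⟩ := Nat.exists_prime_and_dvd hw1
  have h7 := R.prime_ge hP.hw hP.hodd hl hlw
  obtain ⟨y, hyA, hyl⟩ := d.plus_exists_elt R hP hl hlw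
  have hq1 : ¬ l ∣ Fintype.card K - 1 := by
    intro h5
    have h6 : l ∣ Fintype.card K + 1 := by
      rw [hP.hw]
      exact Dvd.dvd.mul_left hlw 4
    have h8 : Fintype.card K + 1 = (Fintype.card K - 1) + 2 := by omega
    rw [h8] at h6
    have h9 := (Nat.dvd_add_right h5).1 h6
    have := Nat.le_of_dvd (by norm_num) h9
    omega
  refine ⟨A, ?_, Or.inr (Or.inr ⟨hP.cyc_A, Or.inr (Or.inl ?_)⟩)⟩
  · intro g hg
    rw [d.plus_norm_A R hP]
    have hgX := hS hg
    have hgX' : ∀ z ∈ X, g⁻¹ * z * g ∈ X := by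
      intro z hz
      have := (Subgroup.mem_set_normalizer_iff.1 hgX (g⁻¹ * z * g))
      have e : g * (g⁻¹ * z * g) * g⁻¹ = z := by group
      rw [e] at this
      exact this.2 hz
    set y' := g * y * g⁻¹ with hy'
    have hy'o : orderOf y' = l := by
      have := (MulAut.conj g).orderOf_eq y
      rw [MulAut.conj_apply] at this
      rw [hy', this, hyl]
    have hcomm : ∀ z ∈ X, y' * z = z * y' := by
      intro z hz
      have h1 : y * (g⁻¹ * z * g) = (g⁻¹ * z * g) * y := hP.comm _ (hP.A_le hyA) _ (hXT (hgX' z hz))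
      calc y' * z = g * (y * (g⁻¹ * z * g)) * g⁻¹ := by rw [hy']; group
        _ = g * ((g⁻¹ * z * g) * y) * g⁻¹ := by rw [h1]
        _ = z * y' := by rw [hy']; group
    obtain ⟨A', hA', hA'l, hNS'⟩ := d.Ca_lift R hl (by omega) (by omega) hq1 hy'o (hcomm _ ha)
    have hlo : Odd l := hl.odd_of_ne_two (by omega)
    have h1 := d.C_inter hlo hA' hA'l R.hs (g := d.psi B) (d.a₀_comm_psi B) (hcomm _ hBX).symm
    obtain ⟨C', hC', e | e⟩ := h1
    · have hc : A' * C' = C' * A' := (Subgroup.mem_centralizer_singleton_iff.1 hC').symm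
      have hAB : A' ∈ C₁ := by
        rw [hC₁, Subgroup.mem_centralizer_singleton_iff]
        rcases d.psi_eq e with h5 | h5
        · rw [h5]
          exact hc
        · rw [h5]
          have hD := D0_central (K := K) A'
          calc A' * (D0 (-1) * C') = (A' * D0 (-1)) * C' := by group
            _ = (D0 (-1) * A') * C' := by rw [(hD.eq).symm]
            _ = D0 (-1) * (A' * C') := by group
            _ = D0 (-1) * (C' * A') := by rw [hc]
            _ = _ := by group
      have hy'T : y' ∈ d.Tp C₁ := by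
        rw [← hA']
        exact d.psi_mem_Tp hAB
      have hy'A : y' ∈ A := by
        apply hP.A_of _ hy'T
        rw [← orderOf_dvd_iff_pow_eq_one, hy'o]
        exact hlw
      have hC1 := d.plus_cent_A R hP hy'A hl hlw hy'o
      have hC2 := d.plus_cent_A R hP hyA hl hlw hyl
      apply mem_norm_of_conj_le
      intro t ht
      rw [← hC1, hy', mem_cent_conj, hC2]
      have e2 : g⁻¹ * (g * t * g⁻¹) * g = t := by group
      rwa [e2]
    · exfalso
      apply d.a₀_not_psi R.hs R.hnm (B * C'⁻¹)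
      rw [map_mul, map_inv, e]
      group
  · rw [hP.card_A]
    have := hP.hw
    omega

/-- Subgroups normalising a four-group. -/
theorem loc_four {X : Subgroup G} (hX : ∀ x ∈ X, x * x = 1) (h4 : Nat.card X = 4) {S : Subgroup G}
    (hS : S ≤ Subgroup.normalizer (X : Set G)) : Loc S := by
  haveI := d.finite_G1
  have hne : X ≠ ⊥ := by
    rintro rfl
    rw [Nat.card_eq_one_iff_unique.2 ⟨inferInstance, inferInstance⟩] at h4
    omega
  obtain ⟨x, hx, hx1⟩ := exists_ne_of_ne_bot hne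
  obtain ⟨h, rfl⟩ := d.inv_conj R (hX x hx) hx1
  apply loc_of_map h⁻¹
  refine d.loc_four_a R (X := X.map (MulAut.conj h⁻¹).toMonoidHom) ?_ ?_ ?_ (map_le_norm hS)
  · rintro _ ⟨u, hu, rfl⟩
    change h⁻¹ * u * h⁻¹⁻¹ * (h⁻¹ * u * h⁻¹⁻¹) = 1
    calc h⁻¹ * u * h⁻¹⁻¹ * (h⁻¹ * u * h⁻¹⁻¹) = h⁻¹ * (u * u) * h⁻¹⁻¹ := by group
      _ = 1 := by rw [hX u hu]; group
  · rw [card_map_conj, h4]
  · refine ⟨_, hx, ?_⟩
    change h⁻¹ * (h * d.a₀ * h⁻¹) * h⁻¹⁻¹ = d.a₀
    group

/-- A group of exponent two has order at most eight. -/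
theorem card_dvd_eight {X : Subgroup G} (hX : IsPGroup 2 X) : Nat.card X ∣ 8 := by
  haveI := d.finite_G1
  haveI : Fact (Nat.Prime 2) := ⟨Nat.prime_two⟩
  obtain ⟨Q, hQ⟩ := hX.exists_le_sylow
  obtain ⟨S₀, hS₀⟩ := d.exists_sylow_S0 R
  have h1 := Subgroup.card_dvd_of_le hQ
  have h2 : Nat.card (Q : Subgroup G) = Nat.card (S₀ : Subgroup G) := by
    rw [Q.card_eq_multiplicity, S₀.card_eq_multiplicity]
  rw [h2, hS₀, d.card_S0 R.hs R.hnm] at h1
  exact h1

theorem isP_of_sq {X : Subgroup G} (hX : ∀ x ∈ X, x * x = 1) : IsPGroup 2 X := by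
  intro x
  refine ⟨1, ?_⟩
  apply Subtype.ext
  show x.1 ^ 2 ^ 1 = 1
  rw [pow_one, pow_two]
  exact hX _ x.2

/-- Subgroups normalising a non-cyclic elementary abelian `2`-group. -/
theorem loc_ge4 {X : Subgroup G} (hX : ∀ x ∈ X, x * x = 1) (h4 : 4 ≤ Nat.card X) {S : Subgroup G}
    (hS : S ≤ Subgroup.normalizer (X : Set G)) : Loc S := by
  have h8 := d.card_dvd_eight R (isP_of_sq R d hX)
  have hle := Nat.le_of_dvd (by norm_num) h8
  have : Nat.card X = 4 ∨ Nat.card X = 8 := by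
    generalize Nat.card X = n at *
    interval_cases n <;> simp_all
  rcases this with h | h
  · exact d.loc_four R hX h hS
  · exact d.loc_eight R h hS

/-- Solvable subgroups centralising `a₀`. -/
theorem loc_comm {S : Subgroup G} (hsol : Group.IsSolvable S) (hc : ∀ g ∈ S, g * d.a₀ = d.a₀ * g) : Loc S := by
  classical
  haveI := d.finite_G1
  haveI : Fact (Nat.Prime 2) := ⟨Nat.prime_two⟩
  set L : Subgroup G := d.psi.range with hL
  have hsq : ∀ g ∈ S, g * g ∈ S ⊓ L := by
    intro g hg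
    refine Subgroup.mem_inf.2 ⟨S.mul_mem hg hg, ?_⟩
    obtain ⟨B, rfl | rfl⟩ := d.isP_of_comm R.hs (hc g hg)
    · exact ⟨B * B, map_mul _ _ _⟩
    · refine ⟨B * B, ?_⟩
      rw [map_mul]
      have h1 := d.a₀_comm_psi B
      calc d.psi B * d.psi B = d.a₀ * d.a₀ * (d.psi B * d.psi B) := by rw [d.a₀_sq, one_mul]
        _ = d.a₀ * (d.a₀ * d.psi B) * d.psi B := by group
        _ = d.a₀ * (d.psi B * d.a₀) * d.psi B := by rw [h1]
        _ = _ := by group
  by_cases hbot : S ⊓ L = ⊥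
  · have hS2 : ∀ g ∈ S, g * g = 1 := by
      intro g hg
      have := hsq g hg
      rw [hbot] at this
      exact this
    obtain ⟨Q, hQ⟩ := (isP_of_sq R d hS2).exists_le_sylow
    refine ⟨Q, ?_, Or.inl ⟨Q, rfl⟩⟩
    exact hQ.trans Subgroup.le_normalizer
  · haveI hsol₂ : Group.IsSolvable (S ⊓ L : Subgroup G) :=
      Group.isSolvable_of_isSolvable_injective (f := Subgroup.inclusion (inf_le_left : S ⊓ L ≤ S)) (Subgroup.inclusion_injective _)
    obtain ⟨r, X, hr, hne, hle, hexp, hcomm, hN⟩ := exists_char (S ⊓ L) hsol₂ hbot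
    have hSN : S ≤ Subgroup.normalizer (((S ⊓ L : Subgroup G)) : Set G) := by
      intro g hg
      apply mem_norm_of_conj_le
      intro x hx
      obtain ⟨hx1, A, rfl⟩ := Subgroup.mem_inf.1 hx
      refine Subgroup.mem_inf.2 ⟨S.mul_mem (S.mul_mem hg hx1) (S.inv_mem hg), ?_⟩
      obtain ⟨B, rfl | rfl⟩ := d.isP_of_comm R.hs (hc g hg)
      · exact ⟨B * A * B⁻¹, by rw [map_mul, map_mul, map_inv]⟩
      · refine ⟨B * A * B⁻¹, ?_⟩
        rw [map_mul, map_mul, map_inv, _root_.mul_inv_rev, d.a₀_inv]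
        have h1 := d.a₀_comm_psi B
        have h2 := d.a₀_comm_psi A
        have h3 := d.a₀_sq
        have h4 : (d.psi B)⁻¹ * d.a₀ = d.a₀ * (d.psi B)⁻¹ := by
          rw [← map_inv]
          exact d.a₀_comm_psi _
        calc d.psi B * d.psi A * (d.psi B)⁻¹ = (d.a₀ * d.a₀) * (d.psi B * d.psi A * (d.psi B)⁻¹) := by rw [h3, one_mul]
          _ = d.a₀ * (d.a₀ * d.psi B) * d.psi A * (d.psi B)⁻¹ := by group
          _ = d.a₀ * (d.psi B * d.a₀) * d.psi A * (d.psi B)⁻¹ := by rw [h1]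
          _ = d.a₀ * d.psi B * (d.a₀ * d.psi A) * (d.psi B)⁻¹ := by group
          _ = d.a₀ * d.psi B * (d.psi A * d.a₀) * (d.psi B)⁻¹ := by rw [h2]
          _ = d.a₀ * d.psi B * d.psi A * (d.a₀ * (d.psi B)⁻¹) := by group
          _ = d.a₀ * d.psi B * d.psi A * ((d.psi B)⁻¹ * d.a₀) := by rw [h4]
    have hSX : S ≤ Subgroup.normalizer (X : Set G) := hSN.trans hN
    have hXp : IsPGroup r X := by
      intro x
      refine ⟨1, ?_⟩
      apply Subtype.ext
      show x.1 ^ r ^ 1 = 1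
      rw [pow_one]
      exact hexp _ x.2
    have hr2 := hr.two_le
    rcases (by omega : r = 2 ∨ r = 3 ∨ 3 < r) with rfl | rfl | h3
    · have hXL : X ≤ L := hle.trans inf_le_right
      have hXsq : ∀ x ∈ X, x * x = 1 := fun x hx => by
        rw [← pow_two]
        exact hexp x hx
      have haL : ∀ x ∈ L, d.a₀ * x = x * d.a₀ := by
        rintro _ ⟨A, rfl⟩
        exact (d.a₀_comm_psi A).symm
      let X' : Subgroup G :=
        { carrier := {g | g ∈ X ∨ d.a₀ * g ∈ X}
          one_mem' := Or.inl X.one_mem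
          mul_mem' := by
            rintro a b (ha | ha) (hb | hb)
            · exact Or.inl (X.mul_mem ha hb)
            · right
              have e : d.a₀ * (a * b) = a * (d.a₀ * b) := by
                rw [← mul_assoc, ← mul_assoc, haL a (hXL ha)]
              rw [e]
              exact X.mul_mem ha hb
            · right
              rw [← mul_assoc]
              exact X.mul_mem ha hb
            · left
              have e : a * b = (d.a₀ * a) * (d.a₀ * b) := by
                calc a * b = d.a₀ * d.a₀ * (a * b) := by rw [d.a₀_sq, one_mul]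
                  _ = d.a₀ * (d.a₀ * a) * b := by group
                  _ = (d.a₀ * a) * d.a₀ * b := by rw [haL _ (hXL ha)]
                  _ = _ := by group
              rw [e]
              exact X.mul_mem ha hb
          inv_mem' := by
            rintro a (ha | ha)
            · exact Or.inl (X.inv_mem ha)
            · right
              have hcm : Commute d.a₀ a := by
                have h1 := haL _ (hXL ha)
                rw [mul_assoc] at h1
                exact mul_left_cancel h1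
              have e : d.a₀ * a⁻¹ = (d.a₀ * a)⁻¹ := by
                rw [_root_.mul_inv_rev, d.a₀_inv]
                exact hcm.inv_right.eq
              rw [e]
              exact X.inv_mem ha }
      have hX'mem : ∀ g, g ∈ X' ↔ g ∈ X ∨ d.a₀ * g ∈ X := fun g => Iff.rfl
      have hX'sq : ∀ x ∈ X', x * x = 1 := by
        rintro x (hx | hx)
        · exact hXsq x hx
        · have h1 := hXsq _ hx
          have h2 := haL _ (hXL hx)
          calc x * x = d.a₀ * d.a₀ * (x * x) := by rw [d.a₀_sq, one_mul]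
            _ = d.a₀ * (d.a₀ * x) * x := by group
            _ = (d.a₀ * x) * d.a₀ * x := by rw [h2]
            _ = (d.a₀ * x) * (d.a₀ * x) := by group
            _ = 1 := h1
      obtain ⟨b, hbX, hb1⟩ := exists_ne_of_ne_bot hne
      have hba : d.a₀ ≠ b := by
        rintro rfl
        obtain ⟨A, hA⟩ := hXL hbX
        exact d.a₀_not_psi R.hs R.hnm A hA
      obtain ⟨V, hV4, -, -, hVm⟩ := klein_sub d.a₀_sq (hXsq b hbX) (haL b (hXL hbX)) d.a₀_ne hb1 hba
      have hVX' : V ≤ X' := by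
        intro x hx
        rw [hX'mem]
        rcases hVm x hx with rfl | rfl | rfl | rfl
        · exact Or.inl X.one_mem
        · right
          rw [d.a₀_sq]
          exact X.one_mem
        · exact Or.inl hbX
        · right
          rw [← mul_assoc, d.a₀_sq, one_mul]
          exact hbX
      have hge : 4 ≤ Nat.card X' := by
        rw [← hV4]
        exact Subgroup.card_le_of_le hVX'
      refine d.loc_ge4 R hX'sq hge ?_
      intro g hg
      apply mem_norm_of_conj_le
      have hgX := Subgroup.mem_set_normalizer_iff.1 (hSX hg)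
      rintro x (hx | hx)
      · exact Or.inl ((hgX x).1 hx)
      · right
        have h1 := (hgX _).1 hx
        have e : g * (d.a₀ * x) * g⁻¹ = d.a₀ * (g * x * g⁻¹) := by
          calc g * (d.a₀ * x) * g⁻¹ = (g * d.a₀) * x * g⁻¹ := by group
            _ = (d.a₀ * g) * x * g⁻¹ := by rw [hc g hg]
            _ = _ := by group
        rw [← e]
        exact h1
    · exact d.loc_three R hXp hne hSX
    · exact d.loc_large R hr h3 hXp hne hSX

/-- Every solvable subgroup normalises a target subgroup. -/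
theorem loc_main {S : Subgroup G} (hsol : Group.IsSolvable S) : Loc S := by
  classical
  haveI := d.finite_G1
  haveI : Fact (Nat.Prime 2) := ⟨Nat.prime_two⟩
  by_cases hbot : S = ⊥
  · subst hbot
    obtain ⟨Q⟩ : Nonempty (Sylow 2 G) := inferInstance
    exact ⟨Q, bot_le, Or.inl ⟨Q, rfl⟩⟩
  obtain ⟨r, X, hr, hne, hle, hexp, hcomm, hN⟩ := exists_char S hsol hbot
  have hSX : S ≤ Subgroup.normalizer (X : Set G) := Subgroup.le_normalizer.trans hN
  have hXp : IsPGroup r X := by
    intro x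
    refine ⟨1, ?_⟩
    apply Subtype.ext
    show x.1 ^ r ^ 1 = 1
    rw [pow_one]
    exact hexp _ x.2
  have hr2 := hr.two_le
  rcases (by omega : r = 2 ∨ r = 3 ∨ 3 < r) with rfl | rfl | h3
  · have hXsq : ∀ x ∈ X, x * x = 1 := fun x hx => by
      rw [← pow_two]
      exact hexp x hx
    by_cases h4 : 4 ≤ Nat.card X
    · exact d.loc_ge4 R hXsq h4 hSX
    · -- `X` has order two
      obtain ⟨x, hx, hx1⟩ := exists_ne_of_ne_bot hne
      have hdiv := d.card_dvd_eight R hXp
      have hc2 : Nat.card X ≤ 2 := by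
        have hle8 := Nat.le_of_dvd (by norm_num) hdiv
        generalize Nat.card X = n at *
        interval_cases n <;> simp_all
      have huniq : ∀ u ∈ X, u ≠ 1 → u = x := by
        intro u hu hu1
        by_contra hne2
        have h2 : ({1, x, u} : Finset G) ⊆ (X : Set G).toFinset := by
          intro z hz
          simp only [Finset.mem_insert, Finset.mem_singleton] at hz
          rw [Set.mem_toFinset]
          rcases hz with rfl | rfl | rfl
          · exact X.one_mem
          · exact hx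
          · exact hu
        have h3 := Finset.card_le_card h2
        have h5 : ({1, x, u} : Finset G).card = 3 := by
          rw [Finset.card_insert_of_notMem, Finset.card_insert_of_notMem, Finset.card_singleton]
          · simp [Ne.symm hne2]
          · simp [Ne.symm hx1, Ne.symm hu1]
        have h6 : (X : Set G).toFinset.card = Nat.card X := by
          rw [Set.toFinset_card, ← Nat.card_eq_fintype_card]
          rfl
        omega
      have hxc : ∀ g ∈ S, g * x = x * g := by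
        intro g hg
        have h1 := (Subgroup.mem_set_normalizer_iff.1 (hSX hg) x).1 hx
        have h2 : g * x * g⁻¹ ≠ 1 := by
          intro h
          apply hx1
          have e : x = g⁻¹ * (g * x * g⁻¹) * g := by group
          rw [e, h]
          group
        have h3 := huniq _ h1 h2
        exact mul_inv_eq_iff_eq_mul.1 h3
      obtain ⟨h, rfl⟩ := d.inv_conj R (hXsq x hx) hx1
      apply loc_of_map h⁻¹
      have hsol' : Group.IsSolvable (S.map (MulAut.conj h⁻¹).toMonoidHom) := by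
        let e := (MulAut.conj h⁻¹).subgroupMap S
        haveI := hsol
        exact Group.isSolvable_of_isSolvable_injective (f := e.symm.toMonoidHom) e.symm.injective
      apply d.loc_comm R hsol'
      rintro _ ⟨g, hg, rfl⟩
      have h1 := hxc g hg
      change h⁻¹ * g * h⁻¹⁻¹ * d.a₀ = d.a₀ * (h⁻¹ * g * h⁻¹⁻¹)
      calc h⁻¹ * g * h⁻¹⁻¹ * d.a₀ = h⁻¹ * (g * (h * d.a₀ * h⁻¹)) * h⁻¹⁻¹ := by group
        _ = h⁻¹ * ((h * d.a₀ * h⁻¹) * g) * h⁻¹⁻¹ := by rw [h1]
        _ = _ := by group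
  · exact d.loc_three R hXp hne hSX
  · exact d.loc_large R hr h3 hXp hne hSX

end Dat

/-- S2361: solvable subgroups of the Ree groups. -/
theorem main_S2361 (hm : 1 ≤ m) (hK : Fintype.card K = 3 ^ (2 * m + 1)) (S : Subgroup ↥(Cfsg.Lie.twistedG2 K (3 ^ m)))
    (hS : Group.IsSolvable S) :
    ∃ A : Subgroup ↥(Cfsg.Lie.twistedG2 K (3 ^ m)), S ≤ Subgroup.normalizer (A : Set ↥(Cfsg.Lie.twistedG2 K (3 ^ m))) ∧
      ((∃ P : Sylow 2 ↥(Cfsg.Lie.twistedG2 K (3 ^ m)), A = P) ∨
       (∃ P : Sylow 3 ↥(Cfsg.Lie.twistedG2 K (3 ^ m)), A = P) ∨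
       (IsCyclic A ∧ (Nat.card A = (3 ^ (2 * m + 1) - 1) / 2 ∨ Nat.card A = (3 ^ (2 * m + 1) + 1) / 4 ∨
          Nat.card A = 3 ^ (2 * m + 1) - 3 ^ (m + 1) + 1 ∨ Nat.card A = 3 ^ (2 * m + 1) + 3 ^ (m + 1) + 1))) := by
  have R : Ree K m := ⟨hm, hK⟩
  obtain ⟨d⟩ := exists_dat hK
  rw [← hK]
  exact d.loc_main R hS

end Cfsg.Agent.Lib.Chev.TwG2
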