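import Cfsg.Agent.Lib.Chev.TwG2N

/-!
# The Ree groups `²G₂`: the normaliser of a Sylow 2-subgroup
-/

namespace Cfsg.Agent.Lib.Chev.TwG2

open Cfsg.Agent.Lib.Chev Cfsg.Lie Equiv
open Cfsg.Agent.Lib.Chev.SL2 (x0 y0 D0 n0 ext4 mem_closure_elementary uu uu_coe normal_zero normal_ne)
open Matrix (SpecialLinearGroup ProjectiveSpecialLinearGroup)

/-- a word -/
def wI : List (ℕ × ℤ) := [(10,1),(8,1),(1,-1),(3,-1),(10,1),(8,1)]
/-- a word -/
def wJ : List (ℕ × ℤ) := [(1,1),(3,1),(10,1),(8,1)]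
/-- a word -/
def wA : List (ℕ × ℤ) := [wa, wb, wc, we].flatten
/-- a word -/
def wV111 : List (ℕ × ℤ) := [(4,-1),(5,-1),(3,-2),(2,-2),(1,-1),(0,-1)]
/-- a word -/
def wT : List (ℕ × ℤ) := wa ++ wV111

theorem chk_a : checkEqMod TabG2.T 3 (opsOf (wT ++ wA)) (opsOf (wI ++ wJ ++ wT)) = true := by decide +kernel
theorem chk_2 : checkEqMod TabG2.T 3 (opsOf (wT ++ wI)) (opsOf (wA ++ wI ++ wT)) = true := by decide +kernel
theorem chk_3 : checkEqMod TabG2.T 3 (opsOf (wT ++ wJ)) (opsOf (wA ++ wI ++ wJ ++ wT)) = true := by decide +kernel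
theorem chk_7 : checkEqMod TabG2.T 3 (opsOf (wT ++ wT ++ wT ++ wT ++ wT ++ wT ++ wT)) (opsOf []) = true := by decide +kernel

section Gen

variable {G : Type*} [Group G]

/-- The centraliser and the normaliser under conjugation. -/
theorem transport (H S : Subgroup G) (g : G) (hS : ∀ x, x ∈ S ↔ g⁻¹ * x * g ∈ H) :
    (Subgroup.centralizer (H : Set G) = H → Subgroup.centralizer (S : Set G) = S) ∧
    Nat.card (Subgroup.normalizer (S : Set G)) = Nat.card (Subgroup.normalizer (H : Set G)) := by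
  have hc : ∀ x y, g⁻¹ * (x * y) * g = (g⁻¹ * x * g) * (g⁻¹ * y * g) := by intro x y; group
  have hs : ∀ y, g⁻¹ * (g * y * g⁻¹) * g = y := by intro y; group
  have hS' : ∀ x, x ∈ (S : Set G) ↔ g⁻¹ * x * g ∈ (H : Set G) := hS
  constructor
  · intro h
    ext x
    have h1 : x ∈ Subgroup.centralizer (S : Set G) ↔ g⁻¹ * x * g ∈ Subgroup.centralizer (H : Set G) := by
      rw [Subgroup.mem_centralizer_iff, Subgroup.mem_centralizer_iff]
      constructor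
      · intro h2 y hy
        have h3 : g * y * g⁻¹ ∈ S := (hS _).2 (by rwa [hs])
        have h4 := h2 _ h3
        have h5 : g⁻¹ * (g * y * g⁻¹ * x) * g = g⁻¹ * (x * (g * y * g⁻¹)) * g := by rw [h4]
        rw [hc (g * y * g⁻¹) x, hc x (g * y * g⁻¹), hs] at h5
        exact h5
      · intro h2 y hy
        have h3 := h2 _ ((hS y).1 hy)
        have h5 : g⁻¹ * (y * x) * g = g⁻¹ * (x * y) * g := by
          rw [hc, hc]
          exact h3
        simpa using h5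
    rw [h1, h, hS]
  · apply Nat.card_congr
    refine Equiv.subtypeEquiv (MulAut.conj g⁻¹).toEquiv ?_
    intro x
    show _ ↔ g⁻¹ * x * g⁻¹⁻¹ ∈ _
    rw [inv_inv, Subgroup.mem_set_normalizer_iff, Subgroup.mem_set_normalizer_iff]
    constructor
    · intro h y
      have h1 := h (g * y * g⁻¹)
      rw [hS', hS', hs] at h1
      have e1 : g⁻¹ * (x * (g * y * g⁻¹) * x⁻¹) * g = g⁻¹ * x * g * y * (g⁻¹ * x * g)⁻¹ := by group
      rw [e1] at h1
      exact h1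
    · intro h y
      have h1 := h (g⁻¹ * y * g)
      rw [hS', hS']
      have e1 : g⁻¹ * (x * y * x⁻¹) * g = g⁻¹ * x * g * (g⁻¹ * y * g) * (g⁻¹ * x * g)⁻¹ := by group
      rw [e1]
      exact h1

end Gen

variable {K : Type*} [Field K] [Fintype K] {e : ℕ} (d : Dat K e)

theorem word_eq (h3 : ((3 : ℕ) : K) = 0) {l l' : List (ℕ × ℤ)} (h : checkEqMod TabG2.T 3 (opsOf l) (opsOf l') = true) :
    hF.c.wordG (castW K l) = hF.c.wordG (castW K l') := by
  apply Units.ext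
  rw [hF.c.coe_wordG, hF.c.coe_wordG, ← wordOps_opsOf, ← wordOps_opsOf]
  exact checkEqMod_sound (hF.c.sound K) h3 _ _ h

namespace Dat

include d

/-- The normaliser of the Sylow subgroup. -/
noncomputable abbrev N0 : Subgroup ↥(twistedG2 K e) := Subgroup.normalizer (d.S0 : Set ↥(twistedG2 K e))

theorem N_conj {g x : ↥(twistedG2 K e)} (hg : g ∈ d.N0) (hx : x ∈ d.S0) : g * x * g⁻¹ ∈ d.S0 :=
  (Subgroup.mem_set_normalizer_iff.1 hg x).1 hx

theorem mem_N_of_gens {g : ↥(twistedG2 K e)} (h1 : g * d.a₀ * g⁻¹ ∈ d.S0) (h2 : g * d.X2 * g⁻¹ ∈ d.S0) (h3 : g * d.X3 * g⁻¹ ∈ d.S0) :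
    g ∈ d.N0 := by
  haveI := d.finite_G1
  apply mem_norm_of_le
  rintro _ ⟨⟨e₁, e₂, e₃⟩, rfl⟩
  show g * (zhom d.a₀ d.a₀_sq e₁ * (zhom d.X2 d.X2_sq e₂ * zhom d.X3 d.X3_sq e₃)) * g⁻¹ ∈ d.S0
  have e1 : g * (zhom d.a₀ d.a₀_sq e₁ * (zhom d.X2 d.X2_sq e₂ * zhom d.X3 d.X3_sq e₃)) * g⁻¹ =
      (g * zhom d.a₀ d.a₀_sq e₁ * g⁻¹) * ((g * zhom d.X2 d.X2_sq e₂ * g⁻¹) * (g * zhom d.X3 d.X3_sq e₃ * g⁻¹)) := by group
  rw [e1]
  have hone : g * 1 * g⁻¹ ∈ d.S0 := by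
    rw [mul_one, mul_inv_cancel]
    exact Subgroup.one_mem _
  refine Subgroup.mul_mem _ ?_ (Subgroup.mul_mem _ ?_ ?_)
  · rcases zhom_cases' d.a₀_sq e₁ with h | h <;> rw [h]
    · exact hone
    · exact h1
  · rcases zhom_cases' d.X2_sq e₂ with h | h <;> rw [h]
    · exact hone
    · exact h2
  · rcases zhom_cases' d.X3_sq e₃ with h | h <;> rw [h]
    · exact hone
    · exact h3

theorem conj_psi (hsq : ∀ y : Kˣ, IsSquare y ∨ IsSquare (-y)) {g : ↥(twistedG2 K e)} (hg : g * d.a₀ = d.a₀ * g) (B : SpecialLinearGroup (Fin 2) K) :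
    ∃ C, g * d.psi B * g⁻¹ = d.psi C := by
  obtain ⟨A, rfl | rfl⟩ := d.isP_of_comm hsq hg
  · exact ⟨A * B * A⁻¹, by rw [map_mul, map_mul, map_inv]⟩
  · refine ⟨A * B * A⁻¹, ?_⟩
    calc d.a₀ * d.psi A * d.psi B * (d.a₀ * d.psi A)⁻¹ = d.a₀ * d.psi (A * B * A⁻¹) * d.a₀⁻¹ := by
          simp only [map_mul, map_inv]
          group
      _ = d.psi (A * B * A⁻¹) := by
          rw [← d.a₀_comm_psi]
          group

/-- Conjugates by elements centralising `a₀`. -/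
theorem conj_Vq (hsq : ∀ y : Kˣ, IsSquare y ∨ IsSquare (-y)) (hnm : ¬ IsSquare (-1 : K)) {g : ↥(twistedG2 K e)} (hg : g ∈ d.N0) (hc : g * d.a₀ = d.a₀ * g)
    (B : SpecialLinearGroup (Fin 2) K) (hB : d.psi B ∈ d.S0) : d.Vq (g * d.psi B * g⁻¹) := by
  obtain ⟨C, hC⟩ := d.conj_psi hsq hc B
  have h1 := d.N_conj hg hB
  rcases d.mem_S0 h1 with h | ⟨y, hy, e1⟩
  · exact h
  · exfalso
    obtain ⟨D, rfl⟩ := d.Vq_psi hy
    rw [hC] at e1
    apply d.a₀_not_psi hsq hnm (C * D⁻¹)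
    rw [map_mul, map_inv, e1]
    group

theorem conj_ne_one {g x : ↥(twistedG2 K e)} (hx : x ≠ 1) : g * x * g⁻¹ ≠ 1 := by
  intro h
  apply hx
  have := congrArg (fun z => g⁻¹ * z * g) h
  simpa [mul_assoc] using this

theorem card_N_le (hsq : ∀ y : Kˣ, IsSquare y ∨ IsSquare (-y)) (hnm : ¬ IsSquare (-1 : K)) : Nat.card d.N0 ≤ 336 := by
  haveI := d.finite_G1
  have hcS := d.card_S0 hsq hnm
  -- the first step
  have s1 := card_le_orbit d.N0 d.a₀ ((d.S0 : Set ↥(twistedG2 K e)) \ {1}) (by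
    intro g hg
    exact ⟨d.N_conj hg d.a_mem, d.conj_ne_one d.a₀_ne⟩)
  have c1 : Nat.card ↥((d.S0 : Set ↥(twistedG2 K e)) \ {1}) = 7 := by
    rw [Nat.card_coe_set_eq, Set.ncard_diff_singleton_of_mem (Subgroup.one_mem _)]
    have : (d.S0 : Set ↥(twistedG2 K e)).ncard = 8 := by
      rw [← Nat.card_coe_set_eq]
      exact hcS
    rw [this]
  rw [c1] at s1
  -- the second step
  set H1 := d.N0 ⊓ Subgroup.centralizer {d.a₀} with hH1
  have hH1c : ∀ {g}, g ∈ H1 → g * d.a₀ = d.a₀ * g := fun {g} hg => Subgroup.mem_centralizer_singleton_iff.1 hg.2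
  have s2 := card_le_orbit H1 d.X2 ({d.X2, d.X3, d.X2 * d.X3} : Set ↥(twistedG2 K e)) (by
    intro g hg
    have h1 := d.conj_Vq hsq hnm hg.1 (hH1c hg) n0 d.X2_mem
    rcases h1 with h | h | h | h
    · exact absurd h (d.conj_ne_one d.X2_ne)
    · exact Or.inl h
    · exact Or.inr (Or.inl h)
    · exact Or.inr (Or.inr h))
  have c2 : Nat.card ↥({d.X2, d.X3, d.X2 * d.X3} : Set ↥(twistedG2 K e)) ≤ 3 := by
    rw [Nat.card_coe_set_eq]
    exact (Set.ncard_insert_le _ _).trans (Nat.succ_le_succ ((Set.ncard_insert_le _ _).trans (by simp)))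
  -- the third step
  set H2 := H1 ⊓ Subgroup.centralizer {d.X2} with hH2
  have hH2c : ∀ {g}, g ∈ H2 → g * d.X2 = d.X2 * g := fun {g} hg => Subgroup.mem_centralizer_singleton_iff.1 hg.2
  have s3 := card_le_orbit H2 d.X3 ({d.X3, d.X2 * d.X3} : Set ↥(twistedG2 K e)) (by
    intro g hg
    have h1 := d.conj_Vq hsq hnm hg.1.1 (hH1c hg.1) Jm d.X3_mem
    rcases h1 with h | h | h | h
    · exact absurd h (d.conj_ne_one d.X3_ne)
    · exfalso
      have h2 : g⁻¹ * (g * d.X3 * g⁻¹) * g = g⁻¹ * d.X2 * g := by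
        rw [show g * d.psi Jm * g⁻¹ = g * d.X3 * g⁻¹ from rfl] at h
        rw [h]
      have h3 : g⁻¹ * d.X2 * g = d.X2 := by
        rw [mul_assoc, ← hH2c hg]
        group
      have h4 : d.X3 = d.X2 := by
        rw [← h3, ← h2]
        group
      have h5 : d.X2 * d.X3 = 1 := by
        rw [h4, d.X2_sq]
      exact d.X23_ne h5
    · exact Or.inl h
    · exact Or.inr h)
  have c3 : Nat.card ↥({d.X3, d.X2 * d.X3} : Set ↥(twistedG2 K e)) ≤ 2 := by
    rw [Nat.card_coe_set_eq]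
    exact (Set.ncard_insert_le _ _).trans (by simp)
  -- the last step
  have s4 : Nat.card ↥(H2 ⊓ Subgroup.centralizer {d.X3}) ≤ 8 := by
    rw [← hcS]
    apply Subgroup.card_le_of_le
    intro g hg
    exact d.cent_S0 hsq (hH1c hg.1.1) (hH2c hg.1) (Subgroup.mem_centralizer_singleton_iff.1 hg.2)
  calc Nat.card d.N0 ≤ Nat.card ↥H1 * 7 := s1
    _ ≤ (Nat.card ↥H2 * 3) * 7 := Nat.mul_le_mul_right _ (s2.trans (Nat.mul_le_mul_left _ c2))
    _ ≤ ((Nat.card ↥(H2 ⊓ Subgroup.centralizer {d.X3}) * 2) * 3) * 7 :=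
        Nat.mul_le_mul_right _ (Nat.mul_le_mul_right _ (s3.trans (Nat.mul_le_mul_left _ c3)))
    _ ≤ ((8 * 2) * 3) * 7 := Nat.mul_le_mul_right _ (Nat.mul_le_mul_right _ (Nat.mul_le_mul_right _ s4))
    _ = 336 := by norm_num

/-! ### The elements of order three and seven -/

theorem t3_mem : d.psi (x0 1) ∈ d.N0 := by
  have e1 : d.psi (x0 1) * d.X2 * (d.psi (x0 1))⁻¹ = d.X3 := by
    rw [X2, ← map_mul, x0_n0 d.h3, map_mul, map_mul, d.psi_D_neg_one, one_mul, mul_inv_cancel_right]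
    rfl
  have e2 : d.psi (x0 1) * d.X3 * (d.psi (x0 1))⁻¹ = d.X2 * d.X3 := by
    rw [X3, ← map_mul, x0_Jm d.h3, map_mul, map_mul, d.psi_D_neg_one, one_mul, mul_inv_cancel_right, map_mul]
    rfl
  have e3 : d.psi (x0 1) * d.a₀ * (d.psi (x0 1))⁻¹ = d.a₀ := by
    rw [d.a₀_comm_psi]
    group
  apply d.mem_N_of_gens
  · rw [e3]
    exact d.a_mem
  · rw [e1]
    exact d.X3_mem
  · rw [e2]
    exact Subgroup.mul_mem _ d.X2_mem d.X3_mem

theorem t3_order : orderOf (d.psi (x0 1)) = 3 := by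
  haveI : Fact (Nat.Prime 3) := ⟨Nat.prime_three⟩
  apply orderOf_eq_prime
  · apply Subtype.ext
    show (d.psi (x0 1)).1 ^ 3 = 1
    rw [d.psi_x, pow_succ, pow_succ, pow_one, d.W_cube]
    simp [d.W_zero]
  · intro h
    have h1 := congrArg Subtype.val h
    rw [d.psi_x] at h1
    have h2 : W e (0 : K) 1 0 = W e 0 0 0 := by
      rw [h1, d.W_zero]
      rfl
    exact one_ne_zero (d.W_inj h2).2.1

theorem X2_word : d.X2.1 = hF.c.wordG (castW K wI) := by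
  have h1 : d.f (1 : K) = 1 := map_one _
  have h2 : d.f (-1 : K) = -1 := by simp
  have e1 : d.X2.1 = (d.psi (x0 1)).1 * (d.psi (y0 (-1))).1 * (d.psi (x0 1)).1 := by
    rw [X2, n0_eq, map_mul, map_mul]
    rfl
  rw [e1]
  have e2 : (d.psi (x0 1)).1 = hF.c.xG 10 1 * hF.c.xG 8 (d.f 1) := d.psi0_x 1
  have e3 : (d.psi (y0 (-1))).1 = hF.c.xG 1 (-1) * hF.c.xG 3 (d.f (-1)) := d.psi0_y (-1)
  rw [e2, e3, h1, h2]
  simp [castW, wI, Checks.wordG_cons, Checks.wordG_nil, mul_assoc]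

theorem X3_word : d.X3.1 = hF.c.wordG (castW K wJ) := by
  have h1 : d.f (1 : K) = 1 := map_one _
  have e1 : d.X3.1 = (d.psi (y0 1)).1 * (d.psi (x0 1)).1 := by
    rw [X3, Jm, map_mul]
    rfl
  rw [e1]
  have e2 : (d.psi (x0 1)).1 = hF.c.xG 10 1 * hF.c.xG 8 (d.f 1) := d.psi0_x 1
  have e3 : (d.psi (y0 1)).1 = hF.c.xG 1 1 * hF.c.xG 3 (d.f 1) := d.psi0_y 1
  rw [e2, e3, h1]
  simp [castW, wJ, Checks.wordG_cons, Checks.wordG_nil, mul_assoc]

theorem a_word : d.a₀.1 = hF.c.wordG (castW K wA) := by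
  have h3 : ((3 : ℕ) : K) = 0 := by exact_mod_cast d.h3
  rw [wA, ← hF.wordN_eq_wordG_mod h3 _ (by decide +kernel) _ chk1]
  have hn : d.cOf (-1) = fun _ => -1 := by
    funext j
    refine fin_cases' (P := fun j => d.cOf (-1 : Kˣ) j = -1) ?_ rfl j
    rw [cOf_i0]
    apply Units.ext
    simp
  have h1 : (fun _ => (-1 : Kˣ)) = (Pi.mulSingle i0 (-1) : Fin chevG2.rank → Kˣ) * Pi.mulSingle i1 (-1) := by
    funext j
    refine fin_cases' (P := fun j => (-1 : Kˣ) = ((Pi.mulSingle i0 (-1) * Pi.mulSingle i1 (-1) : Fin chevG2.rank → Kˣ)) j) ?_ ?_ j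
    · simp [i0, i1, Pi.mulSingle_apply]
    · simp [i0, i1, Pi.mulSingle_apply]
  have h2 : ∀ i : ℕ, hF.c.hG (chevG2.simple i) (((-1 : Kˣ) : Kˣ) : K) = (hF.nS i)⁻¹ * (hF.nS i)⁻¹ := by
    intro i
    unfold Checks.hG
    rw [Units.val_neg, Units.val_one, hF.c.nG_neg]
    rfl
  have e1 : (hF.wordN (F := K) [1, 1, 0, 0])⁻¹ = (hF.nS (F := K) 0)⁻¹ * (hF.nS 0)⁻¹ * ((hF.nS 1)⁻¹ * (hF.nS 1)⁻¹) := by
    simp only [Full.wordN, List.map_cons, List.map_nil, List.prod_cons, List.prod_nil, mul_one, _root_.mul_inv_rev, mul_assoc]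
  have e2 : d.a₀.1 = (hF.wordN (F := K) [1, 1, 0, 0])⁻¹ := by
    show tor RootG2T.R chevG2 (d.cOf (-1)) = _
    rw [hn, h1, ← tor_mul, ← hF.hSimple_eq_tor, ← hF.hSimple_eq_tor, h2, h2, e1]
    rfl
  have e3 : d.a₀.1 * d.a₀.1 = 1 := congrArg Subtype.val d.a₀_sq
  rw [← inv_inj, ← e2]
  exact inv_eq_of_mul_eq_one_left e3

/-- The element of order seven. -/
noncomputable def t7 : ↥(twistedG2 K e) :=
  (⟨W e 0 0 1, d.W_mem _ _ _⟩ : ↥(twistedG2 K e)) * ⟨hF.c.wordG (reeWordV e 1 1 1), d.wV_mem _ _ _⟩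

theorem t7_word : d.t7.1 = hF.c.wordG (castW K wT) := by
  have he0 : e ≠ 0 := d.he.pos.ne'
  have e1 : d.t7.1 = W e 0 0 1 * hF.c.wordG (reeWordV e 1 1 1) := rfl
  have e2 : reeWordU e (0 : K) 0 1 = castW K wa := by
    simp [castW, wa, reeWordU, g2a, g2b, g2ab, g2aab, g2aaab, g2aaabb, he0]
  have e3 : reeWordV e (1 : K) 1 1 = castW K wV111 := by
    simp only [castW, wV111, reeWordV, reeWordU, ChevalleyDatum.negWord, g2a, g2b, g2ab, g2aab, g2aaab, g2aaabb, one_pow,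
      List.map_cons, List.map_nil]
    have n : chevG2.negIdx.getD 7 0 = 4 ∧ chevG2.negIdx.getD 6 0 = 5 ∧ chevG2.negIdx.getD 8 0 = 3 ∧ chevG2.negIdx.getD 9 0 = 2 ∧
        chevG2.negIdx.getD 10 0 = 1 ∧ chevG2.negIdx.getD 11 0 = 0 := by decide +kernel
    obtain ⟨n1, n2, n3, n4, n5, n6⟩ := n
    rw [n1, n2, n3, n4, n5, n6]
    norm_num
  rw [e1, wT, castW_append, hF.c.wordG_append, ← e3, ← e2]
  rfl

theorem t7_r1 : d.t7 * d.a₀ = (d.X2 * d.X3) * d.t7 := by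
  apply Subtype.ext
  have h := word_eq (K := K) (by exact_mod_cast d.h3) chk_a
  rw [castW_append, castW_append, castW_append, hF.c.wordG_append, hF.c.wordG_append, hF.c.wordG_append, ← d.t7_word, ← d.a_word,
    ← d.X2_word, ← d.X3_word] at h
  exact h

theorem t7_r2 : d.t7 * d.X2 = (d.a₀ * d.X2) * d.t7 := by
  apply Subtype.ext
  have h := word_eq (K := K) (by exact_mod_cast d.h3) chk_2
  rw [castW_append, castW_append, castW_append, hF.c.wordG_append, hF.c.wordG_append, hF.c.wordG_append, ← d.t7_word, ← d.a_word,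
    ← d.X2_word] at h
  exact h

theorem t7_r3 : d.t7 * d.X3 = (d.a₀ * d.X2 * d.X3) * d.t7 := by
  apply Subtype.ext
  have h := word_eq (K := K) (by exact_mod_cast d.h3) chk_3
  rw [castW_append, castW_append, castW_append, castW_append, hF.c.wordG_append, hF.c.wordG_append, hF.c.wordG_append, hF.c.wordG_append, ← d.t7_word, ← d.a_word,
    ← d.X2_word, ← d.X3_word] at h
  exact h

theorem t7_pow : d.t7 ^ 7 = 1 := by
  apply Subtype.ext
  have h := word_eq (K := K) (by exact_mod_cast d.h3) chk_7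
  simp only [castW_append, hF.c.wordG_append, ← d.t7_word] at h
  have e1 : (d.t7 ^ 7).1 = d.t7.1 ^ 7 := rfl
  rw [e1]
  have e2 : hF.c.wordG (castW K []) = 1 := by simp [castW, Checks.wordG_nil]
  rw [e2] at h
  rw [← Subgroup.coe_one (H := twistedG2 K e)] at h
  simp only [pow_succ, pow_zero, one_mul]
  exact h

theorem t7_mem : d.t7 ∈ d.N0 := by
  apply d.mem_N_of_gens
  · rw [d.t7_r1, mul_inv_cancel_right]
    exact Subgroup.mul_mem _ d.X2_mem d.X3_mem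
  · rw [d.t7_r2, mul_inv_cancel_right]
    exact Subgroup.mul_mem _ d.a_mem d.X2_mem
  · rw [d.t7_r3, mul_inv_cancel_right]
    exact Subgroup.mul_mem _ (Subgroup.mul_mem _ d.a_mem d.X2_mem) d.X3_mem

theorem t7_order (hsq : ∀ y : Kˣ, IsSquare y ∨ IsSquare (-y)) (hnm : ¬ IsSquare (-1 : K)) : orderOf d.t7 = 7 := by
  haveI : Fact (Nat.Prime 7) := ⟨by norm_num⟩
  apply orderOf_eq_prime d.t7_pow
  intro h
  have h1 := d.t7_r1
  rw [h, one_mul, mul_one] at h1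
  apply d.a₀_not_psi hsq hnm (n0 * Jm)
  rw [map_mul, h1]
  rfl

/-- The order of the normaliser. -/
theorem card_N (hsq : ∀ y : Kˣ, IsSquare y ∨ IsSquare (-y)) (hnm : ¬ IsSquare (-1 : K)) {k : ℕ} (hk : Fintype.card K = 8 * k + 3) :
    Nat.card d.N0 = 168 := by
  haveI := d.finite_G1
  have hle := d.card_N_le hsq hnm
  have h3 : 3 ∣ Nat.card d.N0 := by
    have e1 := Subgroup.orderOf_dvd_natCard d.N0 d.t3_mem
    rwa [d.t3_order] at e1
  have h7 : 7 ∣ Nat.card d.N0 := by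
    have e1 := Subgroup.orderOf_dvd_natCard d.N0 d.t7_mem
    rwa [d.t7_order hsq hnm] at e1
  have hle8 : d.S0 ≤ d.N0 := by
    intro x hx
    apply mem_norm_of_le
    intro y hy
    rw [d.S0_comm hx hy, mul_inv_cancel_right]
    exact hy
  have h8 : 8 ∣ Nat.card d.N0 := by
    have e1 := Subgroup.card_dvd_of_le hle8
    rwa [d.card_S0 hsq hnm] at e1
  obtain ⟨n, hn, hG⟩ := d.two_part hsq hk
  have h16 : ¬ 16 ∣ Nat.card d.N0 := by
    intro h
    have h1 : 16 ∣ 8 * n := by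
      rw [← hG]
      exact h.trans (Subgroup.card_subgroup_dvd_card _)
    obtain ⟨c, hc⟩ := h1
    obtain ⟨t, rfl⟩ := hn
    omega
  have hpos : 0 < Nat.card d.N0 := Nat.card_pos
  generalize Nat.card d.N0 = c at *
  omega

theorem cent_S0_eq (hsq : ∀ y : Kˣ, IsSquare y ∨ IsSquare (-y)) : Subgroup.centralizer (d.S0 : Set ↥(twistedG2 K e)) = d.S0 := by
  apply le_antisymm
  · intro g hg
    rw [Subgroup.mem_centralizer_iff] at hg
    exact d.cent_S0 hsq (hg _ d.a_mem).symm (hg _ d.X2_mem).symm (hg _ d.X3_mem).symm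
  · intro x hx
    rw [Subgroup.mem_centralizer_iff]
    intro y hy
    exact d.S0_comm hy hx

end Dat

theorem main_S1157 {m : ℕ} (hK : Fintype.card K = 3 ^ (2 * m + 1))
    (S : Sylow 2 ↥(twistedG2 K (3 ^ m))) :
    Subgroup.centralizer ((S : Subgroup ↥(twistedG2 K (3 ^ m))) : Set ↥(twistedG2 K (3 ^ m))) = S ∧
      Nat.card (Subgroup.normalizer ((S : Subgroup ↥(twistedG2 K (3 ^ m))) : Set ↥(twistedG2 K (3 ^ m)))) = 168 := by
  obtain ⟨d⟩ := exists_dat hK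
  have hs := hsq hK
  have hnm : ¬ IsSquare (-1 : K) := by
    rw [FiniteField.isSquare_neg_one_iff, hK, card_mod']
    simp
  have h8 : ∃ k, Fintype.card K = 8 * k + 3 := by
    rw [hK]
    have : 3 ^ (2 * m + 1) % 8 = 3 := by
      rw [pow_succ, pow_mul]
      norm_num [Nat.mul_mod, Nat.pow_mod]
    exact ⟨3 ^ (2 * m + 1) / 8, by omega⟩
  obtain ⟨k, hk⟩ := h8
  haveI : Fact (Nat.Prime 2) := ⟨Nat.prime_two⟩
  haveI := d.finite_G1
  obtain ⟨n, hn, hG⟩ := d.two_part hs hk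
  have hcard : Nat.card d.S0 = 2 ^ (Nat.card ↥(twistedG2 K (3 ^ m))).factorization 2 := by
    rw [d.card_S0 hs hnm, hG, Dat.fact8 hn]
    norm_num
  let S₀ : Sylow 2 ↥(twistedG2 K (3 ^ m)) := Sylow.ofCard _ hcard
  obtain ⟨g, rfl⟩ := MulAction.exists_smul_eq ↥(twistedG2 K (3 ^ m)) S₀ S
  have hmem : ∀ x, x ∈ ((g • S₀ : Sylow 2 ↥(twistedG2 K (3 ^ m))) : Subgroup ↥(twistedG2 K (3 ^ m))) ↔ g⁻¹ * x * g ∈ d.S0 := by
    intro x
    rw [Sylow.coe_subgroup_smul, Subgroup.mem_smul_pointwise_iff_exists]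
    constructor
    · rintro ⟨s, hs', rfl⟩
      rw [MulAut.smul_def, MulAut.conj_apply]
      have e1 : g⁻¹ * (g * s * g⁻¹) * g = s := by group
      rw [e1]
      exact hs'
    · intro hx
      refine ⟨_, hx, ?_⟩
      rw [MulAut.smul_def, MulAut.conj_apply]
      group
  obtain ⟨t1, t2⟩ := transport d.S0 _ g hmem
  exact ⟨t1 (d.cent_S0_eq hs), t2.trans (d.card_N hs hnm hk)⟩

end Cfsg.Agent.Lib.Chev.TwG2
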