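import Cfsg.Agent.Lib.Chev.TwG2E

/-!
# The Ree groups `²G₂`: the Sylow 2-subgroup and its normaliser
-/

namespace Cfsg.Agent.Lib.Chev.TwG2

open Cfsg.Agent.Lib.Chev Cfsg.Lie Equiv
open Cfsg.Agent.Lib.Chev.SL2 (x0 y0 D0 n0 ext4 mem_closure_elementary uu uu_coe normal_zero normal_ne)
open Matrix (SpecialLinearGroup ProjectiveSpecialLinearGroup)

section Gen

variable {G : Type*} [Group G]

/-- The orbit bound. -/
theorem card_le_orbit [Finite G] (H : Subgroup G) (t : G) (X : Set G) (hX : ∀ g ∈ H, g * t * g⁻¹ ∈ X) :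
    Nat.card H ≤ Nat.card ↥(H ⊓ Subgroup.centralizer {t}) * Nat.card X := by
  classical
  set K : Subgroup H := (Subgroup.centralizer ({t} : Set G)).subgroupOf H with hK
  have h1 := Subgroup.card_eq_card_quotient_mul_card_subgroup K
  have h2 : Nat.card K = Nat.card ↥(H ⊓ Subgroup.centralizer {t}) := by
    apply Nat.card_congr
    refine ⟨fun x => ⟨x.1.1, x.1.2, Subgroup.mem_subgroupOf.1 x.2⟩, fun x => ⟨⟨x.1, x.2.1⟩, Subgroup.mem_subgroupOf.2 x.2.2⟩, fun _ => rfl, fun _ => rfl⟩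
  have hm : ∀ a b : H, (a : G) * t * (a : G)⁻¹ = (b : G) * t * (b : G)⁻¹ ↔ a⁻¹ * b ∈ K := by
    intro a b
    rw [hK, Subgroup.mem_subgroupOf, Subgroup.mem_centralizer_singleton_iff]
    show _ ↔ (a : G)⁻¹ * (b : G) * t = t * ((a : G)⁻¹ * (b : G))
    constructor
    · intro h
      have e1 : (a : G)⁻¹ * (b : G) * t = (a : G)⁻¹ * ((b : G) * t * (b : G)⁻¹) * (b : G) := by group
      rw [e1, ← h]
      group
    · intro h
      have e1 : (a : G) * t * (a : G)⁻¹ = (b : G) * ((b : G)⁻¹ * (a : G) * t * (a : G)⁻¹) := by group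
      rw [e1]
      have e2 : (b : G)⁻¹ * (a : G) * t = t * ((b : G)⁻¹ * (a : G)) := by
        have hc : Commute ((a : G)⁻¹ * (b : G)) t := h
        have h3 := hc.inv_left
        have e3 : ((a : G)⁻¹ * (b : G))⁻¹ = (b : G)⁻¹ * (a : G) := by group
        rw [e3] at h3
        exact h3
      rw [e2]
      group
  let f : H ⧸ K → X := Quotient.lift (fun g : H => (⟨(g : G) * t * (g : G)⁻¹, hX _ g.2⟩ : X)) (by
    intro a b hab
    apply Subtype.ext
    have h3 : a⁻¹ * b ∈ K := QuotientGroup.leftRel_apply.1 hab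
    exact (hm a b).2 h3)
  have hf : Function.Injective f := by
    intro a b
    induction a using QuotientGroup.induction_on with
    | H a =>
      induction b using QuotientGroup.induction_on with
      | H b =>
        intro h
        have h3 : (a : G) * t * (a : G)⁻¹ = (b : G) * t * (b : G)⁻¹ := congrArg Subtype.val h
        exact QuotientGroup.eq.2 ((hm a b).1 h3)
  have h3 : Nat.card (H ⧸ K) ≤ Nat.card X := Nat.card_le_card_of_injective f hf
  rw [h1, h2, mul_comm]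
  exact Nat.mul_le_mul_left _ h3

end Gen

section SL

variable {K : Type*} [Field K]

/-- The second generator of the quaternion group. -/
def Jm : SpecialLinearGroup (Fin 2) K := y0 1 * x0 1

@[simp] theorem Jm_a : (Jm : SpecialLinearGroup (Fin 2) K).1 0 0 = 1 := by simp [Jm]
@[simp] theorem Jm_b : (Jm : SpecialLinearGroup (Fin 2) K).1 0 1 = 1 := by simp [Jm]
@[simp] theorem Jm_c : (Jm : SpecialLinearGroup (Fin 2) K).1 1 0 = 1 := by simp [Jm, SL2.mul_c]
@[simp] theorem Jm_d : (Jm : SpecialLinearGroup (Fin 2) K).1 1 1 = 1 + 1 := by simp [Jm]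

@[simp] theorem D0_m_a : (D0 (-1 : Kˣ)).1 0 0 = -1 := by simp
@[simp] theorem D0_m_d : (D0 (-1 : Kˣ)).1 1 1 = -1 := by simp

theorem n0_sq : (n0 : SpecialLinearGroup (Fin 2) K) * n0 = D0 (-1) := by
  apply ext4 <;> simp [SL2.mul_a, SL2.mul_b, SL2.mul_c, SL2.mul_d]

variable (h3 : (3 : K) = 0)

include h3

theorem Jm_sq : (Jm : SpecialLinearGroup (Fin 2) K) * Jm = D0 (-1) := by
  apply ext4
  · simp [SL2.mul_a]
    linear_combination h3
  · simp [SL2.mul_b]
    linear_combination h3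
  · simp [SL2.mul_c]
    linear_combination h3
  · simp [SL2.mul_d]
    linear_combination 2 * h3

theorem nJ_comm : (n0 : SpecialLinearGroup (Fin 2) K) * Jm = D0 (-1) * (Jm * n0) := by
  apply ext4
  · simp [SL2.mul_a, SL2.mul_b, SL2.mul_c, SL2.mul_d]
  · simp [SL2.mul_a, SL2.mul_b, SL2.mul_c, SL2.mul_d]
    linear_combination h3
  · simp [SL2.mul_a, SL2.mul_b, SL2.mul_c, SL2.mul_d]
    linear_combination -h3
  · simp [SL2.mul_a, SL2.mul_b, SL2.mul_c, SL2.mul_d]

omit h3 in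
/-- Equality of entries of `D0 (-1) * B`. -/
theorem D0m_mul_a (B : SpecialLinearGroup (Fin 2) K) : (D0 (-1 : Kˣ) * B).1 0 0 = -B.1 0 0 := by simp [SL2.mul_a]
omit h3 in
theorem D0m_mul_b (B : SpecialLinearGroup (Fin 2) K) : (D0 (-1 : Kˣ) * B).1 0 1 = -B.1 0 1 := by simp [SL2.mul_b]
omit h3 in
theorem D0m_mul_c (B : SpecialLinearGroup (Fin 2) K) : (D0 (-1 : Kˣ) * B).1 1 0 = -B.1 1 0 := by simp [SL2.mul_c]
omit h3 in
theorem D0m_mul_d (B : SpecialLinearGroup (Fin 2) K) : (D0 (-1 : Kˣ) * B).1 1 1 = -B.1 1 1 := by simp [SL2.mul_d]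

/-- The matrices commuting, up to sign, with the quaternion group. -/
theorem quat_cases (A : SpecialLinearGroup (Fin 2) K)
    (h1 : A * n0 = n0 * A ∨ A * n0 = D0 (-1) * (n0 * A)) (h2 : A * Jm = Jm * A ∨ A * Jm = D0 (-1) * (Jm * A)) :
    (A = 1 ∨ A = D0 (-1)) ∨ (A = n0 ∨ A = D0 (-1) * n0) ∨ (A = Jm ∨ A = D0 (-1) * Jm) ∨ (A = n0 * Jm ∨ A = D0 (-1) * (n0 * Jm)) := by
  have hdet := SL2.det_eq A
  have h2' : (2 : K) ≠ 0 := by
    intro h
    have : (1 : K) = 0 := by linear_combination h3 - h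
    exact one_ne_zero this
  have hm : ∀ {x y : K}, x + x = y + y → x = y := by
    intro x y h
    have : (2 : K) * (x - y) = 0 := by linear_combination h
    exact sub_eq_zero.1 ((mul_eq_zero.1 this).resolve_left h2')
  have ent : ∀ {B C : SpecialLinearGroup (Fin 2) K}, B = C → B.1 0 0 = C.1 0 0 ∧ B.1 0 1 = C.1 0 1 ∧ B.1 1 0 = C.1 1 0 ∧ B.1 1 1 = C.1 1 1 := by
    rintro B C rfl
    exact ⟨rfl, rfl, rfl, rfl⟩
  set a := A.1 0 0 with ha
  set b := A.1 0 1 with hb
  set c := A.1 1 0 with hc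
  set e := A.1 1 1 with he
  have e1 : (b = -c ∧ a = e) ∨ (b = c ∧ a = -e) := by
    rcases h1 with h | h
    · left
      obtain ⟨i1, i2, -, -⟩ := ent h
      simp only [SL2.mul_a, SL2.mul_b, SL2.mul_c, SL2.mul_d, n0_a, n0_b, n0_c, n0_d] at i1 i2
      simp only [← ha, ← hb, ← hc, ← he] at i1 i2
      constructor
      · linear_combination -i1
      · linear_combination i2
    · right
      obtain ⟨i1, i2, -, -⟩ := ent h
      rw [D0m_mul_a] at i1
      rw [D0m_mul_b] at i2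
      simp only [SL2.mul_a, SL2.mul_b, SL2.mul_c, SL2.mul_d, n0_a, n0_b, n0_c, n0_d] at i1 i2
      simp only [← ha, ← hb, ← hc, ← he] at i1 i2
      constructor
      · linear_combination -i1
      · linear_combination i2
  have e2 : (b = c ∧ e = a + b) ∨ (a + a + b + c = 0 ∧ a + e = 0) := by
    rcases h2 with h | h
    · left
      obtain ⟨i1, i2, -, -⟩ := ent h
      simp only [SL2.mul_a, SL2.mul_b, SL2.mul_c, SL2.mul_d, Jm_a, Jm_b, Jm_c, Jm_d] at i1 i2
      simp only [← ha, ← hb, ← hc, ← he] at i1 i2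
      constructor
      · linear_combination i1
      · linear_combination -i2
    · right
      obtain ⟨i1, i2, -, -⟩ := ent h
      rw [D0m_mul_a] at i1
      rw [D0m_mul_b] at i2
      simp only [SL2.mul_a, SL2.mul_b, SL2.mul_c, SL2.mul_d, Jm_a, Jm_b, Jm_c, Jm_d] at i1 i2
      simp only [← ha, ← hb, ← hc, ← he] at i1 i2
      constructor
      · linear_combination i1
      · linear_combination i2 - b * h3
  have hn0 : ∀ {x : K}, x + x = 0 → x = 0 := fun {x} h => hm (y := 0) (by simpa using h)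
  have hext : ∀ (B : SpecialLinearGroup (Fin 2) K), a = B.1 0 0 → b = B.1 0 1 → c = B.1 1 0 → e = B.1 1 1 → A = B := by
    intro B i1 i2 i3 i4
    exact ext4 i1 i2 i3 i4
  rcases e1 with ⟨p1, p2⟩ | ⟨p1, p2⟩ <;> rcases e2 with ⟨q1, q2⟩ | ⟨q1, q2⟩
  · -- `A = ±1`
    left
    have hb0 : b = 0 := hn0 (by linear_combination p1 + q1)
    have hc0 : c = 0 := by rw [← q1, hb0]
    have hsq : a * a = 1 := by
      rw [hb0, zero_mul, ← p2, sub_zero] at hdet
      exact hdet
    rcases mul_self_eq_one_iff.1 hsq with h | h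
    · left
      apply hext <;> simp [h, hb0, hc0, ← p2]
    · right
      apply hext <;> simp [h, hb0, hc0, ← p2]
  · -- `A = ±n`
    right; left
    have ha0 : a = 0 := hn0 (by linear_combination q2 + p2)
    have he0 : e = 0 := by rw [← p2, ha0]
    have hsq : b * b = 1 := by
      rw [ha0, zero_mul] at hdet
      rw [p1] at hdet ⊢
      linear_combination hdet
    rcases mul_self_eq_one_iff.1 hsq with h | h
    · left
      apply hext
      · simp [ha0]
      · simp [h]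
      · simp
        linear_combination p1 - h
      · simp [he0]
    · right
      apply hext
      · simp [ha0, D0m_mul_a]
      · simp [h, D0m_mul_b]
      · simp [D0m_mul_c]
        linear_combination p1 - h
      · simp [he0, D0m_mul_d]
  · -- `A = ±J`
    right; right; left
    have hba : b = a := by linear_combination -q2 + p2 - a * h3
    have hca : c = a := by rw [← q1, hba]
    have hea : e = -a := by linear_combination p2
    have hsq : a * a = 1 := by
      rw [hba, hca, hea] at hdet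
      linear_combination hdet + (a * a) * h3
    rcases mul_self_eq_one_iff.1 hsq with h | h
    · left
      apply hext
      · simp [h]
      · simp [hba, h]
      · simp [hca, h]
      · simp [hea, h]
        linear_combination -h3
    · right
      apply hext
      · simp [h, D0m_mul_a]
      · simp [hba, h, D0m_mul_b]
      · simp [hca, h, D0m_mul_c]
      · simp [hea, h, D0m_mul_d]
        linear_combination h3
  · -- `A = ±nJ`
    right; right; right
    have hca : c = b := p1.symm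
    have hba : b + a = 0 := hn0 (by linear_combination q1 + p1)
    have hba' : b = -a := by linear_combination hba
    have hca' : c = -a := by rw [hca, hba']
    have hea : e = -a := by linear_combination q2
    have hsq : a * a = 1 := by
      rw [hba', hca', hea] at hdet
      linear_combination hdet + (a * a) * h3
    rcases mul_self_eq_one_iff.1 hsq with h | h
    · left
      apply hext
      · simp [h, SL2.mul_a]
      · simp [hba', h, SL2.mul_b]
        linear_combination -h3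
      · simp [hca', h, SL2.mul_c]
      · simp [hea, h, SL2.mul_d]
    · right
      apply hext
      · simp [h, D0m_mul_a, SL2.mul_a]
      · simp [hba', h, D0m_mul_b, SL2.mul_b]
        linear_combination h3
      · simp [hca', h, D0m_mul_c, SL2.mul_c]
      · simp [hea, h, D0m_mul_d, SL2.mul_d]

theorem x0_n0 : x0 1 * n0 = D0 (-1) * Jm * (x0 1 : SpecialLinearGroup (Fin 2) K) := by
  apply ext4
  · simp [SL2.mul_a, SL2.mul_b, SL2.mul_c, SL2.mul_d]
  · simp [SL2.mul_a, SL2.mul_b, SL2.mul_c, SL2.mul_d]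
    linear_combination h3
  · simp [SL2.mul_a, SL2.mul_b, SL2.mul_c, SL2.mul_d]
  · simp [SL2.mul_a, SL2.mul_b, SL2.mul_c, SL2.mul_d]
    linear_combination h3

theorem x0_Jm : x0 1 * Jm = D0 (-1) * (n0 * Jm) * (x0 1 : SpecialLinearGroup (Fin 2) K) := by
  apply ext4
  · simp [SL2.mul_a, SL2.mul_b, SL2.mul_c, SL2.mul_d]
    linear_combination h3
  · simp [SL2.mul_a, SL2.mul_b, SL2.mul_c, SL2.mul_d]
    linear_combination 2 * h3
  · simp [SL2.mul_a, SL2.mul_b, SL2.mul_c, SL2.mul_d]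
  · simp [SL2.mul_a, SL2.mul_b, SL2.mul_c, SL2.mul_d]

end SL

theorem mem_norm_of_le {G : Type*} [Group G] [Finite G] (H : Subgroup G) (g : G) (h : ∀ x ∈ H, g * x * g⁻¹ ∈ H) :
    g ∈ Subgroup.normalizer (H : Set G) := by
  rw [Subgroup.mem_set_normalizer_iff]
  intro x
  constructor
  · exact h x
  · intro hx
    have hinj : Function.Injective (fun y : H => (⟨g * y * g⁻¹, h y y.2⟩ : H)) := by
      intro a b hab
      have h1 : g * (a : G) * g⁻¹ = g * b * g⁻¹ := congrArg Subtype.val hab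
      exact Subtype.ext (by simpa using h1)
    obtain ⟨y, hy⟩ := Finite.surjective_of_injective hinj ⟨_, hx⟩
    have h1 : g * (y : G) * g⁻¹ = g * x * g⁻¹ := congrArg Subtype.val hy
    have h2 : (y : G) = x := by simpa using h1
    exact h2 ▸ y.2

variable {K : Type*} [Field K] [Fintype K] {e : ℕ} (d : Dat K e)

theorem zhom_cases' {H : Type*} [Group H] {x : H} (hx : x * x = 1) (a : Multiplicative (ZMod 2)) :
    Dat.zhom x hx a = 1 ∨ Dat.zhom x hx a = x := by
  have h1 : ∀ a : ZMod 2, a = 0 ∨ a = 1 := by decide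
  rcases h1 (Multiplicative.toAdd a) with h2 | h2
  · exact Or.inl (zhom_zero _ h2)
  · exact Or.inr (zhom_one _ h2)

theorem zhom_comm {H : Type*} [Group H] {x y : H} (hx : x * x = 1) (hy : y * y = 1) (hxy : x * y = y * x)
    (a b : Multiplicative (ZMod 2)) : Commute (Dat.zhom x hx a) (Dat.zhom y hy b) := by
  rcases zhom_cases' hx a with h1 | h1 <;> rcases zhom_cases' hy b with h2 | h2 <;> rw [h1, h2] <;>
    first
    | exact Commute.one_left _
    | exact Commute.one_right _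
    | exact hxy

namespace Dat

include d

/-- The first involution. -/
noncomputable def X2 : ↥(twistedG2 K e) := d.psi n0
/-- The second involution. -/
noncomputable def X3 : ↥(twistedG2 K e) := d.psi Jm

theorem X2_sq : d.X2 * d.X2 = 1 := by
  rw [X2, ← map_mul, n0_sq, d.psi_D_neg_one]

theorem X3_sq : d.X3 * d.X3 = 1 := by
  rw [X3, ← map_mul, Jm_sq d.h3, d.psi_D_neg_one]

theorem X23 : d.X2 * d.X3 = d.X3 * d.X2 := by
  rw [X2, X3, ← map_mul, nJ_comm d.h3, map_mul, d.psi_D_neg_one, one_mul, map_mul]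

theorem a_X2 : d.a₀ * d.X2 = d.X2 * d.a₀ := (d.a₀_comm_psi _).symm
theorem a_X3 : d.a₀ * d.X3 = d.X3 * d.a₀ := (d.a₀_comm_psi _).symm

theorem psi_eq {B C : SpecialLinearGroup (Fin 2) K} (h : d.psi B = d.psi C) : B = C ∨ B = D0 (-1) * C := by
  have h1 : d.psi (B * C⁻¹) = 1 := by rw [map_mul, map_inv, h, mul_inv_cancel]
  rcases d.psi_eq_one h1 with h2 | h2
  · left
    exact mul_inv_eq_one.1 h2
  · right
    rw [← h2]
    group

theorem psi_ne_of_b {B : SpecialLinearGroup (Fin 2) K} (h : B.1 0 1 ≠ 0) : d.psi B ≠ 1 := by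
  intro h1
  rcases d.psi_eq_one h1 with rfl | rfl
  · exact h (by simp)
  · exact h (by simp)

theorem X2_ne : d.X2 ≠ 1 := d.psi_ne_of_b (B := n0) (by simp)
theorem X3_ne : d.X3 ≠ 1 := d.psi_ne_of_b (B := Jm) (by simp)
theorem X23_ne : d.X2 * d.X3 ≠ 1 := by
  rw [X2, X3, ← map_mul]
  refine d.psi_ne_of_b (B := n0 * Jm) ?_
  simp [SL2.mul_b]
  intro h
  have : (1 : K) = 0 := by linear_combination d.h3 - h
  exact one_ne_zero this

/-- The homomorphism onto the Sylow subgroup. -/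
noncomputable def Phi : Multiplicative (ZMod 2) × Multiplicative (ZMod 2) × Multiplicative (ZMod 2) →* ↥(twistedG2 K e) where
  toFun x := zhom d.a₀ d.a₀_sq x.1 * (zhom d.X2 d.X2_sq x.2.1 * zhom d.X3 d.X3_sq x.2.2)
  map_one' := by simp
  map_mul' x y := by
    simp only [Prod.fst_mul, Prod.snd_mul, map_mul]
    have c1 := zhom_comm d.a₀_sq d.X2_sq d.a_X2 y.1 x.2.1
    have c2 := zhom_comm d.a₀_sq d.X3_sq d.a_X3 y.1 x.2.2
    have c3 := zhom_comm d.X2_sq d.X3_sq d.X23 y.2.1 x.2.2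
    generalize zhom d.a₀ d.a₀_sq x.1 = A at *
    generalize zhom d.a₀ d.a₀_sq y.1 = A' at *
    generalize zhom d.X2 d.X2_sq x.2.1 = B at *
    generalize zhom d.X2 d.X2_sq y.2.1 = B' at *
    generalize zhom d.X3 d.X3_sq x.2.2 = C at *
    generalize zhom d.X3 d.X3_sq y.2.2 = C' at *
    calc A * A' * (B * B' * (C * C')) = A * (A' * B) * (B' * C) * C' := by group
      _ = A * B * (A' * C) * (B' * C') := by
        rw [c1.eq]
        rw [c3.eq]
        group
      _ = A * (B * C) * (A' * (B' * C')) := by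
        rw [c2.eq]
        group

/-- The Sylow subgroup. -/
noncomputable def S0 : Subgroup ↥(twistedG2 K e) := (d.Phi).range

theorem a_mem : d.a₀ ∈ d.S0 := ⟨(Multiplicative.ofAdd 1, 1, 1), by
  show zhom d.a₀ d.a₀_sq (Multiplicative.ofAdd 1) * (zhom d.X2 d.X2_sq 1 * zhom d.X3 d.X3_sq 1) = _
  rw [zhom_one _ (b := Multiplicative.ofAdd 1) rfl, map_one, map_one, one_mul, mul_one]⟩

theorem X2_mem : d.X2 ∈ d.S0 := ⟨(1, Multiplicative.ofAdd 1, 1), by
  show zhom d.a₀ d.a₀_sq 1 * (zhom d.X2 d.X2_sq (Multiplicative.ofAdd 1) * zhom d.X3 d.X3_sq 1) = _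
  rw [zhom_one _ (b := Multiplicative.ofAdd 1) rfl, map_one, map_one, one_mul, mul_one]⟩

theorem X3_mem : d.X3 ∈ d.S0 := ⟨(1, 1, Multiplicative.ofAdd 1), by
  show zhom d.a₀ d.a₀_sq 1 * (zhom d.X2 d.X2_sq 1 * zhom d.X3 d.X3_sq (Multiplicative.ofAdd 1)) = _
  rw [zhom_one _ (b := Multiplicative.ofAdd 1) rfl, map_one, map_one, one_mul, one_mul]⟩

/-- The elements of the four-group. -/
def Vq (x : ↥(twistedG2 K e)) : Prop := x = 1 ∨ x = d.X2 ∨ x = d.X3 ∨ x = d.X2 * d.X3

theorem mem_S0 {x : ↥(twistedG2 K e)} (hx : x ∈ d.S0) : d.Vq x ∨ ∃ y, d.Vq y ∧ x = d.a₀ * y := by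
  obtain ⟨⟨e₁, e₂, e₃⟩, rfl⟩ := hx
  show d.Vq (zhom d.a₀ d.a₀_sq _ * (zhom d.X2 d.X2_sq _ * zhom d.X3 d.X3_sq _)) ∨
    ∃ y, d.Vq y ∧ (zhom d.a₀ d.a₀_sq _ * (zhom d.X2 d.X2_sq _ * zhom d.X3 d.X3_sq _)) = d.a₀ * y
  have hV : d.Vq (zhom d.X2 d.X2_sq e₂ * zhom d.X3 d.X3_sq e₃) := by
    rcases zhom_cases' d.X2_sq e₂ with h2 | h2 <;> rcases zhom_cases' d.X3_sq e₃ with h3 | h3 <;> rw [h2, h3] <;> unfold Vq
    · simp
    · simp
    · simp
    · simp
  rcases zhom_cases' d.a₀_sq e₁ with h1 | h1 <;> rw [h1]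
  · left
    rwa [one_mul]
  · right
    exact ⟨_, hV, rfl⟩

theorem Vq_psi {x : ↥(twistedG2 K e)} (h : d.Vq x) : ∃ B, x = d.psi B := by
  rcases h with rfl | rfl | rfl | rfl
  · exact ⟨1, (map_one _).symm⟩
  · exact ⟨n0, rfl⟩
  · exact ⟨Jm, rfl⟩
  · exact ⟨n0 * Jm, (map_mul _ _ _).symm⟩

theorem Phi_inj (hsq : ∀ y : Kˣ, IsSquare y ∨ IsSquare (-y)) (hnm : ¬ IsSquare (-1 : K)) : Function.Injective d.Phi := by
  rw [injective_iff_map_eq_one]
  rintro ⟨e₁, e₂, e₃⟩ h
  have h0 : zhom d.a₀ d.a₀_sq e₁ * (zhom d.X2 d.X2_sq e₂ * zhom d.X3 d.X3_sq e₃) = 1 := h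
  have hc : ∀ a : ZMod 2, a = 0 ∨ a = 1 := by decide
  have key : ∀ (x : Multiplicative (ZMod 2)), Multiplicative.toAdd x = 0 → x = 1 := fun x hx => hx
  have hV : d.Vq (zhom d.X2 d.X2_sq e₂ * zhom d.X3 d.X3_sq e₃) := by
    rcases zhom_cases' d.X2_sq e₂ with h2 | h2 <;> rcases zhom_cases' d.X3_sq e₃ with h3 | h3 <;> rw [h2, h3] <;> unfold Vq
    · simp
    · simp
    · simp
    · simp
  have h1 : Multiplicative.toAdd e₁ = 0 := by
    rcases hc (Multiplicative.toAdd e₁) with h1 | h1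
    · exact h1
    · exfalso
      rw [zhom_one _ h1] at h0
      obtain ⟨B, hB⟩ := d.Vq_psi hV
      rw [hB] at h0
      apply d.a₀_not_psi hsq hnm B
      have h5 : d.psi B = d.a₀⁻¹ := eq_inv_of_mul_eq_one_right h0
      rw [h5, d.a₀_inv]
  rw [zhom_zero _ h1, one_mul] at h0
  rcases hc (Multiplicative.toAdd e₂) with h2 | h2 <;> rcases hc (Multiplicative.toAdd e₃) with h3 | h3
  · rw [key e₁ h1, key e₂ h2, key e₃ h3]
    rfl
  · exfalso
    rw [zhom_zero _ h2, zhom_one _ h3, one_mul] at h0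
    exact d.X3_ne h0
  · exfalso
    rw [zhom_one _ h2, zhom_zero _ h3, mul_one] at h0
    exact d.X2_ne h0
  · exfalso
    rw [zhom_one _ h2, zhom_one _ h3] at h0
    exact d.X23_ne h0

theorem card_S0 (hsq : ∀ y : Kˣ, IsSquare y ∨ IsSquare (-y)) (hnm : ¬ IsSquare (-1 : K)) : Nat.card d.S0 = 8 := by
  have h1 := Nat.card_congr (MonoidHom.ofInjective (d.Phi_inj hsq hnm)).toEquiv
  have h2 : Nat.card (Multiplicative (ZMod 2)) = 2 := Nat.card_zmod 2
  rw [Nat.card_prod, Nat.card_prod, h2] at h1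
  exact h1.symm

theorem S0_comm {x y : ↥(twistedG2 K e)} (hx : x ∈ d.S0) (hy : y ∈ d.S0) : x * y = y * x := by
  obtain ⟨u, rfl⟩ := hx
  obtain ⟨v, rfl⟩ := hy
  rw [← map_mul, ← map_mul, mul_comm]

theorem S0_sq {x : ↥(twistedG2 K e)} (hx : x ∈ d.S0) : x * x = 1 := by
  obtain ⟨u, rfl⟩ := hx
  rw [← map_mul]
  have : u * u = 1 := by
    obtain ⟨a, b, c⟩ := u
    exact Prod.ext (add_self_z2 a) (Prod.ext (add_self_z2 b) (add_self_z2 c))
  rw [this, map_one]

/-- The centraliser of the Sylow subgroup. -/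
theorem cent_S0 (hsq : ∀ y : Kˣ, IsSquare y ∨ IsSquare (-y)) {g : ↥(twistedG2 K e)} (h1 : g * d.a₀ = d.a₀ * g)
    (h2 : g * d.X2 = d.X2 * g) (h3 : g * d.X3 = d.X3 * g) : g ∈ d.S0 := by
  obtain ⟨A, hA⟩ := d.isP_of_comm hsq h1
  have hc : d.psi A * d.X2 = d.X2 * d.psi A ∧ d.psi A * d.X3 = d.X3 * d.psi A := by
    rcases hA with rfl | rfl
    · exact ⟨h2, h3⟩
    · constructor
      · have h4 : d.a₀ * (d.psi A * d.X2) = d.a₀ * (d.X2 * d.psi A) := by
          rw [← mul_assoc, h2, ← mul_assoc, ← mul_assoc, d.a_X2]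
        exact mul_left_cancel h4
      · have h4 : d.a₀ * (d.psi A * d.X3) = d.a₀ * (d.X3 * d.psi A) := by
          rw [← mul_assoc, h3, ← mul_assoc, ← mul_assoc, d.a_X3]
        exact mul_left_cancel h4
  have e1 : A * n0 = n0 * A ∨ A * n0 = D0 (-1) * (n0 * A) := d.psi_eq (by rw [map_mul, map_mul]; exact hc.1)
  have e2 : A * Jm = Jm * A ∨ A * Jm = D0 (-1) * (Jm * A) := d.psi_eq (by rw [map_mul, map_mul]; exact hc.2)
  have hV : d.psi A ∈ d.S0 := by
    have hneg : ∀ B : SpecialLinearGroup (Fin 2) K, d.psi (D0 (-1) * B) = d.psi B := by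
      intro B
      rw [map_mul, d.psi_D_neg_one, one_mul]
    rcases quat_cases d.h3 A e1 e2 with (h | h) | (h | h) | (h | h) | (h | h) <;> rw [h]
    · rw [map_one]; exact Subgroup.one_mem _
    · rw [d.psi_D_neg_one]; exact Subgroup.one_mem _
    · exact d.X2_mem
    · rw [hneg]; exact d.X2_mem
    · exact d.X3_mem
    · rw [hneg]; exact d.X3_mem
    · rw [map_mul]; exact Subgroup.mul_mem _ d.X2_mem d.X3_mem
    · rw [hneg, map_mul]; exact Subgroup.mul_mem _ d.X2_mem d.X3_mem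
  rcases hA with rfl | rfl
  · exact hV
  · exact Subgroup.mul_mem _ d.a_mem hV

end Dat

end Cfsg.Agent.Lib.Chev.TwG2
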