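import Cfsg.Agent.Lib.Chev.TwG2F
import Cfsg.Agent.Lib.SL2Nonsplit
import Cfsg.Agent.Lib.SL2Tori

set_option linter.style.haveILetI false
set_option linter.unusedSectionVars false

/-!
# The Ree groups `²G₂`: primes dividing `q² - q + 1`
-/

namespace Cfsg.Agent.Lib.Chev.TwG2

open Cfsg.Agent.Lib.Chev Cfsg.Lie Equiv Module
open Cfsg.Agent.Lib

/-- The arithmetic of the primes dividing `q² - q + 1`. -/
theorem P_arith {q p : ℕ} (hp : p.Prime) (hq : 1 ≤ q) (h3 : 3 ∣ q) (hP : p ∣ q ^ 2 - q + 1) :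
    p ≠ 2 ∧ p ≠ 3 ∧ ¬ p ∣ q ∧ ¬ p ∣ q - 1 ∧ ¬ p ∣ q + 1 := by
  obtain ⟨c, rfl⟩ : ∃ c, q = c + 1 := ⟨q - 1, by omega⟩
  have e1 : (c + 1) ^ 2 - (c + 1) + 1 = (c + 1) * c + 1 := by
    have : (c + 1) ^ 2 = (c + 1) * c + (c + 1) := by ring
    omega
  rw [e1] at hP
  rw [Nat.add_sub_cancel]
  have hne1 : ¬ p ∣ 1 := fun h => hp.one_lt.ne' (Nat.dvd_one.1 h)
  have h2 : p ≠ 2 := by
    rintro rfl
    have h4 : 2 ∣ (c + 1) * c := Nat.even_mul_pred_self (c + 1) |>.two_dvd
    exact hne1 ((Nat.dvd_add_right h4).1 hP)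
  have h3' : p ≠ 3 := by
    rintro rfl
    exact hne1 ((Nat.dvd_add_right (Dvd.dvd.mul_right h3 c)).1 hP)
  refine ⟨h2, h3', ?_, ?_, ?_⟩
  · intro h
    exact hne1 ((Nat.dvd_add_right (Dvd.dvd.mul_right h c)).1 hP)
  · intro h
    exact hne1 ((Nat.dvd_add_right (Dvd.dvd.mul_left h _)).1 hP)
  · intro h
    rcases Nat.eq_zero_or_pos c with rfl | hc
    · exact hne1 (by simpa using hP)
    · obtain ⟨b, rfl⟩ : ∃ b, c = b + 1 := ⟨c - 1, by omega⟩
      have e2 : (b + 1 + 1) * (b + 1) + 1 = (b + 1 + 1 + 1) * b + 3 := by ring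
      rw [e2] at hP
      have h5 := (Nat.dvd_add_right (Dvd.dvd.mul_right h b)).1 hP
      exact h3' ((Nat.prime_dvd_prime_iff_eq hp Nat.prime_three).1 h5)

variable {K : Type*} [Field K] [Fintype K] {m : ℕ}

namespace Dat

variable (R : Ree K m) (d : Dat K (3 ^ m))

local notation "G" => Gm K m

include R d

/-- The centraliser of an element of order dividing `q² - q + 1` is cyclic. -/
theorem cyc_C {x : G} {p : ℕ} (hp : p.Prime) (hx : orderOf x = p) (hP : p ∣ Fintype.card K ^ 2 - Fintype.card K + 1) :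
    IsCyclic ↥(Subgroup.centralizer ({x} : Set G)) := by
  classical
  haveI := d.finite_G1
  haveI : Fact p.Prime := ⟨hp⟩
  have hq0 : 1 ≤ Fintype.card K := Fintype.card_pos
  have hq3 : 3 ∣ Fintype.card K := by
    rw [R.hK]
    exact dvd_pow_self _ (by omega)
  obtain ⟨hp2, hp3, hpq, hpq1, hpq2⟩ := P_arith hp hq0 hq3 hP
  have hx1 : x ≠ 1 := by
    rintro rfl
    rw [orderOf_one] at hx
    exact hp.one_lt.ne hx
  have hs := R.simple d
  set X := d.rho x with hXdef
  have hX : X ^ p = 1 := by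
    rw [hXdef, ← map_pow, ← hx, pow_orderOf_eq_one, map_one]
  have hX1 : X ≠ 1 := fun h => hx1 (d.rho_inj hs x h)
  have hc3 := charP3 R.hK
  have hpK : (p : K) ≠ 0 := by
    intro h
    have h1 := (CharP.cast_eq_zero_iff K 3 p).1 h
    exact hp3 ((Nat.prime_dvd_prime_iff_eq Nat.prime_three hp).1 h1).symm
  have h6 : LinIrr.Ord6 (Fintype.card K) p := ord6_of hp2 hp3 hP
  have h7 : finrank K ↥(V7 K) = 7 := finrank_V7
  set A := Subgroup.centralizer ({x} : Set G) with hA
  refine LinIrr.cyclic_V X hX hpK h6 h7 hX1 (d.rho.comp A.subtype) ?_ ?_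
  · intro a
    have h1 : a.1 * x = x * a.1 := Subgroup.mem_centralizer_singleton_iff.1 a.2
    show d.rho a.1 * d.rho x = d.rho x * d.rho a.1
    rw [← map_mul, ← map_mul, h1]
  · intro a ha
    by_contra hne
    have ha0 : orderOf a ≠ 0 := (orderOf_pos a).ne'
    have ha1 : orderOf a ≠ 1 := fun h => hne (orderOf_eq_one_iff.1 h)
    obtain ⟨l, hl, hla⟩ := Nat.exists_prime_and_dvd ha1
    set z := a ^ (orderOf a / l) with hz
    have hzo : orderOf z = l := orderOf_pow_orderOf_div ha0 hla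
    have hzo' : orderOf z.1 = l := by
      rw [← hzo]
      exact Subgroup.orderOf_coe z
    have hz1 : z.1 ≠ 1 := by
      intro h
      rw [h, orderOf_one] at hzo'
      exact hl.one_lt.ne hzo'
    haveI : Fact l.Prime := ⟨hl⟩
    have hzc : z.1 * x = x * z.1 := Subgroup.mem_centralizer_singleton_iff.1 z.2
    have hfree := d.comm_free R hp hp2 hx hpq2 hpq hpq1 hzc hz1
    set Z := d.rho z.1 with hZdef
    have hZ : Z ^ l = 1 := by
      rw [hZdef, ← map_pow, ← hzo', pow_orderOf_eq_one, map_one]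
    have hZW : ∀ w ∈ LinearMap.range (X - 1), Z w = w := by
      intro w hw
      have e1 : ∀ n : ℕ, (d.rho a.1 ^ n) w = w := by
        intro n
        induction n with
        | zero => rfl
        | succ n ih =>
          rw [pow_succ', Module.End.mul_apply, ih]
          exact ha w hw
      have e2 : Z = d.rho a.1 ^ (orderOf a / l) := by
        rw [hZdef, hz, ← map_pow]
        rfl
      rw [e2, e1]
    have h8 := LinIrr.pow_finrank_modEq Z hZ ⊤ (fun _ _ => trivial)
    rw [top_inf_eq, finrank_top, h7] at h8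
    have h9 : LinearMap.range (X - 1) ≤ LinearMap.ker (Z - 1) := fun w hw =>
      (LinIrr.mem_ker_sub_one Z w).2 (hZW w hw)
    have h10 := Submodule.finrank_mono h9
    rw [LinIrr.finrank_range X hX hpK h6 h7 hX1] at h10
    have h11 : finrank K ↥(LinearMap.ker (Z - 1)) ≠ 7 := by
      intro h
      apply hz1
      apply d.rho_inj hs
      have h12 : LinearMap.ker (Z - 1) = ⊤ := by
        apply Submodule.eq_top_of_finrank_eq
        rw [h, h7]
      ext v
      have h13 : v ∈ LinearMap.ker (Z - 1) := by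
        rw [h12]
        trivial
      have h14 := (LinIrr.mem_ker_sub_one Z v).1 h13
      rw [h14]
      rfl
    have h15 : finrank K ↥(LinearMap.ker (Z - 1)) ≤ 7 := by
      rw [← h7]
      exact Submodule.finrank_le _
    have h16 : finrank K ↥(LinearMap.ker (Z - 1)) = 6 := by omega
    rw [h16] at h8
    have h17 : l ∣ Fintype.card K ∨ l ∣ Fintype.card K - 1 := by
      by_cases h18 : l ∣ Fintype.card K
      · exact Or.inl h18
      · right
        have hcop : Nat.Coprime (Fintype.card K ^ 6) l := Nat.Coprime.pow_left 6 (((Nat.Prime.coprime_iff_not_dvd hl).2 h18).symm)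
        have h19 : Fintype.card K ^ 6 * Fintype.card K ≡ Fintype.card K ^ 6 * 1 [MOD l] := by
          rw [mul_one, ← pow_succ]
          exact h8
        have h20 := Nat.ModEq.cancel_left_of_coprime (by
          exact hcop.symm) h19
        exact (Nat.modEq_iff_dvd' hq0).1 h20.symm
    obtain ⟨β, hβ⟩ := d.prime_fix R hl hzo' h17
    exact hfree β hβ

end Dat

/-- A `p`-group all of whose elements of order `p` have cyclic centraliser is cyclic. -/
theorem isCyclic_of_cent {G : Type*} [Group G] [Finite G] {p : ℕ} (hp : p.Prime) (Q : Subgroup G) (hQ : IsPGroup p Q)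
    (h : ∀ x ∈ Q, orderOf x = p → IsCyclic ↥(Subgroup.centralizer ({x} : Set G))) : IsCyclic Q := by
  haveI : Fact p.Prime := ⟨hp⟩
  by_cases h1 : Nontrivial Q
  · haveI := hQ.center_nontrivial
    have hcp : IsPGroup p (Subgroup.center Q) := hQ.to_subgroup _
    obtain ⟨n, hn⟩ := IsPGroup.iff_card.1 hcp
    have hn0 : n ≠ 0 := by
      rintro rfl
      have := Finite.one_lt_card (α := Subgroup.center Q)
      rw [hn, pow_zero] at this
      omega
    have hd : p ∣ Nat.card (Subgroup.center Q) := by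
      rw [hn]
      exact dvd_pow_self _ hn0
    obtain ⟨z, hz⟩ := exists_prime_orderOf_dvd_card' p hd
    have hz1 : orderOf ((z : Q) : G) = p := by
      rw [← hz, Subgroup.orderOf_coe, Subgroup.orderOf_coe]
    haveI := h _ (z : Q).2 hz1
    have hle : Q ≤ Subgroup.centralizer ({((z : Q) : G)} : Set G) := by
      intro y hy
      rw [Subgroup.mem_centralizer_singleton_iff]
      have h2 := (Subgroup.mem_center_iff.1 z.2) ⟨y, hy⟩
      exact congrArg Subtype.val h2
    exact isCyclic_of_injective (Subgroup.inclusion hle) (Subgroup.inclusion_injective hle)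
  · rw [not_nontrivial_iff_subsingleton] at h1
    exact isCyclic_of_subsingleton

theorem q3_factor (q : ℕ) (hq : 1 ≤ q) : q ^ 3 + 1 = (q + 1) * (q ^ 2 - q + 1) := by
  obtain ⟨c, rfl⟩ : ∃ c, q = c + 1 := ⟨q - 1, by omega⟩
  have e1 : (c + 1) ^ 2 - (c + 1) + 1 = (c + 1) * c + 1 := by
    have : (c + 1) ^ 2 = (c + 1) * c + (c + 1) := by ring
    omega
  rw [e1]
  ring

open Cfsg.Agent.Lib.SL2Nonsplit (IsNSTorus NS exists_torus_of_ns isNSTorus_zpowers)
open Cfsg.Agent.Lib.SL2Torus (exists_normOneData)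
open Matrix (SpecialLinearGroup)
open Cfsg.Agent.Lib.Chev.SL2 (x0 y0 D0 n0 ext4)

theorem Ree.ringChar_ne (R : Ree K m) : ringChar K ≠ 2 := by
  haveI := charP3 R.hK
  rw [ringChar.eq K 3]
  norm_num

theorem Ree.exists_torus (R : Ree K m) : ∃ C : Subgroup (SpecialLinearGroup (Fin 2) K), IsNSTorus C := by
  obtain ⟨D⟩ := exists_normOneData (F := K)
  exact ⟨_, isNSTorus_zpowers R.ringChar_ne D⟩

namespace Dat

variable (R : Ree K m) (d : Dat K (3 ^ m))

local notation "G" => Gm K m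

include d in
theorem neg_one_ne : D0 (-1 : Kˣ) ≠ (1 : SpecialLinearGroup (Fin 2) K) := by
  intro h
  have h1 := congrArg (fun A : SpecialLinearGroup (Fin 2) K => A.1 0 0) h
  simp at h1
  have h2 := d.h3
  have h3 : (1 : K) = 0 := by linear_combination h2 + h1
  exact one_ne_zero h3

/-- The order of the image of a torus. -/
theorem card_map_psi {C : Subgroup (SpecialLinearGroup (Fin 2) K)} (hC : IsNSTorus C) :
    2 * Nat.card (C.map d.psi) = Fintype.card K + 1 := by
  haveI := d.finite_G1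
  let f := d.psi.comp C.subtype
  have hr : f.range = C.map d.psi := by
    ext y
    exact ⟨fun ⟨a, ha⟩ => ⟨a.1, a.2, ha⟩, fun ⟨a, ha, hy⟩ => ⟨⟨a, ha⟩, hy⟩⟩
  have h1 := Subgroup.card_mul_index f.ker
  rw [Subgroup.index_ker, hr, hC.card_eq] at h1
  have hm1 : D0 (-1 : Kˣ) ∈ C := hC.center_le ((mem_center_SL _).2 (Or.inr rfl))
  have h2 : Nat.card f.ker = 2 := by
    rw [Nat.card_eq_two_iff]
    refine ⟨1, ⟨⟨D0 (-1), hm1⟩, ?_⟩, ?_, ?_⟩
    · show d.psi (D0 (-1)) = 1
      exact d.psi_D_neg_one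
    · intro h
      have h3 := congrArg (fun a : f.ker => (a : ↥C).1) h
      exact d.neg_one_ne h3.symm
    · rw [Set.eq_univ_iff_forall]
      rintro ⟨⟨A, hA⟩, hk⟩
      have h3 : d.psi A = 1 := hk
      rcases d.psi_eq_one h3 with rfl | rfl
      · left
        rfl
      · right
        rfl
  rw [h2] at h1
  exact h1

omit [Fintype K] in
theorem isCyclic_map {A B : Type*} [Group A] [Group B] (C : Subgroup A) [IsCyclic C] (f : A →* B) : IsCyclic (C.map f) := by
  let g : C →* C.map f := (f.comp C.subtype).codRestrict _ (fun a => ⟨a.1, a.2, rfl⟩)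
  exact isCyclic_of_surjective g (fun ⟨_, a, ha, rfl⟩ => ⟨⟨a, ha⟩, rfl⟩)

include R d

/-- Case of primes dividing `q - 1`. -/
theorem sylow_cyc_A {p : ℕ} (hp : p.Prime) (hp3 : 3 < p) (h1 : p ∣ Fintype.card K - 1) (Q : Subgroup G) (hQ : IsPGroup p Q) : IsCyclic Q := by
  haveI := d.finite_G1
  haveI : Fact p.Prime := ⟨hp⟩
  have hs := R.hs
  have hq := R.q_ge
  have h2 := hQ.card_modEq_card_fixedPoints (G ⧸ B1 K (3 ^ m))
  rw [d.card_Om hs] at h2
  have h3 : Fintype.card K ^ 3 + 1 ≡ 2 [MOD p] := by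
    have h5 : Fintype.card K ^ 3 + 1 = (Fintype.card K - 1) * (Fintype.card K ^ 2 + Fintype.card K + 1) + 2 := by
      obtain ⟨c, hc⟩ : ∃ c, Fintype.card K = c + 1 := ⟨Fintype.card K - 1, by omega⟩
      rw [hc, Nat.add_sub_cancel]
      ring
    rw [h5]
    have h6 : (Fintype.card K - 1) * (Fintype.card K ^ 2 + Fintype.card K + 1) ≡ 0 [MOD p] :=
      (Nat.modEq_zero_iff_dvd).2 (Dvd.dvd.mul_right h1 _)
    simpa using h6.add_right 2
  have h4 : Nat.card (MulAction.fixedPoints Q (G ⧸ B1 K (3 ^ m))) ≡ 2 [MOD p] := h2.symm.trans h3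
  have h5 : 1 < Nat.card (MulAction.fixedPoints Q (G ⧸ B1 K (3 ^ m))) := by
    by_contra hle
    have h6 : Nat.card (MulAction.fixedPoints Q (G ⧸ B1 K (3 ^ m))) = 0 ∨ Nat.card (MulAction.fixedPoints Q (G ⧸ B1 K (3 ^ m))) = 1 := by omega
    rcases h6 with h6 | h6
    · rw [h6] at h4
      have h7 := (Nat.modEq_zero_iff_dvd).1 h4.symm
      have := Nat.le_of_dvd (by norm_num) h7
      omega
    · rw [h6] at h4
      have h7 := (Nat.modEq_iff_dvd' (by norm_num)).1 h4
      have := Nat.le_of_dvd (by norm_num) h7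
      omega
  haveI : Nontrivial (MulAction.fixedPoints Q (G ⧸ B1 K (3 ^ m))) := (Finite.one_lt_card_iff_nontrivial).1 h5
  obtain ⟨⟨α, hα⟩, ⟨β, hβ⟩, hne⟩ := exists_pair_ne (MulAction.fixedPoints Q (G ⧸ B1 K (3 ^ m)))
  have hne' : α ≠ β := fun h => hne (Subtype.ext h)
  obtain ⟨g, hg⟩ := d.fix_two hne'
  have key : ∀ t : Q, (g⁻¹ * t.1 * g).1 ∈ chevG2.diagonalSubgroup K ⊓ twistedG2 K (3 ^ m) := by
    intro t
    obtain ⟨z, hz⟩ := hg t.1 (hα t) (hβ t)
    refine ⟨?_, (g⁻¹ * t.1 * g).2⟩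
    rw [hz]
    exact hF.tor_mem_diagonal _
  let φ : Q →* ↥(chevG2.diagonalSubgroup K ⊓ twistedG2 K (3 ^ m)) :=
    { toFun := fun t => ⟨(g⁻¹ * t.1 * g).1, key t⟩
      map_one' := Subtype.ext (by simp)
      map_mul' := fun a b => Subtype.ext (by
        have e : g⁻¹ * (a * b).1 * g = (g⁻¹ * a.1 * g) * (g⁻¹ * b.1 * g) := by
          show g⁻¹ * (a.1 * b.1) * g = _
          group
        have e' := congrArg Subtype.val e
        exact e') }
  haveI := d.isCyclic_H1 hs
  apply isCyclic_of_injective φ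
  intro a b hab
  have h6 := congrArg Subtype.val hab
  have h7 : g⁻¹ * a.1 * g = g⁻¹ * b.1 * g := Subtype.ext h6
  exact Subtype.ext (mul_left_cancel (mul_right_cancel h7))

/-- Case of primes dividing `q + 1`. -/
theorem sylow_cyc_B {p : ℕ} [Fact p.Prime] (hp3 : 3 < p) (h1 : p ∣ Fintype.card K + 1) (Q : Sylow p G) : IsCyclic (Q : Subgroup G) := by
  haveI := d.finite_G1
  have hp : p.Prime := Fact.out
  obtain ⟨C, hC⟩ := R.exists_torus
  haveI := hC.cyc
  haveI := isCyclic_map C d.psi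
  refine SL2Tori.isCyclic_sylow_of_cyclic_dvd p (C.map d.psi) ?_ Q
  have hq0 : 1 ≤ Fintype.card K := Fintype.card_pos
  have hq3 : 3 ∣ Fintype.card K := by
    rw [R.hK]
    exact dvd_pow_self _ (by omega)
  have h2 : ¬ p ∣ Fintype.card K := by
    intro h3
    have h4 := (Nat.dvd_add_right h3).1 h1
    have := Nat.le_of_dvd (by norm_num) h4
    omega
  have h3 : ¬ p ∣ Fintype.card K - 1 := by
    intro h3
    have h5 : Fintype.card K + 1 = (Fintype.card K - 1) + 2 := by omega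
    rw [h5] at h1
    have h4 := (Nat.dvd_add_right h3).1 h1
    have := Nat.le_of_dvd (by norm_num) h4
    omega
  have h4 : ¬ p ∣ Fintype.card K ^ 2 - Fintype.card K + 1 := fun h => (P_arith hp hq0 hq3 h).2.2.2.2 h1
  have hG : Nat.card G = (Fintype.card K + 1) * (Fintype.card K ^ 3 * (Fintype.card K - 1) * (Fintype.card K ^ 2 - Fintype.card K + 1)) := by
    rw [show Nat.card G = _ from d.card_G1 R.hs, q3_factor _ hq0]
    ring
  have h5 : p ^ (Nat.card G).factorization p ∣ Nat.card G := Nat.ordProj_dvd _ _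
  have hcop : Nat.Coprime (p ^ (Nat.card G).factorization p) (Fintype.card K ^ 3 * (Fintype.card K - 1) * (Fintype.card K ^ 2 - Fintype.card K + 1)) := by
    apply Nat.Coprime.pow_left
    rw [Nat.Prime.coprime_iff_not_dvd hp, hp.dvd_mul, hp.dvd_mul]
    rintro ((h6 | h6) | h6)
    · exact h2 (hp.dvd_of_dvd_pow h6)
    · exact h3 h6
    · exact h4 h6
  have h5' : p ^ (Nat.card G).factorization p ∣ (Fintype.card K + 1) * (Fintype.card K ^ 3 * (Fintype.card K - 1) * (Fintype.card K ^ 2 - Fintype.card K + 1)) := by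
    rw [← hG]
    exact h5
  have h6 := hcop.dvd_of_dvd_mul_right h5'
  rw [← d.card_map_psi hC] at h6
  refine (Nat.Coprime.dvd_mul_left ?_).1 h6
  apply Nat.Coprime.pow_left
  rw [Nat.Prime.coprime_iff_not_dvd hp]
  intro h7
  have := (Nat.prime_dvd_prime_iff_eq hp Nat.prime_two).1 h7
  omega

/-- Sylow subgroups for primes greater than three are cyclic. -/
theorem sylow_cyc {p : ℕ} [Fact p.Prime] (hp3 : 3 < p) (Q : Sylow p G) : IsCyclic (Q : Subgroup G) := by
  haveI := d.finite_G1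
  have hp : p.Prime := Fact.out
  have hq0 : 1 ≤ Fintype.card K := Fintype.card_pos
  by_cases h1 : p ∣ Fintype.card K - 1
  · exact d.sylow_cyc_A R hp hp3 h1 Q Q.2
  by_cases h2 : p ∣ Fintype.card K + 1
  · exact d.sylow_cyc_B R hp3 h2 Q
  by_cases h3 : p ∣ Fintype.card K ^ 2 - Fintype.card K + 1
  · exact isCyclic_of_cent hp Q Q.2 (fun x _ hx => d.cyc_C R hp hx h3)
  have h4 : ¬ p ∣ Fintype.card K := by
    intro h
    have h5 : p ∣ 3 ^ (2 * m + 1) := by rwa [R.hK] at h
    have h6 := (Nat.prime_dvd_prime_iff_eq hp Nat.prime_three).1 (hp.dvd_of_dvd_pow h5)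
    omega
  have h5 : ¬ p ∣ Nat.card G := by
    rw [show Nat.card G = _ from d.card_G1 R.hs, q3_factor _ hq0, hp.dvd_mul, hp.dvd_mul, hp.dvd_mul]
    rintro (((h6 | h6) | (h6 | h6)))
    · exact h4 (hp.dvd_of_dvd_pow h6)
    · exact h1 h6
    · exact h2 h6
    · exact h3 h6
  obtain ⟨n, hn⟩ := IsPGroup.iff_card.1 Q.2
  have hn0 : n = 0 := by
    by_contra h6
    apply h5
    refine Dvd.dvd.trans ?_ (Subgroup.card_subgroup_dvd_card (Q : Subgroup G))
    rw [hn]
    exact dvd_pow_self _ h6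
  rw [hn0, pow_zero] at hn
  haveI : Subsingleton (Q : Subgroup G) := (Nat.card_eq_one_iff_unique.1 hn).1
  exact isCyclic_of_subsingleton

end Dat

theorem main_S1156 (hm : 1 ≤ m) (hK : Fintype.card K = 3 ^ (2 * m + 1)) {p : ℕ} [Fact p.Prime] (hp : 3 < p)
    (P : Sylow p ↥(twistedG2 K (3 ^ m))) : IsCyclic (P : Subgroup ↥(twistedG2 K (3 ^ m))) := by
  obtain ⟨d⟩ := exists_dat hK
  exact d.sylow_cyc ⟨hm, hK⟩ hp P

end Cfsg.Agent.Lib.Chev.TwG2
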