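import Cfsg.Agent.Lib.Chev.TwG2P

/-!
# The Ree groups `²G₂`: the structure of `H¹` and `U¹`
-/

namespace Cfsg.Agent.Lib.Chev.TwG2

open Cfsg.Agent.Lib.Chev Cfsg.Lie Equiv
open Cfsg.Agent.Lib.ChevAut.Exotic (rbarG2 lamG2 exists_autG2)
open Cfsg.Agent.Lib.Chev.PermOK (exoPhi)

/-- Odd-order elements in a cyclic group of twice odd order. -/
theorem card_odd_of_cyclic {G : Type*} [CommGroup G] [IsCyclic G] [Finite G] {n : ℕ} (hn : Odd n) (hc : Nat.card G = 2 * n) :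
    Nat.card {x : G // Odd (orderOf x)} = n := by
  have h1 : Nat.card (powMonoidHom n : G →* G).ker = n := by
    rw [IsCyclic.card_powMonoidHom_ker, hc]
    exact Nat.gcd_eq_right (dvd_mul_left n 2)
  rw [← h1]
  apply Nat.card_congr
  refine ⟨fun x => ⟨x.1, ?_⟩, fun x => ⟨x.1, ?_⟩, fun _ => rfl, fun _ => rfl⟩
  · rw [MonoidHom.mem_ker, powMonoidHom_apply]
    have h2 : orderOf x.1 ∣ 2 * n := by
      rw [← hc]
      exact orderOf_dvd_natCard _
    have h3 : Nat.Coprime (orderOf x.1) 2 := Nat.Coprime.symm (Nat.coprime_two_left.2 x.2)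
    exact orderOf_dvd_iff_pow_eq_one.1 (h3.dvd_of_dvd_mul_left h2)
  · have h2 : x.1 ^ n = 1 := x.2
    exact Odd.of_dvd_nat hn (orderOf_dvd_of_pow_eq_one h2)

variable {K : Type*} [Field K] [Fintype K] {e : ℕ} (d : Dat K e)

namespace Dat

include d

theorem cOf_one : d.cOf 1 = 1 := by
  funext j
  refine fin_cases' (P := fun j => d.cOf 1 j = (1 : Fin chevG2.rank → Kˣ) j) ?_ rfl j
  rw [cOf_i0]
  simp

theorem mem_H1 {g : GL chevG2.Idx K} (hg : g ∈ chevG2.diagonalSubgroup K ⊓ twistedG2 K e) :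
    ∃ y : Kˣ, g = tor RootG2T.R chevG2 (d.cOf y) := by
  obtain ⟨c, rfl⟩ := (hF.mem_diagonal_iff).1 hg.1
  have h1 := (d.G1_le_Fx hg.2).2
  rw [d.Fc_def] at h1
  have h2 : d.Fc c = c := d.tor_inj' h1
  exact ⟨c i1, by rw [← d.eq_cOf h2]⟩

/-- The isomorphism from the multiplicative group onto `H¹`. -/
noncomputable def torHom (hsq : ∀ y : Kˣ, IsSquare y ∨ IsSquare (-y)) :
    Kˣ →* ↥(chevG2.diagonalSubgroup K ⊓ twistedG2 K e) where
  toFun y := ⟨tor RootG2T.R chevG2 (d.cOf y), hF.tor_mem_diagonal _, d.tor_mem hsq y⟩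
  map_one' := Subtype.ext (by
    show tor RootG2T.R chevG2 (d.cOf 1) = 1
    rw [d.cOf_one, tor_one])
  map_mul' y z := Subtype.ext (by
    show tor RootG2T.R chevG2 (d.cOf (y * z)) = tor RootG2T.R chevG2 (d.cOf y) * tor RootG2T.R chevG2 (d.cOf z)
    rw [cOf_mul, tor_mul])

theorem torHom_bij (hsq : ∀ y : Kˣ, IsSquare y ∨ IsSquare (-y)) : Function.Bijective (d.torHom hsq) := by
  constructor
  · intro y z h
    exact d.cOf_inj (d.tor_inj' (congrArg Subtype.val h))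
  · rintro ⟨g, hg⟩
    obtain ⟨y, rfl⟩ := d.mem_H1 hg
    exact ⟨y, rfl⟩

/-- `H¹` is the multiplicative group. -/
noncomputable def torEquiv (hsq : ∀ y : Kˣ, IsSquare y ∨ IsSquare (-y)) : Kˣ ≃* ↥(chevG2.diagonalSubgroup K ⊓ twistedG2 K e) :=
  MulEquiv.ofBijective (d.torHom hsq) (d.torHom_bij hsq)

theorem isCyclic_H1 (hsq : ∀ y : Kˣ, IsSquare y ∨ IsSquare (-y)) : IsCyclic ↥(chevG2.diagonalSubgroup K ⊓ twistedG2 K e) :=
  isCyclic_of_surjective _ (d.torHom_bij hsq).2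

theorem card_odd (hsq : ∀ y : Kˣ, IsSquare y ∨ IsSquare (-y)) {n : ℕ} (hn : Odd n) (hq : Fintype.card K - 1 = 2 * n) :
    Nat.card {h : ↥(chevG2.diagonalSubgroup K ⊓ twistedG2 K e) // Odd (orderOf h)} = n := by
  have h1 : Nat.card {x : Kˣ // Odd (orderOf x)} = n := by
    apply card_odd_of_cyclic hn
    classical
    rw [Nat.card_eq_fintype_card, Fintype.card_units, hq]
  rw [← h1]
  symm
  apply Nat.card_congr
  refine Equiv.subtypeEquiv (d.torEquiv hsq).toEquiv ?_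
  intro a
  rw [show (d.torEquiv hsq).toEquiv a = d.torEquiv hsq a from rfl, MulEquiv.orderOf_eq]

theorem rho6_ne {y : Kˣ} (hy : y ≠ 1) : (y : K) ^ 2 * ((d.f y) ^ 3)⁻¹ ≠ 1 := by
  intro h
  have hF0 : d.f (y : K) ≠ 0 := by
    rw [Ne, map_eq_zero]
    exact y.ne_zero
  have h1 : (y : K) ^ 2 = (d.f y) ^ 3 := by
    field_simp at h
    exact h
  have h2 : (d.f y) ^ 2 = (y : K) := by
    have := congrArg d.f h1
    simp only [map_pow, d.hθ] at this
    exact this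
  have h3 : (d.f y : K) ^ 4 = (d.f y) ^ 3 := by
    calc (d.f y : K) ^ 4 = ((d.f y) ^ 2) ^ 2 := by ring
      _ = (y : K) ^ 2 := by rw [h2]
      _ = _ := h1
  have h4 : d.f (y : K) = 1 := by
    have h5 : (d.f y : K) ^ 3 * (d.f y) = (d.f y) ^ 3 * 1 := by
      rw [← pow_succ, h3, mul_one]
    exact mul_left_cancel₀ (pow_ne_zero 3 hF0) h5
  apply hy
  apply Units.ext
  rw [Units.val_one, ← h2, h4, one_pow]

theorem cube_inj {a b : K} (h : a ^ 3 = b ^ 3) : a = b := by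
  have h3 := d.h3
  have h1 : (a - b) ^ 3 = 0 := by
    linear_combination h + (-a ^ 2 * b + a * b ^ 2) * h3
  have h2 := pow_eq_zero_iff (n := 3) (by norm_num) |>.1 h1
  exact sub_eq_zero.1 h2

theorem rho10_ne {y : Kˣ} (hy : y * y ≠ 1) : (d.f y) ^ 3 * (y : K)⁻¹ ≠ 1 := by
  intro h
  have hy0 : (y : K) ≠ 0 := y.ne_zero
  have hF0 : d.f (y : K) ≠ 0 := by
    rw [Ne, map_eq_zero]
    exact y.ne_zero
  have h1 : (d.f y) ^ 3 = (y : K) := by
    field_simp at h
    exact h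
  have h2 : d.f (y : K) = d.f (d.f y) := by
    apply d.cube_inj
    rw [h1, d.hθ]
  have h3 : d.f (d.f (d.f y)) = d.f (y : K) := by
    rw [← congrArg d.f h2]
    exact h2.symm
  have h4 : (d.f (y : K)) ^ 3 = d.f y := by
    have := d.hθ (d.f y)
    rw [h3] at this
    exact this
  have h5 : (y : K) = d.f y := h1.symm.trans h4
  have h6 : (y : K) ^ 3 = y := by
    calc (y : K) ^ 3 = (d.f y) ^ 3 := by rw [← h5]
      _ = (y : K) := h1
  apply hy
  apply Units.ext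
  rw [Units.val_mul, Units.val_one]
  have h7 : (y : K) * ((y : K) * y) = y * 1 := by
    rw [mul_one]
    calc (y : K) * ((y : K) * y) = (y : K) ^ 3 := by ring
      _ = (y : K) := h6
  exact mul_left_cancel₀ hy0 h7

/-- Elements of `H¹` other than `±1` are fixed point free on `U¹`. -/
theorem fix_W {y : Kˣ} (hy : y * y ≠ 1) {t u v : K}
    (h : tor RootG2T.R chevG2 (d.cOf y) * W e t u v * (tor RootG2T.R chevG2 (d.cOf y))⁻¹ = W e t u v) :
    t = 0 ∧ u = 0 ∧ v = 0 := by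
  rw [d.tor_W] at h
  obtain ⟨h1, h2, h3⟩ := d.W_inj h
  have hy1 : y ≠ 1 := by
    rintro rfl
    exact hy (mul_one 1)
  have hy2 : (y : K) ≠ 1 := fun h => hy1 (Units.ext h)
  refine ⟨?_, ?_, ?_⟩
  · by_contra ht
    exact d.rho6_ne hy1 (mul_right_cancel₀ ht (by rw [h1, one_mul]))
  · by_contra hu
    exact d.rho10_ne hy (mul_right_cancel₀ hu (by rw [h2, one_mul]))
  · by_contra hv
    exact hy2 (mul_right_cancel₀ hv (by rw [h3, one_mul]))

/-- An odd element is fixed-point free. -/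
theorem fpf_of_odd (hsq : ∀ y : Kˣ, IsSquare y ∨ IsSquare (-y)) (h : GL chevG2.Idx K) (hh : h ∈ chevG2.diagonalSubgroup K ⊓ twistedG2 K e)
    (h1 : h ≠ 1) (hodd : Odd (orderOf h)) :
    (chevG2.posUnipotent K ⊓ twistedG2 K e) ⊓ Subgroup.centralizer {h} = ⊥ := by
  obtain ⟨y, rfl⟩ := d.mem_H1 hh
  have e1 : orderOf (tor RootG2T.R chevG2 (d.cOf y) : GL chevG2.Idx K) = orderOf y := by
    have h2 := MulEquiv.orderOf_eq (d.torEquiv hsq) y
    rw [← h2, ← Subgroup.orderOf_coe]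
    rfl
  rw [e1] at hodd
  have hy : y * y ≠ 1 := by
    intro hyy
    have h3 : orderOf y ∣ 2 := orderOf_dvd_of_pow_eq_one (by rw [sq, hyy])
    have h4 : orderOf y = 1 := by
      have h5 : Nat.Coprime (orderOf y) 2 := Nat.Coprime.symm (Nat.coprime_two_left.2 hodd)
      exact Nat.Coprime.eq_one_of_dvd h5 h3
    rw [orderOf_eq_one_iff] at h4
    apply h1
    rw [h4, d.cOf_one, tor_one]
  rw [eq_bot_iff]
  intro x hx
  obtain ⟨hx12, hx3⟩ := Subgroup.mem_inf.1 hx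
  obtain ⟨t, u, v, rfl⟩ := (d.mem_U1_iff _).1 hx12
  rw [Subgroup.mem_centralizer_singleton_iff] at hx3
  have h5 : tor RootG2T.R chevG2 (d.cOf y) * W e t u v * (tor RootG2T.R chevG2 (d.cOf y))⁻¹ = W e t u v := by
    show tor RootG2T.R chevG2 (d.cOf y) * hF.c.wordG (reeWordU e t u v) * _ = _
    rw [← hx3, mul_inv_cancel_right]
    rfl
  obtain ⟨rfl, rfl, rfl⟩ := d.fix_W hy h5
  exact d.W_zero

/-- Elements of order three. -/
theorem card_order3 : Nat.card {u : ↥(chevG2.posUnipotent K ⊓ twistedG2 K e) // orderOf u = 3} = (Fintype.card K) ^ 2 - 1 := by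
  classical
  haveI : Fact (Nat.Prime 3) := ⟨Nat.prime_three⟩
  have key : ∀ (g : ↥(chevG2.posUnipotent K ⊓ twistedG2 K e)) (t u v : K), g.1 = W e t u v → (orderOf g = 3 ↔ t = 0 ∧ (u, v) ≠ ((0, 0) : K × K)) := by
    rintro g t u v hg
    rw [orderOf_eq_prime_iff]
    have h1 : g ^ 3 = 1 ↔ t = 0 := by
      have e1 : ((g ^ 3 : ↥(chevG2.posUnipotent K ⊓ twistedG2 K e)) : GL chevG2.Idx K) = W e 0 0 (-(t ^ 2 * (d.f t) ^ 3)) := by
        rw [Subgroup.coe_pow, hg, pow_succ, pow_succ, pow_one, d.W_cube]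
      constructor
      · intro h
        have h2 := e1
        rw [h, Subgroup.coe_one, ← d.W_zero] at h2
        have h3 := (d.W_inj h2).2.2
        by_contra ht
        have h4 : d.f t ≠ 0 := by
          rw [Ne, map_eq_zero]
          exact ht
        have h5 : t ^ 2 * (d.f t) ^ 3 ≠ 0 := mul_ne_zero (pow_ne_zero _ ht) (pow_ne_zero _ h4)
        apply h5
        linear_combination h3
      · rintro rfl
        apply Subtype.ext
        rw [e1]
        simp [zero_pow, d.W_zero]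
    have h2 : g ≠ 1 ↔ (t, u, v) ≠ ((0, 0, 0) : K × K × K) := by
      constructor
      · rintro h h3
        apply h
        apply Subtype.ext
        rw [hg, Subgroup.coe_one]
        simp only [Prod.mk.injEq] at h3
        obtain ⟨rfl, rfl, rfl⟩ := h3
        exact d.W_zero
      · rintro h rfl
        apply h
        have h4 : W e t u v = W e (0 : K) 0 0 := by
          rw [← hg, d.W_zero]
          rfl
        obtain ⟨rfl, rfl, rfl⟩ := d.W_inj h4
        rfl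
    rw [h1, h2]
    simp only [ne_eq, Prod.mk.injEq, not_and]
    constructor
    · rintro ⟨rfl, h3⟩
      exact ⟨rfl, fun hu hv => h3 rfl hu hv⟩
    · rintro ⟨rfl, h3⟩
      exact ⟨rfl, fun _ hu hv => h3 hu hv⟩
  have hmem : ∀ t u v : K, W e t u v ∈ chevG2.posUnipotent K ⊓ twistedG2 K e := fun t u v => ⟨d.W_mem_U t u v, d.W_mem t u v⟩
  have hb : Function.Bijective (fun p : {p : K × K // p ≠ (0, 0)} =>
      (⟨⟨W e 0 p.1.1 p.1.2, hmem _ _ _⟩, (key _ 0 _ _ rfl).2 ⟨rfl, p.2⟩⟩ :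
        {u : ↥(chevG2.posUnipotent K ⊓ twistedG2 K e) // orderOf u = 3})) := by
    constructor
    · rintro ⟨⟨u, v⟩, hp⟩ ⟨⟨u', v'⟩, hp'⟩ h
      have h1 := congrArg (fun x => ((x.1 : ↥(chevG2.posUnipotent K ⊓ twistedG2 K e)) : GL chevG2.Idx K)) h
      obtain ⟨-, rfl, rfl⟩ := d.W_inj h1
      rfl
    · rintro ⟨⟨g, hg⟩, hg3⟩
      obtain ⟨t, u, v, rfl⟩ := (d.mem_U1_iff _).1 hg
      obtain ⟨rfl, h2⟩ := (key _ t u v rfl).1 hg3
      exact ⟨⟨(u, v), h2⟩, rfl⟩
  rw [← Nat.card_congr (Equiv.ofBijective _ hb), Nat.card_eq_fintype_card]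
  rw [Fintype.card_subtype_compl]
  simp [sq]

end Dat

end Cfsg.Agent.Lib.Chev.TwG2
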