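import Cfsg.Agent.Lib.Chev.TwG2R
import Cfsg.Agent.Lib.Chev.BruOne

/-!
# The Ree groups `²G₂`: the Bruhat decomposition, stabilisers, Sylow 3-subgroups
-/

namespace Cfsg.Agent.Lib.Chev.TwG2

open Cfsg.Agent.Lib.Chev Cfsg.Lie Equiv
open Cfsg.Agent.Lib.ChevAut.Exotic (rbarG2 lamG2 exists_autG2)
open Cfsg.Agent.Lib.Chev.PermOK (exoPhi)

variable {K : Type*} [Field K] [Fintype K] {e : ℕ} (d : Dat K e)

/-- The Borel subgroup of `G₁`. -/
abbrev B1 (K : Type*) [Field K] (e : ℕ) : Subgroup ↥(twistedG2 K e) :=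
  (chevG2.borelSubgroup K ⊓ twistedG2 K e).subgroupOf (twistedG2 K e)

/-- The unipotent subgroup of `G₁`. -/
abbrev U1 (K : Type*) [Field K] (e : ℕ) : Subgroup ↥(twistedG2 K e) :=
  (chevG2.posUnipotent K ⊓ twistedG2 K e).subgroupOf (twistedG2 K e)

namespace Dat

/-- `n₀` as an element of `G₁`. -/
noncomputable def n1 : ↥(twistedG2 K e) := ⟨(n₀ (K := K)).1, d.n₀_mem⟩

include d

theorem n₀_sq : (n₀ (K := K)).1 * (n₀ (K := K)).1 ∈ chevG2.diagonalSubgroup K :=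
  (d.twG).nC_sq_mem (i := 0) (by decide)

theorem n₀_pow (k : ℕ) : (n₀ (K := K)).1 ^ k ∈ chevG2.diagonalSubgroup K ∨
    (n₀ (K := K)).1 ^ k * (n₀ (K := K)).1 ∈ chevG2.diagonalSubgroup K := by
  induction k with
  | zero =>
    left
    rw [pow_zero]
    exact Subgroup.one_mem _
  | succ k ih =>
    rcases ih with h | h
    · right
      rw [pow_succ, mul_assoc]
      exact Subgroup.mul_mem _ h d.n₀_sq
    · left
      rw [pow_succ]
      exact h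

theorem N1_cases {n : ↥(chevG2.monomialSubgroup K)} (hn : n.1 ∈ twistedG2 K e) :
    n.1 ∈ chevG2.diagonalSubgroup K ∨ n.1 * (n₀ (K := K)).1 ∈ chevG2.diagonalSubgroup K := by
  obtain ⟨L, h, -, hh, -, e1⟩ := (d.twG).N1_induction _ n hn rfl
  have e2 : (L.map fun i => ((d.twG).nC i).1).prod = (n₀ (K := K)).1 ^ L.length := by
    have : (L.map fun i => ((d.twG).nC i).1) = List.replicate L.length (n₀ (K := K)).1 := by
      rw [List.eq_replicate_iff]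
      simp only [List.length_map, List.mem_map, true_and]
      rintro b ⟨a, -, rfl⟩
      rfl
    rw [this, List.prod_replicate]
  rw [e2] at e1
  rw [e1]
  rcases d.n₀_pow L.length with h1 | h1
  · exact Or.inl (Subgroup.mul_mem _ hh h1)
  · right
    rw [mul_assoc]
    exact Subgroup.mul_mem _ hh h1

theorem hopp_GL {u : GL chevG2.Idx K} (hu : u ∈ chevG2.posUnipotent K)
    (h2 : (n₀ (K := K)).1⁻¹ * u * (n₀ (K := K)).1 ∈ chevG2.borelSubgroup K) : u = 1 := by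
  obtain ⟨v, hact⟩ := hF.rhoN_spec (n₀ (K := K))
  have h3 := hF.borel_inf_conj hact (n₀ (K := K)).2 (fun s => by
    rw [rho_n₀]
    exact L0_opp _ s.2) h2 (by
      have e1 : (n₀ (K := K)).1 * ((n₀ (K := K)).1⁻¹ * u * (n₀ (K := K)).1) * (n₀ (K := K)).1⁻¹ = u := by group
      rw [e1]
      exact hF.c.posUnipotent_le_borel hu)
  have h4 := (Subgroup.mem_set_normalizer_iff.1 (hF.monomial_le_normalizer (n₀ (K := K)).2) _).1 h3
  have e1 : (n₀ (K := K)).1 * ((n₀ (K := K)).1⁻¹ * u * (n₀ (K := K)).1) * (n₀ (K := K)).1⁻¹ = u := by group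
  rw [e1] at h4
  have h5 : u ∈ chevG2.posUnipotent K ⊓ chevG2.diagonalSubgroup K := ⟨hu, h4⟩
  rw [hF.U_inf_H, Subgroup.mem_bot] at h5
  exact h5

/-- The Bruhat decomposition. -/
theorem bru : Bru (B1 K e) (U1 K e) d.n1 where
  hUB := by
    intro x hx
    obtain ⟨h1, h2⟩ := Subgroup.mem_subgroupOf.1 hx
    exact Subgroup.mem_subgroupOf.2 ⟨hF.c.posUnipotent_le_borel h1, h2⟩
  hnorm := by
    intro b hb u hu
    obtain ⟨h1, h2⟩ := Subgroup.mem_subgroupOf.1 hb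
    obtain ⟨h3, h4⟩ := Subgroup.mem_subgroupOf.1 hu
    refine Subgroup.mem_subgroupOf.2 ⟨?_, (b * u * b⁻¹).2⟩
    exact (Subgroup.mem_set_normalizer_iff.1 (hF.borel_le_normalizer_U h1) _).1 h3
  hbr := by
    intro c hc
    obtain ⟨n', hn', hcell⟩ := (d.twG).exists_cell (c⁻¹).2
    obtain ⟨b, hb, hbG, u, hu, huG, e1⟩ := (d.twG).cell_decomp (c⁻¹).2 hn' hcell
    have e2 : c.1 = u⁻¹ * n'.1⁻¹ * b⁻¹ := by
      have h1 : c.1⁻¹ = b * n'.1 * u := e1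
      have h2 : c.1 = (b * n'.1 * u)⁻¹ := by rw [← h1, inv_inv]
      rw [h2]
      group
    have hn'G : n'.1 ∈ twistedG2 K e := hn'
    rcases d.N1_cases hn'G with h1 | h1
    · exfalso
      apply hc
      refine Subgroup.mem_subgroupOf.2 ⟨?_, c.2⟩
      rw [e2]
      exact Subgroup.mul_mem _ (Subgroup.mul_mem _ (Subgroup.inv_mem _ (hF.c.posUnipotent_le_borel hu))
        (Subgroup.inv_mem _ (hF.c.diagonal_le_borel h1))) (Subgroup.inv_mem _ hb)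
    · have huG' : u ∈ twistedG2 K e := huG
      have hbG' : b ∈ twistedG2 K e := hbG
      refine ⟨⟨u⁻¹, Subgroup.inv_mem _ huG'⟩, Subgroup.mem_subgroupOf.2 ⟨Subgroup.inv_mem _ hu, Subgroup.inv_mem _ huG'⟩,
        ⟨(n'.1 * (n₀ (K := K)).1)⁻¹ * b⁻¹, Subgroup.mul_mem _ (Subgroup.inv_mem _ (Subgroup.mul_mem _ hn'G d.n₀_mem)) (Subgroup.inv_mem _ hbG')⟩,
        Subgroup.mem_subgroupOf.2 ⟨Subgroup.mul_mem _ (Subgroup.inv_mem _ (hF.c.diagonal_le_borel h1)) (Subgroup.inv_mem _ hb),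
          Subgroup.mul_mem _ (Subgroup.inv_mem _ (Subgroup.mul_mem _ hn'G d.n₀_mem)) (Subgroup.inv_mem _ hbG')⟩, ?_⟩
      apply Subtype.ext
      show c.1 = u⁻¹ * (n₀ (K := K)).1 * ((n'.1 * (n₀ (K := K)).1)⁻¹ * b⁻¹)
      rw [e2]
      group
  hopp := by
    intro u hu h2
    obtain ⟨h3, -⟩ := Subgroup.mem_subgroupOf.1 hu
    obtain ⟨h4, -⟩ := Subgroup.mem_subgroupOf.1 h2
    exact Subtype.ext (d.hopp_GL h3 h4)

/-- The elements of the two-point stabiliser. -/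
theorem H1_of_B {h : ↥(twistedG2 K e)} (h1 : h ∈ B1 K e) (h2 : d.n1⁻¹ * h * d.n1 ∈ B1 K e) :
    ∃ y : Kˣ, h.1 = tor RootG2T.R chevG2 (d.cOf y) := by
  obtain ⟨v, hact⟩ := hF.rhoN_spec (n₀ (K := K))
  obtain ⟨h3, -⟩ := Subgroup.mem_subgroupOf.1 h2
  obtain ⟨h4, -⟩ := Subgroup.mem_subgroupOf.1 h1
  have h3' : (n₀ (K := K)).1⁻¹ * h.1 * (n₀ (K := K)).1 ∈ chevG2.borelSubgroup K := h3
  have e1 : (n₀ (K := K)).1 * ((n₀ (K := K)).1⁻¹ * h.1 * (n₀ (K := K)).1) * (n₀ (K := K)).1⁻¹ = h.1 := by group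
  have h5 := hF.borel_inf_conj hact (n₀ (K := K)).2 (fun s => by
    rw [rho_n₀]
    exact L0_opp _ s.2) h3' (by
      rw [e1]
      exact h4)
  have h6 := (Subgroup.mem_set_normalizer_iff.1 (hF.monomial_le_normalizer (n₀ (K := K)).2) _).1 h5
  rw [e1] at h6
  exact d.mem_H1 ⟨h6, h.2⟩

/-- The element `h(-1)` as an element of `G₁`. -/
noncomputable def a₀ (d : Dat K e) : ↥(twistedG2 K e) := ⟨tor RootG2T.R chevG2 (d.cOf (-1)), by
  have : d.cOf (-1 : Kˣ) = fun _ => -1 := by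
    funext j
    refine fin_cases' (P := fun j => d.cOf (-1 : Kˣ) j = -1) ?_ rfl j
    rw [cOf_i0]
    apply Units.ext
    simp
  rw [this]
  exact d.tor_m1_mem⟩

/-- The three point stabilisers. -/
theorem stab_cases (t w : ↥(twistedG2 K e)) (hw : w ∈ U1 K e) (hw1 : d.n1⁻¹ * w * d.n1 ∉ B1 K e) (h1 : t ∈ B1 K e)
    (h2 : d.n1⁻¹ * t * d.n1 ∈ B1 K e) (h3 : (w * d.n1)⁻¹ * t * (w * d.n1) ∈ B1 K e) : t = 1 ∨ t = d.a₀ := by
  have hb := d.bru
  obtain ⟨y, hy⟩ := d.H1_of_B h1 h2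
  set w' := w⁻¹ * (t * w * t⁻¹) with hw'
  have hw'U : w' ∈ U1 K e := Subgroup.mul_mem _ (Subgroup.inv_mem _ hw) (hb.hnorm _ h1 _ hw)
  have hw'1 : w' = 1 := by
    apply hb.hopp _ hw'U
    have e1 : d.n1⁻¹ * w' * d.n1 = ((w * d.n1)⁻¹ * t * (w * d.n1)) * (d.n1⁻¹ * t * d.n1)⁻¹ := by
      rw [hw']
      group
    rw [e1]
    exact Subgroup.mul_mem _ h3 (Subgroup.inv_mem _ h2)
  have hcomm : t * w * t⁻¹ = w := by
    rw [hw', inv_mul_eq_one] at hw'1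
    exact hw'1.symm
  obtain ⟨t₁, u₁, v₁, ew⟩ := (d.mem_U1_iff w.1).1 (Subgroup.mem_subgroupOf.1 hw)
  have hyy : y * y = 1 := by
    by_contra hyy
    have h5 : tor RootG2T.R chevG2 (d.cOf y) * W e t₁ u₁ v₁ * (tor RootG2T.R chevG2 (d.cOf y))⁻¹ = W e t₁ u₁ v₁ := by
      have h6 := congrArg Subtype.val hcomm
      have h7 : (t * w * t⁻¹ : ↥(twistedG2 K e)).1 = t.1 * w.1 * t.1⁻¹ := rfl
      rw [h7, hy, ew] at h6
      exact h6
    obtain ⟨rfl, rfl, rfl⟩ := d.fix_W hyy h5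
    have h8 : w = 1 := by
      apply Subtype.ext
      rw [ew]
      exact d.W_zero
    apply hw1
    rw [h8, mul_one, inv_mul_cancel]
    exact Subgroup.one_mem _
  have hy' : (y : K) * y = 1 := by
    have := congrArg Units.val hyy
    simpa using this
  rcases mul_self_eq_one_iff.1 hy' with h4 | h4
  · left
    have h5 : y = 1 := Units.ext h4
    apply Subtype.ext
    rw [hy, h5, d.cOf_one, tor_one]
    rfl
  · right
    have h5 : y = -1 := Units.ext (by simpa using h4)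
    apply Subtype.ext
    rw [hy, h5]
    rfl

theorem n1_not_mem : d.n1 ∉ B1 K e := by
  intro h1
  obtain ⟨h2, -⟩ := Subgroup.mem_subgroupOf.1 h1
  have h2' : (n₀ (K := K)).1 ∈ chevG2.borelSubgroup K := h2
  obtain ⟨v, hact⟩ := hF.rhoN_spec (n₀ (K := K))
  have h3 := hF.borel_inf_conj hact (n₀ (K := K)).2 (fun s => by
    rw [rho_n₀]
    exact L0_opp _ s.2) h2' (by
      rw [mul_inv_cancel_right]
      exact h2')
  have h4 := hF.rhoN_of_mem_diagonal _ h3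
  have h5 := rho_n₀ (K := K) ⟨0, by decide⟩
  rw [h4] at h5
  have h6 : wAct TabG2.X L0 0 = 11 := by decide +kernel
  rw [h6] at h5
  exact absurd h5 (by decide)

theorem a₀_ne : d.a₀ ≠ 1 := by
  intro h1
  have h2 := congrArg Subtype.val h1
  have h3 : tor RootG2T.R chevG2 (d.cOf (-1)) = tor RootG2T.R chevG2 (d.cOf 1) := by
    rw [d.cOf_one, tor_one]
    exact h2
  have h4 := d.cOf_inj (d.tor_inj' h3)
  have h5 : (-1 : K) = 1 := by
    have := congrArg Units.val h4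
    simpa using this
  have h6 := d.h3
  have h7 : (1 : K) = 0 := by linear_combination h6 + h5
  exact one_ne_zero h7

theorem a₀_mem : d.a₀ ∈ B1 K e :=
  Subgroup.mem_subgroupOf.2 ⟨hF.c.diagonal_le_borel (hF.tor_mem_diagonal _), (d.a₀).2⟩

theorem a₀_conj : d.n1⁻¹ * d.a₀ * d.n1 ∈ B1 K e := by
  refine Subgroup.mem_subgroupOf.2 ⟨hF.c.diagonal_le_borel ?_, (d.n1⁻¹ * d.a₀ * d.n1).2⟩
  have h1 := (Subgroup.mem_set_normalizer_iff.1 (Subgroup.inv_mem _ (hF.monomial_le_normalizer (n₀ (K := K)).2)) _).1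
    (hF.tor_mem_diagonal (d.cOf (-1)))
  rw [inv_inv] at h1
  exact h1

/-- The element `W(0,1,0)`. -/
noncomputable def w1 (d : Dat K e) : ↥(twistedG2 K e) := ⟨W e 0 1 0, d.W_mem _ _ _⟩

theorem w1_mem : d.w1 ∈ U1 K e := Subgroup.mem_subgroupOf.2 ⟨d.W_mem_U _ _ _, d.W_mem _ _ _⟩

theorem w1_not : d.n1⁻¹ * d.w1 * d.n1 ∉ B1 K e := by
  intro h1
  have h2 := d.bru.hopp _ d.w1_mem h1
  have h3 : W e (0 : K) 1 0 = W e 0 0 0 := by
    rw [d.W_zero]
    exact congrArg Subtype.val h2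
  exact one_ne_zero (d.W_inj h3).2.1

theorem a₀_comm : (d.w1 * d.n1)⁻¹ * d.a₀ * (d.w1 * d.n1) ∈ B1 K e := by
  have h1 : d.a₀ * d.w1 * d.a₀⁻¹ = d.w1 := by
    apply Subtype.ext
    show tor RootG2T.R chevG2 (d.cOf (-1)) * W e 0 1 0 * (tor RootG2T.R chevG2 (d.cOf (-1)))⁻¹ = W e 0 1 0
    rw [d.tor_W]
    congr 1
    · simp
    · norm_num
    · simp
  have e1 : (d.w1 * d.n1)⁻¹ * d.a₀ * (d.w1 * d.n1) = d.n1⁻¹ * d.a₀ * d.n1 := by
    have e2 : d.w1⁻¹ * d.a₀ * d.w1 = d.a₀ := by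
      calc d.w1⁻¹ * d.a₀ * d.w1 = d.w1⁻¹ * (d.a₀ * d.w1 * d.a₀⁻¹) * d.a₀ := by group
        _ = _ := by rw [h1]; group
    calc (d.w1 * d.n1)⁻¹ * d.a₀ * (d.w1 * d.n1) = d.n1⁻¹ * (d.w1⁻¹ * d.a₀ * d.w1) * d.n1 := by group
      _ = _ := by rw [e2]
  rw [e1]
  exact d.a₀_conj

/-- The group `G₁` is finite. -/
theorem finite_G1 : Finite ↥(twistedG2 K e) := inferInstance

/-- The statement on three-point stabilisers. -/
theorem three_point :
    (∀ x y z : ↥(twistedG2 K e) ⧸ B1 K e, x ≠ y → x ≠ z → y ≠ z →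
        Nat.card ↥(MulAction.stabilizer ↥(twistedG2 K e) x ⊓ MulAction.stabilizer ↥(twistedG2 K e) y ⊓ MulAction.stabilizer ↥(twistedG2 K e) z) ≤ 2) ∧
      ∃ x y z : ↥(twistedG2 K e) ⧸ B1 K e, x ≠ y ∧ x ≠ z ∧ y ≠ z ∧
        Nat.card ↥(MulAction.stabilizer ↥(twistedG2 K e) x ⊓ MulAction.stabilizer ↥(twistedG2 K e) y ⊓ MulAction.stabilizer ↥(twistedG2 K e) z) = 2 := by
  have hb := d.bru
  haveI := d.finite_G1
  refine ⟨?_, ?_⟩
  · intro x y z hxy hxz hyz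
    exact hb.card_triple_le (a₀ := d.a₀) (fun t w hw hw1 h1 h2 h3 => d.stab_cases t w hw hw1 h1 h2 h3) x y z hxy hxz hyz
  · exact hb.exists_triple (a₀ := d.a₀) (fun t w hw hw1 h1 h2 h3 => d.stab_cases t w hw hw1 h1 h2 h3) d.w1_mem d.w1_not
      d.n1_not_mem d.a₀_ne d.a₀_mem d.a₀_conj d.a₀_comm

/-- Distinct Sylow 3-subgroups meet trivially. -/
theorem sylow3_TI (hsq : ∀ y : Kˣ, IsSquare y ∨ IsSquare (-y)) {n : ℕ} (hn : Fintype.card K = 3 ^ n) (hn0 : n ≠ 0)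
    (P Q : Sylow 3 ↥(twistedG2 K e)) (hPQ : P ≠ Q) :
    (P : Subgroup ↥(twistedG2 K e)) ⊓ (Q : Subgroup ↥(twistedG2 K e)) = ⊥ := by
  haveI := d.finite_G1
  haveI : Fact (Nat.Prime 3) := ⟨Nat.prime_three⟩
  have hc : Nat.card ↥(U1 K e) = (Fintype.card K) ^ 3 := by
    rw [← d.card_U1]
    exact Nat.card_congr (Subgroup.subgroupOfEquivOfLe (inf_le_right)).toEquiv
  have hp : IsPGroup 3 ↥(U1 K e) := by
    apply IsPGroup.of_card (n := n * 3)
    rw [hc, hn, pow_mul]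
  have hq3 : 3 ∣ Fintype.card K := by
    rw [hn]
    exact dvd_pow_self _ hn0
  have hq : 0 < Fintype.card K := Fintype.card_pos
  have hi : (U1 K e).index = (Fintype.card K - 1) * ((Fintype.card K) ^ 3 + 1) := by
    have h1 := Subgroup.card_mul_index (U1 K e)
    have h2 : Nat.card ↥(twistedG2 K e) = (Fintype.card K) ^ 3 * ((Fintype.card K - 1) * ((Fintype.card K) ^ 3 + 1)) := by
      rw [d.card_G1 hsq, mul_assoc]
    rw [h2, hc] at h1
    exact Nat.eq_of_mul_eq_mul_left (by positivity) h1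
  have hnd : ¬ 3 ∣ (U1 K e).index := by
    rw [hi, Nat.Prime.dvd_mul Nat.prime_three]
    obtain ⟨r, hr⟩ := hq3
    rintro (h1 | h1)
    · rw [hr] at h1
      omega
    · have h2 : 3 ∣ (Fintype.card K) ^ 3 := dvd_pow (⟨r, hr⟩) (by norm_num)
      omega
  exact d.bru.sylow_TI (hp.toSylow hnd) rfl hPQ

end Dat

end Cfsg.Agent.Lib.Chev.TwG2
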