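import Cfsg.Agent.Lib.Chev.TwG2Q
import Cfsg.Agent.Lib.Chev.KleinCent

set_option linter.style.haveILetI false
set_option linter.unusedSectionVars false

/-!
# The Ree groups `²G₂`: the tori of order `q + 1`
-/

namespace Cfsg.Agent.Lib.Chev.TwG2

open Cfsg.Agent.Lib.Chev Cfsg.Lie Equiv Module
open Cfsg.Agent.Lib
open Cfsg.Agent.Lib.SL2Nonsplit (IsNSTorus NS exists_torus_of_ns isNSTorus_zpowers ns_iff NS_not_center)
open Cfsg.Agent.Lib.SL2Core (tr pow_char_of_tr_two)
open Matrix (SpecialLinearGroup)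
open Cfsg.Agent.Lib.Chev.SL2 (x0 y0 D0 n0 ext4)

variable {K : Type*} [Field K] [Fintype K] {m : ℕ}

/-- A four-group. -/
theorem klein_sub {H : Type*} [Group H] {a b : H} (ha : a * a = 1) (hb : b * b = 1) (hc : a * b = b * a) (ha1 : a ≠ 1) (hb1 : b ≠ 1) (hab : a ≠ b) :
    ∃ V : Subgroup H, Nat.card V = 4 ∧ a ∈ V ∧ b ∈ V ∧ ∀ x ∈ V, x = 1 ∨ x = a ∨ x = b ∨ x = a * b := by
  classical
  have e1 : a * (a * b) = b := by rw [← mul_assoc, ha, one_mul]
  have e2 : b * (a * b) = a := by rw [← mul_assoc, ← hc, mul_assoc, hb, mul_one]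
  have e3 : (a * b) * a = b := by rw [hc, mul_assoc, ha, mul_one]
  have e4 : (a * b) * b = a := by rw [mul_assoc, hb, mul_one]
  have e5 : (a * b) * (a * b) = 1 := by rw [← mul_assoc, e3, hb]
  have e6 : b * a = a * b := hc.symm
  let V : Subgroup H :=
    { carrier := {x | x = 1 ∨ x = a ∨ x = b ∨ x = a * b}
      one_mem' := Or.inl rfl
      mul_mem' := by
        rintro x y (rfl | rfl | rfl | rfl) (rfl | rfl | rfl | rfl) <;> simp [ha, hb, e1, e2, e3, e4, e5, e6]
      inv_mem' := by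
        have i1 : a⁻¹ = a := inv_eq_of_mul_eq_one_left ha
        have i2 : b⁻¹ = b := inv_eq_of_mul_eq_one_left hb
        have i3 : (a * b)⁻¹ = a * b := inv_eq_of_mul_eq_one_left e5
        rintro x (rfl | rfl | rfl | rfl) <;> simp [i1, i2, i3] }
  refine ⟨V, ?_, Or.inr (Or.inl rfl), Or.inr (Or.inr (Or.inl rfl)), fun x hx => hx⟩
  have h1 : (V : Set H) = ↑({1, a, b, a * b} : Finset H) := by
    ext x
    simp [V]
  have h2 : Nat.card V = ({1, a, b, a * b} : Finset H).card := by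
    have h3 : Nat.card V = Nat.card (V : Set H) := rfl
    rw [h3, h1, Nat.card_coe_set_eq, Set.ncard_coe_finset]
  rw [h2]
  have n1 : a * b ≠ 1 := by
    intro h
    apply hab
    have : a * b = b * b := by rw [h, hb]
    exact mul_right_cancel this
  have n2 : a * b ≠ a := fun h => hb1 (mul_eq_left.1 h)
  have n3 : a * b ≠ b := fun h => ha1 (mul_eq_right.1 h)
  rw [Finset.card_insert_of_notMem, Finset.card_insert_of_notMem, Finset.card_insert_of_notMem, Finset.card_singleton]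
  · simp [n3.symm]
  · simp [hab, n2.symm]
  · simp [ha1.symm, hb1.symm, n1.symm]

namespace Dat

variable (R : Ree K m) (d : Dat K (3 ^ m))

local notation "G" => Gm K m

/-- The torus of order `q + 1` attached to a nonsplit torus of `SL₂`. -/
def Tp (C : Subgroup (SpecialLinearGroup (Fin 2) K)) : Subgroup G where
  carrier := {g | ∃ A ∈ C, g = d.psi A ∨ g = d.a₀ * d.psi A}
  one_mem' := ⟨1, C.one_mem, Or.inl (map_one _).symm⟩
  mul_mem' := by
    rintro _ _ ⟨A, hA, rfl | rfl⟩ ⟨B, hB, rfl | rfl⟩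
    · exact ⟨A * B, C.mul_mem hA hB, Or.inl (map_mul _ _ _).symm⟩
    · refine ⟨A * B, C.mul_mem hA hB, Or.inr ?_⟩
      rw [map_mul, ← mul_assoc, ← mul_assoc, d.a₀_comm_psi]
    · refine ⟨A * B, C.mul_mem hA hB, Or.inr ?_⟩
      rw [map_mul, mul_assoc]
    · refine ⟨A * B, C.mul_mem hA hB, Or.inl ?_⟩
      rw [map_mul]
      calc d.a₀ * d.psi A * (d.a₀ * d.psi B) = d.a₀ * (d.psi A * d.a₀) * d.psi B := by group
        _ = d.a₀ * (d.a₀ * d.psi A) * d.psi B := by rw [d.a₀_comm_psi]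
        _ = (d.a₀ * d.a₀) * (d.psi A * d.psi B) := by group
        _ = _ := by rw [d.a₀_sq, one_mul]
  inv_mem' := by
    rintro _ ⟨A, hA, rfl | rfl⟩
    · exact ⟨A⁻¹, C.inv_mem hA, Or.inl (map_inv _ _).symm⟩
    · refine ⟨A⁻¹, C.inv_mem hA, Or.inr ?_⟩
      rw [map_inv, _root_.mul_inv_rev, d.a₀_inv, ← map_inv, d.a₀_comm_psi]

theorem mem_Tp {C : Subgroup (SpecialLinearGroup (Fin 2) K)} {g : G} : g ∈ d.Tp C ↔ ∃ A ∈ C, g = d.psi A ∨ g = d.a₀ * d.psi A := Iff.rfl

include R in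
/-- The order of the torus. -/
theorem card_Tp {C : Subgroup (SpecialLinearGroup (Fin 2) K)} (hC : IsNSTorus C) : Nat.card (d.Tp C) = Fintype.card K + 1 := by
  classical
  have hnp := d.a₀_not_psi R.hs R.hnm
  let f : Bool × ↥(C.map d.psi) → ↥(d.Tp C) := fun p =>
    if h : p.1 = true then ⟨d.a₀ * p.2.1, by
      obtain ⟨A, hA, e1⟩ := p.2.2
      exact ⟨A, hA, Or.inr (by rw [e1])⟩⟩
    else ⟨p.2.1, by
      obtain ⟨A, hA, e1⟩ := p.2.2
      exact ⟨A, hA, Or.inl e1.symm⟩⟩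
  have hf : Function.Bijective f := by
    constructor
    · rintro ⟨b₁, ⟨x, A, hA, rfl⟩⟩ ⟨b₂, ⟨y, B, hB, rfl⟩⟩ hxy
      have key : ∀ A B : SpecialLinearGroup (Fin 2) K, d.a₀ * d.psi A ≠ d.psi B := by
        intro A B h
        apply hnp (B * A⁻¹)
        rw [map_mul, map_inv, ← h]
        group
      cases b₁ <;> cases b₂ <;> simp only [f] at hxy
      · have e1 : d.psi A = d.psi B := congrArg Subtype.val hxy
        simp only [e1]
      · have e1 : d.psi A = d.a₀ * d.psi B := congrArg Subtype.val hxy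
        exact absurd e1.symm (key _ _)
      · have e1 : d.a₀ * d.psi A = d.psi B := congrArg Subtype.val hxy
        exact absurd e1 (key _ _)
      · have e1 : d.a₀ * d.psi A = d.a₀ * d.psi B := congrArg Subtype.val hxy
        simp only [mul_left_cancel e1]
    · rintro ⟨g, A, hA, rfl | rfl⟩
      · exact ⟨(false, ⟨d.psi A, A, hA, rfl⟩), rfl⟩
      · exact ⟨(true, ⟨d.psi A, A, hA, rfl⟩), rfl⟩
  rw [← Nat.card_congr (Equiv.ofBijective f hf), Nat.card_prod, Nat.card_eq_fintype_card, Fintype.card_bool]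
  exact d.card_map_psi hC

/-- The torus is abelian. -/
theorem comm_Tp {C : Subgroup (SpecialLinearGroup (Fin 2) K)} (hC : IsNSTorus C) {g h : G} (hg : g ∈ d.Tp C) (hh : h ∈ d.Tp C) : g * h = h * g := by
  obtain ⟨A, hA, e1⟩ := hg
  obtain ⟨B, hB, e2⟩ := hh
  have h1 : d.psi A * d.psi B = d.psi B * d.psi A := by
    rw [← map_mul, ← map_mul, hC.comm hA hB]
  have h2 := d.a₀_comm_psi A
  have h3 := d.a₀_comm_psi B
  rcases e1 with rfl | rfl <;> rcases e2 with rfl | rfl
  · exact h1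
  · calc d.psi A * (d.a₀ * d.psi B) = (d.psi A * d.a₀) * d.psi B := by group
      _ = d.a₀ * (d.psi A * d.psi B) := by rw [h2]; group
      _ = _ := by rw [h1]; group
  · calc d.a₀ * d.psi A * d.psi B = d.a₀ * (d.psi A * d.psi B) := by group
      _ = (d.a₀ * d.psi B) * d.psi A := by rw [h1]; group
      _ = d.psi B * d.a₀ * d.psi A := by rw [h3]
      _ = _ := by group
  · calc d.a₀ * d.psi A * (d.a₀ * d.psi B) = d.a₀ * (d.psi A * d.a₀) * d.psi B := by group
      _ = d.a₀ * d.a₀ * (d.psi A * d.psi B) := by rw [h2]; group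
      _ = d.a₀ * d.a₀ * (d.psi B * d.psi A) := by rw [h1]
      _ = d.a₀ * (d.a₀ * d.psi B) * d.psi A := by group
      _ = d.a₀ * (d.psi B * d.a₀) * d.psi A := by rw [h3]
      _ = _ := by group

theorem a₀_mem_Tp (C : Subgroup (SpecialLinearGroup (Fin 2) K)) : d.a₀ ∈ d.Tp C :=
  ⟨1, C.one_mem, Or.inr (by rw [map_one, mul_one])⟩

theorem psi_mem_Tp {C : Subgroup (SpecialLinearGroup (Fin 2) K)} {A : SpecialLinearGroup (Fin 2) K} (hA : A ∈ C) : d.psi A ∈ d.Tp C :=
  ⟨A, hA, Or.inl rfl⟩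

omit d in
theorem D0_central (A : SpecialLinearGroup (Fin 2) K) : Commute (D0 (-1 : Kˣ)) A := by
  have h1 : D0 (-1 : Kˣ) ∈ Subgroup.center (SpecialLinearGroup (Fin 2) K) := (mem_center_SL _).2 (Or.inr rfl)
  exact (Subgroup.mem_center_iff.1 h1 A).symm

omit d in
theorem D0m_sq : D0 (-1 : Kˣ) * D0 (-1 : Kˣ) = (1 : SpecialLinearGroup (Fin 2) K) := by
  apply ext4
  · rw [D0m_mul_a]; simp
  · rw [D0m_mul_b]; simp
  · rw [D0m_mul_c]; simp
  · rw [D0m_mul_d]; simp

omit d in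
theorem D0_pow_odd {l : ℕ} (hl : Odd l) : (D0 (-1 : Kˣ)) ^ l = D0 (-1 : Kˣ) := by
  obtain ⟨k, rfl⟩ := hl
  rw [pow_succ, pow_mul, pow_two, D0m_sq, one_pow, one_mul]

/-- Normalising a lift. -/
theorem norm_lift {y : G} {l : ℕ} (hlo : Odd l) (hy : y ^ l = 1) {A : SpecialLinearGroup (Fin 2) K} (hA : d.psi A = y) :
    ∃ A' : SpecialLinearGroup (Fin 2) K, d.psi A' = y ∧ A' ^ l = 1 ∧ (A' = A ∨ A' = D0 (-1) * A) := by
  have h1 : d.psi (A ^ l) = 1 := by rw [map_pow, hA, hy]
  rcases d.psi_eq_one h1 with h2 | h2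
  · exact ⟨A, hA, h2, Or.inl rfl⟩
  · refine ⟨D0 (-1) * A, ?_, ?_, Or.inr rfl⟩
    · rw [map_mul, d.psi_D_neg_one, one_mul, hA]
    · rw [(D0_central A).mul_pow, D0_pow_odd hlo, h2, D0m_sq]

include R in
/-- An element of prime order not dividing `3(q - 1)` has no eigenvalue. -/
theorem ns_of_prime {A : SpecialLinearGroup (Fin 2) K} {l : ℕ} (hl : l.Prime) (h3 : l ≠ 3) (hq : ¬ l ∣ Fintype.card K - 1) (hA : A ^ l = 1) (hA1 : A ≠ 1) : NS A := by
  haveI : Fact l.Prime := ⟨hl⟩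
  haveI := charP3 R.hK
  haveI : Fact (Nat.Prime 3) := ⟨Nat.prime_three⟩
  rw [ns_iff]
  intro c v hv hAv
  have hpow : ∀ n : ℕ, ((A ^ n : SpecialLinearGroup (Fin 2) K) : Matrix (Fin 2) (Fin 2) K).mulVec v = c ^ n • v := by
    intro n
    induction n with
    | zero => simp
    | succ n ih =>
      rw [pow_succ', Matrix.SpecialLinearGroup.coe_mul, ← Matrix.mulVec_mulVec, ih, Matrix.mulVec_smul, hAv, smul_smul, pow_succ]
  have h1 : c ^ l = 1 := by
    have h2 := hpow l
    rw [hA] at h2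
    simp only [Matrix.SpecialLinearGroup.coe_one, Matrix.one_mulVec] at h2
    have h4 : (c ^ l - 1) • v = 0 := by
      rw [sub_smul, ← h2, one_smul, sub_self]
    rcases smul_eq_zero.1 h4 with h5 | h5
    · exact sub_eq_zero.1 h5
    · exact absurd h5 hv
  have hc0 : c ≠ 0 := by
    rintro rfl
    rw [zero_pow hl.ne_zero] at h1
    exact zero_ne_one h1
  have h2 : c ^ (Fintype.card K - 1) = 1 := FiniteField.pow_card_sub_one_eq_one c hc0
  have hcop : Nat.Coprime l (Fintype.card K - 1) := (Nat.Prime.coprime_iff_not_dvd hl).2 hq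
  have h4 : c = 1 := by
    have hu : (Units.mk0 c hc0) ^ l = 1 := Units.ext (by simpa using h1)
    have hu2 : (Units.mk0 c hc0) ^ (Fintype.card K - 1) = 1 := Units.ext (by simpa using h2)
    have h5 := pow_gcd_eq_one.2 ⟨hu, hu2⟩
    rw [hcop, pow_one] at h5
    simpa using congrArg Units.val h5
  subst h4
  have h5 : (A : Matrix (Fin 2) (Fin 2) K).mulVec v = v := by simpa using hAv
  have h6 : Matrix.det ((A : Matrix (Fin 2) (Fin 2) K) - (1 : K) • (1 : Matrix (Fin 2) (Fin 2) K)) = 0 := by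
    rw [← Matrix.exists_mulVec_eq_zero_iff]
    refine ⟨v, hv, ?_⟩
    rw [Matrix.sub_mulVec, h5, Matrix.smul_mulVec, Matrix.one_mulVec, one_smul, sub_self]
  rw [SL2Nonsplit.det_sub_smul] at h6
  have h7 : tr A = 2 := by linear_combination -h6
  have h8 : A ^ 3 = 1 := pow_char_of_tr_two 3 A h7
  have h9 : Nat.Coprime 3 l := (Nat.coprime_primes Nat.prime_three hl).2 (Ne.symm h3)
  have h10 := pow_gcd_eq_one.2 ⟨h8, hA⟩
  rw [h9, pow_one] at h10
  exact hA1 h10

include R in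
/-- Elements of prime order commuting with `a₀`. -/
theorem Ca_lift {y : G} {l : ℕ} (hl : l.Prime) (h2 : l ≠ 2) (h3 : l ≠ 3) (hq : ¬ l ∣ Fintype.card K - 1) (hy : orderOf y = l)
    (hya : y * d.a₀ = d.a₀ * y) : ∃ A : SpecialLinearGroup (Fin 2) K, d.psi A = y ∧ A ^ l = 1 ∧ NS A := by
  have hlo : Odd l := hl.odd_of_ne_two h2
  have hyl : y ^ l = 1 := by rw [← hy, pow_orderOf_eq_one]
  have hy1 : y ≠ 1 := by
    rintro rfl
    rw [orderOf_one] at hy
    exact hl.one_lt.ne hy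
  obtain ⟨B, hB⟩ := d.isP_of_comm R.hs hya
  have h4 : ∃ B : SpecialLinearGroup (Fin 2) K, d.psi B = y := by
    rcases hB with rfl | rfl
    · exact ⟨B, rfl⟩
    · exfalso
      have hc : Commute d.a₀ (d.psi B) := (d.a₀_comm_psi B).symm
      rw [hc.mul_pow] at hyl
      have h5 : d.a₀ ^ l = d.a₀ := by
        obtain ⟨k, rfl⟩ := hlo
        rw [pow_succ, pow_mul, pow_two, d.a₀_sq, one_pow, one_mul]
      rw [h5] at hyl
      apply d.a₀_not_psi R.hs R.hnm (B ^ l)⁻¹
      rw [map_inv, map_pow]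
      exact (eq_inv_of_mul_eq_one_left hyl).symm
  obtain ⟨B', hB'⟩ := h4
  obtain ⟨A, hA, hAl, -⟩ := d.norm_lift hlo hyl hB'
  refine ⟨A, hA, hAl, ns_of_prime R hl h3 hq hAl ?_⟩
  rintro rfl
  rw [map_one] at hA
  exact hy1 hA.symm

/-- The elements commuting with `a₀` and `y`. -/
theorem C_inter {y : G} {l : ℕ} (hlo : Odd l) {A : SpecialLinearGroup (Fin 2) K} (hA : d.psi A = y) (hAl : A ^ l = 1) (hs : ∀ y : Kˣ, IsSquare y ∨ IsSquare (-y))
    {g : G} (h1 : g * d.a₀ = d.a₀ * g) (h2 : g * y = y * g) : g ∈ d.Tp (Subgroup.centralizer ({A} : Set (SpecialLinearGroup (Fin 2) K))) := by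
  obtain ⟨B, hB⟩ := d.isP_of_comm hs h1
  have h3 : d.psi B * y = y * d.psi B := by
    rcases hB with rfl | rfl
    · exact h2
    · have hya : y * d.a₀ = d.a₀ * y := by
        rw [← hA]
        exact d.a₀_comm_psi A
      have h4 : d.a₀ * (d.psi B * y) = d.a₀ * (y * d.psi B) := by
        calc d.a₀ * (d.psi B * y) = d.a₀ * d.psi B * y := by group
          _ = y * (d.a₀ * d.psi B) := h2
          _ = (y * d.a₀) * d.psi B := by group
          _ = d.a₀ * y * d.psi B := by rw [hya]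
          _ = _ := by group
      exact mul_left_cancel h4
  have h4 : B * A = A * B := by
    rw [← hA, ← map_mul, ← map_mul] at h3
    rcases d.psi_eq h3 with h5 | h5
    · exact h5
    · exfalso
      have h6 : (B * A * B⁻¹) ^ l = 1 := by
        rw [conj_pow, hAl, mul_one, mul_inv_cancel]
      have h7 : B * A * B⁻¹ = D0 (-1) * A := by
        rw [h5, mul_assoc, mul_assoc, mul_inv_cancel, mul_one]
      rw [h7, (D0_central A).mul_pow, D0_pow_odd hlo, hAl, mul_one] at h6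
      exact absurd h6 d.neg_one_ne
  have h5 : B ∈ Subgroup.centralizer ({A} : Set (SpecialLinearGroup (Fin 2) K)) :=
    Subgroup.mem_centralizer_singleton_iff.2 h4
  exact ⟨B, h5, hB⟩

include R in
/-- The centraliser of an element of prime order dividing `q + 1`. -/
theorem cent_eq_Tp {y : G} {l : ℕ} (hl : l.Prime) (h2 : l ≠ 2) (h3 : l ≠ 3) (hq : ¬ l ∣ Fintype.card K - 1) (hy : orderOf y = l)
    {A : SpecialLinearGroup (Fin 2) K} (hA : d.psi A = y) (hAl : A ^ l = 1) (hNS : NS A) :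
    Subgroup.centralizer ({y} : Set G) = d.Tp (Subgroup.centralizer ({A} : Set (SpecialLinearGroup (Fin 2) K))) := by
  classical
  haveI := d.finite_G1
  set C := Subgroup.centralizer ({A} : Set (SpecialLinearGroup (Fin 2) K)) with hCdef
  have hC : IsNSTorus C := exists_torus_of_ns R.ringChar_ne hNS
  have hAC : A ∈ C := Subgroup.mem_centralizer_singleton_iff.2 rfl
  have hyT : y ∈ d.Tp C := ⟨A, hAC, Or.inl hA.symm⟩
  have hTy : d.Tp C ≤ Subgroup.centralizer ({y} : Set G) := by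
    intro t ht
    rw [Subgroup.mem_centralizer_singleton_iff]
    exact d.comm_Tp hC ht hyT
  apply le_antisymm _ hTy
  set CY := Subgroup.centralizer ({y} : Set G) with hCY
  obtain ⟨k, hk⟩ := R.h8
  obtain ⟨c, hcC, hcgen, hcn⟩ := hC.exists_gen
  have hco : orderOf c = 4 * (2 * k + 1) := by
    rw [← Nat.card_zpowers, hcgen, hC.card_eq]
    omega
  set w := 2 * k + 1 with hw
  have hwpos : 0 < w := by omega
  set i := d.psi (c ^ w) with hi
  have hc2w : c ^ (2 * w) = D0 (-1) := by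
    have h4 : c ^ (2 * w) * c ^ (2 * w) = 1 := by
      rw [← pow_add, ← two_mul, ← mul_assoc, show 2 * 2 = 4 by norm_num, ← hco, pow_orderOf_eq_one]
    rcases (mem_center_SL _).1 (SL2Nonsplit.sq_eq_one_iff R.ringChar_ne h4) with h5 | h5
    · exfalso
      have h6 := orderOf_dvd_of_pow_eq_one h5
      rw [hco] at h6
      have h7 := Nat.le_of_dvd (by omega) h6
      omega
    · exact h5
  have hii : i * i = 1 := by
    rw [hi, ← map_mul, ← pow_add, ← two_mul, hc2w, d.psi_D_neg_one]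
  have hi1 : i ≠ 1 := by
    intro h
    rcases d.psi_eq_one h with h5 | h5
    · have h6 := orderOf_dvd_of_pow_eq_one h5
      rw [hco] at h6
      have h7 := Nat.le_of_dvd (by omega) h6
      omega
    · have h6 : c ^ (2 * w) = 1 := by
        rw [two_mul, pow_add, h5, D0m_sq]
      have h7 := orderOf_dvd_of_pow_eq_one h6
      rw [hco] at h7
      have h8 := Nat.le_of_dvd (by omega) h7
      omega
  have hai : d.a₀ ≠ i := (d.a₀_not_psi R.hs R.hnm _).symm
  have haicomm : d.a₀ * i = i * d.a₀ := (d.a₀_comm_psi _).symm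
  have hiT : i ∈ d.Tp C := d.psi_mem_Tp (C.pow_mem hcC w)
  have haT := d.a₀_mem_Tp C
  obtain ⟨V, hV4, haV, hiV, hVm⟩ := klein_sub d.a₀_sq hii haicomm d.a₀_ne hi1 hai
  have hVT : V ≤ d.Tp C := by
    intro x hx
    rcases hVm x hx with rfl | rfl | rfl | rfl
    · exact Subgroup.one_mem _
    · exact haT
    · exact hiT
    · exact Subgroup.mul_mem _ haT hiT
  have hVCY : V ≤ CY := hVT.trans hTy
  have hq1 : ¬ l ∣ Fintype.card K := by
    intro h5
    rw [R.hK] at h5
    exact h3 ((Nat.prime_dvd_prime_iff_eq hl Nat.prime_three).1 (hl.dvd_of_dvd_pow h5))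
  have hnf := d.prime_nofix R.hs hl hy hq1 hq
  have hyo : Odd (orderOf y) := by
    rw [hy]
    exact hl.odd_of_ne_two h2
  -- all involutions in `V`
  have hkey : ∀ z ∈ V, z ≠ 1 → ∀ g ∈ CY, g * z = z * g → g ∈ d.Tp C := by
    intro z hz hz1 g hg hgz
    have hzz : z * z = 1 := by
      rcases hVm z hz with rfl | rfl | rfl | rfl
      · simp
      · exact d.a₀_sq
      · exact hii
      · rw [mul_assoc, ← mul_assoc i, ← haicomm, mul_assoc, hii, mul_one, d.a₀_sq]
    obtain ⟨h, rfl⟩ := d.inv_conj R hzz hz1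
    set y' := h⁻¹ * y * h with hy'
    have hy'o : orderOf y' = l := by
      have := (MulAut.conj h⁻¹).orderOf_eq y
      rw [MulAut.conj_apply, inv_inv] at this
      rw [this, hy]
    have hzy : (h * d.a₀ * h⁻¹) * y = y * (h * d.a₀ * h⁻¹) := by
      exact (Subgroup.mem_centralizer_singleton_iff.1 (hVCY hz))
    have hy'a : y' * d.a₀ = d.a₀ * y' := by
      have e1 : y' * d.a₀ = h⁻¹ * (y * (h * d.a₀ * h⁻¹)) * h := by
        rw [hy']
        group
      have e2 : d.a₀ * y' = h⁻¹ * ((h * d.a₀ * h⁻¹) * y) * h := by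
        rw [hy']
        group
      rw [e1, e2, hzy]
    obtain ⟨A', hA', hA'l, hNS'⟩ := d.Ca_lift R hl h2 h3 hq hy'o hy'a
    have hC' : IsNSTorus (Subgroup.centralizer ({A'} : Set (SpecialLinearGroup (Fin 2) K))) := exists_torus_of_ns R.ringChar_ne hNS'
    -- the big group
    set Tz := (Subgroup.centralizer ({h * d.a₀ * h⁻¹} : Set G)) ⊓ CY with hTz
    have hle : d.Tp C ≤ Tz := by
      intro t ht
      refine Subgroup.mem_inf.2 ⟨?_, hTy ht⟩
      rw [Subgroup.mem_centralizer_singleton_iff]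
      exact d.comm_Tp hC ht (hVT hz)
    have hcard : Nat.card Tz ≤ Nat.card (d.Tp C) := by
      rw [d.card_Tp R hC, ← d.card_Tp R hC']
      let φ : Tz → d.Tp (Subgroup.centralizer ({A'} : Set (SpecialLinearGroup (Fin 2) K))) := fun t =>
        ⟨h⁻¹ * t.1 * h, d.C_inter (Odd.of_dvd_nat hyo (by rw [hy])) hA' hA'l R.hs (by
          have h5 := Subgroup.mem_centralizer_singleton_iff.1 (Subgroup.mem_inf.1 t.2).1
          have e1 : h⁻¹ * t.1 * h * d.a₀ = h⁻¹ * (t.1 * (h * d.a₀ * h⁻¹)) * h := by group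
          have e2 : d.a₀ * (h⁻¹ * t.1 * h) = h⁻¹ * ((h * d.a₀ * h⁻¹) * t.1) * h := by group
          rw [e1, e2, h5]) (by
          have h5 := Subgroup.mem_centralizer_singleton_iff.1 (Subgroup.mem_inf.1 t.2).2
          have e1 : h⁻¹ * t.1 * h * y' = h⁻¹ * (t.1 * y) * h := by
            rw [hy']
            group
          have e2 : y' * (h⁻¹ * t.1 * h) = h⁻¹ * (y * t.1) * h := by
            rw [hy']
            group
          rw [e1, e2, h5])⟩
      apply Nat.card_le_card_of_injective φ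
      intro a b hab
      have h5 : h⁻¹ * a.1 * h = h⁻¹ * b.1 * h := congrArg Subtype.val hab
      exact Subtype.ext (mul_left_cancel (mul_right_cancel h5))
    have heq : d.Tp C = Tz := Subgroup.eq_of_le_of_card_ge hle hcard
    rw [heq]
    refine Subgroup.mem_inf.2 ⟨?_, hg⟩
    rw [Subgroup.mem_centralizer_singleton_iff]
    exact hgz
  haveI : Fact (Nat.Prime 2) := ⟨Nat.prime_two⟩
  have hV' : Nat.card (V.subgroupOf CY) = 4 := by
    rw [← hV4]
    exact Nat.card_congr (Subgroup.subgroupOfEquivOfLe hVCY).toEquiv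
  have h8 : ¬ 8 ∣ Nat.card CY := by
    intro h9
    have hVp : IsPGroup 2 (V.subgroupOf CY) := IsPGroup.of_card (n := 2) (by rw [hV']; norm_num)
    obtain ⟨P, hP⟩ := hVp.exists_le_sylow
    have h10 : 2 ^ 3 ∣ Nat.card P := P.pow_dvd_card_of_pow_dvd_card (by simpa using h9)
    set P' := (P : Subgroup CY).map CY.subtype with hP'
    have hP'p : IsPGroup 2 P' := P.2.map _
    have hcP' : Nat.card P' = Nat.card P := Subgroup.card_map_of_injective CY.subtype_injective
    have haP' : d.a₀ ∈ P' := ⟨⟨d.a₀, hVCY haV⟩, hP (Subgroup.mem_subgroupOf.2 haV), rfl⟩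
    have hle : P' ≤ d.Tp C := by
      intro x hx
      have h11 := d.two_comm R hP'p hx haP'
      obtain ⟨x', -, rfl⟩ := hx
      exact d.C_inter (Odd.of_dvd_nat hyo (by rw [hy])) hA hAl R.hs h11 (Subgroup.mem_centralizer_singleton_iff.1 x'.2)
    have h12 := Subgroup.card_dvd_of_le hle
    rw [hcP', d.card_Tp R hC] at h12
    have h13 := h10.trans h12
    omega
  have h3' : ¬ 3 ∣ Nat.card CY := by
    intro h9
    haveI : Fact (Nat.Prime 3) := ⟨Nat.prime_three⟩
    obtain ⟨z, hz⟩ := exists_prime_orderOf_dvd_card' 3 h9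
    have hz' : orderOf z.1 = 3 := (Subgroup.orderOf_coe z).trans hz
    have hz1 : z.1 ≠ 1 := by
      intro h
      rw [h, orderOf_one] at hz'
      omega
    obtain ⟨β, hβ⟩ := d.prime_fix R Nat.prime_three hz' (Or.inl (by
      rw [R.hK]
      exact dvd_pow_self _ (by omega)))
    obtain ⟨g, hg⟩ := d.comm_nofix hyo hnf (Subgroup.mem_centralizer_singleton_iff.1 z.2) hz1 hβ
    have h10 : z.1 ^ 2 = 1 := by
      rw [hg, pow_two]
      calc g * d.a₀ * g⁻¹ * (g * d.a₀ * g⁻¹) = g * (d.a₀ * d.a₀) * g⁻¹ := by group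
        _ = 1 := by rw [d.a₀_sq]; group
    have h11 := orderOf_dvd_of_pow_eq_one h10
    rw [hz'] at h11
    omega
  have hmain := KleinCent.klein_cent (C := CY) (V.subgroupOf CY) ((d.Tp C).subgroupOf CY) hV' h8 h3'
    (a := ⟨d.a₀, hVCY haV⟩) (b := ⟨i, hVCY hiV⟩) (Subgroup.mem_subgroupOf.2 haV) (Subgroup.mem_subgroupOf.2 hiV)
    (fun h => d.a₀_ne (congrArg Subtype.val h)) (fun h => hi1 (congrArg Subtype.val h)) (fun h => hai (congrArg Subtype.val h))
    (Subtype.ext d.a₀_sq) (Subtype.ext hii) (Subtype.ext haicomm)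
    (by
      intro z hz hz1 g
      constructor
      · intro hg
        exact Subtype.ext (d.comm_Tp hC (Subgroup.mem_subgroupOf.1 hg) (hVT (Subgroup.mem_subgroupOf.1 hz)))
      · intro hg
        exact Subgroup.mem_subgroupOf.2 (hkey z.1 (Subgroup.mem_subgroupOf.1 hz) (fun h => hz1 (Subtype.ext h)) g.1 g.2 (congrArg Subtype.val hg)))
  exact Subgroup.subgroupOf_eq_top.1 hmain

end Dat

end Cfsg.Agent.Lib.Chev.TwG2
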