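import Cfsg.Agent.Lib.Chev.TwG2M
import Cfsg.Agent.Lib.Chev.LinIrr

set_option linter.style.haveILetI false
set_option linter.unusedSectionVars false

/-!
# The Ree groups `²G₂`: the seven-dimensional module
-/

namespace Cfsg.Agent.Lib.Chev.TwG2

open Cfsg.Agent.Lib.Chev Cfsg.Lie Equiv Module

/-- The support of the seven-dimensional submodule. -/
def S7 : chevG2.Idx → Bool
  | Sum.inl i => decide (i.val = 0)
  | Sum.inr r => decide (r.val = 2 ∨ r.val = 3 ∨ r.val = 4 ∨ r.val = 7 ∨ r.val = 8 ∨ r.val = 9)

theorem tab_c1 : ∀ r : Fin chevG2.nroots, S7 (Sum.inr r) = false → (3 : ℤ) ∣ (chevG2.cartanSR.getD 0 #[]).getD r.val 0 := by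
  decide +kernel

theorem tab_c2 : ∀ r s : Fin chevG2.nroots, s.val = chevG2.negIdx.getD r.val 0 → S7 (Sum.inr s) = true →
    (3 : ℤ) ∣ (chevG2.coroot.getD r.val #[]).getD 1 0 := by
  decide +kernel

theorem tab_c3 : ∀ r s u : Fin chevG2.nroots, S7 (Sum.inr s) = true → S7 (Sum.inr u) = false →
    ∀ km ∈ chevG2.chainCoeff r.val s.val u.val, (3 : ℤ) ∣ km.2 := by
  decide +kernel

theorem tab_i : ∀ i : Fin chevG2.rank, S7 (Sum.inl i) = false → i.val = 1 := by decide +kernel

theorem tab_j : ∀ i : Fin chevG2.rank, S7 (Sum.inl i) = true → i.val = 0 := by decide +kernel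

theorem tab_zero {K : Type*} [Field K] (h3 : (3 : K) = 0) {c : ℤ} (h : (3 : ℤ) ∣ c) : ((c : ℤ) : K) = 0 := by
  obtain ⟨d, rfl⟩ := h
  push_cast
  rw [h3, zero_mul]

/-- The matrix entries vanish. -/
theorem xMat_zero {K : Type*} [Field K] (h3 : (3 : K) = 0) (r : Fin chevG2.nroots) (t : K) (i j : chevG2.Idx)
    (hj : S7 j = true) (hi : S7 i = false) : chevG2.xMat K r t i j = 0 := by
  simp only [ChevalleyDatum.xMat, Matrix.of_apply]
  rcases j with a | s
  · rcases i with a' | u
    · have h1 := tab_j a hj
      have h2 := tab_i a' hi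
      have h3' : a' ≠ a := by
        intro h
        rw [h, h1] at h2
        omega
      simp [h3']
    · by_cases h : u = r
      · subst h
        have h1 := tab_j a hj
        have h2 : a.val = 0 := h1
        simp only [if_true, h2]
        rw [tab_zero h3 (tab_c1 _ hi)]
        simp
      · simp [h]
  · by_cases h1 : s = r
    · subst h1
      rcases i with a' | u
      · simp
      · have : u ≠ s := by
          rintro rfl
          rw [hj] at hi
          exact absurd hi (by decide)
        simp [this]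
    · dsimp only
      rw [if_neg h1]
      by_cases h2 : s.val = chevG2.negIdx.getD r.val 0
      · rw [if_pos h2]
        rcases i with a' | u
        · have h4 := tab_i a' hi
          simp only [h4]
          rw [tab_zero h3 (tab_c2 r s h2 hj)]
          simp
        · have h5 : u ≠ s := by
            rintro rfl
            rw [hj] at hi
            exact absurd hi (by decide)
          by_cases h6 : u = r
          · subst h6
            exfalso
            have h7 : ∀ r s : Fin chevG2.nroots, s.val = chevG2.negIdx.getD r.val 0 → S7 (Sum.inr s) = true → S7 (Sum.inr r) = true := by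
              decide +kernel
            rw [h7 _ _ h2 hj] at hi
            exact absurd hi (by decide)
          · simp [h5, h6]
      · rw [if_neg h2]
        rcases i with a' | u
        · rfl
        · have h5 : u ≠ s := by
            rintro rfl
            rw [hj] at hi
            exact absurd hi (by decide)
          simp only [if_neg h5, zero_add]
          apply List.sum_eq_zero
          intro x hx
          obtain ⟨km, hkm, rfl⟩ := List.mem_map.1 hx
          rw [tab_zero h3 (tab_c3 r s u hj hi km hkm), zero_mul]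

/-- The seven-dimensional submodule. -/
def V7 (K : Type*) [Field K] : Submodule K (chevG2.Idx → K) where
  carrier := {v | ∀ i, S7 i = false → v i = 0}
  add_mem' := by
    intro a b ha hb i hi
    simp [ha i hi, hb i hi]
  zero_mem' := fun _ _ => rfl
  smul_mem' := by
    intro c a ha i hi
    simp [ha i hi]

theorem mem_V7 {K : Type*} [Field K] {v : chevG2.Idx → K} : v ∈ V7 K ↔ ∀ i, S7 i = false → v i = 0 := Iff.rfl

/-- The stabiliser of the submodule in `GL`. -/
def P7 (K : Type*) [Field K] : Subgroup (GL chevG2.Idx K) where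
  carrier := {g | (∀ v ∈ V7 K, (g : Matrix chevG2.Idx chevG2.Idx K).mulVec v ∈ V7 K) ∧
    (∀ v ∈ V7 K, ((g⁻¹ : GL chevG2.Idx K) : Matrix chevG2.Idx chevG2.Idx K).mulVec v ∈ V7 K)}
  one_mem' := by
    constructor <;> · intro v hv; simpa using hv
  mul_mem' := by
    rintro a b ⟨ha, ha'⟩ ⟨hb, hb'⟩
    constructor
    · intro v hv
      rw [Units.val_mul, ← Matrix.mulVec_mulVec]
      exact ha _ (hb _ hv)
    · intro v hv
      rw [_root_.mul_inv_rev, Units.val_mul, ← Matrix.mulVec_mulVec]
      exact hb' _ (ha' _ hv)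
  inv_mem' := by
    rintro a ⟨ha, ha'⟩
    refine ⟨ha', ?_⟩
    rw [inv_inv]
    exact ha

theorem x_mulVec {K : Type*} [Field K] (h3 : (3 : K) = 0) (r : ℕ) (t : K) (v : chevG2.Idx → K) (hv : v ∈ V7 K) :
    (chevG2.x K r t).mulVec v ∈ V7 K := by
  intro i hi
  rw [Matrix.mulVec]
  apply Finset.sum_eq_zero
  intro j _
  by_cases hj : S7 j = true
  · unfold ChevalleyDatum.x
    split_ifs with hr
    · show chevG2.xMat K ⟨r, hr⟩ t i j * v j = 0
      rw [xMat_zero h3 _ _ _ _ hj hi, zero_mul]
    · have hne : i ≠ j := by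
        rintro rfl
        rw [hj] at hi
        exact absurd hi (by decide)
      show (1 : Matrix chevG2.Idx chevG2.Idx K) i j * v j = 0
      rw [Matrix.one_apply_ne hne, zero_mul]
  · have hj' : S7 j = false := by simpa using hj
    rw [hv j hj', mul_zero]

theorem xG_mem_P7 {K : Type*} [Field K] (h3 : (3 : K) = 0) (r : ℕ) (t : K) : hF.c.xG r t ∈ P7 K := by
  constructor
  · exact x_mulVec h3 r t
  · rw [hF.c.xG_inv]
    exact x_mulVec h3 r (-t)

theorem twisted_le_P7 {K : Type*} [Field K] (h3 : (3 : K) = 0) (e : ℕ) : twistedG2 K e ≤ P7 K := by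
  apply hF.c.gen_le
  intro w _
  apply hF.c.wordG_mem
  intro p _
  exact xG_mem_P7 h3 p.1 p.2

/-- The arithmetic of `ord_p(q) = 6`. -/
theorem ord6_of {q p : ℕ} [Fact p.Prime] (h2 : p ≠ 2) (h3 : p ≠ 3) (hP : p ∣ q ^ 2 - q + 1) :
    LinIrr.Ord6 q p := by
  have hp : p.Prime := Fact.out
  have hle : q ≤ q ^ 2 := by
    rcases Nat.eq_zero_or_pos q with h | h
    · subst h; simp
    · nlinarith
  set z : ZMod p := (q : ZMod p) with hz
  have hz0 : z ^ 2 - z + 1 = 0 := by
    have := (ZMod.natCast_eq_zero_iff (q ^ 2 - q + 1) p).2 hP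
    rw [Nat.cast_add, Nat.cast_sub hle] at this
    simpa using this
  have t2 : (2 : ZMod p) ≠ 0 := by
    intro h
    have h' : ((2 : ℕ) : ZMod p) = 0 := by exact_mod_cast h
    have := (ZMod.natCast_eq_zero_iff 2 p).1 h'
    exact h2 ((Nat.prime_dvd_prime_iff_eq hp Nat.prime_two).1 this)
  have t3 : (3 : ZMod p) ≠ 0 := by
    intro h
    have h' : ((3 : ℕ) : ZMod p) = 0 := by exact_mod_cast h
    have := (ZMod.natCast_eq_zero_iff 3 p).1 h'
    exact h3 ((Nat.prime_dvd_prime_iff_eq hp Nat.prime_three).1 this)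
  have hz3 : z ^ 3 = -1 := by linear_combination (z + 1) * hz0
  have hz6 : z ^ 6 = 1 := by linear_combination (z ^ 3 - 1) * hz3
  have hz1 : z ≠ 0 := by
    intro h
    rw [h] at hz0
    simp at hz0
  have key : ∀ d : ℕ, z ^ d = 1 → 6 ∣ d := by
    intro d hd
    have e1 : z ^ (d % 6) = 1 := by
      have e2 : d = 6 * (d / 6) + d % 6 := (Nat.div_add_mod d 6).symm
      rw [e2, pow_add, pow_mul, hz6, one_pow, one_mul] at hd
      exact hd
    have e3 : d % 6 < 6 := Nat.mod_lt _ (by norm_num)
    have e4 : d % 6 = 0 := by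
      generalize d % 6 = b at e1 e3
      interval_cases b
      · rfl
      · exfalso
        have e5 : z = 1 := by simpa using e1
        rw [e5] at hz0
        norm_num at hz0
      · exfalso
        apply t3
        have e5 : z = 2 := by linear_combination e1 - hz0
        rw [e5] at e1
        linear_combination e1
      · exfalso
        apply t2
        linear_combination hz3 - e1
      · exfalso
        apply t3
        have e5 : z = -1 := by linear_combination -e1 + z * hz3
        rw [e5] at hz0
        linear_combination hz0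
      · exfalso
        apply hz1
        have e5 : z ^ 2 = -1 := by linear_combination -e1 + z ^ 2 * hz3 
        linear_combination e5 - hz0
    exact Nat.dvd_of_mod_eq_zero e4
  refine ⟨?_, ?_, ?_⟩
  · intro d hd
    apply key
    have := (ZMod.natCast_eq_natCast_iff _ _ _).2 hd
    simpa using this
  · apply (ZMod.natCast_eq_natCast_iff _ _ _).1
    simpa using hz6
  · have : ¬ p ∣ q := by
      intro h
      apply hz1
      exact (ZMod.natCast_eq_zero_iff _ _).2 h
    exact ((Nat.Prime.coprime_iff_not_dvd hp).2 this).symm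

variable {K : Type*} [Field K] [Fintype K] {e : ℕ}

instance : Finite ↥(V7 K) := inferInstance

/-- The coordinates of the submodule. -/
noncomputable def V7equiv (K : Type*) [Field K] : ↥(V7 K) ≃ₗ[K] ({i : chevG2.Idx // S7 i = true} → K) where
  toFun v i := v.1 i.1
  map_add' _ _ := rfl
  map_smul' _ _ := rfl
  invFun f := ⟨fun i => if h : S7 i = true then f ⟨i, h⟩ else 0, by
    intro i hi
    simp [hi]⟩
  left_inv := by
    rintro ⟨v, hv⟩
    apply Subtype.ext
    funext i
    by_cases h : S7 i = true
    · simp [h]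
    · have h' : S7 i = false := by simpa using h
      simp [h', hv i h']
  right_inv := by
    intro f
    funext i
    simp [i.2]

theorem card_S7 : Fintype.card {i : chevG2.Idx // S7 i = true} = 7 := by decide +kernel

theorem finrank_V7 : finrank K ↥(V7 K) = 7 := by
  rw [LinearEquiv.finrank_eq (V7equiv K), Module.finrank_fintype_fun_eq_card, card_S7]

namespace Dat

variable (d : Dat K e)

/-- The representation on the seven-dimensional submodule. -/
noncomputable def rho : ↥(twistedG2 K e) →* Module.End K ↥(V7 K) where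
  toFun g := LinearMap.restrict (Matrix.mulVecLin ((g.1 : GL chevG2.Idx K) : Matrix chevG2.Idx chevG2.Idx K))
    (fun v hv => (twisted_le_P7 d.h3 e g.2).1 v hv)
  map_one' := by
    ext v i
    simp
  map_mul' a b := by
    ext v i
    show ((a.1 : Matrix chevG2.Idx chevG2.Idx K) * (b.1 : Matrix chevG2.Idx chevG2.Idx K)).mulVec v.1 i =
      ((a.1 : Matrix chevG2.Idx chevG2.Idx K).mulVec ((b.1 : Matrix chevG2.Idx chevG2.Idx K).mulVec v.1)) i
    rw [Matrix.mulVec_mulVec]

theorem rho_apply (g : ↥(twistedG2 K e)) (v : ↥(V7 K)) :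
    ((d.rho g v : ↥(V7 K)) : chevG2.Idx → K) = ((g.1 : GL chevG2.Idx K) : Matrix chevG2.Idx chevG2.Idx K).mulVec v.1 := rfl

theorem rho_a₀_ne : d.rho d.a₀ ≠ 1 := by
  intro h
  have hmem : (Pi.single (Sum.inr ⟨7, by decide⟩) (1 : K) : chevG2.Idx → K) ∈ V7 K := by
    intro i hi
    rw [Pi.single_apply, if_neg]
    rintro rfl
    exact absurd hi (by decide)
  have h1 := congrArg (fun f : Module.End K ↥(V7 K) => (f ⟨_, hmem⟩).1 (Sum.inr ⟨7, by decide⟩)) h
  simp only [rho_apply, Module.End.one_apply] at h1
  have h2 : (d.a₀.1 : Matrix chevG2.Idx chevG2.Idx K) = (diagG chevG2 (chiT chevG2 (d.cOf (-1))) : GL chevG2.Idx K) := by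
    rw [← hF.tor_eq]
    rfl
  rw [h2, coe_diagG, Matrix.mulVec_diagonal] at h1
  simp only [Sum.elim_inr, Pi.single_eq_same, mul_one] at h1
  obtain ⟨-, c2, -⟩ := d.chi_cOf (-1)
  have h3 : ((chiT chevG2 (d.cOf (-1)) 7 : Kˣ) : K) = -1 := by
    rw [c2]
    simp
  have h4 : (-1 : K) = 1 := by
    rw [← h3]
    exact h1
  have h5 := d.h3
  have h6 : (1 : K) = 0 := by linear_combination h5 + h4
  exact one_ne_zero h6

/-- The representation is faithful. -/
theorem rho_inj (hs : IsSimpleGroup ↥(twistedG2 K e)) (g : ↥(twistedG2 K e)) (hg : d.rho g = 1) : g = 1 := by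
  rcases hs.eq_bot_or_eq_top_of_normal (d.rho.ker) inferInstance with h | h
  · have h1 : g ∈ d.rho.ker := hg
    rw [h] at h1
    exact h1
  · exfalso
    apply d.rho_a₀_ne
    have h1 : d.a₀ ∈ d.rho.ker := by
      rw [h]
      trivial
    exact h1

end Dat

end Cfsg.Agent.Lib.Chev.TwG2
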