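import Cfsg.Agent.Lib.Chev.TwG2T
import Cfsg.Agent.Lib.Chev.ReeGen

set_option linter.style.haveILetI false
set_option linter.unusedSectionVars false

/-!
# The Ree groups `²G₂`: the standard torus of order `q + 1`
-/

namespace Cfsg.Agent.Lib.Chev.TwG2

open Cfsg.Agent.Lib.Chev Cfsg.Lie Equiv Module
open Cfsg.Agent.Lib
open Cfsg.Agent.Lib.SL2Nonsplit (IsNSTorus NS exists_torus_of_ns isNSTorus_zpowers ns_iff NS_not_center)
open Matrix (SpecialLinearGroup)
open Cfsg.Agent.Lib.Chev.SL2 (x0 y0 D0 n0 ext4)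
open Cfsg.Agent.Lib.Chev.ReeGen

variable {K : Type*} [Field K] [Fintype K] {m : ℕ}

/-- The properties of the torus of order `q + 1`. -/
structure PlusT (T A : Subgroup (Gm K m)) (w : ℕ) : Prop where
  hw : Fintype.card K + 1 = 4 * w
  hodd : Odd w
  card_T : Nat.card T = Fintype.card K + 1
  comm : ∀ a ∈ T, ∀ b ∈ T, a * b = b * a
  cyc_A : IsCyclic A
  card_A : Nat.card A = w
  A_le : A ≤ T
  exp : ∀ t ∈ T, t ^ (2 * w) = 1
  A_of : ∀ t ∈ T, t ^ w = 1 → t ∈ A
  cent : ∀ y ∈ T, ∀ l : ℕ, l.Prime → l ≠ 2 → l ≠ 3 → orderOf y = l → Subgroup.centralizer ({y} : Set (Gm K m)) = T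
  two : ({t | t ∈ T ∧ t * t = 1} : Set (Gm K m)).ncard = 4
  gen : ∃ g ∈ T, orderOf g = 2 * w

namespace Dat

variable (R : Ree K m) (d : Dat K (3 ^ m))

local notation "G" => Gm K m

include R d

theorem a₀_pow_odd {l : ℕ} (hl : Odd l) : d.a₀ ^ l = d.a₀ := by
  obtain ⟨k, rfl⟩ := hl
  rw [pow_succ, pow_mul, pow_two, d.a₀_sq, one_pow, one_mul]

theorem a₀_psi_pow_ne {l : ℕ} (hl : Odd l) (A : SpecialLinearGroup (Fin 2) K) : (d.a₀ * d.psi A) ^ l ≠ 1 := by
  intro h
  have hc : Commute d.a₀ (d.psi A) := (d.a₀_comm_psi A).symm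
  rw [hc.mul_pow, d.a₀_pow_odd R hl] at h
  apply d.a₀_not_psi R.hs R.hnm (A ^ l)⁻¹
  rw [map_inv, map_pow]
  exact (eq_inv_of_mul_eq_one_left h).symm

/-- The existence of the standard torus. -/
theorem exists_plus : ∃ (T A : Subgroup G) (w : ℕ), PlusT T A w := by
  classical
  haveI := d.finite_G1
  obtain ⟨C, hC⟩ := R.exists_torus
  obtain ⟨k, hk⟩ := R.h8
  obtain ⟨c, hcC, hcgen, hcn⟩ := hC.exists_gen
  have hco : orderOf c = 4 * (2 * k + 1) := by
    rw [← Nat.card_zpowers, hcgen, hC.card_eq]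
    omega
  obtain ⟨w, hw⟩ : ∃ w, w = 2 * k + 1 := ⟨_, rfl⟩
  rw [← hw] at hco
  have hwpos : 0 < w := by omega
  have hwo : Odd w := ⟨k, hw⟩
  have hc2w : c ^ (2 * w) = D0 (-1) := by
    have h4 : c ^ (2 * w) * c ^ (2 * w) = 1 := by
      rw [← pow_add, ← two_mul, ← mul_assoc, show 2 * 2 = 4 by norm_num, ← hco, pow_orderOf_eq_one]
    rcases (mem_center_SL _).1 (SL2Nonsplit.sq_eq_one_iff R.ringChar_ne h4) with h5 | h5
    · exfalso
      have h6 := orderOf_dvd_of_pow_eq_one h5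
      rw [hco] at h6
      have h7 := Nat.le_of_dvd (by omega) h6
      omega
    · exact h5
  have hpc : ∀ n, d.psi (c ^ n) = 1 ↔ 2 * w ∣ n := by
    intro n
    constructor
    · intro h
      have h2 : c ^ (2 * n) = 1 := by
        rw [two_mul, pow_add]
        rcases d.psi_eq_one h with h3 | h3
        · rw [h3, one_mul]
        · rw [h3, D0m_sq]
      have h3 := orderOf_dvd_of_pow_eq_one h2
      rw [hco] at h3
      obtain ⟨b, hb⟩ := h3
      exact ⟨b, by nlinarith⟩
    · rintro ⟨b, rfl⟩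
      rw [pow_mul, hc2w, map_pow, d.psi_D_neg_one, one_pow]
  have hpo : orderOf (d.psi c) = 2 * w := by
    apply Nat.dvd_antisymm
    · apply orderOf_dvd_of_pow_eq_one
      rw [← map_pow]
      exact (hpc _).2 dvd_rfl
    · have := (hpc (orderOf (d.psi c))).1 (by rw [map_pow, pow_orderOf_eq_one])
      exact this
  have hCn : ∀ A ∈ C, ∃ n : ℕ, A = c ^ n := by
    intro A hA
    rw [← hcgen] at hA
    obtain ⟨n, hn⟩ := (mem_powers_iff_mem_zpowers).2 hA
    exact ⟨n, hn.symm⟩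
  set y₁ := d.psi (c ^ 2) with hy₁
  have hy₁o : orderOf y₁ = w := by
    have e : y₁ = d.psi c ^ 2 := by rw [hy₁, map_pow]
    rw [e, orderOf_pow, hpo]
    have : Nat.gcd (2 * w) 2 = 2 := Nat.gcd_eq_right ⟨w, by ring⟩
    rw [this]
    omega
  set i := d.psi (c ^ w) with hi
  have hii : i * i = 1 := by
    rw [hi, ← map_mul, ← pow_add, ← two_mul]
    exact (hpc _).2 dvd_rfl
  have hi1 : i ≠ 1 := by
    intro h
    have h1 := (hpc _).1 h
    have := Nat.le_of_dvd hwpos h1
    omega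
  have hai : d.a₀ ≠ i := (d.a₀_not_psi R.hs R.hnm _).symm
  have haicomm : d.a₀ * i = i * d.a₀ := (d.a₀_comm_psi _).symm
  obtain ⟨V, hV4, haV, hiV, hVm⟩ := klein_sub d.a₀_sq hii haicomm d.a₀_ne hi1 hai
  refine ⟨d.Tp C, Subgroup.zpowers y₁, w, ?_⟩
  have hT4 : Fintype.card K + 1 = 4 * w := by omega
  have hT : Nat.card (d.Tp C) = Fintype.card K + 1 := d.card_Tp R hC
  have hTexp : ∀ t ∈ d.Tp C, t ^ (2 * w) = 1 := by
    have e1 : ∀ A ∈ C, d.psi A ^ (2 * w) = 1 := by
      intro A hA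
      obtain ⟨n, rfl⟩ := hCn A hA
      rw [← map_pow, ← pow_mul, mul_comm]
      exact (hpc _).2 ⟨n, rfl⟩
    rintro _ ⟨A, hA, rfl | rfl⟩
    · exact e1 A hA
    · have hc : Commute d.a₀ (d.psi A) := (d.a₀_comm_psi A).symm
      rw [hc.mul_pow, e1 A hA, mul_one, pow_mul, pow_two, d.a₀_sq, one_pow]
  refine ⟨hT4, hwo, hT, ?_, inferInstance, ?_, ?_, hTexp, ?_, ?_, ?_, ?_⟩
  · intro a ha b hb
    exact d.comm_Tp hC ha hb
  · rw [Nat.card_zpowers, hy₁o]
  · rw [Subgroup.zpowers_le]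
    exact d.psi_mem_Tp (C.pow_mem hcC 2)
  · rintro _ ⟨A, hA, rfl | rfl⟩ ht
    · obtain ⟨n, rfl⟩ := hCn A hA
      rw [← map_pow, ← pow_mul] at ht
      obtain ⟨b, hb⟩ := (hpc _).1 ht
      have h2 : n = 2 * b := by
        have : w * n = w * (2 * b) := by nlinarith
        exact Nat.eq_of_mul_eq_mul_left hwpos this
      rw [h2, pow_mul, map_pow]
      exact Subgroup.pow_mem _ (Subgroup.mem_zpowers _) _
    · exact absurd ht (d.a₀_psi_pow_ne R hwo A)
  · intro y hy l hl hl2 hl3 hyl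
    have hlo : Odd l := hl.odd_of_ne_two hl2
    have hyo : y ^ l = 1 := by rw [← hyl, pow_orderOf_eq_one]
    have hy1 : y ≠ 1 := by
      rintro rfl
      rw [orderOf_one] at hyl
      exact hl.one_lt.ne hyl
    have hldvd : l ∣ Fintype.card K + 1 := by
      rw [← hT, ← hyl]
      exact Subgroup.orderOf_dvd_natCard _ hy
    have hq : ¬ l ∣ Fintype.card K - 1 := by
      intro h3
      have h5 : Fintype.card K + 1 = (Fintype.card K - 1) + 2 := by
        have := R.q_ge
        omega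
      rw [h5] at hldvd
      have h4 := (Nat.dvd_add_right h3).1 hldvd
      exact hl2 ((Nat.prime_dvd_prime_iff_eq hl Nat.prime_two).1 h4)
    obtain ⟨A, hA, rfl | rfl⟩ := hy
    · obtain ⟨A', hA', hA'l, hA'or⟩ := d.norm_lift hlo hyo rfl
      have hA'C : A' ∈ C := by
        rcases hA'or with rfl | rfl
        · exact hA
        · exact C.mul_mem (hC.center_le ((mem_center_SL _).2 (Or.inr rfl))) hA
      have hA'1 : A' ≠ 1 := by
        rintro rfl
        rw [map_one] at hA'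
        exact hy1 hA'.symm
      have hNS := ns_of_prime R hl hl3 hq hA'l hA'1
      rw [d.cent_eq_Tp R hl hl2 hl3 hq hyl hA' hA'l hNS]
      congr 1
      exact hC.cent A' hA'C (NS_not_center hNS)
    · exact absurd hyo (d.a₀_psi_pow_ne R hlo A)
  · have hset : ({t | t ∈ d.Tp C ∧ t * t = 1} : Set G) = (V : Set G) := by
      have hVT : V ≤ d.Tp C := by
        intro x hx
        rcases hVm x hx with rfl | rfl | rfl | rfl
        · exact Subgroup.one_mem _
        · exact d.a₀_mem_Tp C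
        · exact d.psi_mem_Tp (C.pow_mem hcC w)
        · exact Subgroup.mul_mem _ (d.a₀_mem_Tp C) (d.psi_mem_Tp (C.pow_mem hcC w))
      have hiV' : ∀ b : ℕ, i ^ b ∈ V := fun b => V.pow_mem hiV b
      ext t
      constructor
      · rintro ⟨⟨A, hA, ht⟩, htt⟩
        obtain ⟨n, rfl⟩ := hCn A hA
        have e1 : d.psi (c ^ n) * d.psi (c ^ n) = 1 := by
          rcases ht with rfl | rfl
          · exact htt
          · have hc := d.a₀_comm_psi (c ^ n)
            calc d.psi (c ^ n) * d.psi (c ^ n) = (d.a₀ * d.psi (c ^ n)) * (d.a₀ * d.psi (c ^ n)) * (d.a₀ * d.a₀)⁻¹ := by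
                  rw [d.a₀_sq]
                  calc d.psi (c ^ n) * d.psi (c ^ n) = d.a₀ * (d.a₀ * d.psi (c ^ n)) * d.psi (c ^ n) * 1⁻¹ := by
                        rw [← mul_assoc, d.a₀_sq]
                        group
                    _ = d.a₀ * (d.psi (c ^ n) * d.a₀) * d.psi (c ^ n) * 1⁻¹ := by rw [hc]
                    _ = _ := by group
              _ = 1 := by
                rw [htt, d.a₀_sq]
                group
        have h2 : 2 * w ∣ 2 * n := by
          apply (hpc _).1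
          rw [two_mul, pow_add, map_mul]
          exact e1
        obtain ⟨b, hb⟩ := Nat.dvd_of_mul_dvd_mul_left (by norm_num) h2
        have e2 : d.psi (c ^ n) = i ^ b := by
          rw [hb, pow_mul, map_pow]
        rcases ht with rfl | rfl
        · show d.psi (c ^ n) ∈ V
          rw [e2]
          exact hiV' b
        · show d.a₀ * d.psi (c ^ n) ∈ V
          rw [e2]
          exact V.mul_mem haV (hiV' b)
      · intro ht
        refine ⟨hVT ht, ?_⟩
        rcases hVm t ht with rfl | rfl | rfl | rfl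
        · simp
        · exact d.a₀_sq
        · exact hii
        · rw [mul_assoc, ← mul_assoc i, ← haicomm, mul_assoc, hii, mul_one, d.a₀_sq]
    rw [hset, ← hV4]
    rfl
  · exact ⟨d.psi c, d.psi_mem_Tp hcC, hpo⟩

end Dat

end Cfsg.Agent.Lib.Chev.TwG2
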