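import Cfsg.Agent.Lib.Chev.TwG2W

set_option linter.style.haveILetI false
set_option linter.unusedSectionVars false

namespace Cfsg.Agent.Lib.Chev.TwG2

open Cfsg.Agent.Lib.Chev Cfsg.Lie Equiv Module
open Cfsg.Agent.Lib
open Matrix (SpecialLinearGroup)
open Cfsg.Agent.Lib.Chev.ReeGen

variable {K : Type*} [Field K] [Fintype K] {m : ℕ}

namespace Ree

variable (R : Ree K m)

include R

theorem q_mod5 : Fintype.card K % 5 = 2 ∨ Fintype.card K % 5 = 3 := by
  rw [R.hK, pow_succ, pow_mul]
  have h : ∀ n : ℕ, (3 ^ 2) ^ n % 5 = 1 ∨ (3 ^ 2) ^ n % 5 = 4 := by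
    intro n
    induction n with
    | zero => simp
    | succ n ih =>
      rw [pow_succ]
      rcases ih with h | h <;> omega
  rcases h m with h | h <;> omega

theorem three_dvd : 3 ∣ Fintype.card K := by
  rw [R.hK]
  exact dvd_pow_self _ (by omega)

/-- Primes dividing `(q + 1) / 4` are at least seven. -/
theorem prime_ge {w l : ℕ} (hw : Fintype.card K + 1 = 4 * w) (hodd : Odd w) (hl : l.Prime) (hlw : l ∣ w) : 7 ≤ l := by
  have h2 : l ≠ 2 := by
    rintro rfl
    exact (Nat.not_even_iff_odd.2 hodd) (even_iff_two_dvd.2 hlw)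
  have h3 : l ≠ 3 := by
    rintro rfl
    have h1 : 3 ∣ Fintype.card K + 1 := by
      rw [hw]
      exact Dvd.dvd.mul_left hlw 4
    have h4 := (Nat.dvd_add_right R.three_dvd).1 h1
    omega
  have h5 : l ≠ 5 := by
    rintro rfl
    have h1 : 5 ∣ Fintype.card K + 1 := by
      rw [hw]
      exact Dvd.dvd.mul_left hlw 4
    have := R.q_mod5
    omega
  have h4 : l ≠ 4 := by
    rintro rfl
    norm_num at hl
  have h6 : l ≠ 6 := by
    rintro rfl
    norm_num at hl
  have := hl.two_le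
  omega

end Ree

omit [Fintype K] in
theorem cent_eq_of_zpowers_eq {H : Type*} [Group H] {a b : H} (h : Subgroup.zpowers a = Subgroup.zpowers b) :
    Subgroup.centralizer ({a} : Set H) = Subgroup.centralizer ({b} : Set H) := by
  have key : ∀ a b : H, a ∈ Subgroup.zpowers b → Subgroup.centralizer ({b} : Set H) ≤ Subgroup.centralizer ({a} : Set H) := by
    intro a b hab c hc
    obtain ⟨k, rfl⟩ := Subgroup.mem_zpowers_iff.1 hab
    rw [Subgroup.mem_centralizer_singleton_iff] at hc ⊢
    have : Commute c (b ^ k) := (show Commute c b from hc).zpow_right k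
    exact this
  apply le_antisymm
  · apply key
    rw [h]
    exact Subgroup.mem_zpowers b
  · apply key
    rw [← h]
    exact Subgroup.mem_zpowers a

namespace Dat

variable (R : Ree K m) (d : Dat K (3 ^ m))

local notation "G" => Gm K m

include R d

/-- Subgroups of prime order greater than three are conjugate. -/
theorem conj_of_prime {l : ℕ} (hl : l.Prime) (h3 : 3 < l) {z y : G} (hz : orderOf z = l) (hy : orderOf y = l) :
    ∃ h : G, Subgroup.zpowers (h * z * h⁻¹) = Subgroup.zpowers y := by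
  haveI : Fact l.Prime := ⟨hl⟩
  haveI := d.finite_G1
  obtain ⟨Q₁, hQ₁⟩ := (isP_zpowers_of_order hl hz).exists_le_sylow
  obtain ⟨Q₂, hQ₂⟩ := (isP_zpowers_of_order hl hy).exists_le_sylow
  obtain ⟨g, rfl⟩ := MulAction.exists_smul_eq G Q₁ Q₂
  refine ⟨g, ?_⟩
  haveI := d.sylow_cyc R h3 (g • Q₁)
  have h1 : Subgroup.zpowers (g * z * g⁻¹) ≤ ((g • Q₁ : Sylow l G) : Subgroup G) := by
    rw [Subgroup.zpowers_le, Sylow.coe_subgroup_smul, Subgroup.mem_smul_pointwise_iff_exists]
    exact ⟨z, hQ₁ (Subgroup.mem_zpowers z), rfl⟩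
  apply cyc_sub_eq h1 hQ₂
  rw [Nat.card_zpowers, Nat.card_zpowers, hy]
  have := (MulAut.conj g).orderOf_eq z
  rw [MulAut.conj_apply] at this
  rw [this, hz]

variable {T A : Subgroup (Gm K m)} {w : ℕ} (hP : PlusT T A w)

omit R d in
include hP in
theorem plus_finite_A : Finite A := by
  apply Nat.finite_of_card_ne_zero
  rw [hP.card_A]
  have := hP.hodd
  rintro rfl
  exact absurd this (by decide)

include hP

/-- A prime dividing `w` gives an element of order that prime. -/
theorem plus_exists_elt {l : ℕ} (hl : l.Prime) (hlw : l ∣ w) : ∃ y ∈ A, orderOf y = l := by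
  haveI : Fact l.Prime := ⟨hl⟩
  haveI := plus_finite_A hP
  have h0 : ∃ x : A, orderOf x = l := exists_prime_orderOf_dvd_card' l (by rw [hP.card_A]; exact hlw)
  obtain ⟨y, hy⟩ := h0
  exact ⟨y.1, y.2, (Subgroup.orderOf_coe y).trans hy⟩

/-- The primes dividing `w`. -/
theorem plus_cent_A {y : G} (hy : y ∈ A) {l : ℕ} (hl : l.Prime) (hlw : l ∣ w) (hyl : orderOf y = l) : Subgroup.centralizer ({y} : Set G) = T := by
  have h7 := R.prime_ge hP.hw hP.hodd hl hlw
  exact hP.cent y (hP.A_le hy) l hl (by omega) (by omega) hyl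

/-- Elements of prime order dividing `q + 1`. -/
theorem plus_cover {z : G} {l : ℕ} (hl : l.Prime) (h2 : l ≠ 2) (h3 : l ≠ 3) (hlq : l ∣ Fintype.card K + 1) (hz : orderOf z = l) :
    ∃ h : G, ∀ x : G, x ∈ Subgroup.centralizer ({z} : Set G) ↔ h * x * h⁻¹ ∈ T := by
  have hlw : l ∣ w := by
    rw [hP.hw] at hlq
    have h4 : Nat.Coprime l 4 := by
      have : Nat.Coprime l (2 ^ 2) := Nat.Coprime.pow_right 2 ((Nat.coprime_primes hl Nat.prime_two).2 h2)
      simpa using this
    exact h4.dvd_of_dvd_mul_left hlq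
  have h7 := R.prime_ge hP.hw hP.hodd hl hlw
  obtain ⟨y, hy, hyl⟩ := d.plus_exists_elt R hP hl hlw
  obtain ⟨h, hh⟩ := d.conj_of_prime R hl (by omega) hz hyl
  refine ⟨h, fun x => ?_⟩
  rw [← d.plus_cent_A R hP hy hl hlw hyl, ← cent_eq_of_zpowers_eq hh, mem_cent_conj]
  have e : h⁻¹ * (h * x * h⁻¹) * h = x := by group
  rw [e]

/-- The characteristic subgroup. -/
theorem plus_norm_T_le : Subgroup.normalizer (T : Set G) ≤ Subgroup.normalizer (A : Set G) := by
  intro g hg
  haveI := d.finite_G1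
  apply mem_norm_of_conj_le
  intro a ha
  have h1 := (Subgroup.mem_set_normalizer_iff.1 hg a).1 (hP.A_le ha)
  apply hP.A_of _ h1
  haveI := plus_finite_A hP
  have h2 : a ^ w = 1 := by
    have := pow_card_eq_one' (x := (⟨a, ha⟩ : A))
    rw [hP.card_A] at this
    exact congrArg Subtype.val this
  rw [conj_pow, h2]
  group

/-- The normaliser of the subgroup generated by an element of prime order in `A`. -/
theorem plus_norm_y {y : G} (hy : y ∈ A) {l : ℕ} (hl : l.Prime) (hlw : l ∣ w) (hyl : orderOf y = l) :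
    Subgroup.normalizer ((Subgroup.zpowers y : Subgroup G) : Set G) = Subgroup.normalizer (T : Set G) := by
  haveI := hP.cyc_A
  haveI := plus_finite_A hP
  apply le_antisymm
  · have := norm_zpowers_le_norm_cent y
    rwa [d.plus_cent_A R hP hy hl hlw hyl] at this
  · refine (d.plus_norm_T_le R hP).trans ?_
    apply normalizer_le_of_cyclic
    rwa [Subgroup.zpowers_le]

/-- The normaliser of `A`. -/
theorem plus_norm_A : Subgroup.normalizer (A : Set G) = Subgroup.normalizer (T : Set G) := by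
  haveI := hP.cyc_A
  haveI := plus_finite_A hP
  apply le_antisymm _ (d.plus_norm_T_le R hP)
  have hw1 : w ≠ 1 := by
    intro h
    have h1 := hP.hw
    have h2 := R.q_ge
    omega
  obtain ⟨l, hl, hlw⟩ := Nat.exists_prime_and_dvd hw1
  obtain ⟨y, hy, hyl⟩ := d.plus_exists_elt R hP hl hlw
  rw [← d.plus_norm_y R hP hy hl hlw hyl]
  apply normalizer_le_of_cyclic
  rwa [Subgroup.zpowers_le]

/-- Every non-trivial subgroup of `A` has the same normaliser. -/
theorem plus_norm_sub {A₀ : Subgroup G} (h : A₀ ≤ A) (h1 : A₀ ≠ ⊥) : Subgroup.normalizer (A₀ : Set G) = Subgroup.normalizer (A : Set G) := by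
  haveI := hP.cyc_A
  haveI := plus_finite_A hP
  haveI := d.finite_G1
  apply le_antisymm _ (normalizer_le_of_cyclic h)
  haveI : IsCyclic A₀ := isCyclic_of_injective (Subgroup.inclusion h) (Subgroup.inclusion_injective h)
  obtain ⟨x, hx, hx1⟩ := (Subgroup.ne_bot_iff_exists_ne_one (H := A₀)).1 h1 |>.imp (fun a ha => ha) |> fun ⟨a, ha⟩ => (⟨a.1, a.2, fun e => ha (Subtype.ext e)⟩ : ∃ x ∈ A₀, x ≠ 1)
  have hox : orderOf x ≠ 1 := fun e => hx1 (orderOf_eq_one_iff.1 e)
  obtain ⟨l, hl, hlx⟩ := Nat.exists_prime_and_dvd hox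
  set y := x ^ (orderOf x / l) with hy
  have hyl : orderOf y = l := orderOf_pow_orderOf_div (orderOf_pos x).ne' hlx
  have hyA₀ : y ∈ A₀ := A₀.pow_mem hx _
  have hlw : l ∣ w := by
    rw [← hP.card_A, ← hyl]
    exact Subgroup.orderOf_dvd_natCard _ (h hyA₀)
  rw [d.plus_norm_A R hP, ← d.plus_norm_y R hP (h hyA₀) hl hlw hyl]
  apply normalizer_le_of_cyclic
  rwa [Subgroup.zpowers_le]

/-- The order of the normaliser of `A`. -/
theorem plus_card_norm : Nat.card (Subgroup.normalizer (A : Set G)) = 6 * (Fintype.card K + 1) := by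
  classical
  haveI := hP.cyc_A
  haveI := plus_finite_A hP
  haveI := d.finite_G1
  have hw1 : w ≠ 1 := by
    intro h
    have h1 := hP.hw
    have h2 := R.q_ge
    omega
  obtain ⟨l, hl, hlw⟩ := Nat.exists_prime_and_dvd hw1
  obtain ⟨y, hy, hyl⟩ := d.plus_exists_elt R hP hl hlw
  have h7 := R.prime_ge hP.hw hP.hodd hl hlw
  haveI : Fact l.Prime := ⟨hl⟩
  obtain ⟨R₀, hR₀, -⟩ := norm_card y hl hyl
  rw [d.plus_cent_A R hP hy hl hlw hyl, hP.card_T, d.plus_norm_y R hP hy hl hlw hyl, ← d.plus_norm_A R hP] at hR₀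
  obtain ⟨Q, hQ⟩ := (isP_zpowers_of_order hl hyl).exists_le_sylow
  haveI := d.sylow_cyc R (by omega : 3 < l) Q
  have hyQ : y ∈ (Q : Subgroup G) := hQ (Subgroup.mem_zpowers y)
  have hQT : (Q : Subgroup G) ≤ T := by
    intro t ht
    rw [← d.plus_cent_A R hP hy hl hlw hyl, Subgroup.mem_centralizer_singleton_iff]
    have h1 : (⟨t, ht⟩ : (Q : Subgroup G)) * ⟨y, hyQ⟩ = ⟨y, hyQ⟩ * ⟨t, ht⟩ := mul_comm' _ _
    exact congrArg Subtype.val h1
  have hQA : (Q : Subgroup G) ≤ A := by
    intro t ht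
    apply hP.A_of t (hQT ht)
    obtain ⟨n, hn⟩ := IsPGroup.iff_card.1 Q.2
    have h1 : Nat.card Q ∣ 4 * w := by
      rw [← hP.hw, ← hP.card_T]
      exact Subgroup.card_dvd_of_le hQT
    have h2 : Nat.Coprime (Nat.card Q) 4 := by
      rw [hn]
      apply Nat.Coprime.pow_left
      have h3 : l ≠ 2 := by omega
      have : Nat.Coprime l (2 ^ 2) := Nat.Coprime.pow_right 2 ((Nat.coprime_primes hl Nat.prime_two).2 h3)
      simpa using this
    have h3 := h2.dvd_of_dvd_mul_left h1
    obtain ⟨b, hb⟩ := h3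
    have h4 : t ^ Nat.card Q = 1 := by
      have := pow_card_eq_one' (x := (⟨t, ht⟩ : (Q : Subgroup G)))
      exact congrArg Subtype.val this
    rw [hb, pow_mul, h4, one_pow]
  have hNQ : Subgroup.normalizer ((Q : Subgroup G) : Set G) = Subgroup.normalizer (A : Set G) := by
    apply le_antisymm _ (normalizer_le_of_cyclic hQA)
    have h1 : Subgroup.zpowers y ≤ (Q : Subgroup G) := by rwa [Subgroup.zpowers_le]
    have h2 := normalizer_le_of_cyclic h1
    rwa [d.plus_norm_y R hP hy hl hlw hyl, ← d.plus_norm_A R hP] at h2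
  have h1 := card_sylow_modEq_one l G
  rw [Sylow.card_eq_index_normalizer Q] at h1
  have h1' : (Subgroup.normalizer ((Q : Subgroup G) : Set G)).index ≡ 1 [MOD l] := h1
  rw [hNQ] at h1'
  replace h1 := h1'
  have h2 := Subgroup.card_mul_index (Subgroup.normalizer (A : Set G))
  rw [hR₀, show Nat.card G = _ from d.card_G1 R.hs, q3_factor _ Fintype.card_pos] at h2
  obtain ⟨c, hc⟩ : ∃ c, Fintype.card K = c + 1 := ⟨Fintype.card K - 1, by have := R.q_ge; omega⟩
  have hlq : l ∣ c + 1 + 1 := by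
    rw [← hc, hP.hw]
    exact Dvd.dvd.mul_left hlw 4
  rw [hc] at h2 hR₀ ⊢
  have e1 : (c + 1) ^ 2 - (c + 1) + 1 = (c + 1) * c + 1 := by
    have : (c + 1) ^ 2 = (c + 1) * c + (c + 1) := by ring
    omega
  rw [e1, Nat.add_sub_cancel] at h2
  set n := Nat.card R₀ with hn
  set ι := (Subgroup.normalizer (A : Set G)).index with hι
  have h3 : n * ι = (c + 1) ^ 3 * c * ((c + 1) * c + 1) := by
    have h4 : (c + 1 + 1) * (n * ι) = (c + 1 + 1) * ((c + 1) ^ 3 * c * ((c + 1) * c + 1)) := by
      calc (c + 1 + 1) * (n * ι) = (c + 1 + 1) * n * ι := by ring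
        _ = (c + 1) ^ 3 * c * ((c + 1 + 1) * ((c + 1) * c + 1)) := h2
        _ = _ := by ring
    exact Nat.eq_of_mul_eq_mul_left (by omega) h4
  have h4 : n ≡ 6 [MOD l] := by
    rw [← ZMod.natCast_eq_natCast_iff]
    have h5 : ((c : ZMod l) + 1 + 1) = 0 := by
      have := (ZMod.natCast_eq_zero_iff (c + 1 + 1) l).2 hlq
      push_cast at this
      exact this
    have h6 : (ι : ZMod l) = 1 := by
      have := (ZMod.natCast_eq_natCast_iff _ _ _).2 h1
      simpa using this
    have h7 := congrArg (fun x : ℕ => (x : ZMod l)) h3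
    simp only [Nat.cast_mul, Nat.cast_add, Nat.cast_one, Nat.cast_pow, h6, mul_one] at h7
    rw [h7]
    have e2 : (c : ZMod l) = -2 := by linear_combination h5
    rw [e2]
    push_cast
    ring
  have h5 : n ∣ l - 1 := by
    have := Subgroup.card_subgroup_dvd_card R₀
    rwa [Nat.card_eq_fintype_card (α := (ZMod l)ˣ), ZMod.card_units] at this
  have h6 : n < l := by
    have := Nat.le_of_dvd (by have := hl.two_le; omega) h5
    have := hl.two_le
    omega
  have h8 : n = 6 := Nat.ModEq.eq_of_lt_of_lt h4 h6 (by omega)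
  rw [hR₀, h8]
  ring

omit R d hP in
/-- The set of elements of the torus outside the four-group. -/
def plusS (T : Subgroup (Gm K m)) : Set (Gm K m) := {t | t ∈ T ∧ t * t ≠ 1}

/-- Elements of `plusS`: a power has prime order dividing `w`. -/
theorem plusS_prime {t : G} (ht : t ∈ plusS T) : ∃ (k l : ℕ), l.Prime ∧ l ∣ w ∧ orderOf (t ^ k) = l := by
  haveI := d.finite_G1
  have h1 : (t * t) ^ w = 1 := by
    rw [← pow_two, ← pow_mul]
    exact hP.exp t ht.1
  have ho : orderOf (t * t) ≠ 1 := fun e => ht.2 (orderOf_eq_one_iff.1 e)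
  obtain ⟨l, hl, hlo⟩ := Nat.exists_prime_and_dvd ho
  refine ⟨2 * (orderOf (t * t) / l), l, hl, hlo.trans (orderOf_dvd_of_pow_eq_one h1), ?_⟩
  rw [pow_mul, pow_two]
  exact orderOf_pow_orderOf_div (orderOf_pos _).ne' hlo

/-- The conjugation condition for `plusS`. -/
theorem plusS_ti (a : G) {t : G} (ht : t ∈ plusS T) : a * t * a⁻¹ ∈ plusS T ↔ a ∈ Subgroup.normalizer (T : Set G) := by
  haveI := d.finite_G1
  constructor
  · rintro ⟨h1, -⟩
    obtain ⟨k, l, hl, hlw, hkl⟩ := d.plusS_prime R hP ht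
    have h7 := R.prime_ge hP.hw hP.hodd hl hlw
    have h2 : t ^ k ∈ T := T.pow_mem ht.1 k
    have h3 : Subgroup.centralizer ({t ^ k} : Set G) = T := hP.cent _ h2 l hl (by omega) (by omega) hkl
    have h4 : a * t ^ k * a⁻¹ ∈ T := by
      rw [← conj_pow]
      exact T.pow_mem h1 k
    have h5 : orderOf (a * t ^ k * a⁻¹) = l := by
      have := (MulAut.conj a).orderOf_eq (t ^ k)
      rw [MulAut.conj_apply] at this
      rw [this, hkl]
    have h6 : Subgroup.centralizer ({a * t ^ k * a⁻¹} : Set G) = T := hP.cent _ h4 l hl (by omega) (by omega) h5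
    apply mem_norm_of_conj_le
    intro x hx
    rw [← h6, mem_cent_conj, h3]
    have e : a⁻¹ * (a * x * a⁻¹) * a = x := by group
    rwa [e]
  · intro h
    refine ⟨(Subgroup.mem_set_normalizer_iff.1 h t).1 ht.1, ?_⟩
    intro h1
    apply ht.2
    have e : a * t * a⁻¹ * (a * t * a⁻¹) = a * (t * t) * a⁻¹ := by group
    rw [e] at h1
    have e2 : t * t = a⁻¹ * (a * (t * t) * a⁻¹) * a := by group
    rw [e2, h1]
    group

/-- The number of elements of `plusS`. -/
theorem plusS_card : (plusS T).ncard + 4 = Fintype.card K + 1 := by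
  haveI := d.finite_G1
  rw [← hP.card_T, ← hP.two]
  have h1 : (T : Set G) = plusS T ∪ {t | t ∈ T ∧ t * t = 1} := by
    ext t
    constructor
    · intro ht
      by_cases h : t * t = 1
      · exact Or.inr ⟨ht, h⟩
      · exact Or.inl ⟨ht, h⟩
    · rintro (h | h)
      · exact h.1
      · exact h.1
  have h2 : Nat.card T = (T : Set G).ncard := Nat.card_coe_set_eq (T : Set G)
  rw [h2, h1, Set.ncard_union_eq]
  · rw [Set.disjoint_left]
    rintro t ⟨-, h⟩ ⟨-, h'⟩
    exact h h'

/-- Elements of `plusS` have no fixed points. -/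
theorem plusS_fpf {t : G} (ht : t ∈ plusS T) (x : G ⧸ B1 K (3 ^ m)) : t • x ≠ x := by
  obtain ⟨k, l, hl, hlw, hkl⟩ := d.plusS_prime R hP ht
  have h7 := R.prime_ge hP.hw hP.hodd hl hlw
  have hlq : l ∣ Fintype.card K + 1 := by
    rw [hP.hw]
    exact Dvd.dvd.mul_left hlw 4
  have h1 : ¬ l ∣ Fintype.card K := by
    intro h
    have := (Nat.dvd_add_right h).1 hlq
    have := Nat.le_of_dvd (by norm_num) this
    omega
  have h2 : ¬ l ∣ Fintype.card K - 1 := by
    intro h
    have h5 : Fintype.card K + 1 = (Fintype.card K - 1) + 2 := by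
      have := R.q_ge
      omega
    rw [h5] at hlq
    have := (Nat.dvd_add_right h).1 hlq
    have := Nat.le_of_dvd (by norm_num) this
    omega
  intro hx
  apply d.prime_nofix R.hs hl hkl h1 h2 x
  have : t ∈ MulAction.stabilizer G x := hx
  exact (MulAction.stabilizer G x).pow_mem this k

/-- Counting the conjugates of `plusS`. -/
theorem plusS_count : (Yc (plusS T)).ncard * (6 * (Fintype.card K + 1)) = Nat.card G * (Fintype.card K - 3) := by
  haveI := d.finite_G1
  have h1 := ti_count (plusS T) (Subgroup.normalizer (T : Set G)) (fun a t ht => d.plusS_ti R hP a ht)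
  rw [← d.plus_norm_A R hP, d.plus_card_norm R hP] at h1
  rw [h1]
  have h2 := d.plusS_card R hP
  congr 1
  omega

end Dat

end Cfsg.Agent.Lib.Chev.TwG2
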