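import Cfsg.Agent.Lib.Chev.TwG2X

set_option linter.style.haveILetI false
set_option linter.unusedSectionVars false

/-!
# The Ree groups `²G₂`: the two-point stabilisers and the subgroup of order `(q - 1) / 2`
-/

namespace Cfsg.Agent.Lib.Chev.TwG2

open Cfsg.Agent.Lib.Chev Cfsg.Lie Equiv Module
open Cfsg.Agent.Lib
open Matrix (SpecialLinearGroup)
open Cfsg.Agent.Lib.Chev.SL2 (x0 y0 D0 n0 ext4)
open Cfsg.Agent.Lib.Chev.ReeGen

variable {K : Type*} [Field K] [Fintype K] {m : ℕ}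

theorem n0_D0 (c : Kˣ) : (D0 c : SpecialLinearGroup (Fin 2) K) * ((n0 : SpecialLinearGroup (Fin 2) K) * D0 c) = n0 := by
  have hc : (c : K) ≠ 0 := c.ne_zero
  apply ext4 <;> simp [SL2.mul_a, SL2.mul_b, SL2.mul_c, SL2.mul_d, Units.val_inv_eq_inv_val, hc]

namespace Dat

variable (R : Ree K m) (d : Dat K (3 ^ m))

local notation "G" => Gm K m
local notation "Ω" => Gm K m ⧸ B1 K (3 ^ m)

/-- The torus as a homomorphism into the group. -/
noncomputable def tH (hs : ∀ y : Kˣ, IsSquare y ∨ IsSquare (-y)) : Kˣ →* G :=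
  (Subgroup.inclusion inf_le_right).comp (d.torHom hs)

theorem tH_coe (hs : ∀ y : Kˣ, IsSquare y ∨ IsSquare (-y)) (y : Kˣ) : (d.tH hs y).1 = tor RootG2T.R chevG2 (d.cOf y) := rfl

theorem tH_inj (hs : ∀ y : Kˣ, IsSquare y ∨ IsSquare (-y)) : Function.Injective (d.tH hs) := by
  intro y z h
  apply d.cOf_inj
  apply d.tor_inj'
  have := congrArg Subtype.val h
  exact this

/-- The two-point stabiliser. -/
noncomputable def Hh (hs : ∀ y : Kˣ, IsSquare y ∨ IsSquare (-y)) : Subgroup G := (d.tH hs).range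

theorem card_Hh (hs : ∀ y : Kˣ, IsSquare y ∨ IsSquare (-y)) : Nat.card (d.Hh hs) = Fintype.card K - 1 := by
  classical
  have h1 : Nat.card (d.Hh hs) = Nat.card Kˣ := Nat.card_congr (MonoidHom.ofInjective (d.tH_inj hs)).toEquiv.symm
  rw [h1, Nat.card_eq_fintype_card, Fintype.card_units]

omit R d in
theorem smul_mk (t a : G) : t • ((a : G) : Ω) = ((t * a : G) : Ω) := rfl

/-- The point at infinity. -/
def pI : Ω := ((1 : G) : Ω)

/-- The second fixed point of the torus. -/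
noncomputable def pO : Ω := ((d.n1 : G) : Ω)

include d in
theorem fix_pI {t : G} : t • (pI : Ω) = pI ↔ t ∈ B1 K (3 ^ m) := by
  have h := d.fix_mk 1 t
  rw [inv_one, one_mul, mul_one] at h
  exact h

theorem fix_pO {t : G} : t • d.pO = d.pO ↔ d.n1⁻¹ * t * d.n1 ∈ B1 K (3 ^ m) := d.fix_mk _ _

theorem pI_ne_pO : (pI : Ω) ≠ d.pO := by
  intro h
  apply d.n1_not_mem
  have := QuotientGroup.eq.1 h
  simpa using this

theorem mem_Hh_iff (hs : ∀ y : Kˣ, IsSquare y ∨ IsSquare (-y)) {t : G} : t ∈ d.Hh hs ↔ t • (pI : Ω) = pI ∧ t • d.pO = d.pO := by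
  rw [d.fix_pI, d.fix_pO]
  constructor
  · rintro ⟨y, rfl⟩
    constructor
    · exact Subgroup.mem_subgroupOf.2 ⟨hF.c.diagonal_le_borel (hF.tor_mem_diagonal _), (d.tH hs y).2⟩
    · refine Subgroup.mem_subgroupOf.2 ⟨hF.c.diagonal_le_borel ?_, (d.n1⁻¹ * d.tH hs y * d.n1).2⟩
      have h1 := (Subgroup.mem_set_normalizer_iff.1 (Subgroup.inv_mem _ (hF.monomial_le_normalizer (n₀ (K := K)).2)) _).1
        (hF.tor_mem_diagonal (d.cOf y))
      rw [inv_inv] at h1
      exact h1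
  · rintro ⟨h1, h2⟩
    obtain ⟨y, hy⟩ := d.H1_of_B h1 h2
    exact ⟨y, Subtype.ext hy.symm⟩

theorem n1_smul_pI : d.n1 • (pI : Ω) = d.pO := by
  show ((d.n1 * 1 : G) : Ω) = _
  rw [mul_one]
  rfl

theorem n1_smul_pO : d.n1 • d.pO = pI := by
  show ((d.n1 * d.n1 : G) : Ω) = _
  apply (QuotientGroup.eq).2
  have h : (d.n1 * d.n1 : G) ∈ B1 K (3 ^ m) := Subgroup.mem_subgroupOf.2 ⟨hF.c.diagonal_le_borel d.n₀_sq, (d.n1 * d.n1).2⟩
  have e : (d.n1 * d.n1)⁻¹ * 1 = (d.n1 * d.n1)⁻¹ := by group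
  rw [e]
  exact Subgroup.inv_mem _ h

/-- Two-transitivity. -/
theorem two_trans {x y : Ω} (hxy : x ≠ y) : ∃ g : G, g • (pI : Ω) = x ∧ g • d.pO = y := by
  obtain ⟨a, rfl⟩ := QuotientGroup.mk_surjective x
  obtain ⟨b, rfl⟩ := QuotientGroup.mk_surjective y
  have hne : a⁻¹ * b ∉ B1 K (3 ^ m) := fun h1 => hxy (QuotientGroup.eq.2 h1)
  obtain ⟨w, hw, b₁, hb₁, e₁⟩ := d.bru.hbr _ hne
  refine ⟨a * w, ?_, ?_⟩
  · show ((a * w * 1 : G) : Ω) = _
    apply (QuotientGroup.eq).2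
    have e : (a * w * 1)⁻¹ * a = w⁻¹ := by group
    rw [e]
    exact Subgroup.inv_mem _ (d.bru.hUB hw)
  · show ((a * w * d.n1 : G) : Ω) = _
    apply (QuotientGroup.eq).2
    have e : (a * w * d.n1)⁻¹ * b = b₁ := by
      have e0 : b = a * (w * d.n1 * b₁) := by
        rw [← e₁]
        group
      rw [e0]
      group
    rw [e]
    exact hb₁

omit [Fintype K] in
theorem conj_fix (g t : G) (p : Ω) : (g⁻¹ * t * g) • p = p ↔ t • (g • p) = g • p := by
  rw [mul_smul, mul_smul, inv_smul_eq_iff]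

include d in
/-- The order of the stabiliser of a point. -/
theorem card_st1 (hs : ∀ y : Kˣ, IsSquare y ∨ IsSquare (-y)) (x : Ω) : Nat.card {t : G // t • x = x} = Fintype.card K ^ 3 * (Fintype.card K - 1) := by
  obtain ⟨a, rfl⟩ := QuotientGroup.mk_surjective x
  rw [← d.card_B hs]
  refine Nat.card_congr ((MulAut.conj a⁻¹).toEquiv.subtypeEquiv (fun t => ?_))
  have h := d.fix_mk a t
  have e : (MulAut.conj a⁻¹).toEquiv t = a⁻¹ * t * a := by
    simp
  rw [e]
  exact h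

include d in
/-- The order of the stabiliser of two points. -/
theorem card_st2 (hs : ∀ y : Kˣ, IsSquare y ∨ IsSquare (-y)) {x y : Ω} (hxy : x ≠ y) : Nat.card {t : G // t • x = x ∧ t • y = y} = Fintype.card K - 1 := by
  obtain ⟨g, rfl, rfl⟩ := d.two_trans hxy
  rw [← d.card_Hh hs]
  refine Nat.card_congr ((MulAut.conj g⁻¹).toEquiv.subtypeEquiv (fun t => ?_))
  have e : (MulAut.conj g⁻¹).toEquiv t = g⁻¹ * t * g := by
    simp
  rw [e, d.mem_Hh_iff hs, conj_fix, conj_fix]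

/-- The squares in the torus. -/
noncomputable def Am (hs : ∀ y : Kˣ, IsSquare y ∨ IsSquare (-y)) : Subgroup G := ((powMonoidHom 2 : Kˣ →* Kˣ).range).map (d.tH hs)

theorem mem_Am (hs : ∀ y : Kˣ, IsSquare y ∨ IsSquare (-y)) {x : G} : x ∈ d.Am hs ↔ ∃ z : Kˣ, x = d.tH hs (z * z) := by
  constructor
  · rintro ⟨_, ⟨z, rfl⟩, rfl⟩
    refine ⟨z, ?_⟩
    simp [pow_two]
  · rintro ⟨z, rfl⟩
    exact ⟨z * z, ⟨z, by simp [pow_two]⟩, rfl⟩

theorem Am_le (hs : ∀ y : Kˣ, IsSquare y ∨ IsSquare (-y)) : d.Am hs ≤ d.Hh hs := by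
  rintro _ ⟨y, -, rfl⟩
  exact ⟨y, rfl⟩

theorem isCyclic_Am (hs : ∀ y : Kˣ, IsSquare y ∨ IsSquare (-y)) : IsCyclic (d.Am hs) := isCyclic_map _ _

theorem Hh_comm (hs : ∀ y : Kˣ, IsSquare y ∨ IsSquare (-y)) {a b : G} (ha : a ∈ d.Hh hs) (hb : b ∈ d.Hh hs) : a * b = b * a := by
  obtain ⟨y, rfl⟩ := ha
  obtain ⟨z, rfl⟩ := hb
  rw [← map_mul, ← map_mul, mul_comm]

theorem card_Am (hs : ∀ y : Kˣ, IsSquare y ∨ IsSquare (-y)) {k : ℕ} (hk : Fintype.card K = 8 * k + 3) : Nat.card (d.Am hs) = 4 * k + 1 := by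
  classical
  have h1 : Nat.card (d.Am hs) = Nat.card (powMonoidHom 2 : Kˣ →* Kˣ).range := Subgroup.card_map_of_injective (d.tH_inj hs)
  rw [h1, IsCyclic.card_powMonoidHom_range, Nat.card_eq_fintype_card, Fintype.card_units, hk]
  have h2 : 8 * k + 3 - 1 = 2 * (4 * k + 1) := by omega
  rw [h2, Nat.gcd_eq_right ⟨4 * k + 1, by ring⟩]
  omega

theorem tH_sq (hs : ∀ y : Kˣ, IsSquare y ∨ IsSquare (-y)) (z : Kˣ) : d.tH hs (z * z) = d.psi (D0 (d.mu z)) := by
  apply Subtype.ext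
  rw [d.psi_D, d.nu_mu]
  rfl

theorem psi_n0_inv (hs : ∀ y : Kˣ, IsSquare y ∨ IsSquare (-y)) {x : G} (hx : x ∈ d.Am hs) : d.psi n0 * x * (d.psi n0)⁻¹ = x⁻¹ := by
  obtain ⟨z, rfl⟩ := (d.mem_Am hs).1 hx
  rw [d.tH_sq, mul_inv_eq_iff_eq_mul, eq_inv_mul_iff_mul_eq, ← map_mul, ← map_mul, n0_D0]

include d in
/-- Fixed points of elements of odd order. -/
theorem fix_only {x : G} (hodd : Odd (orderOf x)) (hx1 : x ≠ 1) {α β ω : Ω} (h : α ≠ β) (h1 : x • α = α) (h2 : x • β = β) (h3 : x • ω = ω) : ω = α ∨ ω = β := by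
  by_contra hne
  push Not at hne
  rcases d.fix_three h1 h2 h3 h hne.1.symm hne.2.symm with h4 | ⟨g, h4⟩
  · exact hx1 h4
  · have h5 : x ^ 2 = 1 := by
      rw [h4, pow_two]
      calc g * d.a₀ * g⁻¹ * (g * d.a₀ * g⁻¹) = g * (d.a₀ * d.a₀) * g⁻¹ := by group
        _ = 1 := by rw [d.a₀_sq]; group
    have h6 := orderOf_dvd_of_pow_eq_one h5
    have h7 : orderOf x = 1 := by
      rcases (Nat.dvd_prime Nat.prime_two).1 h6 with h8 | h8
      · exact h8
      · rw [h8] at hodd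
        exact absurd hodd (by decide)
    exact hx1 (orderOf_eq_one_iff.1 h7)

include R d

theorem Am_odd {x : G} (hx : x ∈ d.Am R.hs) : Odd (orderOf x) := by
  obtain ⟨k, hk⟩ := R.h8
  have h1 := Subgroup.orderOf_dvd_natCard _ hx
  rw [d.card_Am R.hs hk] at h1
  exact Odd.of_dvd_nat ⟨2 * k, by ring⟩ h1

theorem Am_exists : ∃ x ∈ d.Am R.hs, x ≠ 1 := by
  obtain ⟨k, hk⟩ := R.h8
  have h1 := d.card_Am R.hs hk
  have hq := R.q_ge
  haveI := d.finite_G1
  have h2 : 1 < Nat.card (d.Am R.hs) := by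
    rw [h1]
    omega
  haveI : Nontrivial (d.Am R.hs) := (Finite.one_lt_card_iff_nontrivial).1 h2
  obtain ⟨a, ha⟩ := exists_ne (1 : d.Am R.hs)
  exact ⟨a.1, a.2, fun e => ha (Subtype.ext e)⟩

theorem nhat_smul : d.psi n0 • (pI : Ω) = d.pO ∧ d.psi n0 • d.pO = pI := by
  obtain ⟨x, hx, hx1⟩ := d.Am_exists R
  have hodd := d.Am_odd R hx
  have hH := (d.mem_Hh_iff R.hs).1 (d.Am_le R.hs hx)
  have hne := d.pI_ne_pO
  have key : ∀ p : Ω, p = pI ∨ p = d.pO → (d.psi n0 • p) = pI ∨ (d.psi n0 • p) = d.pO := by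
    intro p hp
    apply d.fix_only hodd hx1 hne hH.1 hH.2
    have h1 : (d.psi n0)⁻¹ * x * d.psi n0 = x⁻¹ := by
      have h2 := d.psi_n0_inv R.hs ((d.Am R.hs).inv_mem hx)
      rw [inv_inv] at h2
      calc (d.psi n0)⁻¹ * x * d.psi n0 = (d.psi n0)⁻¹ * (d.psi n0 * x⁻¹ * (d.psi n0)⁻¹) * d.psi n0 := by rw [h2]
        _ = x⁻¹ := by group
    rw [← conj_fix, h1]
    have h3 : x⁻¹ ∈ d.Hh R.hs := (d.Hh R.hs).inv_mem (d.Am_le R.hs hx)
    have h4 := (d.mem_Hh_iff R.hs).1 h3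
    rcases hp with rfl | rfl
    · exact h4.1
    · exact h4.2
  have h1 : d.psi n0 • (pI : Ω) = d.pO := by
    rcases key pI (Or.inl rfl) with h | h
    · exact absurd ((d.fix_pI).1 h) d.psi_n0_not_B
    · exact h
  refine ⟨h1, ?_⟩
  rcases key d.pO (Or.inr rfl) with h | h
  · exact h
  · exfalso
    exact hne (smul_left_cancel _ (h1.trans h.symm))

/-- Elements interchanging the two fixed points. -/
theorem swap_form {g : G} (h1 : g • (pI : Ω) = d.pO) (h2 : g • d.pO = pI) : ∃ t ∈ d.Hh R.hs, g = d.psi n0 * t := by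
  obtain ⟨hn1, hn2⟩ := d.nhat_smul R
  refine ⟨(d.psi n0)⁻¹ * g, (d.mem_Hh_iff R.hs).2 ⟨?_, ?_⟩, by group⟩
  · rw [mul_smul, h1, inv_smul_eq_iff, hn1]
  · rw [mul_smul, h2, inv_smul_eq_iff, hn2]

/-- Elements interchanging the two fixed points invert `Am`. -/
theorem swap_inv {g x : G} (h1 : g • (pI : Ω) = d.pO) (h2 : g • d.pO = pI) (hx : x ∈ d.Am R.hs) : g * x * g⁻¹ = x⁻¹ := by
  obtain ⟨t, ht, rfl⟩ := d.swap_form R h1 h2
  have h3 := d.Hh_comm R.hs ht (d.Am_le R.hs hx)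
  have e : d.psi n0 * t * x * (d.psi n0 * t)⁻¹ = d.psi n0 * (t * x) * t⁻¹ * (d.psi n0)⁻¹ := by group
  rw [e, h3]
  have e2 : d.psi n0 * (x * t) * t⁻¹ * (d.psi n0)⁻¹ = d.psi n0 * x * (d.psi n0)⁻¹ := by group
  rw [e2, d.psi_n0_inv R.hs hx]

/-- The normaliser of `Am` contains the set-wise stabiliser. -/
theorem conj_Am {g x : G} (h : (g • (pI : Ω) = pI ∧ g • d.pO = d.pO) ∨ (g • (pI : Ω) = d.pO ∧ g • d.pO = pI)) (hx : x ∈ d.Am R.hs) : g * x * g⁻¹ ∈ d.Am R.hs := by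
  rcases h with h | ⟨h1, h2⟩
  · have h3 := d.Hh_comm R.hs ((d.mem_Hh_iff R.hs).2 h) (d.Am_le R.hs hx)
    rw [h3]
    simpa using hx
  · rw [d.swap_inv R h1 h2 hx]
    exact (d.Am R.hs).inv_mem hx

/-- The normaliser of a subgroup of `Am` is in the set-wise stabiliser. -/
theorem norm_sub_cases {A₀ : Subgroup G} (hA : A₀ ≤ d.Am R.hs) (h1 : A₀ ≠ ⊥) {g : G} (hg : g ∈ Subgroup.normalizer (A₀ : Set G)) :
    (g • (pI : Ω) = pI ∧ g • d.pO = d.pO) ∨ (g • (pI : Ω) = d.pO ∧ g • d.pO = pI) := by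
  obtain ⟨x, hx, hx1⟩ := (Subgroup.ne_bot_iff_exists_ne_one (H := A₀)).1 h1 |> fun ⟨a, ha⟩ => (⟨a.1, a.2, fun e => ha (Subtype.ext e)⟩ : ∃ x ∈ A₀, x ≠ 1)
  have hodd := d.Am_odd R (hA hx)
  have hH := (d.mem_Hh_iff R.hs).1 (d.Am_le R.hs (hA hx))
  have hne := d.pI_ne_pO
  have hg' := Subgroup.mem_set_normalizer_iff.1 hg
  have h2 : g⁻¹ * x * g ∈ A₀ := by
    have := hg' (g⁻¹ * x * g)
    have e : g * (g⁻¹ * x * g) * g⁻¹ = x := by group
    rw [e] at this
    exact this.2 hx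
  have h3 := (d.mem_Hh_iff R.hs).1 (d.Am_le R.hs (hA h2))
  have k1 := d.fix_only hodd hx1 hne hH.1 hH.2 ((conj_fix _ _ _).1 h3.1)
  have k2 := d.fix_only hodd hx1 hne hH.1 hH.2 ((conj_fix _ _ _).1 h3.2)
  rcases k1 with k1 | k1 <;> rcases k2 with k2 | k2
  · exfalso
    exact hne (smul_left_cancel _ (k1.trans k2.symm))
  · exact Or.inl ⟨k1, k2⟩
  · exact Or.inr ⟨k1, k2⟩
  · exfalso
    exact hne (smul_left_cancel _ (k1.trans k2.symm))

/-- Non-trivial subgroups of `Am` have the normaliser of `Am`. -/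
theorem norm_Am_sub {A₀ : Subgroup G} (hA : A₀ ≤ d.Am R.hs) (h1 : A₀ ≠ ⊥) : Subgroup.normalizer (A₀ : Set G) = Subgroup.normalizer ((d.Am R.hs : Subgroup G) : Set G) := by
  haveI := d.finite_G1
  haveI := d.isCyclic_Am R.hs
  apply le_antisymm _ (normalizer_le_of_cyclic hA)
  intro g hg
  apply mem_norm_of_conj_le
  intro x hx
  exact d.conj_Am R (d.norm_sub_cases R hA h1 hg) hx

/-- The order of the normaliser of `Am`. -/
theorem card_norm_Am : Nat.card (Subgroup.normalizer ((d.Am R.hs : Subgroup G) : Set G)) = 2 * (Fintype.card K - 1) := by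
  classical
  haveI := d.finite_G1
  obtain ⟨hn1, hn2⟩ := d.nhat_smul R
  have hnot : ∃ x ∈ d.Am R.hs, x ≠ 1 := d.Am_exists R
  have hbot : d.Am R.hs ≠ ⊥ := by
    rintro h
    obtain ⟨x, hx, hx1⟩ := hnot
    rw [h] at hx
    exact hx1 hx
  have hmem : ∀ g : G, ((g • (pI : Ω) = pI ∧ g • d.pO = d.pO) ∨ (g • (pI : Ω) = d.pO ∧ g • d.pO = pI)) → g ∈ Subgroup.normalizer ((d.Am R.hs : Subgroup G) : Set G) := by
    intro g h
    apply mem_norm_of_conj_le
    intro x hx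
    exact d.conj_Am R h hx
  have hHh : ∀ t ∈ d.Hh R.hs, t ∈ Subgroup.normalizer ((d.Am R.hs : Subgroup G) : Set G) :=
    fun t ht => hmem t (Or.inl ((d.mem_Hh_iff R.hs).1 ht))
  have hnt : ∀ t ∈ d.Hh R.hs, d.psi n0 * t ∈ Subgroup.normalizer ((d.Am R.hs : Subgroup G) : Set G) := by
    intro t ht
    have h2 := (d.mem_Hh_iff R.hs).1 ht
    apply hmem
    right
    rw [mul_smul, mul_smul, h2.1, h2.2]
    exact ⟨hn1, hn2⟩
  let f : Bool × (d.Hh R.hs) → Subgroup.normalizer ((d.Am R.hs : Subgroup G) : Set G) := fun p =>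
    if p.1 then ⟨d.psi n0 * p.2.1, hnt _ p.2.2⟩ else ⟨p.2.1, hHh _ p.2.2⟩
  have hf : Function.Bijective f := by
    constructor
    · have key : ∀ t t' : d.Hh R.hs, d.psi n0 * t.1 ≠ t'.1 := by
        intro t t' h
        have h3 := (d.mem_Hh_iff R.hs).1 t.2
        have h4 := (d.mem_Hh_iff R.hs).1 t'.2
        have h5 : (d.psi n0 * t.1) • (pI : Ω) = pI := by
          rw [h]
          exact h4.1
        rw [mul_smul, h3.1, hn1] at h5
        exact d.pI_ne_pO h5.symm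
      rintro ⟨b₁, t⟩ ⟨b₂, t'⟩ hxy
      cases b₁ <;> cases b₂ <;> simp only [f] at hxy
      · have e1 : t.1 = t'.1 := by
          have := congrArg Subtype.val hxy
          simpa using this
        simp only [Subtype.ext e1]
      · have e1 : t.1 = d.psi n0 * t'.1 := by
          have := congrArg Subtype.val hxy
          simpa using this
        exact absurd e1.symm (key _ _)
      · have e1 : d.psi n0 * t.1 = t'.1 := by
          have := congrArg Subtype.val hxy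
          simpa using this
        exact absurd e1 (key _ _)
      · have e1 : d.psi n0 * t.1 = d.psi n0 * t'.1 := by
          have := congrArg Subtype.val hxy
          simpa using this
        simp only [Subtype.ext (mul_left_cancel e1)]
    · rintro ⟨g, hg⟩
      rcases d.norm_sub_cases R le_rfl hbot hg with h | ⟨h1, h2⟩
      · exact ⟨(false, ⟨g, (d.mem_Hh_iff R.hs).2 h⟩), rfl⟩
      · obtain ⟨t, ht, rfl⟩ := d.swap_form R h1 h2
        exact ⟨(true, ⟨t, ht⟩), rfl⟩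
  rw [← Nat.card_congr (Equiv.ofBijective f hf), Nat.card_prod, Nat.card_eq_fintype_card (α := Bool), Fintype.card_bool, d.card_Hh R.hs]

/-- An element of odd order fixing two points cannot commute with an element interchanging them. -/
theorem swap_false {z g : G} (hz1 : z ≠ 1) (hodd : Odd (orderOf z)) {α β : Ω} (hαβ : α ≠ β) (h1 : z • α = α) (h2 : z • β = β)
    (h3 : g • α = β) (h4 : g • β = α) (hc : g * z = z * g) : False := by
  obtain ⟨h, rfl, rfl⟩ := d.two_trans hαβ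
  set z' := h⁻¹ * z * h with hz'
  set g' := h⁻¹ * g * h with hg'
  have k1 : z' ∈ d.Hh R.hs := (d.mem_Hh_iff R.hs).2 ⟨(conj_fix _ _ _).2 h1, (conj_fix _ _ _).2 h2⟩
  have k2 : g' • (pI : Ω) = d.pO := by
    rw [hg', mul_smul, mul_smul, h3, inv_smul_smul]
  have k3 : g' • d.pO = pI := by
    rw [hg', mul_smul, mul_smul, h4, inv_smul_smul]
  have ho : orderOf z' = orderOf z := by
    have := (MulAut.conj h⁻¹).orderOf_eq z
    rw [MulAut.conj_apply, inv_inv] at this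
    exact this
  have hodd' : Odd (orderOf z') := by rwa [ho]
  have k4 : z' ∈ d.Am R.hs := by
    obtain ⟨y, hy⟩ := k1
    obtain ⟨k, hk⟩ := hodd'
    apply (d.mem_Am R.hs).2
    refine ⟨y ^ (k + 1), ?_⟩
    have e1 : z' = z' ^ (orderOf z' + 1) := by
      rw [pow_succ, pow_orderOf_eq_one, one_mul]
    rw [e1, hk, ← hy, ← map_pow]
    congr 1
    rw [← pow_add]
    congr 1
    ring
  have k5 := d.swap_inv R k2 k3 k4
  have k6 : g' * z' * g'⁻¹ = z' := by
    have e : g' * z' = z' * g' := by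
      have e1 : g' * z' = h⁻¹ * (g * z) * h := by
        rw [hg', hz']
        group
      have e2 : z' * g' = h⁻¹ * (z * g) * h := by
        rw [hg', hz']
        group
      rw [e1, e2, hc]
    rw [e]
    group
  rw [k6] at k5
  have k7 : z' ^ 2 = 1 := by
    rw [pow_two]
    nth_rw 1 [k5]
    group
  have k8 := orderOf_dvd_of_pow_eq_one k7
  have k9 : orderOf z' = 1 := by
    rcases (Nat.dvd_prime Nat.prime_two).1 k8 with h8 | h8
    · exact h8
    · rw [h8] at hodd'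
      exact absurd hodd' (by decide)
  apply hz1
  have e1 : z' = 1 := orderOf_eq_one_iff.1 k9
  have e2 : z = h * z' * h⁻¹ := by
    rw [hz']
    group
  rw [e2, e1]
  group

/-- The order of a fixed point free element is divisible by a prime not dividing `q(q-1)`. -/
theorem fpf_prime {g : G} (hg : ∀ x : Ω, g • x ≠ x) : ∃ l : ℕ, l.Prime ∧ l ∣ orderOf g ∧ ¬ l ∣ Fintype.card K ∧ ¬ l ∣ Fintype.card K - 1 := by
  classical
  haveI := d.finite_G1
  by_contra hcon
  push Not at hcon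
  have hkey : ∀ l : ℕ, l.Prime → l ∣ orderOf g → l ∣ Fintype.card K ∨ l ∣ Fintype.card K - 1 := by
    intro l hl hlo
    by_cases h : l ∣ Fintype.card K
    · exact Or.inl h
    · exact Or.inr (hcon l hl hlo h)
  by_cases h2 : ∃ l : ℕ, l.Prime ∧ l ≠ 2 ∧ l ∣ orderOf g
  · obtain ⟨l, hl, hl2, hlo⟩ := h2
    set z := g ^ (orderOf g / l) with hz
    have hzl : orderOf z = l := orderOf_pow_orderOf_div (orderOf_pos g).ne' hlo
    have hz1 : z ≠ 1 := by
      intro h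
      rw [h, orderOf_one] at hzl
      exact hl.one_lt.ne hzl
    have hodd : Odd (orderOf z) := by
      rw [hzl]
      exact hl.odd_of_ne_two hl2
    obtain ⟨β, hβ⟩ := d.prime_fix R hl hzl (hkey l hl hlo)
    have hc : g * z = z * g := by
      rw [hz]
      exact (Commute.refl g).pow_right _
    have h3 : z • (g • β) = g • β := by
      rw [← mul_smul, ← hc, mul_smul, hβ]
    have h4 : g • β ≠ β := hg β
    by_cases h5 : g • (g • β) = β
    · exact d.swap_false R hz1 hodd h4.symm hβ h3 rfl h5 hc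
    · have h6 : z • (g • (g • β)) = g • (g • β) := by
        rw [← mul_smul, ← hc, mul_smul, h3]
      have h7 := d.fix_only hodd hz1 h4.symm hβ h3 h6
      rcases h7 with h7 | h7
      · exact h5 h7
      · exact hg _ h7
  · push Not at h2
    have h3 : orderOf g = 2 ^ (orderOf g).primeFactorsList.length :=
      Nat.eq_prime_pow_of_unique_prime_dvd (orderOf_pos g).ne' (fun {l} hl hlo => by
        by_contra hne
        exact h2 l hl hne hlo)
    haveI : Fact (Nat.Prime 2) := ⟨Nat.prime_two⟩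
    have hp : IsPGroup 2 (Subgroup.zpowers g) := by
      apply IsPGroup.of_card (n := (orderOf g).primeFactorsList.length)
      rw [Nat.card_zpowers]
      exact h3
    have h4 := d.two_sq R hp (Subgroup.mem_zpowers g)
    by_cases h5 : g = 1
    · subst h5
      exact hg ((1 : G) : Ω) (one_smul _ _)
    · obtain ⟨x, hx⟩ := d.inv_fix R h4 h5
      exact hg x hx

end Dat

end Cfsg.Agent.Lib.Chev.TwG2
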