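import Cfsg.Agent.Lib.Chev.TwG2Y

set_option linter.style.haveILetI false
set_option linter.unusedSectionVars false

/-!
# The Ree groups `²G₂`: counting the fixed point free elements
-/

namespace Cfsg.Agent.Lib.Chev.TwG2

open Cfsg.Agent.Lib.Chev Cfsg.Lie Equiv Module
open Cfsg.Agent.Lib
open Matrix (SpecialLinearGroup)
open Cfsg.Agent.Lib.Chev.SL2 (x0 y0 D0 n0 ext4)
open Cfsg.Agent.Lib.Chev.ReeGen

variable {K : Type*} [Field K] [Fintype K] {m : ℕ}

namespace Dat

variable (R : Ree K m) (d : Dat K (3 ^ m))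

local notation "G" => Gm K m
local notation "Ω" => Gm K m ⧸ B1 K (3 ^ m)

/-- The point determined by an element of `U¹`. -/
theorem mk_inj {w w' : G} (hw : w ∈ U1 K (3 ^ m)) (hw' : w' ∈ U1 K (3 ^ m)) (h : ((w * d.n1 : G) : Ω) = ((w' * d.n1 : G) : Ω)) : w = w' := by
  have h1 := QuotientGroup.eq.1 h
  have e : (w * d.n1)⁻¹ * (w' * d.n1) = d.n1⁻¹ * (w⁻¹ * w') * d.n1 := by group
  rw [e] at h1
  have h2 := d.bru.hopp _ (Subgroup.mul_mem _ (Subgroup.inv_mem _ hw) hw') h1
  exact (inv_mul_eq_one.1 h2)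

theorem a₀_smul (w : G) : d.a₀ • ((w * d.n1 : G) : Ω) = (((d.a₀ * w * d.a₀⁻¹) * d.n1 : G) : Ω) := by
  show ((d.a₀ * (w * d.n1) : G) : Ω) = _
  apply (QuotientGroup.eq).2
  have e : (d.a₀ * (w * d.n1))⁻¹ * (d.a₀ * w * d.a₀⁻¹ * d.n1) = d.n1⁻¹ * d.a₀⁻¹ * d.n1 := by group
  rw [e, d.a₀_inv]
  have e2 : d.n1⁻¹ * d.a₀ * d.n1 = d.a₀ := by
    rw [mul_assoc, ← d.a₀_comm_n]
    group
  rw [e2]
  exact d.a₀_mem

/-- The element `W(0,u,0)`. -/
noncomputable def wu (u : K) : G := ⟨W (3 ^ m) 0 u 0, d.W_mem _ _ _⟩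

theorem wu_mem (u : K) : d.wu u ∈ U1 K (3 ^ m) := Subgroup.mem_subgroupOf.2 ⟨d.W_mem_U _ _ _, d.W_mem _ _ _⟩

theorem a₀_wu (u : K) : d.a₀ * d.wu u * d.a₀⁻¹ = d.wu u := by
  apply Subtype.ext
  have h := d.a₀_W (0 : K) u 0
  simp only [neg_zero] at h
  exact h

/-- The number of fixed points of `a₀`. -/
theorem card_fix_a₀ : Nat.card {x : Ω // d.a₀ • x = x} = Fintype.card K + 1 := by
  classical
  let f : Option K → {x : Ω // d.a₀ • x = x} := fun o =>
    match o with
    | none => ⟨pI, (d.fix_pI).2 d.a₀_mem⟩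
    | some u => ⟨((d.wu u * d.n1 : G) : Ω), by rw [d.a₀_smul, d.a₀_wu]⟩
  have hf : Function.Bijective f := by
    constructor
    · have hnone : ∀ u : K, ((d.wu u * d.n1 : G) : Ω) ≠ pI := by
        intro u h
        have h1 : (d.wu u * d.n1)⁻¹ * 1 ∈ B1 K (3 ^ m) := QuotientGroup.eq.1 h
        apply d.n1_not_mem
        have h2 : d.n1 = (d.wu u)⁻¹ * ((d.wu u * d.n1)⁻¹ * 1)⁻¹ := by group
        rw [h2]
        exact Subgroup.mul_mem _ (Subgroup.inv_mem _ (d.bru.hUB (d.wu_mem u))) (Subgroup.inv_mem _ h1)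
      rintro (_ | u) (_ | u') h
      · rfl
      · have := congrArg Subtype.val h
        exact absurd this.symm (hnone u')
      · have := congrArg Subtype.val h
        exact absurd this (hnone u)
      · have h1 := congrArg Subtype.val h
        have h2 := d.mk_inj (d.wu_mem u) (d.wu_mem u') h1
        have h3 : W (3 ^ m) (0 : K) u 0 = W (3 ^ m) 0 u' 0 := congrArg Subtype.val h2
        rw [(d.W_inj h3).2.1]
    · rintro ⟨x, hx⟩
      by_cases hxp : x = pI
      · subst hxp
        exact ⟨none, rfl⟩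
      · obtain ⟨b, rfl⟩ := QuotientGroup.mk_surjective x
        have hb : b ∉ B1 K (3 ^ m) := by
          intro h
          apply hxp
          apply (QuotientGroup.eq).2
          have e : b⁻¹ * 1 = b⁻¹ := by group
          rw [e]
          exact Subgroup.inv_mem _ h
        obtain ⟨w, hw, b₁, hb₁, e₁⟩ := d.bru.hbr _ hb
        have hxw : ((b : G) : Ω) = ((w * d.n1 : G) : Ω) := by
          apply (QuotientGroup.eq).2
          have e : b⁻¹ * (w * d.n1) = b₁⁻¹ := by
            rw [e₁]
            group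
          rw [e]
          exact Subgroup.inv_mem _ hb₁
        rw [hxw] at hx
        rw [d.a₀_smul] at hx
        have hw' : d.a₀ * w * d.a₀⁻¹ ∈ U1 K (3 ^ m) := d.bru.hnorm _ d.a₀_mem _ hw
        have h1 := d.mk_inj hw' hw hx
        obtain ⟨t, u, v, ew0⟩ := (d.mem_U1_iff w.1).1 (Subgroup.mem_subgroupOf.1 hw)
        have ew : w.1 = W (3 ^ m) t u v := ew0
        have h2 : W (3 ^ m) (-t) u (-v) = W (3 ^ m) t u v := by
          have h3 := d.a₀_W t u v
          rw [← h3, ← ew]
          exact congrArg Subtype.val h1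
        obtain ⟨rfl, rfl⟩ := d.W_fixed h2
        refine ⟨some u, Subtype.ext ?_⟩
        show ((d.wu u * d.n1 : G) : Ω) = ((b : G) : Ω)
        rw [hxw]
        have e3 : d.wu u = w := Subtype.ext ew.symm
        rw [e3]
  rw [← Nat.card_congr (Equiv.ofBijective f hf), Nat.card_eq_fintype_card, Fintype.card_option]

/-- The number of fixed points of an involution. -/
theorem card_fix_conj (h : G) : Nat.card {x : Ω // (h * d.a₀ * h⁻¹) • x = x} = Fintype.card K + 1 := by
  rw [← d.card_fix_a₀]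
  symm
  refine Nat.card_congr ((MulAction.toPerm h : Perm Ω).subtypeEquiv (fun x => ?_))
  have h1 := conj_fix h (h * d.a₀ * h⁻¹) x
  have e : h⁻¹ * (h * d.a₀ * h⁻¹) * h = d.a₀ := by group
  rw [e] at h1
  exact h1

omit d in
theorem sum_ite_set {α : Type*} [Fintype α] (S : Set α) [DecidablePred (· ∈ S)] (c : ℤ) :
    (∑ g : α, (if g ∈ S then c else 0)) = (S.ncard : ℤ) * c := by
  classical
  rw [Finset.sum_ite, Finset.sum_const_zero, add_zero, Finset.sum_const, nsmul_eq_mul]
  congr 2
  rw [Set.ncard_eq_toFinset_card']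
  congr 1
  ext x
  simp

/-- The fixed point free elements. -/
def Fpf (K : Type*) [Field K] [Fintype K] (m : ℕ) : Set (Gm K m) := {g | ∀ x : Gm K m ⧸ B1 K (3 ^ m), g • x ≠ x}

/-- The involutions. -/
def Inv (K : Type*) [Field K] [Fintype K] (m : ℕ) : Set (Gm K m) := {g | g * g = 1 ∧ g ≠ 1}

include R d

/-- The number of involutions. -/
theorem inv_count : (Inv K m).ncard * ((Fintype.card K + 1) * Fintype.card K * (Fintype.card K - 1)) = Nat.card G := by
  haveI := d.finite_G1
  have h1 := ti_count ({d.a₀} : Set G) (Subgroup.centralizer ({d.a₀} : Set G)) (by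
    rintro a _ rfl
    rw [Set.mem_singleton_iff, Subgroup.mem_centralizer_singleton_iff, mul_inv_eq_iff_eq_mul])
  have hY : Yc ({d.a₀} : Set G) = Inv K m := by
    ext g
    constructor
    · rintro ⟨a, _, rfl, rfl⟩
      constructor
      · calc a * d.a₀ * a⁻¹ * (a * d.a₀ * a⁻¹) = a * (d.a₀ * d.a₀) * a⁻¹ := by group
          _ = 1 := by rw [d.a₀_sq]; group
      · intro h
        apply d.a₀_ne
        have e : d.a₀ = a⁻¹ * (a * d.a₀ * a⁻¹) * a := by group
        rw [e, h]
        group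
    · rintro ⟨h1, h2⟩
      obtain ⟨h, rfl⟩ := d.inv_conj R h1 h2
      exact ⟨h, d.a₀, rfl, rfl⟩
  rw [hY, d.card_Ca R, Set.ncard_singleton, mul_one] at h1
  exact h1

/-- The count of the fixed point free elements. -/
theorem count_fpf : (Nat.card G : ℤ) = 2 * ((Fpf K m).ncard : ℤ) + ((Inv K m).ncard : ℤ) * ((Fintype.card K : ℤ) * ((Fintype.card K : ℤ) - 1)) +
    (Fintype.card K : ℤ) ^ 3 * ((Fintype.card K : ℤ) ^ 3 - 1) := by
  classical
  haveI := d.finite_G1
  haveI : Fintype G := Fintype.ofFinite G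
  haveI : Fintype Ω := Fintype.ofFinite Ω
  have hfx : ∀ g : G, (Finset.univ.filter fun x : Ω => g • x = x).card = Nat.card {x : Ω // g • x = x} := by
    intro g
    rw [Nat.card_eq_fintype_card, Fintype.card_subtype]
  have hst1 : ∀ x : Ω, (Finset.univ.filter fun g : G => g • x = x).card = Fintype.card K ^ 3 * (Fintype.card K - 1) := by
    intro x
    rw [← Fintype.card_subtype, ← Nat.card_eq_fintype_card, d.card_st1 R.hs]
  have hst2 : ∀ x y : Ω, x ≠ y → (Finset.univ.filter fun g : G => g • x = x ∧ g • y = y).card = Fintype.card K - 1 := by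
    intro x y hxy
    rw [← Fintype.card_subtype, ← Nat.card_eq_fintype_card, d.card_st2 R.hs hxy]
  obtain ⟨s1, s2⟩ := @two_count G _ Ω _ _ _ _ _ _ _ hst1 hst2
  have hOm : Fintype.card Ω = Fintype.card K ^ 3 + 1 := by
    rw [← Nat.card_eq_fintype_card]
    exact d.card_Om R.hs
  have hG : Nat.card G = Fintype.card K ^ 3 * (Fintype.card K - 1) * (Fintype.card K ^ 3 + 1) := d.card_G1 R.hs
  have hq := R.q_ge
  rw [hOm] at s1
  rw [hOm, Nat.add_sub_cancel] at s2
  have hG' : Fintype.card G = Nat.card G := Nat.card_eq_fintype_card.symm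
  obtain ⟨c, hc⟩ : ∃ c, Fintype.card K = c + 1 := ⟨Fintype.card K - 1, by omega⟩
  have hpt : ∀ g : G, (((Finset.univ.filter fun x : Ω => g • x = x).card : ℕ) : ℤ) ^ 2 - 3 * ((Finset.univ.filter fun x : Ω => g • x = x).card : ℤ) + 2 =
      (if g = 1 then (Fintype.card K : ℤ) ^ 3 * ((Fintype.card K : ℤ) ^ 3 - 1) else 0) +
      (if g ∈ Inv K m then (Fintype.card K : ℤ) * ((Fintype.card K : ℤ) - 1) else 0) +
      (if g ∈ Fpf K m then 2 else 0) := by
    intro g
    by_cases h1 : g = 1
    · subst h1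
      have h2 : (1 : G) ∉ Inv K m := fun h => h.2 rfl
      have h3 : (1 : G) ∉ Fpf K m := fun h => h ((1 : G) : Ω) (one_smul _ _)
      have h4 : (Finset.univ.filter fun x : Ω => (1 : G) • x = x) = Finset.univ := by
        ext x
        simp
      rw [if_pos rfl, if_neg h2, if_neg h3, h4, Finset.card_univ, hOm]
      push_cast
      ring
    · rw [if_neg h1]
      by_cases h2 : g ∈ Inv K m
      · obtain ⟨h3, h4⟩ := h2
        obtain ⟨h, rfl⟩ := d.inv_conj R h3 h4
        have h5 : (h * d.a₀ * h⁻¹) ∈ Inv K m := ⟨h3, h4⟩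
        have h6 : (h * d.a₀ * h⁻¹) ∉ Fpf K m := by
          intro h7
          obtain ⟨x, hx⟩ := d.inv_fix R h3 h4
          exact h7 x hx
        rw [if_pos h5, if_neg h6, hfx, d.card_fix_conj]
        push_cast
        ring
      · have h3 : g * g ≠ 1 := fun h => h2 ⟨h, h1⟩
        have h4 : (Finset.univ.filter fun x : Ω => g • x = x).card ≤ 2 := by
          by_contra hlt
          push Not at hlt
          obtain ⟨a, b, c', ha, hb, hc', hab, hac, hbc⟩ := Finset.two_lt_card_iff.1 hlt
          obtain ⟨-, ha⟩ := Finset.mem_filter.1 ha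
          obtain ⟨-, hb⟩ := Finset.mem_filter.1 hb
          obtain ⟨-, hc'⟩ := Finset.mem_filter.1 hc'
          rcases d.fix_three ha hb hc' hab hac hbc with h5 | ⟨h, h5⟩
          · exact h1 h5
          · apply h3
            rw [h5]
            calc h * d.a₀ * h⁻¹ * (h * d.a₀ * h⁻¹) = h * (d.a₀ * d.a₀) * h⁻¹ := by group
              _ = 1 := by rw [d.a₀_sq]; group
        rw [if_neg h2]
        by_cases h5 : g ∈ Fpf K m
        · rw [if_pos h5]
          have h6 : (Finset.univ.filter fun x : Ω => g • x = x) = ∅ := by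
            ext x
            simp [h5 x]
          rw [h6]
          simp
        · rw [if_neg h5]
          have h6 : (Finset.univ.filter fun x : Ω => g • x = x).Nonempty := by
            have : ∃ x : Ω, g • x = x := by
              by_contra hno
              push Not at hno
              exact h5 hno
            obtain ⟨x, hx⟩ := this
            exact ⟨x, Finset.mem_filter.2 ⟨Finset.mem_univ _, hx⟩⟩
          have h7 := h6.card_pos
          generalize (Finset.univ.filter fun x : Ω => g • x = x).card = n at h4 h7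
          interval_cases n <;> norm_num
  have hsum := Finset.sum_congr (rfl : (Finset.univ : Finset G) = Finset.univ) (fun g _ => hpt g)
  have s1' : (∑ g : G, ((Finset.univ.filter fun x : Ω => g • x = x).card : ℤ)) = (Nat.card G : ℤ) := by
    rw [hG, ← Nat.cast_sum, s1]
    push_cast
    ring
  have s2' : (∑ g : G, (((Finset.univ.filter fun x : Ω => g • x = x).card : ℤ)) ^ 2) = 2 * (Nat.card G : ℤ) := by
    have := congrArg (fun n : ℕ => (n : ℤ)) s2
    simp only [Nat.cast_sum, Nat.cast_pow] at this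
    rw [this, hG, hc]
    simp only [Nat.add_sub_cancel]
    push_cast
    ring
  have L : (∑ g : G, ((((Finset.univ.filter fun x : Ω => g • x = x).card : ℕ) : ℤ) ^ 2 - 3 * ((Finset.univ.filter fun x : Ω => g • x = x).card : ℤ) + 2)) = (Nat.card G : ℤ) := by
    rw [Finset.sum_add_distrib, Finset.sum_sub_distrib, ← Finset.mul_sum, s1', s2', Finset.sum_const, Finset.card_univ, hG']
    simp only [nsmul_eq_mul]
    ring
  rw [L] at hsum
  rw [hsum, Finset.sum_add_distrib, Finset.sum_add_distrib, Finset.sum_ite_eq' Finset.univ, if_pos (Finset.mem_univ _), sum_ite_set, sum_ite_set]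
  ring

end Dat

end Cfsg.Agent.Lib.Chev.TwG2
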